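import Mathlib
import Cfsg.Prelude.Def_Solvable

/-!
Basic API for `Cfsg.pCore`, `Cfsg.pPrimeCore`, `Cfsg.fittingSubgroup` (helper2).
-/

set_option autoImplicit false

namespace Cfsg.Agent.Lib.Helper2

open Cfsg

variable {G : Type*} [Group G]

/-- `|H ⊔ K|` divides `|H| * |K|` when `K` is normal. -/
theorem card_sup_dvd_of_normal (H K : Subgroup G) [K.Normal] :
    Nat.card (H ⊔ K : Subgroup G) ∣ Nat.card H * Nat.card K := by
  have h1 : (⊥ : Subgroup G).relIndex K * K.relIndex (H ⊔ K) = (⊥ : Subgroup G).relIndex (H ⊔ K) :=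
    Subgroup.relIndex_mul_relIndex _ _ _ bot_le le_sup_right
  rw [Subgroup.relIndex_bot_left, Subgroup.relIndex_bot_left, Subgroup.relIndex_sup_right] at h1
  rw [← h1, mul_comm]
  exact Nat.mul_dvd_mul_right (Subgroup.relIndex_dvd_card _ _) _

/-! ### pCore -/

theorem pCore_normal (p : ℕ) : (pCore p G).Normal :=
  Subgroup.sSup_normal _ (fun _ hH => hH.1)

theorem le_pCore {p : ℕ} {N : Subgroup G} (hN : N.Normal) (hp : IsPGroup p N) : N ≤ pCore p G :=
  le_sSup ⟨hN, hp⟩

theorem pCore_isPGroup (p : ℕ) : IsPGroup p (pCore p G) :=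
  Sylow.sSup_of_normal _ (fun _ hH => hH.2) (fun _ hH => hH.1)

theorem pCore_le_sylow (p : ℕ) (P : Sylow p G) :
    pCore p G ≤ P :=
  sSup_le (fun _ hN => by have := hN.1; exact hN.2.le_sylow_of_normal P)

theorem pCore_eq_bot_of_not_dvd [Finite G] {p : ℕ} [hp : Fact p.Prime] (h : ¬ p ∣ Nat.card G) :
    pCore p G = ⊥ := by
  rw [← Subgroup.card_eq_one]
  obtain ⟨k, hk⟩ := (IsPGroup.iff_card.mp (pCore_isPGroup (G := G) p))
  rcases Nat.eq_zero_or_pos k with rfl | hk0
  · simpa using hk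
  · exfalso
    apply h
    have h1 : Nat.card (pCore p G) ∣ Nat.card G := Subgroup.card_subgroup_dvd_card _
    rw [hk] at h1
    exact (dvd_pow_self p hk0.ne').trans h1

/-! ### pPrimeCore -/

theorem pPrimeCore_normal (p : ℕ) : (pPrimeCore p G).Normal :=
  Subgroup.sSup_normal _ (fun _ hH => hH.1)

theorem le_pPrimeCore {p : ℕ} {N : Subgroup G} (hN : N.Normal) (hp : (Nat.card N).Coprime p) :
    N ≤ pPrimeCore p G :=
  le_sSup ⟨hN, hp⟩

theorem pPrimeCore_mem [Finite G] (p : ℕ) :
    pPrimeCore p G ∈ {N : Subgroup G | N.Normal ∧ (Nat.card N).Coprime p} := by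
  apply SupClosed.sSup_mem _ (Set.toFinite _) _ (le_refl _)
  · rintro H ⟨hHn, hHc⟩ K ⟨hKn, hKc⟩
    refine ⟨inferInstance, ?_⟩
    exact Nat.Coprime.coprime_dvd_left (card_sup_dvd_of_normal H K) (Nat.Coprime.mul_left hHc hKc)
  · exact ⟨inferInstance, by simp⟩

theorem pPrimeCore_coprime [Finite G] (p : ℕ) : (Nat.card (pPrimeCore p G)).Coprime p :=
  (pPrimeCore_mem p).2

/-! ### Fitting subgroup -/

theorem fittingSubgroup_normal : (fittingSubgroup G).Normal :=
  Subgroup.sSup_normal _ (fun _ hH => hH.1)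

theorem le_fittingSubgroup {N : Subgroup G} (hN : N.Normal) (hn : Group.IsNilpotent N) :
    N ≤ fittingSubgroup G :=
  le_sSup ⟨hN, hn⟩

/-- A finite group is generated by its Sylow subgroups. -/
theorem iSup_sylow_eq_top [Finite G] :
    (⨆ (p : Nat.Primes) (P : Sylow (p : ℕ) G), (P : Subgroup G)) = ⊤ := by
  apply Subgroup.eq_top_of_le_card
  apply Nat.le_of_dvd Nat.card_pos
  rw [Nat.dvd_iff_prime_pow_dvd_dvd]
  intro p k hp hpk
  have : Fact p.Prime := ⟨hp⟩
  have P : Sylow p G := Classical.arbitrary _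
  have h1 : p ^ k ∣ Nat.card P := P.pow_dvd_card_of_pow_dvd_card hpk
  refine h1.trans (Subgroup.card_dvd_of_le ?_)
  exact le_iSup₂_of_le (⟨p, hp⟩ : Nat.Primes) P le_rfl

theorem isNilpotent_iSup_pCore [Finite G] :
    Group.IsNilpotent (⨆ p : Nat.Primes, pCore (p : ℕ) G : Subgroup G) := by
  classical
  let ι := {q : ℕ // q ∈ (Nat.card G).primeFactors}
  let H : ι → Subgroup G := fun q => pCore q.1 G
  have hprime : ∀ q : ι, Fact (q.1.Prime) := fun q => ⟨Nat.prime_of_mem_primeFactors q.2⟩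
  have hcomm : Pairwise fun i j : ι => ∀ x y : G, x ∈ H i → y ∈ H j → Commute x y := by
    intro i j hij x y hx hy
    have := hprime i
    have := hprime j
    apply Subgroup.commute_of_normal_of_disjoint (H i) (H j) (pCore_normal _) (pCore_normal _) _ x y hx hy
    apply IsPGroup.disjoint_of_ne i.1 j.1 (fun h => hij (Subtype.ext h)) _ _ (pCore_isPGroup _)
      (pCore_isPGroup _)
  have hnil : ∀ i : ι, Group.IsNilpotent (H i) := fun i => by
    have := hprime i
    exact (pCore_isPGroup (G := G) i.1).isNilpotent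
  have hrange : (Subgroup.noncommPiCoprod hcomm).range = ⨆ p : Nat.Primes, pCore (p : ℕ) G := by
    rw [Subgroup.noncommPiCoprod_range]
    apply le_antisymm
    · apply iSup_le
      intro i
      exact le_iSup_of_le (⟨i.1, (hprime i).out⟩ : Nat.Primes) le_rfl
    · apply iSup_le
      intro p
      have : Fact (p : ℕ).Prime := ⟨p.2⟩
      by_cases hp : (p : ℕ) ∣ Nat.card G
      · exact le_iSup_of_le (⟨p.1, Nat.mem_primeFactors.mpr ⟨p.2, hp, Nat.card_pos.ne'⟩⟩ : ι) le_rfl
      · rw [pCore_eq_bot_of_not_dvd hp]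
        exact bot_le
  rw [← hrange]
  exact Group.nilpotent_of_surjective (Subgroup.noncommPiCoprod hcomm).rangeRestrict
    (MonoidHom.rangeRestrict_surjective _)

theorem le_iSup_pCore_of_normal_of_isNilpotent [Finite G] {N : Subgroup G} (hN : N.Normal)
    (hn : Group.IsNilpotent N) : N ≤ ⨆ p : Nat.Primes, pCore (p : ℕ) G := by
  have h1 : N = (⊤ : Subgroup N).map N.subtype := by
    rw [← MonoidHom.range_eq_map, Subgroup.range_subtype]
  rw [h1, ← iSup_sylow_eq_top, Subgroup.map_iSup]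
  apply iSup_le
  intro p
  rw [Subgroup.map_iSup]
  apply iSup_le
  intro P
  have : Fact (p : ℕ).Prime := ⟨p.2⟩
  refine le_iSup_of_le p ?_
  have hPn : (P : Subgroup N).Normal := inferInstance
  have : (P : Subgroup N).Characteristic := P.characteristic_of_normal hPn
  apply le_pCore
  · exact ConjAct.normal_of_characteristic_of_normal
  · exact P.isPGroup'.map _

theorem fittingSubgroup_eq_iSup_pCore [Finite G] :
    fittingSubgroup G = ⨆ p : Nat.Primes, pCore (p : ℕ) G := by
  apply le_antisymm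
  · apply sSup_le
    rintro N ⟨hN, hn⟩
    exact le_iSup_pCore_of_normal_of_isNilpotent hN hn
  · apply iSup_le
    intro p
    have : Fact (p : ℕ).Prime := ⟨p.2⟩
    exact le_fittingSubgroup (pCore_normal _) (pCore_isPGroup (G := G) p).isNilpotent

theorem fittingSubgroup_isNilpotent [Finite G] : Group.IsNilpotent (fittingSubgroup G) := by
  rw [fittingSubgroup_eq_iSup_pCore]
  exact isNilpotent_iSup_pCore

end Cfsg.Agent.Lib.Helper2
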