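import Mathlib
import Cfsg.Agent.Lib.Helper2.Cores

/-!
Schur–Zassenhaus: conjugacy of complements (helper2).

Main results (namespace `Cfsg.Agent.Lib.Helper2`):
* `sz_conj_abelian` : abelian normal Hall subgroup, complements conjugate.
* `sz_conj` : `N` normal, `H ⊔ N = ⊤ = K ⊔ N`, `|H|,|K|` coprime to `|N|`, `N` or `H` solvable: `H`, `K` conjugate.
* `isComplement'_conj` : conjugacy of complements in the usual form (conjugating element in `N`).
-/

set_option autoImplicit false

namespace Cfsg.Agent.Lib.Helper2

open MulOpposite MulAction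
open scoped Pointwise

variable {G : Type*} [Group G]

/-! ### The abelian case, from Mathlib's `QuotientDiff` -/

/-- The class of a transversal in `QuotientDiff`. -/
noncomputable def szToQD (A : Subgroup G) [IsMulCommutative A] [A.FiniteIndex]
    (T : A.LeftTransversal) : A.QuotientDiff := Quotient.mk'' T

theorem smul_szToQD (A : Subgroup G) [IsMulCommutative A] [A.FiniteIndex]
    [A.Normal] (g : G) (T : A.LeftTransversal) : g • szToQD A T = szToQD A (op g⁻¹ • T) := rfl

/-- A complement of an abelian normal Hall subgroup is the stabilizer of its own class. -/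
theorem sz_eq_stabilizer [Finite G] (A : Subgroup G) [A.Normal]
    [IsMulCommutative A] (hA : (Nat.card A).Coprime A.index)
    (H : Subgroup G) (hH : Subgroup.IsComplement' A H) :
    H = stabilizer G (szToQD A ⟨(H : Set G), hH.symm⟩) := by
  set α : A.QuotientDiff := szToQD A ⟨(H : Set G), hH.symm⟩ with hα
  have hle : H ≤ stabilizer G α := by
    intro h hh
    rw [mem_stabilizer_iff, hα, smul_szToQD]
    congr 1
    apply Subtype.ext
    change op h⁻¹ • (H : Set G) = (H : Set G)
    ext x
    rw [Set.mem_smul_set_iff_inv_smul_mem]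
    simp only [← op_inv, inv_inv, op_smul_eq_mul, SetLike.mem_coe]
    exact H.mul_mem_cancel_right hh
  have hc := Subgroup.isComplement'_stabilizer_of_coprime (α := α) hA
  have h1 := hH.card_mul_card
  have h2 := hc.card_mul_card
  apply Subgroup.eq_of_le_of_card_ge hle
  have hpos : 0 < Nat.card A := Nat.card_pos
  have : Nat.card A * Nat.card (stabilizer G α) = Nat.card A * Nat.card H := by rw [h1, h2]
  exact (Nat.eq_of_mul_eq_mul_left hpos this).le

/-- Schur's theorem, conjugacy part, abelian normal Hall subgroup. -/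
theorem sz_conj_abelian [Finite G] (A : Subgroup G) [A.Normal] [IsMulCommutative A]
    (hA : (Nat.card A).Coprime A.index)
    (H K : Subgroup G) (hH : Subgroup.IsComplement' A H) (hK : Subgroup.IsComplement' A K) :
    ∃ a ∈ A, H.map (MulAut.conj a).toMonoidHom = K := by
  have eH := sz_eq_stabilizer A hA H hH
  have eK := sz_eq_stabilizer A hA K hK
  obtain ⟨a, ha⟩ := Subgroup.exists_smul_eq hA
    (szToQD A ⟨(H : Set G), hH.symm⟩) (szToQD A ⟨(K : Set G), hK.symm⟩)
  refine ⟨a, a.2, ?_⟩
  have ha' : (a : G) • szToQD A ⟨(H : Set G), hH.symm⟩ = szToQD A ⟨(K : Set G), hK.symm⟩ := ha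
  rw [eK, ← ha', stabilizer_smul_eq_stabilizer_map_conj, ← eH]

/-! ### Basic facts on supplements of coprime order -/

/-- Dedekind's modular law with a normal middle term. -/
theorem sup_inf_eq_of_le_of_normal (A B C : Subgroup G) [B.Normal] (h : A ≤ C) :
    (A ⊔ B) ⊓ C = A ⊔ (B ⊓ C) := by
  apply le_antisymm
  · intro x hx
    obtain ⟨hx1, hx2⟩ := Subgroup.mem_inf.mp hx
    have : x ∈ ((A ⊔ B : Subgroup G) : Set G) := hx1
    rw [Subgroup.mul_normal, Set.mem_mul] at this
    obtain ⟨a, ha, b, hb, rfl⟩ := this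
    have hbC : b ∈ C := by
      have := C.mul_mem (C.inv_mem (h ha)) hx2
      simpa using this
    exact Subgroup.mul_mem_sup ha (Subgroup.mem_inf.mpr ⟨hb, hbC⟩)
  · exact le_inf (sup_le_sup_left inf_le_left A) (sup_le h inf_le_right)

/-- A supplement of coprime order to a normal subgroup is a complement. -/
theorem isComplement'_of_sup_eq_top_of_coprime (N H : Subgroup G) [N.Normal]
    (hsup : H ⊔ N = ⊤) (hcop : (Nat.card H).Coprime (Nat.card N)) : Subgroup.IsComplement' N H := by
  apply Subgroup.isComplement'_of_disjoint_and_mul_eq_univ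
  · exact (Subgroup.disjoint_of_coprime_natCard hcop).symm
  · rw [← Subgroup.normal_mul, sup_comm, hsup, Subgroup.coe_top]

/-- Dedekind's modular law with a normal left term. -/
theorem sup_inf_eq_of_le_of_normal_left (A B C : Subgroup G) [A.Normal] (h : A ≤ C) :
    (A ⊔ B) ⊓ C = A ⊔ (B ⊓ C) := by
  apply le_antisymm
  · intro x hx
    obtain ⟨hx1, hx2⟩ := Subgroup.mem_inf.mp hx
    have : x ∈ ((A ⊔ B : Subgroup G) : Set G) := hx1
    rw [Subgroup.normal_mul, Set.mem_mul] at this
    obtain ⟨a, ha, b, hb, rfl⟩ := this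
    have hbC : b ∈ C := by
      have := C.mul_mem (C.inv_mem (h ha)) hx2
      simpa using this
    exact Subgroup.mul_mem_sup ha (Subgroup.mem_inf.mpr ⟨hb, hbC⟩)
  · exact le_inf (sup_le_sup_left inf_le_left A) (sup_le h inf_le_right)

theorem map_conj_normal (N : Subgroup G) [N.Normal] (g : G) :
    N.map (MulAut.conj g).toMonoidHom = N :=
  Subgroup.Normal.conj_smul_eq_self g N

/-- Transfer of a conjugation inside a subgroup `L` to the ambient group. -/
theorem map_conj_eq_of_subgroupOf (L H K : Subgroup G) (hH : H ≤ L) (hK : K ≤ L) (l : L)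
    (h : (H.subgroupOf L).map (MulAut.conj l).toMonoidHom = K.subgroupOf L) :
    H.map (MulAut.conj (l : G)).toMonoidHom = K := by
  have h1 := congrArg (Subgroup.map L.subtype) h
  rw [Subgroup.map_subgroupOf_eq_of_le hK, Subgroup.map_map] at h1
  have h2 : L.subtype.comp (MulAut.conj l).toMonoidHom =
      (MulAut.conj (l : G)).toMonoidHom.comp L.subtype := by
    ext x
    simp
  rw [h2, ← Subgroup.map_map, Subgroup.map_subgroupOf_eq_of_le hH] at h1
  exact h1

/-- Transfer of a conjugation in a quotient `G ⧸ P` to `G`, for subgroups containing `P`. -/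
theorem map_conj_eq_of_quotient (P H K : Subgroup G) [P.Normal] (hPH : P ≤ H) (hPK : P ≤ K) (g : G)
    (h : (H.map (QuotientGroup.mk' P)).map (MulAut.conj (QuotientGroup.mk' P g)).toMonoidHom =
      K.map (QuotientGroup.mk' P)) :
    H.map (MulAut.conj g).toMonoidHom = K := by
  have h2 : (MulAut.conj (QuotientGroup.mk' P g)).toMonoidHom.comp (QuotientGroup.mk' P) =
      (QuotientGroup.mk' P).comp (MulAut.conj g).toMonoidHom := by
    ext x
    simp
  rw [Subgroup.map_map, h2, ← Subgroup.map_map] at h
  have h3 := congrArg (Subgroup.comap (QuotientGroup.mk' P)) h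
  rw [Subgroup.comap_map_eq, Subgroup.comap_map_eq, QuotientGroup.ker_mk'] at h3
  have hP1 : P ≤ H.map (MulAut.conj g).toMonoidHom := by
    rw [← map_conj_normal P g]
    exact Subgroup.map_mono hPH
  rwa [sup_eq_left.mpr hP1, sup_eq_left.mpr hPK] at h3

/-- A nontrivial finite solvable group has a nontrivial normal `p`-subgroup for some prime `p`. -/
theorem exists_pCore_ne_bot_of_solvable (H : Type*) [Group H] [Finite H] [Group.IsSolvable H]
    [Nontrivial H] : ∃ p : ℕ, p.Prime ∧ Cfsg.pCore p H ≠ ⊥ := by
  classical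
  -- an abelian normal nontrivial subgroup: the last nontrivial term of the derived series
  have hex : ∃ n, derivedSeries H n = ⊥ := Group.IsSolvable.solvable
  have hn0 : Nat.find hex ≠ 0 := by
    intro h0
    have := Nat.find_spec hex
    rw [h0, derivedSeries_zero] at this
    exact top_ne_bot this
  obtain ⟨k, hk⟩ := Nat.exists_eq_succ_of_ne_zero hn0
  set A := derivedSeries H k with hA
  have hAne : A ≠ ⊥ := Nat.find_min hex (by omega : k < Nat.find hex)
  have hAcomm : ⁅A, A⁆ = ⊥ := by
    have := Nat.find_spec hex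
    rw [hk, Nat.succ_eq_add_one, derivedSeries_succ] at this
    exact this
  have hAn : A.Normal := derivedSeries_normal H k
  have hAc : IsMulCommutative A :=
    Subgroup.le_centralizer_iff_isMulCommutative.mp
      (Subgroup.commutator_eq_bot_iff_le_centralizer.mp hAcomm)
  have hAnil : Group.IsNilpotent A :=
    ⟨1, Subgroup.upperCentralSeries_one_eq_top_iff.mpr inferInstance⟩
  have hAF : A ≤ ⨆ p : Nat.Primes, Cfsg.pCore (p : ℕ) H :=
    le_iSup_pCore_of_normal_of_isNilpotent hAn hAnil
  by_contra hcon
  simp only [not_exists, not_and, not_not] at hcon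
  apply hAne
  rw [eq_bot_iff]
  refine hAF.trans ?_
  apply iSup_le
  intro p
  rw [hcon p p.2]

theorem card_quotient_lt_of_ne_bot [Finite G] (P : Subgroup G) [P.Normal] (hP : P ≠ ⊥) :
    Nat.card (G ⧸ P) < Nat.card G := by
  rw [← Subgroup.index_eq_card, ← P.index_mul_card]
  have h1 : 1 < Nat.card P := (Subgroup.one_lt_card_iff_ne_bot P).mpr hP
  have h2 : 0 < P.index := Nat.pos_of_ne_zero Subgroup.index_ne_zero_of_finite
  exact lt_mul_of_one_lt_right h2 h1

theorem card_lt_of_ne_top [Finite G] (L : Subgroup G) (hL : L ≠ ⊤) : Nat.card L < Nat.card G := by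
  rw [← L.card_mul_index]
  have h1 : 1 < L.index := Subgroup.one_lt_index_of_ne_top hL
  exact lt_mul_of_one_lt_right Nat.card_pos h1

end Cfsg.Agent.Lib.Helper2
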