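import Mathlib
import Cfsg.Agent.Lib.Helper2.SchurZassenhaus

/-!
Schur–Zassenhaus conjugacy: the induction (helper2).
-/

set_option autoImplicit false

namespace Cfsg.Agent.Lib.Helper2

universe u

/-- Case A of the inductive step: `N` solvable. -/
theorem sz_step_A (n : ℕ)
    (ih : ∀ m < n, ∀ (G : Type u) [Group G] [Finite G], Nat.card G = m →
      ∀ (N H K : Subgroup G) [N.Normal], (Group.IsSolvable N ∨ Group.IsSolvable H) →
        H ⊔ N = ⊤ → K ⊔ N = ⊤ → (Nat.card H).Coprime (Nat.card N) →
        (Nat.card K).Coprime (Nat.card N) → ∃ g : G, H.map (MulAut.conj g).toMonoidHom = K)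
    (G : Type u) [Group G] [Finite G] (hn : Nat.card G = n)
    (N H K : Subgroup G) [hNn : N.Normal] (hNs : Group.IsSolvable N)
    (hH : H ⊔ N = ⊤) (hK : K ⊔ N = ⊤) (hcH : (Nat.card H).Coprime (Nat.card N))
    (hcK : (Nat.card K).Coprime (Nat.card N)) :
    ∃ g : G, H.map (MulAut.conj g).toMonoidHom = K := by
  have hHc := isComplement'_of_sup_eq_top_of_coprime N H hH hcH
  have hKc := isComplement'_of_sup_eq_top_of_coprime N K hK hcK
  by_cases hN' : ⁅N, N⁆ = ⊥
  · -- abelian case
    have hNc : IsMulCommutative N :=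
      Subgroup.le_centralizer_iff_isMulCommutative.mp
        (Subgroup.commutator_eq_bot_iff_le_centralizer.mp hN')
    have hA : (Nat.card N).Coprime N.index := by
      rw [hHc.symm.index_eq_card]
      exact hcH.symm
    obtain ⟨a, _, ha⟩ := sz_conj_abelian N hA H K hHc hKc
    exact ⟨a, ha⟩
  · -- pass to the quotient by N' = [N,N]
    set N' : Subgroup G := ⁅N, N⁆ with hN'def
    have hN'n : N'.Normal := inferInstance
    have hN'le : N' ≤ N := Subgroup.commutator_le_self N
    have hNne : N ≠ ⊥ := by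
      intro h
      apply hN'
      rw [eq_bot_iff, ← h]
      exact hN'le
    have hN'lt : N' < N := by
      have : Nontrivial N := (Subgroup.nontrivial_iff_ne_bot N).mpr hNne
      have h1 := Group.IsSolvable.commutator_lt_top_of_nontrivial N
      rw [← Subgroup.map_subtype_lt_map_subtype, Subgroup.map_subtype_commutator,
        ← MonoidHom.range_eq_map, Subgroup.range_subtype] at h1
      exact h1
    have hπs : Function.Surjective (QuotientGroup.mk' N') := QuotientGroup.mk'_surjective N'
    have hNbarN : (N.map (QuotientGroup.mk' N')).Normal := Subgroup.Normal.map hNn _ hπs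
    have hNbarS : Group.IsSolvable (N.map (QuotientGroup.mk' N')) :=
      Group.isSolvable_of_surjective (f := (QuotientGroup.mk' N').subgroupMap N)
        ((QuotientGroup.mk' N').subgroupMap_surjective N)
    have hcard : Nat.card (G ⧸ N') < n := hn ▸ card_quotient_lt_of_ne_bot N' hN'
    obtain ⟨gbar, hgbar⟩ := ih _ hcard (G ⧸ N') rfl (N.map (QuotientGroup.mk' N'))
      (H.map (QuotientGroup.mk' N')) (K.map (QuotientGroup.mk' N')) (Or.inl hNbarS)
      (by rw [← Subgroup.map_sup, hH, Subgroup.map_top_of_surjective _ hπs])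
      (by rw [← Subgroup.map_sup, hK, Subgroup.map_top_of_surjective _ hπs])
      (Nat.Coprime.coprime_dvd_left (Subgroup.card_map_dvd H _)
        (Nat.Coprime.coprime_dvd_right (Subgroup.card_map_dvd N _) hcH))
      (Nat.Coprime.coprime_dvd_left (Subgroup.card_map_dvd K _)
        (Nat.Coprime.coprime_dvd_right (Subgroup.card_map_dvd N _) hcK))
    obtain ⟨g, rfl⟩ := hπs gbar
    have hmap : (H.map (MulAut.conj g).toMonoidHom).map (QuotientGroup.mk' N') =
        K.map (QuotientGroup.mk' N') := by
      rw [← hgbar, Subgroup.map_map, Subgroup.map_map]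
      congr 1
    have hsup : H.map (MulAut.conj g).toMonoidHom ⊔ N' = K ⊔ N' := by
      have := congrArg (Subgroup.comap (QuotientGroup.mk' N')) hmap
      rwa [Subgroup.comap_map_eq, Subgroup.comap_map_eq, QuotientGroup.ker_mk'] at this
    have hLne : K ⊔ N' ≠ ⊤ := by
      intro hLtop
      have h1 := sup_inf_eq_of_le_of_normal_left N' K N hN'le
      rw [sup_comm, hLtop, top_inf_eq, inf_comm, disjoint_iff.mp hKc.disjoint, sup_bot_eq] at h1
      exact (ne_of_lt hN'lt) h1.symm
    have hcardL : Nat.card ↥(K ⊔ N') < n := hn ▸ card_lt_of_ne_top _ hLne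
    have hH₁L : H.map (MulAut.conj g).toMonoidHom ≤ K ⊔ N' := by rw [← hsup]; exact le_sup_left
    have hKL : K ≤ K ⊔ N' := le_sup_left
    have hN'L : N' ≤ K ⊔ N' := le_sup_right
    have hN₀s : Group.IsSolvable (N'.subgroupOf (K ⊔ N')) := by
      have h1 : Group.IsSolvable N' :=
        Group.isSolvable_of_isSolvable_injective (Subgroup.inclusion_injective hN'le)
      exact Group.isSolvable_of_isSolvable_injective
        (f := (Subgroup.subgroupOfEquivOfLe hN'L).toMonoidHom)
        (Subgroup.subgroupOfEquivOfLe hN'L).injective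
    have hcardH₁ : Nat.card (H.map (MulAut.conj g).toMonoidHom) = Nat.card H :=
      Subgroup.card_map_of_injective (MulAut.conj g).injective
    obtain ⟨l, hl⟩ := ih _ hcardL ↥(K ⊔ N') rfl (N'.subgroupOf (K ⊔ N'))
      ((H.map (MulAut.conj g).toMonoidHom).subgroupOf (K ⊔ N')) (K.subgroupOf (K ⊔ N'))
      (Or.inl hN₀s)
      (by rw [← Subgroup.subgroupOf_sup hH₁L hN'L, hsup, Subgroup.subgroupOf_self])
      (by rw [← Subgroup.subgroupOf_sup hKL hN'L, Subgroup.subgroupOf_self])
      (by
        rw [Nat.card_congr (Subgroup.subgroupOfEquivOfLe hH₁L).toEquiv,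
          Nat.card_congr (Subgroup.subgroupOfEquivOfLe hN'L).toEquiv, hcardH₁]
        exact Nat.Coprime.coprime_dvd_right (Subgroup.card_dvd_of_le hN'le) hcH)
      (by
        rw [Nat.card_congr (Subgroup.subgroupOfEquivOfLe hKL).toEquiv,
          Nat.card_congr (Subgroup.subgroupOfEquivOfLe hN'L).toEquiv]
        exact Nat.Coprime.coprime_dvd_right (Subgroup.card_dvd_of_le hN'le) hcK)
    have hfin := map_conj_eq_of_subgroupOf (K ⊔ N') _ K hH₁L hKL l hl
    refine ⟨(l : G) * g, ?_⟩
    have hcomp : (MulAut.conj ((l : G) * g)).toMonoidHom =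
        (MulAut.conj (l : G)).toMonoidHom.comp (MulAut.conj g).toMonoidHom := by
      ext x
      simp [mul_assoc]
    rw [hcomp, ← Subgroup.map_map]
    exact hfin

/-- Core of case B: `H` and `K` share a nontrivial subgroup `P` normalized by `H`. -/
theorem sz_step_B_core (n : ℕ)
    (ih : ∀ m < n, ∀ (G : Type u) [Group G] [Finite G], Nat.card G = m →
      ∀ (N H K : Subgroup G) [N.Normal], (Group.IsSolvable N ∨ Group.IsSolvable H) →
        H ⊔ N = ⊤ → K ⊔ N = ⊤ → (Nat.card H).Coprime (Nat.card N) →
        (Nat.card K).Coprime (Nat.card N) → ∃ g : G, H.map (MulAut.conj g).toMonoidHom = K)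
    (G : Type u) [Group G] [Finite G] (hn : Nat.card G = n)
    (N H K : Subgroup G) [hNn : N.Normal] (hHs : Group.IsSolvable H)
    (hH : H ⊔ N = ⊤) (hK : K ⊔ N = ⊤) (hcH : (Nat.card H).Coprime (Nat.card N))
    (hcK : (Nat.card K).Coprime (Nat.card N))
    (P : Subgroup G) (hPne : P ≠ ⊥) (hPH : P ≤ H) (hPK : P ≤ K)
    (hHnorm : H ≤ Subgroup.normalizer (P : Set G)) :
    ∃ g : G, H.map (MulAut.conj g).toMonoidHom = K := by
  have hKc := isComplement'_of_sup_eq_top_of_coprime N K hK hcK
  -- M = P ⊔ N is normal in G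
  have hMn : (P ⊔ N).Normal := by
    rw [← Subgroup.normalizer_eq_top_iff, eq_top_iff, ← hH]
    apply sup_le
    · intro h hh
      have h1 := hHnorm hh
      rw [Subgroup.mem_normalizer_iff_map_conj_eq] at h1 ⊢
      rw [Subgroup.map_sup, h1]
      congr 1
      exact map_conj_normal N h
    · exact le_trans le_sup_right Subgroup.le_normalizer
  -- K ⊓ M = P
  have hKM : (P ⊔ N) ⊓ K = P := by
    rw [sup_inf_eq_of_le_of_normal P N K hPK, disjoint_iff.mp hKc.disjoint, sup_bot_eq]
  -- K normalizes P
  have hKnorm : K ≤ Subgroup.normalizer (P : Set G) := by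
    intro k hk
    rw [Subgroup.mem_normalizer_iff_map_conj_eq]
    have h1 : ((P ⊔ N) ⊓ K).map (MulAut.conj k).toMonoidHom = (P ⊔ N) ⊓ K := by
      rw [Subgroup.map_inf _ _ _ (MulAut.conj k).injective, map_conj_normal (P ⊔ N) k]
      congr 1
      exact Subgroup.conj_smul_eq_self_of_mem hk
    rw [hKM] at h1
    exact h1
  by_cases hL : Subgroup.normalizer (P : Set G) = ⊤
  · -- P is normal in G: pass to the quotient
    have hPn : P.Normal := Subgroup.normalizer_eq_top_iff.mp hL
    have hπs : Function.Surjective (QuotientGroup.mk' P) := QuotientGroup.mk'_surjective P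
    have hNbarN : (N.map (QuotientGroup.mk' P)).Normal := Subgroup.Normal.map hNn _ hπs
    have hHbarS : Group.IsSolvable (H.map (QuotientGroup.mk' P)) :=
      Group.isSolvable_of_surjective (f := (QuotientGroup.mk' P).subgroupMap H)
        ((QuotientGroup.mk' P).subgroupMap_surjective H)
    have hcard : Nat.card (G ⧸ P) < n := hn ▸ card_quotient_lt_of_ne_bot P hPne
    obtain ⟨gbar, hgbar⟩ := ih _ hcard (G ⧸ P) rfl (N.map (QuotientGroup.mk' P))
      (H.map (QuotientGroup.mk' P)) (K.map (QuotientGroup.mk' P)) (Or.inr hHbarS)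
      (by rw [← Subgroup.map_sup, hH, Subgroup.map_top_of_surjective _ hπs])
      (by rw [← Subgroup.map_sup, hK, Subgroup.map_top_of_surjective _ hπs])
      (Nat.Coprime.coprime_dvd_left (Subgroup.card_map_dvd H _)
        (Nat.Coprime.coprime_dvd_right (Subgroup.card_map_dvd N _) hcH))
      (Nat.Coprime.coprime_dvd_left (Subgroup.card_map_dvd K _)
        (Nat.Coprime.coprime_dvd_right (Subgroup.card_map_dvd N _) hcK))
    obtain ⟨g, rfl⟩ := hπs gbar
    exact ⟨g, map_conj_eq_of_quotient P H K hPH hPK g hgbar⟩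
  · -- the normalizer of P is a proper subgroup containing H and K
    have hcardL : Nat.card ↥(Subgroup.normalizer (P : Set G)) < n :=
      hn ▸ card_lt_of_ne_top _ hL
    have hsupL : H ⊔ (N ⊓ Subgroup.normalizer (P : Set G)) = Subgroup.normalizer (P : Set G) := by
      rw [← sup_inf_eq_of_le_of_normal H N _ hHnorm, hH, top_inf_eq]
    have hsupL' : K ⊔ (N ⊓ Subgroup.normalizer (P : Set G)) = Subgroup.normalizer (P : Set G) := by
      rw [← sup_inf_eq_of_le_of_normal K N _ hKnorm, hK, top_inf_eq]
    have hH₀s : Group.IsSolvable (H.subgroupOf (Subgroup.normalizer (P : Set G))) :=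
      Group.isSolvable_of_isSolvable_injective
        (f := (Subgroup.subgroupOfEquivOfLe hHnorm).toMonoidHom)
        (Subgroup.subgroupOfEquivOfLe hHnorm).injective
    have hN₀card : Nat.card (N.subgroupOf (Subgroup.normalizer (P : Set G))) ∣ Nat.card N :=
      Subgroup.card_comap_dvd_of_injective N _ Subtype.coe_injective
    obtain ⟨l, hl⟩ := ih _ hcardL ↥(Subgroup.normalizer (P : Set G)) rfl
      (N.subgroupOf (Subgroup.normalizer (P : Set G)))
      (H.subgroupOf (Subgroup.normalizer (P : Set G)))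
      (K.subgroupOf (Subgroup.normalizer (P : Set G))) (Or.inr hH₀s)
      (by rw [← Subgroup.inf_subgroupOf_right N, ← Subgroup.subgroupOf_sup hHnorm inf_le_right,
            hsupL, Subgroup.subgroupOf_self])
      (by rw [← Subgroup.inf_subgroupOf_right N, ← Subgroup.subgroupOf_sup hKnorm inf_le_right,
            hsupL', Subgroup.subgroupOf_self])
      (by
        rw [Nat.card_congr (Subgroup.subgroupOfEquivOfLe hHnorm).toEquiv]
        exact Nat.Coprime.coprime_dvd_right hN₀card hcH)
      (by
        rw [Nat.card_congr (Subgroup.subgroupOfEquivOfLe hKnorm).toEquiv]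
        exact Nat.Coprime.coprime_dvd_right hN₀card hcK)
    exact ⟨l, map_conj_eq_of_subgroupOf _ H K hHnorm hKnorm l hl⟩

/-- Case B of the inductive step: `H` solvable. -/
theorem sz_step_B (n : ℕ)
    (ih : ∀ m < n, ∀ (G : Type u) [Group G] [Finite G], Nat.card G = m →
      ∀ (N H K : Subgroup G) [N.Normal], (Group.IsSolvable N ∨ Group.IsSolvable H) →
        H ⊔ N = ⊤ → K ⊔ N = ⊤ → (Nat.card H).Coprime (Nat.card N) →
        (Nat.card K).Coprime (Nat.card N) → ∃ g : G, H.map (MulAut.conj g).toMonoidHom = K)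
    (G : Type u) [Group G] [Finite G] (hn : Nat.card G = n)
    (N H K : Subgroup G) [hNn : N.Normal] (hHs : Group.IsSolvable H)
    (hH : H ⊔ N = ⊤) (hK : K ⊔ N = ⊤) (hcH : (Nat.card H).Coprime (Nat.card N))
    (hcK : (Nat.card K).Coprime (Nat.card N)) :
    ∃ g : G, H.map (MulAut.conj g).toMonoidHom = K := by
  have hHc := isComplement'_of_sup_eq_top_of_coprime N H hH hcH
  have hKc := isComplement'_of_sup_eq_top_of_coprime N K hK hcK
  have hcardHK : Nat.card H = Nat.card K := by
    have h1 := hHc.card_mul_card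
    have h2 := hKc.card_mul_card
    have hpos : 0 < Nat.card N := Nat.card_pos
    exact Nat.eq_of_mul_eq_mul_left hpos (h1.trans h2.symm)
  by_cases hHbot : H = ⊥
  · refine ⟨1, ?_⟩
    have hK1 : K = ⊥ := by
      rw [Subgroup.eq_bot_iff_card, ← hcardHK, hHbot, Subgroup.card_bot]
    rw [hHbot, hK1, Subgroup.map_bot]
  · have hHnt : Nontrivial H := (Subgroup.nontrivial_iff_ne_bot H).mpr hHbot
    obtain ⟨p, hp, hcore⟩ := exists_pCore_ne_bot_of_solvable H
    have hpF : Fact p.Prime := ⟨hp⟩
    -- P₁ : the p-core of H, inside G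
    have hcoreN : (Cfsg.pCore p H).Normal := pCore_normal p
    have hP₁H : (Cfsg.pCore p H).map H.subtype ≤ H := Subgroup.map_subtype_le _
    have hP₁ne : (Cfsg.pCore p H).map H.subtype ≠ ⊥ := by
      rw [ne_eq, Subgroup.map_eq_bot_iff_of_injective _ H.subtype_injective]
      exact hcore
    have hP₁p : IsPGroup p ((Cfsg.pCore p H).map H.subtype) := (pCore_isPGroup p).map _
    have hHnorm : H ≤ Subgroup.normalizer (((Cfsg.pCore p H).map H.subtype : Subgroup G) : Set G) := by
      have h1 := Subgroup.le_normalizer_map (H := Cfsg.pCore p H) H.subtype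
      rw [Subgroup.normalizer_eq_top_iff.mpr hcoreN, ← MonoidHom.range_eq_map,
        Subgroup.range_subtype] at h1
      exact h1
    have hpP₁ : p ∣ Nat.card ((Cfsg.pCore p H).map H.subtype) := by
      rcases hP₁p.card_eq_or_dvd with h | h
      · exact absurd (Subgroup.eq_bot_of_card_eq _ h) hP₁ne
      · exact h
    have hpH : p ∣ Nat.card H := hpP₁.trans (Subgroup.card_dvd_of_le hP₁H)
    have hpN : ¬ p ∣ Nat.card N :=
      (Nat.Prime.coprime_iff_not_dvd hp).mp (Nat.Coprime.coprime_dvd_left hpH hcH)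
    -- a Sylow p-subgroup of G inside K
    have S : Sylow p K := Classical.arbitrary _
    have hS'p : IsPGroup p ((S : Subgroup K).map K.subtype) := S.isPGroup'.map _
    have hS'idx : ¬ p ∣ ((S : Subgroup K).map K.subtype).index := by
      rw [Subgroup.index_map_subtype, hKc.index_eq_card]
      intro hdvd
      rcases (Nat.Prime.dvd_mul hp).mp hdvd with h | h
      · exact S.not_dvd_index h
      · exact hpN h
    have hTK : ((hS'p.toSylow hS'idx : Sylow p G) : Subgroup G) ≤ K := by
      rw [IsPGroup.toSylow_coe]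
      exact Subgroup.map_subtype_le _
    obtain ⟨T', hT'⟩ := hP₁p.exists_le_sylow
    obtain ⟨g, hg⟩ := MulAction.exists_smul_eq G T' (hS'p.toSylow hS'idx)
    have hP'K : ((Cfsg.pCore p H).map H.subtype).map (MulAut.conj g).toMonoidHom ≤ K := by
      refine le_trans ?_ hTK
      rw [← hg, Sylow.coe_subgroup_smul]
      exact Subgroup.map_mono hT'
    -- conjugate H by g
    have hH's : Group.IsSolvable (H.map (MulAut.conj g).toMonoidHom) :=
      Group.isSolvable_of_surjective (f := (MulAut.conj g).toMonoidHom.subgroupMap H)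
        ((MulAut.conj g).toMonoidHom.subgroupMap_surjective H)
    have hH'sup : H.map (MulAut.conj g).toMonoidHom ⊔ N = ⊤ := by
      have h1 := congrArg (Subgroup.map (MulAut.conj g).toMonoidHom) hH
      rw [Subgroup.map_sup, map_conj_normal N g,
        Subgroup.map_top_of_surjective _ (MulAut.conj g).surjective] at h1
      exact h1
    have hcardH' : Nat.card (H.map (MulAut.conj g).toMonoidHom) = Nat.card H :=
      Subgroup.card_map_of_injective (MulAut.conj g).injective
    have hP'ne : ((Cfsg.pCore p H).map H.subtype).map (MulAut.conj g).toMonoidHom ≠ ⊥ := by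
      rw [ne_eq, Subgroup.map_eq_bot_iff_of_injective _ (MulAut.conj g).injective]
      exact hP₁ne
    have hP'H' : ((Cfsg.pCore p H).map H.subtype).map (MulAut.conj g).toMonoidHom ≤
        H.map (MulAut.conj g).toMonoidHom := Subgroup.map_mono hP₁H
    have hH'norm : H.map (MulAut.conj g).toMonoidHom ≤
        Subgroup.normalizer
          ((((Cfsg.pCore p H).map H.subtype).map (MulAut.conj g).toMonoidHom : Subgroup G) :
            Set G) :=
      le_trans (Subgroup.map_mono hHnorm) (Subgroup.le_normalizer_map _)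
    obtain ⟨g₂, hg₂⟩ := sz_step_B_core n ih G hn N (H.map (MulAut.conj g).toMonoidHom) K hH's
      hH'sup hK (hcardH'.symm ▸ hcH) hcK _ hP'ne hP'H' hP'K hH'norm
    refine ⟨g₂ * g, ?_⟩
    have hcomp : (MulAut.conj (g₂ * g)).toMonoidHom =
        (MulAut.conj g₂).toMonoidHom.comp (MulAut.conj g).toMonoidHom := by
      ext x
      simp [mul_assoc]
    rw [hcomp, ← Subgroup.map_map]
    exact hg₂

/-- **Schur–Zassenhaus conjugacy** (with a solvability hypothesis): if `N` is normal in the finite
group `G`, `H N = K N = G`, `|H|`, `|K|` are coprime to `|N|`, and `N` or `H` is solvable, then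
`H` and `K` are conjugate. -/
theorem sz_conj_aux (n : ℕ) : ∀ (G : Type u) [Group G] [Finite G], Nat.card G = n →
    ∀ (N H K : Subgroup G) [N.Normal], (Group.IsSolvable N ∨ Group.IsSolvable H) →
      H ⊔ N = ⊤ → K ⊔ N = ⊤ → (Nat.card H).Coprime (Nat.card N) →
      (Nat.card K).Coprime (Nat.card N) → ∃ g : G, H.map (MulAut.conj g).toMonoidHom = K := by
  induction n using Nat.strong_induction_on with
  | _ n ih =>
    intro G _ _ hn N H K _ hs hH hK hcH hcK
    rcases hs with hs | hs
    · exact sz_step_A n ih G hn N H K hs hH hK hcH hcK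
    · exact sz_step_B n ih G hn N H K hs hH hK hcH hcK

theorem sz_conj {G : Type u} [Group G] [Finite G] (N H K : Subgroup G) [N.Normal]
    (hs : Group.IsSolvable N ∨ Group.IsSolvable H)
    (hH : H ⊔ N = ⊤) (hK : K ⊔ N = ⊤) (hcH : (Nat.card H).Coprime (Nat.card N))
    (hcK : (Nat.card K).Coprime (Nat.card N)) :
    ∃ g : G, H.map (MulAut.conj g).toMonoidHom = K :=
  sz_conj_aux (Nat.card G) G rfl N H K hs hH hK hcH hcK

open Pointwise in
/-- Schur–Zassenhaus conjugacy in the `IsComplement'` form. -/
theorem isComplement'_conj {G : Type u} [Group G] [Finite G] (N : Subgroup G) [N.Normal]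
    (hN : (Nat.card N).Coprime N.index)
    (hsolv : Group.IsSolvable N ∨ Group.IsSolvable (G ⧸ N))
    (H K : Subgroup G) (hH : Subgroup.IsComplement' N H) (hK : Subgroup.IsComplement' N K) :
    ∃ g : G, MulAut.conj g • H = K := by
  have hHsup : H ⊔ N = ⊤ := by rw [sup_comm]; exact hH.sup_eq_top
  have hKsup : K ⊔ N = ⊤ := by rw [sup_comm]; exact hK.sup_eq_top
  have hcH : (Nat.card H).Coprime (Nat.card N) := by
    rw [← hH.symm.index_eq_card]; exact hN.symm
  have hcK : (Nat.card K).Coprime (Nat.card N) := by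
    rw [← hK.symm.index_eq_card]; exact hN.symm
  have hs : Group.IsSolvable N ∨ Group.IsSolvable H := by
    rcases hsolv with h | h
    · exact Or.inl h
    · right
      -- H embeds in G ⧸ N
      apply Group.isSolvable_of_isSolvable_injective
        (f := (QuotientGroup.mk' N).comp H.subtype)
      intro a b hab
      have h1 : (a : G)⁻¹ * (b : G) ∈ N := by
        have := hab
        simp only [MonoidHom.coe_comp, Function.comp_apply, Subgroup.coe_subtype,
          QuotientGroup.mk'_apply] at this
        exact QuotientGroup.eq.mp this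
      have h2 : (a : G)⁻¹ * (b : G) ∈ H := H.mul_mem (H.inv_mem a.2) b.2
      have h3 : (a : G)⁻¹ * (b : G) ∈ N ⊓ H := ⟨h1, h2⟩
      rw [disjoint_iff.mp hH.disjoint, Subgroup.mem_bot] at h3
      exact Subtype.ext (inv_mul_eq_one.mp h3)
  obtain ⟨g, hg⟩ := sz_conj N H K hs hHsup hKsup hcH hcK
  exact ⟨g, hg⟩

end Cfsg.Agent.Lib.Helper2
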