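import Mathlib
import Cfsg.Agent.Lib.Helper2.SchurZassenhaus2

/-!
Schur–Zassenhaus conjugacy, relative form (helper2).
-/

set_option autoImplicit false

namespace Cfsg.Agent.Lib.Helper2

universe u

open Pointwise

/-- Relative Schur–Zassenhaus conjugacy: `H`, `K` normalize `N`, `H N = K N`, orders coprime to
`|N|`, and `N` or `H` solvable. Then `H` and `K` are conjugate by an element of `N`. -/
theorem sz_conj_rel {G : Type u} [Group G] [Finite G] (N H K : Subgroup G)
    (hHN : H ≤ Subgroup.normalizer (N : Set G)) (hKN : K ≤ Subgroup.normalizer (N : Set G))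
    (hs : Group.IsSolvable N ∨ Group.IsSolvable H)
    (hsup : H ⊔ N = K ⊔ N) (hcH : (Nat.card H).Coprime (Nat.card N))
    (hcK : (Nat.card K).Coprime (Nat.card N)) :
    ∃ g ∈ N, H.map (MulAut.conj g).toMonoidHom = K := by
  have hHL : H ≤ H ⊔ N := le_sup_left
  have hNL : N ≤ H ⊔ N := le_sup_right
  have hKL : K ≤ H ⊔ N := by rw [hsup]; exact le_sup_left
  have hLnorm : H ⊔ N ≤ Subgroup.normalizer (N : Set G) := sup_le hHN Subgroup.le_normalizer
  have hN₀n : (N.subgroupOf (H ⊔ N)).Normal :=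
    (Subgroup.normal_subgroupOf_iff_le_normalizer hNL).mpr hLnorm
  have hs' : Group.IsSolvable (N.subgroupOf (H ⊔ N)) ∨
      Group.IsSolvable (H.subgroupOf (H ⊔ N)) := by
    rcases hs with h | h
    · left
      exact Group.isSolvable_of_isSolvable_injective
        (f := (Subgroup.subgroupOfEquivOfLe hNL).toMonoidHom)
        (Subgroup.subgroupOfEquivOfLe hNL).injective
    · right
      exact Group.isSolvable_of_isSolvable_injective
        (f := (Subgroup.subgroupOfEquivOfLe hHL).toMonoidHom)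
        (Subgroup.subgroupOfEquivOfLe hHL).injective
  obtain ⟨l, hl⟩ := sz_conj (N.subgroupOf (H ⊔ N)) (H.subgroupOf (H ⊔ N))
    (K.subgroupOf (H ⊔ N)) hs'
    (by rw [← Subgroup.subgroupOf_sup hHL hNL, Subgroup.subgroupOf_self])
    (by rw [← Subgroup.subgroupOf_sup hKL hNL, ← hsup, Subgroup.subgroupOf_self])
    (by
      rw [Nat.card_congr (Subgroup.subgroupOfEquivOfLe hHL).toEquiv,
        Nat.card_congr (Subgroup.subgroupOfEquivOfLe hNL).toEquiv]
      exact hcH)
    (by
      rw [Nat.card_congr (Subgroup.subgroupOfEquivOfLe hKL).toEquiv,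
        Nat.card_congr (Subgroup.subgroupOfEquivOfLe hNL).toEquiv]
      exact hcK)
  have hfin := map_conj_eq_of_subgroupOf (H ⊔ N) H K hHL hKL l hl
  have hlmem : (l : G) ∈ ((K ⊔ N : Subgroup G) : Set G) := by rw [← hsup]; exact l.2
  rw [Subgroup.coe_mul_of_left_le_normalizer_right K N hKN, Set.mem_mul] at hlmem
  obtain ⟨k, hk, n', hn', hkn⟩ := hlmem
  refine ⟨n', hn', ?_⟩
  have hcomp : (MulAut.conj (k * n')).toMonoidHom =
      (MulAut.conj k).toMonoidHom.comp (MulAut.conj n').toMonoidHom := by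
    ext x
    simp [mul_assoc]
  rw [← hkn, hcomp, ← Subgroup.map_map] at hfin
  have hK' : K.map (MulAut.conj k⁻¹).toMonoidHom = K :=
    Subgroup.conj_smul_eq_self_of_mem (K.inv_mem hk)
  have h2 := congrArg (Subgroup.map (MulAut.conj k⁻¹).toMonoidHom) hfin
  rw [hK', Subgroup.map_map] at h2
  have hcomp2 : (MulAut.conj k⁻¹).toMonoidHom.comp (MulAut.conj k).toMonoidHom =
      MonoidHom.id G := by
    ext x
    simp [mul_assoc]
  rw [hcomp2, Subgroup.map_id] at h2
  exact h2

end Cfsg.Agent.Lib.Helper2
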