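import Mathlib
import Cfsg.Agent.Lib.Helper2.SchurZassenhaus3

/-!
Coprime action: Glauberman's lemma and consequences (helper2).
-/

set_option autoImplicit false

namespace Cfsg.Agent.Lib.Helper2

universe u v

open Pointwise

section basics

variable {G : Type u} [Group G]

theorem conj_mul_toMonoidHom (x y : G) : (MulAut.conj (x * y)).toMonoidHom =
    (MulAut.conj x).toMonoidHom.comp (MulAut.conj y).toMonoidHom := by
  ext z
  simp [mul_assoc]

theorem map_conj_mul (H : Subgroup G) (x y : G) :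
    H.map (MulAut.conj (x * y)).toMonoidHom =
      (H.map (MulAut.conj y).toMonoidHom).map (MulAut.conj x).toMonoidHom := by
  rw [conj_mul_toMonoidHom, Subgroup.map_map]

theorem map_conj_one (H : Subgroup G) : H.map (MulAut.conj (1 : G)).toMonoidHom = H := by
  have : (MulAut.conj (1 : G)).toMonoidHom = MonoidHom.id G := by
    ext z
    simp
  rw [this, Subgroup.map_id]

theorem map_conj_inv_of_eq {H K : Subgroup G} {x : G}
    (h : H.map (MulAut.conj x).toMonoidHom = K) :
    K.map (MulAut.conj x⁻¹).toMonoidHom = H := by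
  rw [← h, ← map_conj_mul, inv_mul_cancel, map_conj_one]

theorem mem_normalizer_inf {X Y : Subgroup G} {x : G}
    (hX : x ∈ Subgroup.normalizer (X : Set G)) (hY : x ∈ Subgroup.normalizer (Y : Set G)) :
    x ∈ Subgroup.normalizer ((X ⊓ Y : Subgroup G) : Set G) := by
  rw [Subgroup.mem_normalizer_iff_map_conj_eq] at hX hY ⊢
  rw [Subgroup.map_inf _ _ _ (MulAut.conj x).injective, hX, hY]

theorem mem_normalizer_iff_map_conj {X : Subgroup G} {x : G} :
    x ∈ Subgroup.normalizer (X : Set G) ↔ X.map (MulAut.conj x).toMonoidHom = X :=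
  Subgroup.mem_normalizer_iff_map_conj_eq

end basics

/-- Core coprime-action lemma: if `A` acts coprimely on `K` (inside `G`), `M ≤ K` is `A`-invariant
and `k ∈ K` satisfies `[k⁻¹, a] ∈ M` for all `a ∈ A`, then `k M` contains an element centralizing
`A`. -/
theorem coprime_fix {G : Type u} [Group G] [Finite G] (A K M : Subgroup G)
    (hAK : A ≤ Subgroup.normalizer (K : Set G))
    (hcop : (Nat.card A).Coprime (Nat.card K))
    (hsolv : Group.IsSolvable A ∨ Group.IsSolvable K)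
    (hMK : M ≤ K) (hAM : A ≤ Subgroup.normalizer (M : Set G))
    (k : G) (hk : k ∈ K) (hfix : ∀ a ∈ A, k⁻¹ * a * k * a⁻¹ ∈ M) :
    ∃ m ∈ M, k * m⁻¹ ∈ Subgroup.centralizer (A : Set G) := by
  have hcM : (Nat.card A).Coprime (Nat.card M) :=
    Nat.Coprime.coprime_dvd_right (Subgroup.card_dvd_of_le hMK) hcop
  have hmemH : ∀ x ∈ A.map (MulAut.conj k⁻¹).toMonoidHom,
      ∃ a ∈ A, x = (k⁻¹ * a * k * a⁻¹) * a := by
    intro x hx
    obtain ⟨a, ha, rfl⟩ := Subgroup.mem_map.mp hx
    refine ⟨a, ha, ?_⟩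
    simp
  have hHM : A.map (MulAut.conj k⁻¹).toMonoidHom ≤ Subgroup.normalizer (M : Set G) := by
    intro x hx
    obtain ⟨a, ha, rfl⟩ := hmemH x hx
    exact mul_mem (Subgroup.le_normalizer (hfix a ha)) (hAM ha)
  have hs : Group.IsSolvable M ∨ Group.IsSolvable (A.map (MulAut.conj k⁻¹).toMonoidHom) := by
    rcases hsolv with h | h
    · right
      exact Group.isSolvable_of_surjective (f := (MulAut.conj k⁻¹).toMonoidHom.subgroupMap A)
        ((MulAut.conj k⁻¹).toMonoidHom.subgroupMap_surjective A)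
    · left
      exact Group.isSolvable_of_isSolvable_injective (Subgroup.inclusion_injective hMK)
  have hsup : A.map (MulAut.conj k⁻¹).toMonoidHom ⊔ M = A ⊔ M := by
    apply le_antisymm
    · apply sup_le _ le_sup_right
      intro x hx
      obtain ⟨a, ha, rfl⟩ := hmemH x hx
      exact mul_mem (Subgroup.mem_sup_right (hfix a ha)) (Subgroup.mem_sup_left ha)
    · apply sup_le _ le_sup_right
      intro a ha
      have h1 : a = (k⁻¹ * a * k * a⁻¹)⁻¹ * (k⁻¹ * a * k) := by group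
      rw [h1]
      refine mul_mem (Subgroup.mem_sup_right (M.inv_mem (hfix a ha))) (Subgroup.mem_sup_left ?_)
      refine Subgroup.mem_map.mpr ⟨a, ha, ?_⟩
      simp
  have hcardH : Nat.card (A.map (MulAut.conj k⁻¹).toMonoidHom) = Nat.card A :=
    Subgroup.card_map_of_injective (MulAut.conj k⁻¹).injective
  obtain ⟨n, hnM, hn⟩ := sz_conj_rel M (A.map (MulAut.conj k⁻¹).toMonoidHom) A hHM hAM hs hsup
    (hcardH.symm ▸ hcM) hcM
  refine ⟨n, hnM, ?_⟩
  have hdisj : Disjoint A K := Subgroup.disjoint_of_coprime_natCard hcop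
  have hcK : k * n⁻¹ ∈ K := K.mul_mem hk (K.inv_mem (hMK hnM))
  rw [Subgroup.mem_centralizer_iff]
  intro a ha
  have ha' : a ∈ A := ha
  have hb : n * (k⁻¹ * a * k) * n⁻¹ ∈ A := by
    rw [← hn]
    refine Subgroup.mem_map.mpr ⟨k⁻¹ * a * k, Subgroup.mem_map.mpr ⟨a, ha', ?_⟩, ?_⟩
    · simp
    · simp
  have h1 : n * (k⁻¹ * a * k) * n⁻¹ * a⁻¹ ∈ A := A.mul_mem hb (A.inv_mem ha')
  have h2 : n * (k⁻¹ * a * k) * n⁻¹ * a⁻¹ ∈ K := by
    have h3 : a * (k * n⁻¹) * a⁻¹ ∈ K := (Subgroup.mem_normalizer_iff.mp (hAK ha') _).mp hcK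
    have h4 : n * (k⁻¹ * a * k) * n⁻¹ * a⁻¹ = (k * n⁻¹)⁻¹ * (a * (k * n⁻¹) * a⁻¹) := by group
    rw [h4]
    exact K.mul_mem (K.inv_mem hcK) h3
  have h5 : n * (k⁻¹ * a * k) * n⁻¹ * a⁻¹ = 1 := Subgroup.disjoint_def.mp hdisj h1 h2
  have h6 : n * (k⁻¹ * a * k) * n⁻¹ = a := mul_inv_eq_one.mp h5
  calc a * (k * n⁻¹) = (k * n⁻¹) * (n * (k⁻¹ * a * k) * n⁻¹) := by group
    _ = k * n⁻¹ * a := by rw [h6]

/-- Glauberman's lemma, existence, global form. -/
theorem glauberman_global {Γ : Type u} [Group Γ] [Finite Γ] {Ω : Type v} [MulAction Γ Ω]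
    (A K : Subgroup Γ) [K.Normal] (hsup : A ⊔ K = ⊤)
    (hcop : (Nat.card A).Coprime (Nat.card K))
    (hsolv : Group.IsSolvable A ∨ Group.IsSolvable K)
    (ω : Ω) (horb : ∀ a ∈ A, ∃ k ∈ K, a • ω = k • ω) :
    ∃ x ∈ K, ∀ a ∈ A, a • (x • ω) = x • ω := by
  have hSK : MulAction.stabilizer Γ ω ⊔ K = ⊤ := by
    rw [eq_top_iff, ← hsup]
    apply sup_le _ le_sup_right
    intro a ha
    obtain ⟨k, hk, hak⟩ := horb a ha
    have h1 : k⁻¹ * a ∈ MulAction.stabilizer Γ ω := by
      rw [MulAction.mem_stabilizer_iff, mul_smul, hak, inv_smul_smul]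
    have h2 : a = k * (k⁻¹ * a) := by group
    rw [h2]
    exact mul_mem (Subgroup.mem_sup_right hk) (Subgroup.mem_sup_left h1)
  have hKc : Subgroup.IsComplement' K A := isComplement'_of_sup_eq_top_of_coprime K A hsup hcop
  have hidx : (K.subgroupOf (MulAction.stabilizer Γ ω)).index = Nat.card A := by
    change K.relIndex (MulAction.stabilizer Γ ω) = _
    rw [← Subgroup.relIndex_sup_right (MulAction.stabilizer Γ ω) K, hSK,
      Subgroup.relIndex_top_right]
    exact hKc.symm.index_eq_card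
  have hcop' : (Nat.card (K.subgroupOf (MulAction.stabilizer Γ ω))).Coprime
      (K.subgroupOf (MulAction.stabilizer Γ ω)).index := by
    rw [hidx]
    refine Nat.Coprime.symm (Nat.Coprime.coprime_dvd_right ?_ hcop)
    exact Subgroup.card_comap_dvd_of_injective K _ Subtype.coe_injective
  obtain ⟨B₀, hB₀⟩ := Subgroup.exists_right_complement'_of_coprime hcop'
  have hBS : B₀.map (MulAction.stabilizer Γ ω).subtype ≤ MulAction.stabilizer Γ ω :=
    Subgroup.map_subtype_le _
  have hcardB : Nat.card (B₀.map (MulAction.stabilizer Γ ω).subtype) = Nat.card A := by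
    rw [Subgroup.card_map_of_injective (MulAction.stabilizer Γ ω).subtype_injective,
      ← hB₀.symm.index_eq_card, hidx]
  have hcBK : (Nat.card (B₀.map (MulAction.stabilizer Γ ω).subtype)).Coprime (Nat.card K) :=
    hcardB.symm ▸ hcop
  have hBK : B₀.map (MulAction.stabilizer Γ ω).subtype ⊔ K = ⊤ := by
    have hdisj : Disjoint (B₀.map (MulAction.stabilizer Γ ω).subtype) K :=
      Subgroup.disjoint_of_coprime_natCard hcBK
    have hcard : Nat.card (B₀.map (MulAction.stabilizer Γ ω).subtype) * Nat.card K =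
        Nat.card Γ := by
      rw [hcardB, ← hKc.symm.card_mul_card]
    exact (Subgroup.isComplement'_of_card_mul_and_disjoint hcard hdisj).sup_eq_top
  have hnormK : ∀ X : Subgroup Γ, X ≤ Subgroup.normalizer (K : Set Γ) := by
    intro X
    rw [Subgroup.normalizer_eq_top_iff.mpr inferInstance]
    exact le_top
  obtain ⟨x, hxK, hx⟩ := sz_conj_rel K A (B₀.map (MulAction.stabilizer Γ ω).subtype)
    (hnormK _) (hnormK _) hsolv.symm (by rw [hsup, hBK]) hcop hcBK
  refine ⟨x⁻¹, K.inv_mem hxK, ?_⟩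
  intro a ha
  have h1 : x * a * x⁻¹ ∈ MulAction.stabilizer Γ ω := by
    apply hBS
    rw [← hx]
    exact Subgroup.mem_map.mpr ⟨a, ha, by simp [MulAut.conj_apply]⟩
  rw [MulAction.mem_stabilizer_iff] at h1
  calc a • x⁻¹ • ω = x⁻¹ • ((x * a * x⁻¹) • ω) := by
        simp only [smul_smul]
        congr 1
        group
    _ = x⁻¹ • ω := by rw [h1]

/-- Glauberman's lemma, existence, relative form. -/
theorem glauberman_exists {G : Type u} [Group G] [Finite G] {Ω : Type v} [MulAction G Ω]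
    (A K : Subgroup G) (hAK : A ≤ Subgroup.normalizer (K : Set G))
    (hcop : (Nat.card A).Coprime (Nat.card K))
    (hsolv : Group.IsSolvable A ∨ Group.IsSolvable K)
    (ω : Ω) (horb : ∀ a ∈ A, ∃ k ∈ K, a • ω = k • ω) :
    ∃ x ∈ K, ∀ a ∈ A, a • (x • ω) = x • ω := by
  have hAΓ : A ≤ A ⊔ K := le_sup_left
  have hKΓ : K ≤ A ⊔ K := le_sup_right
  have hΓnorm : A ⊔ K ≤ Subgroup.normalizer (K : Set G) := sup_le hAK Subgroup.le_normalizer
  have hKn : (K.subgroupOf (A ⊔ K)).Normal :=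
    (Subgroup.normal_subgroupOf_iff_le_normalizer hKΓ).mpr hΓnorm
  obtain ⟨x, hx, hfix⟩ := glauberman_global (Γ := ↥(A ⊔ K)) (Ω := Ω)
    (A.subgroupOf (A ⊔ K)) (K.subgroupOf (A ⊔ K))
    (by rw [← Subgroup.subgroupOf_sup hAΓ hKΓ, Subgroup.subgroupOf_self])
    (by
      rw [Nat.card_congr (Subgroup.subgroupOfEquivOfLe hAΓ).toEquiv,
        Nat.card_congr (Subgroup.subgroupOfEquivOfLe hKΓ).toEquiv]
      exact hcop)
    (by
      rcases hsolv with h | h
      · left
        exact Group.isSolvable_of_isSolvable_injective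
          (f := (Subgroup.subgroupOfEquivOfLe hAΓ).toMonoidHom)
          (Subgroup.subgroupOfEquivOfLe hAΓ).injective
      · right
        exact Group.isSolvable_of_isSolvable_injective
          (f := (Subgroup.subgroupOfEquivOfLe hKΓ).toMonoidHom)
          (Subgroup.subgroupOfEquivOfLe hKΓ).injective)
    ω
    (by
      intro a ha
      obtain ⟨k, hk, hak⟩ := horb (a : G) (Subgroup.mem_subgroupOf.mp ha)
      exact ⟨⟨k, hKΓ hk⟩, Subgroup.mem_subgroupOf.mpr hk, hak⟩)
  refine ⟨(x : G), Subgroup.mem_subgroupOf.mp hx, ?_⟩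
  intro a ha
  exact hfix ⟨a, hAΓ ha⟩ (Subgroup.mem_subgroupOf.mpr ha)

/-- Glauberman's lemma, conjugacy of fixed points. -/
theorem glauberman_conj {G : Type u} [Group G] [Finite G] {Ω : Type v} [MulAction G Ω]
    (A K : Subgroup G) (hAK : A ≤ Subgroup.normalizer (K : Set G))
    (hcop : (Nat.card A).Coprime (Nat.card K))
    (hsolv : Group.IsSolvable A ∨ Group.IsSolvable K)
    (ω : Ω) (hω : ∀ a ∈ A, a • ω = ω) (k : G) (hk : k ∈ K)
    (hkω : ∀ a ∈ A, a • (k • ω) = k • ω) :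
    ∃ c ∈ K ⊓ Subgroup.centralizer (A : Set G), c • ω = k • ω := by
  have hAS : A ≤ MulAction.stabilizer G ω :=
    fun a ha => MulAction.mem_stabilizer_iff.mpr (hω a ha)
  have hAM : A ≤ Subgroup.normalizer ((MulAction.stabilizer G ω ⊓ K : Subgroup G) : Set G) := by
    intro a ha
    exact mem_normalizer_inf (Subgroup.le_normalizer (hAS ha)) (hAK ha)
  obtain ⟨m, hm, hc⟩ := coprime_fix A K (MulAction.stabilizer G ω ⊓ K) hAK hcop hsolv
    inf_le_right hAM k hk
    (by
      intro a ha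
      refine Subgroup.mem_inf.mpr ⟨?_, ?_⟩
      · rw [MulAction.mem_stabilizer_iff]
        have h1 : a⁻¹ • ω = ω := by
          rw [inv_smul_eq_iff]
          exact (hω a ha).symm
        rw [mul_smul, h1, mul_smul, mul_smul, hkω a ha, inv_smul_smul]
      · have h3 : a * k * a⁻¹ ∈ K := (Subgroup.mem_normalizer_iff.mp (hAK ha) _).mp hk
        have : k⁻¹ * a * k * a⁻¹ = k⁻¹ * (a * k * a⁻¹) := by group
        rw [this]
        exact K.mul_mem (K.inv_mem hk) h3)
  refine ⟨k * m⁻¹,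
    Subgroup.mem_inf.mpr ⟨K.mul_mem hk (K.inv_mem (Subgroup.mem_inf.mp hm).2), hc⟩, ?_⟩
  have h1 : m⁻¹ • ω = ω := by
    rw [inv_smul_eq_iff]
    exact (MulAction.mem_stabilizer_iff.mp (Subgroup.mem_inf.mp hm).1).symm
  rw [mul_smul, h1]

end Cfsg.Agent.Lib.Helper2
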