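import Mathlib
import Cfsg.Agent.Lib.Helper2.CoprimeAction

/-!
Coprime action on Sylow subgroups (helper2).
-/

set_option autoImplicit false

namespace Cfsg.Agent.Lib.Helper2

universe u

open Pointwise

/-- Conjugation action of `G` on its subgroups (a def, to be used via `letI`). -/
@[reducible] def conjSubgroupAction (G : Type u) [Group G] : MulAction G (Subgroup G) :=
  MulAction.compHom (Subgroup G) (MulAut.conj : G →* MulAut G)

variable {G : Type u} [Group G]

theorem exists_invariant_conj [Finite G] (A K : Subgroup G)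
    (hAK : A ≤ Subgroup.normalizer (K : Set G))
    (hcop : (Nat.card A).Coprime (Nat.card K))
    (hsolv : Group.IsSolvable A ∨ Group.IsSolvable K) (P : Subgroup G)
    (horb : ∀ a ∈ A, ∃ k ∈ K,
      P.map (MulAut.conj a).toMonoidHom = P.map (MulAut.conj k).toMonoidHom) :
    ∃ x ∈ K, A ≤ Subgroup.normalizer ((P.map (MulAut.conj x).toMonoidHom : Subgroup G) : Set G) := by
  let _ := conjSubgroupAction G
  obtain ⟨x, hx, h⟩ := glauberman_exists A K hAK hcop hsolv P horb
  refine ⟨x, hx, fun a ha => ?_⟩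
  rw [mem_normalizer_iff_map_conj]
  exact h a ha

theorem invariant_conj [Finite G] (A K : Subgroup G)
    (hAK : A ≤ Subgroup.normalizer (K : Set G))
    (hcop : (Nat.card A).Coprime (Nat.card K))
    (hsolv : Group.IsSolvable A ∨ Group.IsSolvable K) (P : Subgroup G)
    (hP : A ≤ Subgroup.normalizer (P : Set G)) (k : G) (hk : k ∈ K)
    (hkP : A ≤ Subgroup.normalizer ((P.map (MulAut.conj k).toMonoidHom : Subgroup G) : Set G)) :
    ∃ c ∈ K ⊓ Subgroup.centralizer (A : Set G),
      P.map (MulAut.conj c).toMonoidHom = P.map (MulAut.conj k).toMonoidHom := by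
  let _ := conjSubgroupAction G
  exact glauberman_conj A K hAK hcop hsolv P
    (fun a ha => mem_normalizer_iff_map_conj.mp (hP ha)) k hk
    (fun a ha => mem_normalizer_iff_map_conj.mp (hkP ha))

theorem map_subtype_conj_smul (K : Subgroup G) (k : K) (P : Subgroup K) :
    (MulAut.conj k • P).map K.subtype =
      (P.map K.subtype).map (MulAut.conj (k : G)).toMonoidHom := by
  have h1 : MulAut.conj k • P = P.map (MulAut.conj k).toMonoidHom := rfl
  have h2 : K.subtype.comp (MulAut.conj k).toMonoidHom =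
      (MulAut.conj (k : G)).toMonoidHom.comp K.subtype := by
    ext x
    simp
  rw [h1, Subgroup.map_map, Subgroup.map_map, h2]

theorem sylow_orbit [Finite G] (K : Subgroup G) {p : ℕ} [Fact p.Prime] (P : Sylow p K) (a : G)
    (ha : a ∈ Subgroup.normalizer (K : Set G)) :
    ∃ k ∈ K, ((P : Subgroup K).map K.subtype).map (MulAut.conj a).toMonoidHom =
      ((P : Subgroup K).map K.subtype).map (MulAut.conj k).toMonoidHom := by
  have hPK : (P : Subgroup K).map K.subtype ≤ K := Subgroup.map_subtype_le _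
  have hPaK : ((P : Subgroup K).map K.subtype).map (MulAut.conj a).toMonoidHom ≤ K := by
    have h1 := Subgroup.map_mono (f := (MulAut.conj a).toMonoidHom) hPK
    rwa [mem_normalizer_iff_map_conj.mp ha] at h1
  have hcard : Nat.card
      ((((P : Subgroup K).map K.subtype).map (MulAut.conj a).toMonoidHom).subgroupOf K) =
      p ^ (Nat.card K).factorization p := by
    rw [Nat.card_congr (Subgroup.subgroupOfEquivOfLe hPaK).toEquiv,
      Subgroup.card_map_of_injective (MulAut.conj a).injective,
      Subgroup.card_map_of_injective K.subtype_injective]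
    exact P.card_eq_multiplicity
  obtain ⟨k, hk⟩ := MulAction.exists_smul_eq K P (Sylow.ofCard _ hcard)
  refine ⟨(k : G), k.2, ?_⟩
  have h2 := congrArg (fun Q : Sylow p K => (Q : Subgroup K).map K.subtype) hk
  simp only [Sylow.coe_ofCard] at h2
  rw [Subgroup.map_subgroupOf_eq_of_le hPaK] at h2
  rw [← h2, Sylow.coe_subgroup_smul, map_subtype_conj_smul]

/-- Under coprime action there is an invariant Sylow subgroup. -/
theorem exists_invariant_sylow [Finite G] (A K : Subgroup G)
    (hAK : A ≤ Subgroup.normalizer (K : Set G))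
    (hcop : (Nat.card A).Coprime (Nat.card K))
    (hsolv : Group.IsSolvable A ∨ Group.IsSolvable K) (p : ℕ) [Fact p.Prime] :
    ∃ P : Sylow p K, A ≤ Subgroup.normalizer ((P : Subgroup K).map K.subtype : Set G) := by
  have P : Sylow p K := Classical.arbitrary _
  obtain ⟨x, hx, h⟩ := exists_invariant_conj A K hAK hcop hsolv ((P : Subgroup K).map K.subtype)
    (fun a ha => sylow_orbit K P a (hAK ha))
  refine ⟨(⟨x, hx⟩ : K) • P, ?_⟩
  rw [Sylow.coe_subgroup_smul, map_subtype_conj_smul]
  exact h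

/-- Invariant Sylow subgroups are conjugate under the centralizer. -/
theorem invariant_sylow_conj [Finite G] (A K : Subgroup G)
    (hAK : A ≤ Subgroup.normalizer (K : Set G))
    (hcop : (Nat.card A).Coprime (Nat.card K))
    (hsolv : Group.IsSolvable A ∨ Group.IsSolvable K) (p : ℕ) [Fact p.Prime] (P Q : Sylow p K)
    (hP : A ≤ Subgroup.normalizer ((P : Subgroup K).map K.subtype : Set G))
    (hQ : A ≤ Subgroup.normalizer ((Q : Subgroup K).map K.subtype : Set G)) :
    ∃ c : K, (c : G) ∈ Subgroup.centralizer (A : Set G) ∧ MulAut.conj c • P = Q := by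
  obtain ⟨k, hk⟩ := MulAction.exists_smul_eq K P Q
  have hQ' : (Q : Subgroup K).map K.subtype =
      ((P : Subgroup K).map K.subtype).map (MulAut.conj (k : G)).toMonoidHom := by
    rw [← hk, Sylow.coe_subgroup_smul, map_subtype_conj_smul]
  obtain ⟨c, hc, hcP⟩ := invariant_conj A K hAK hcop hsolv _ hP (k : G) k.2
    (by rw [← hQ']; exact hQ)
  obtain ⟨hcK, hcA⟩ := Subgroup.mem_inf.mp hc
  refine ⟨⟨c, hcK⟩, hcA, ?_⟩
  apply Sylow.ext
  apply Subgroup.map_injective K.subtype_injective
  rw [Sylow.pointwise_smul_def, map_subtype_conj_smul, hQ']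
  exact hcP

/-- An invariant `p`-subgroup lies in an invariant Sylow `p`-subgroup. -/
theorem exists_invariant_sylow_ge [Finite G] (A K : Subgroup G)
    (hAK : A ≤ Subgroup.normalizer (K : Set G))
    (hcop : (Nat.card A).Coprime (Nat.card K))
    (hsolv : Group.IsSolvable A ∨ Group.IsSolvable K) (p : ℕ) [Fact p.Prime]
    (U : Subgroup G) (hUK : U ≤ K) (hU : IsPGroup p U)
    (hUA : A ≤ Subgroup.normalizer (U : Set G)) :
    ∃ P : Sylow p K, U ≤ (P : Subgroup K).map K.subtype ∧
      A ≤ Subgroup.normalizer ((P : Subgroup K).map K.subtype : Set G) := by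
  classical
  have hfin : {V : Subgroup G | U ≤ V ∧ V ≤ K ∧ IsPGroup p V ∧
      A ≤ Subgroup.normalizer (V : Set G)}.Finite := Set.toFinite _
  have hne : {V : Subgroup G | U ≤ V ∧ V ≤ K ∧ IsPGroup p V ∧
      A ≤ Subgroup.normalizer (V : Set G)}.Nonempty := ⟨U, le_refl U, hUK, hU, hUA⟩
  obtain ⟨V, hVS, hVmax⟩ := Set.exists_max_image _ (fun V : Subgroup G => Nat.card V) hfin hne
  obtain ⟨hUV, hVK, hVp, hVA⟩ := hVS
  have hNK : Subgroup.normalizer (V : Set G) ⊓ K ≤ K := inf_le_right
  have hVN : V ≤ Subgroup.normalizer (V : Set G) ⊓ K := le_inf Subgroup.le_normalizer hVK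
  have hAN : A ≤ Subgroup.normalizer
      ((Subgroup.normalizer (V : Set G) ⊓ K : Subgroup G) : Set G) := fun a ha =>
    mem_normalizer_inf (Subgroup.le_normalizer (hVA ha)) (hAK ha)
  have hcopN : (Nat.card A).Coprime (Nat.card ↥(Subgroup.normalizer (V : Set G) ⊓ K)) :=
    Nat.Coprime.coprime_dvd_right (Subgroup.card_dvd_of_le hNK) hcop
  have hsolvN : Group.IsSolvable A ∨
      Group.IsSolvable ↥(Subgroup.normalizer (V : Set G) ⊓ K) := by
    rcases hsolv with h | h
    · exact Or.inl h
    · exact Or.inr (Group.isSolvable_of_isSolvable_injective (Subgroup.inclusion_injective hNK))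
  obtain ⟨S, hS⟩ := exists_invariant_sylow A _ hAN hcopN hsolvN p
  have hVnormal : (V.subgroupOf (Subgroup.normalizer (V : Set G) ⊓ K)).Normal :=
    (Subgroup.normal_subgroupOf_iff_le_normalizer hVN).mpr inf_le_left
  have hV₀p : IsPGroup p (V.subgroupOf (Subgroup.normalizer (V : Set G) ⊓ K)) :=
    hVp.comap_subtype
  have hVS₀ : V.subgroupOf (Subgroup.normalizer (V : Set G) ⊓ K) ≤ S :=
    hV₀p.le_sylow_of_normal S
  have hVS' : V ≤ (S : Subgroup ↥(Subgroup.normalizer (V : Set G) ⊓ K)).map
      (Subgroup.normalizer (V : Set G) ⊓ K).subtype := by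
    have := Subgroup.map_mono (f := (Subgroup.normalizer (V : Set G) ⊓ K).subtype) hVS₀
    rwa [Subgroup.map_subgroupOf_eq_of_le hVN] at this
  have hcardle := hVmax _ ⟨le_trans hUV hVS', le_trans (Subgroup.map_subtype_le _) hNK,
    S.isPGroup'.map _, hS⟩
  have hS'V : (S : Subgroup ↥(Subgroup.normalizer (V : Set G) ⊓ K)).map
      (Subgroup.normalizer (V : Set G) ⊓ K).subtype ≤ V :=
    (Subgroup.eq_of_le_of_card_ge hVS' hcardle).ge
  have hSV₀ : (S : Subgroup ↥(Subgroup.normalizer (V : Set G) ⊓ K)) ≤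
      V.subgroupOf (Subgroup.normalizer (V : Set G) ⊓ K) := by
    intro x hx
    rw [Subgroup.mem_subgroupOf]
    exact hS'V (Subgroup.mem_map_of_mem _ hx)
  have hrel : ¬ p ∣ V.relIndex (Subgroup.normalizer (V : Set G) ⊓ K) := by
    have h1 : V.subgroupOf (Subgroup.normalizer (V : Set G) ⊓ K) = S := le_antisymm hVS₀ hSV₀
    change ¬ p ∣ (V.subgroupOf (Subgroup.normalizer (V : Set G) ⊓ K)).index
    rw [h1]
    exact S.not_dvd_index
  have hV₀p' : IsPGroup p (V.subgroupOf K) := hVp.comap_subtype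
  obtain ⟨n, hn⟩ := IsPGroup.iff_card.mp hV₀p'
  have hmod := Sylow.card_quotient_normalizer_modEq_card_quotient (H := V.subgroupOf K) hn
  have hidx1 : Nat.card (↥(Subgroup.normalizer ((V.subgroupOf K : Subgroup K) : Set K)) ⧸
      (V.subgroupOf K).comap (Subgroup.normalizer ((V.subgroupOf K : Subgroup K) : Set K)).subtype) =
      V.relIndex (Subgroup.normalizer (V : Set G) ⊓ K) := by
    rw [← Subgroup.index_eq_card]
    change (V.subgroupOf K).relIndex
      (Subgroup.normalizer ((V.subgroupOf K : Subgroup K) : Set K)) = _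
    rw [← Subgroup.subgroupOf_normalizer_eq hVK,
      ← Subgroup.inf_subgroupOf_right (Subgroup.normalizer (V : Set G)) K,
      Subgroup.relIndex_subgroupOf hNK]
  have hnd : ¬ p ∣ (V.subgroupOf K).index := by
    intro hd
    apply hrel
    rw [← hidx1]
    rw [Subgroup.index_eq_card] at hd
    exact Nat.modEq_zero_iff_dvd.mp (hmod.trans (Nat.modEq_zero_iff_dvd.mpr hd))
  refine ⟨hV₀p'.toSylow hnd, ?_, ?_⟩
  · rw [IsPGroup.toSylow_coe, Subgroup.map_subgroupOf_eq_of_le hVK]
    exact hUV
  · rw [IsPGroup.toSylow_coe, Subgroup.map_subgroupOf_eq_of_le hVK]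
    exact hVA

end Cfsg.Agent.Lib.Helper2
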