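import Mathlib

/-!
Frattini subgroup of a finite p-group (helper2).
-/

set_option autoImplicit false

namespace Cfsg.Agent.Lib.Helper2

variable {G : Type*} [Group G]

/-- A maximal subgroup of a finite `p`-group is normal. -/
theorem normal_of_isCoatom_of_isPGroup [Finite G] {p : ℕ} [hp : Fact p.Prime] (hG : IsPGroup p G)
    {M : Subgroup G} (hM : IsCoatom M) : M.Normal := by
  have := hG.isNilpotent
  exact Subgroup.NormalizerCondition.normal_of_coatom M (Group.normalizerCondition_of_isNilpotent (G := G)) hM

/-- A maximal subgroup of a finite `p`-group has index `p`. -/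
theorem index_of_isCoatom_of_isPGroup [Finite G] {p : ℕ} [hp : Fact p.Prime] (hG : IsPGroup p G)
    {M : Subgroup G} (hM : IsCoatom M) : M.index = p := by
  obtain ⟨m, hm⟩ := IsPGroup.iff_card.mp hG
  obtain ⟨n, hn⟩ := IsPGroup.iff_card.mp (hG.to_subgroup M)
  have hidx : Nat.card M * M.index = Nat.card G := M.card_mul_index
  have hlt : n < m := by
    have h1 : Nat.card M ∣ Nat.card G := Subgroup.card_subgroup_dvd_card M
    rw [hm, hn] at h1
    have hle : n ≤ m := (Nat.pow_dvd_pow_iff_le_right hp.out.one_lt).mp h1
    rcases Nat.lt_or_eq_of_le hle with h | h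
    · exact h
    · exfalso
      apply hM.1
      apply Subgroup.eq_top_of_card_eq
      rw [hm, hn, h]
  obtain ⟨K, hK, hMK⟩ := Sylow.exists_subgroup_card_pow_succ (G := G) (p := p) (n := n)
    (by rw [hm]; exact pow_dvd_pow p hlt) hn
  have hKtop : K = ⊤ := by
    by_contra hK'
    have hlt' : M < K := by
      refine lt_of_le_of_ne hMK ?_
      intro h
      rw [← h, hn] at hK
      exact absurd hK (by
        intro h2
        have := Nat.pow_right_injective hp.out.two_le h2
        omega)
    exact hK' (hM.2 K hlt')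
  rw [hKtop, Subgroup.card_top, hm] at hK
  rw [hn, hm, hK, pow_succ] at hidx
  exact Nat.eq_of_mul_eq_mul_left (pow_pos hp.out.pos n) hidx

theorem commutator_le_frattini_of_isPGroup [Finite G] {p : ℕ} [hp : Fact p.Prime]
    (hG : IsPGroup p G) : commutator G ≤ frattini G := by
  unfold frattini Order.radical
  apply le_iInf₂
  intro M hM
  have hn := normal_of_isCoatom_of_isPGroup hG hM
  have hi := index_of_isCoatom_of_isPGroup hG hM
  rw [← Subgroup.Normal.quotient_commutative_iff_commutator_le]
  have hcard : Nat.card (G ⧸ M) = p := by rw [← Subgroup.index_eq_card, hi]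
  have := isCyclic_of_prime_card hcard
  exact IsCyclic.isMulCommutative

theorem pow_mem_frattini_of_isPGroup [Finite G] {p : ℕ} [hp : Fact p.Prime]
    (hG : IsPGroup p G) (x : G) : x ^ p ∈ frattini G := by
  unfold frattini Order.radical
  simp only [Subgroup.mem_iInf]
  intro M hM
  have hn := normal_of_isCoatom_of_isPGroup hG hM
  have hi := index_of_isCoatom_of_isPGroup hG hM
  rw [← hi]
  exact Subgroup.pow_index_mem M x

/-- A subgroup of prime index is maximal. -/
theorem isCoatom_of_index_eq_prime {p : ℕ} (hp : p.Prime) {H : Subgroup G} (hH : H.index = p) :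
    IsCoatom H := by
  constructor
  · intro h
    rw [h, Subgroup.index_top] at hH
    exact hp.one_lt.ne hH
  · intro K hK
    have h1 : K.index ∣ p := hH ▸ Subgroup.index_dvd_of_le hK.le
    rcases (Nat.dvd_prime hp).mp h1 with h | h
    · exact Subgroup.index_eq_one.mp h
    · exfalso
      have h2 := Subgroup.relIndex_mul_index hK.le
      rw [hH, h] at h2
      have h3 : H.relIndex K = 1 := by
        have := hp.pos
        nlinarith [Nat.eq_of_mul_eq_mul_right hp.pos (by simpa using h2 : H.relIndex K * p = 1 * p)]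
      exact hK.not_ge (Subgroup.relIndex_eq_one.mp h3)

/-- The kernel of a nontrivial homomorphism to a group of prime order is a maximal subgroup. -/
theorem isCoatom_ker_of_card_prime {H : Type*} [Group H] {p : ℕ} (hp : p.Prime)
    (hH : Nat.card H = p) (f : G →* H) {g : G} (hg : f g ≠ 1) : IsCoatom f.ker := by
  apply isCoatom_of_index_eq_prime hp
  rw [Subgroup.index_ker]
  have hfin : Finite H := Nat.finite_of_card_ne_zero (hH ▸ hp.ne_zero)
  have h1 : Nat.card f.range ∣ p := hH ▸ Subgroup.card_subgroup_dvd_card f.range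
  rcases (Nat.dvd_prime hp).mp h1 with h | h
  · exfalso
    rw [Subgroup.card_eq_one] at h
    have : f g ∈ f.range := ⟨g, rfl⟩
    rw [h, Subgroup.mem_bot] at this
    exact hg this
  · exact h

/-- In an elementary abelian `p`-group, every nontrivial element is detected by a homomorphism
to the cyclic group of order `p`. -/
theorem exists_hom_ne_one_of_elementary {V : Type*} [CommGroup V] {p : ℕ} [hp : Fact p.Prime]
    (hV : ∀ v : V, v ^ p = 1) {x : V} (hx : x ≠ 1) :
    ∃ ψ : V →* Multiplicative (ZMod p), ψ x ≠ 1 := by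
  have hpow' : ∀ v : Additive V, p • v = 0 := by
    intro v
    induction v using Additive.rec with | _ v => ?_
    rw [← ofMul_pow, hV]; rfl
  have inst : Module (ZMod p) (Additive V) := AddCommGroup.zmodModule hpow'
  have hv : Additive.ofMul x ≠ 0 := fun h => hx h
  obtain ⟨φ, hφ⟩ := Module.Projective.exists_dual_ne_zero (V := Additive V) (ZMod p) hv
  exact ⟨AddMonoidHom.toMultiplicativeRight φ.toAddMonoidHom, fun h => hφ h⟩

theorem card_multiplicative_zmod (p : ℕ) [NeZero p] : Nat.card (Multiplicative (ZMod p)) = p := by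
  rw [Nat.card_eq_fintype_card]
  exact (Fintype.card_multiplicative _).trans (ZMod.card p)

/-- If `G ⧸ N` is elementary abelian then `frattini G ≤ N`. -/
theorem frattini_le_of_elementary_quotient {p : ℕ} [hp : Fact p.Prime]
    (N : Subgroup G) [N.Normal] (hcomm : commutator G ≤ N) (hpow : ∀ x : G, x ^ p ∈ N) :
    frattini G ≤ N := by
  intro g hg
  by_contra hgN
  have hc : IsMulCommutative (G ⧸ N) :=
    Subgroup.Normal.quotient_commutative_iff_commutator_le.mpr hcomm
  let _ : CommGroup (G ⧸ N) :=
    { (inferInstance : Group (G ⧸ N)) with mul_comm := fun a b => hc.is_comm.comm a b }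
  have hV : ∀ v : G ⧸ N, v ^ p = 1 := by
    intro v
    induction v using QuotientGroup.induction_on with | _ x => ?_
    rw [← QuotientGroup.mk_pow, QuotientGroup.eq_one_iff]
    exact hpow x
  have hx : (g : G ⧸ N) ≠ 1 := by
    rwa [ne_eq, QuotientGroup.eq_one_iff]
  obtain ⟨ψ', hψ'⟩ := exists_hom_ne_one_of_elementary hV hx
  let ψ : G →* Multiplicative (ZMod p) := ψ'.comp (QuotientGroup.mk' N)
  have hψg : ψ g ≠ 1 := hψ'
  have : NeZero p := ⟨hp.out.ne_zero⟩
  have hco := isCoatom_ker_of_card_prime hp.out (card_multiplicative_zmod p) ψ hψg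
  have := frattini_le_coatom hco hg
  exact hψg (MonoidHom.mem_ker.mp this)

end Cfsg.Agent.Lib.Helper2
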