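import Mathlib

/-!
Basic facts on nilpotent groups (helper2).
-/

set_option autoImplicit false

namespace Cfsg.Agent.Lib.Helper2

open scoped commutatorElement

variable {G : Type*} [Group G]

/-- A nontrivial normal subgroup of a nilpotent group meets the center nontrivially. -/
theorem normal_inf_center_ne_bot [hG : Group.IsNilpotent G] (H : Subgroup G) [hH : H.Normal]
    (hne : H ≠ ⊥) : H ⊓ Subgroup.center G ≠ ⊥ := by
  classical
  obtain ⟨n, hn⟩ := hG.nilpotent'
  have hex : ∃ i, H ⊓ Subgroup.upperCentralSeries G i ≠ ⊥ := ⟨n, by rw [hn, inf_top_eq]; exact hne⟩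
  have hmin : ∀ {m : ℕ}, m < Nat.find hex → ¬ (H ⊓ Subgroup.upperCentralSeries G m ≠ ⊥) :=
    fun {m} hm => Nat.find_min hex hm
  have hspec := Nat.find_spec hex
  set i := Nat.find hex with hi
  rcases Nat.eq_zero_or_pos i with h0 | hpos
  · exfalso
    rw [h0, Subgroup.upperCentralSeries_zero, inf_bot_eq] at hspec
    exact hspec rfl
  · obtain ⟨j, hj⟩ : ∃ j, i = j + 1 := ⟨i - 1, by omega⟩
    have hjbot : H ⊓ Subgroup.upperCentralSeries G j = ⊥ := by
      by_contra hcon
      exact hmin (m := j) (by omega) hcon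
    intro hbot
    apply hspec
    rw [eq_bot_iff] at hbot ⊢
    refine le_trans ?_ hbot
    intro x hx
    rw [hj] at hx
    obtain ⟨hxH, hxZ⟩ := Subgroup.mem_inf.mp hx
    refine Subgroup.mem_inf.mpr ⟨hxH, ?_⟩
    rw [Subgroup.mem_center_iff]
    intro g
    have h1 : ⁅x, g⁆ ∈ Subgroup.upperCentralSeries G j :=
      Subgroup.mem_upperCentralSeries_succ_iff.mp hxZ g
    have h2 : ⁅x, g⁆ ∈ H := by
      rw [commutatorElement_def]
      have : x * g * x⁻¹ * g⁻¹ = x * (g * x⁻¹ * g⁻¹) := by group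
      rw [this]
      exact H.mul_mem hxH (hH.conj_mem _ (H.inv_mem hxH) g)
    have h3 : ⁅x, g⁆ ∈ H ⊓ Subgroup.upperCentralSeries G j := Subgroup.mem_inf.mpr ⟨h2, h1⟩
    rw [hjbot, Subgroup.mem_bot, commutatorElement_eq_one_iff_mul_comm] at h3
    exact h3.symm

end Cfsg.Agent.Lib.Helper2
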