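import Mathlib

/-!
Normal Hall subgroups are unique (helper2).
-/

set_option autoImplicit false

namespace Cfsg.Agent.Lib.Helper2

variable {G : Type*} [Group G]

/-- A subgroup whose order is coprime to the index of a normal subgroup `K` lies in `K`. -/
theorem le_of_coprime_index_of_normal [Finite G] (K K' : Subgroup G) [K.Normal]
    (h : (Nat.card K').Coprime K.index) : K' ≤ K := by
  intro u hu
  have h1 : u ^ K.index ∈ K := Subgroup.pow_index_mem K u
  have h2 : (K.index).Coprime (orderOf u) := by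
    have : orderOf u ∣ Nat.card K' := by
      have := orderOf_dvd_natCard (⟨u, hu⟩ : K')
      rwa [Subgroup.orderOf_mk] at this
    exact (Nat.Coprime.coprime_dvd_left this h).symm
  obtain ⟨m, hm⟩ := exists_pow_eq_self_of_coprime h2
  rw [← hm]
  exact K.pow_mem h1 m

/-- If `K ⊔ M = ⊤` with `K` normal then the index of `K` divides the order of `M`. -/
theorem index_dvd_card_of_sup_eq_top (K M : Subgroup G) [K.Normal] (h : K ⊔ M = ⊤) :
    K.index ∣ Nat.card M := by
  have h1 : K.relIndex (M ⊔ K) = K.relIndex M := Subgroup.relIndex_sup_right M K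
  rw [sup_comm, h, Subgroup.relIndex_top_right] at h1
  rw [h1]
  exact Subgroup.relIndex_dvd_card K M

/-- Two normal complements (supplements suffice) of `M` of order coprime to `|M|` coincide. -/
theorem eq_of_normal_of_sup_eq_top_of_coprime [Finite G] (K K' M : Subgroup G) [K.Normal]
    [K'.Normal] (h : K ⊔ M = ⊤) (h' : K' ⊔ M = ⊤) (hc : (Nat.card K).Coprime (Nat.card M))
    (hc' : (Nat.card K').Coprime (Nat.card M)) : K = K' := by
  apply le_antisymm
  · exact le_of_coprime_index_of_normal K' K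
      (Nat.Coprime.coprime_dvd_right (index_dvd_card_of_sup_eq_top K' M h') hc)
  · exact le_of_coprime_index_of_normal K K'
      (Nat.Coprime.coprime_dvd_right (index_dvd_card_of_sup_eq_top K M h) hc')

/-- Relative version inside a subgroup `C` of `G`. -/
theorem eq_of_normal_in_of_sup_eq_of_coprime [Finite G] (C K K' M : Subgroup G)
    (hK : K ≤ C) (hK' : K' ≤ C) (hM : M ≤ C)
    (hKn : ∀ c ∈ C, ∀ u ∈ K, c * u * c⁻¹ ∈ K) (hK'n : ∀ c ∈ C, ∀ u ∈ K', c * u * c⁻¹ ∈ K')
    (h : K ⊔ M = C) (h' : K' ⊔ M = C) (hc : (Nat.card K).Coprime (Nat.card M))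
    (hc' : (Nat.card K').Coprime (Nat.card M)) : K = K' := by
  have n1 : (K.subgroupOf C).Normal := by
    refine ⟨fun n hn g => ?_⟩
    rw [Subgroup.mem_subgroupOf] at hn ⊢
    exact hKn g g.2 n hn
  have n2 : (K'.subgroupOf C).Normal := by
    refine ⟨fun n hn g => ?_⟩
    rw [Subgroup.mem_subgroupOf] at hn ⊢
    exact hK'n g g.2 n hn
  have e1 : K.subgroupOf C ⊔ M.subgroupOf C = ⊤ := by
    rw [← Subgroup.subgroupOf_sup hK hM, h, Subgroup.subgroupOf_self]
  have e2 : K'.subgroupOf C ⊔ M.subgroupOf C = ⊤ := by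
    rw [← Subgroup.subgroupOf_sup hK' hM, h', Subgroup.subgroupOf_self]
  have c1 : Nat.card (K.subgroupOf C) = Nat.card K :=
    Nat.card_congr (Subgroup.subgroupOfEquivOfLe hK).toEquiv
  have c2 : Nat.card (K'.subgroupOf C) = Nat.card K' :=
    Nat.card_congr (Subgroup.subgroupOfEquivOfLe hK').toEquiv
  have c3 : Nat.card (M.subgroupOf C) = Nat.card M :=
    Nat.card_congr (Subgroup.subgroupOfEquivOfLe hM).toEquiv
  have := eq_of_normal_of_sup_eq_top_of_coprime (K.subgroupOf C) (K'.subgroupOf C)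
    (M.subgroupOf C) e1 e2 (by rw [c1, c3]; exact hc) (by rw [c2, c3]; exact hc')
  rw [Subgroup.subgroupOf_inj, inf_eq_left.mpr hK, inf_eq_left.mpr hK'] at this
  exact this

end Cfsg.Agent.Lib.Helper2
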