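import Mathlib

/-!
Simple groups of order 168: Sylow numbers and first structure (helper2).
-/

set_option autoImplicit false
set_option maxHeartbeats 800000
open scoped Pointwise

namespace Cfsg.Agent.Lib.Helper2.Order168

section General
variable {G : Type*} [Group G] [Finite G]

theorem sylow_card {p n m : ℕ} [hp : Fact p.Prime] (hG : Nat.card G = p ^ n * m) (hm : ¬ p ∣ m)
    (P : Sylow p G) : Nat.card P = p ^ n := by
  have hm0 : m ≠ 0 := fun h => hm (h ▸ dvd_zero p)
  rw [P.card_eq_multiplicity, hG, Nat.factorization_mul (pow_ne_zero _ hp.out.ne_zero) hm0,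
    Nat.Prime.factorization_pow hp.out]
  simp [Nat.factorization_eq_zero_of_not_dvd hm]

theorem sylow_number_ne_one [IsSimpleGroup G] {p : ℕ} [Fact p.Prime] (P : Sylow p G)
    (h1 : 1 < Nat.card P) (h2 : Nat.card P < Nat.card G) : Nat.card (Sylow p G) ≠ 1 := by
  intro h
  rw [Sylow.card_eq_index_normalizer P, Subgroup.index_eq_one] at h
  have hn : (P : Subgroup G).Normal := Subgroup.normalizer_eq_top_iff.mp h
  rcases hn.eq_bot_or_eq_top with hb | ht
  · rw [hb, Subgroup.card_bot] at h1
    omega
  · rw [ht, Subgroup.card_top] at h2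
    omega

theorem card_dvd_factorial [IsSimpleGroup G] (p : ℕ) [Fact p.Prime]
    (hne : Nat.card (Sylow p G) ≠ 1) : Nat.card G ∣ (Nat.card (Sylow p G)).factorial := by
  classical
  have hker : (MulAction.toPermHom G (Sylow p G)).ker = ⊥ := by
    rcases (MonoidHom.normal_ker (MulAction.toPermHom G (Sylow p G))).eq_bot_or_eq_top with h | h
    · exact h
    · exfalso
      apply hne
      haveI : Subsingleton (Sylow p G) := by
        constructor
        intro P Q
        obtain ⟨g, hg⟩ := MulAction.exists_smul_eq G P Q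
        have hgk : g ∈ (MulAction.toPermHom G (Sylow p G)).ker := by rw [h]; exact Subgroup.mem_top g
        rw [MonoidHom.mem_ker] at hgk
        have : g • P = P := by
          have := congrArg (fun σ : Equiv.Perm (Sylow p G) => σ P) hgk
          simpa using this
        rw [← hg, this]
      exact Nat.card_unique
  have hinj : Function.Injective (MulAction.toPermHom G (Sylow p G)) :=
    (MonoidHom.ker_eq_bot_iff _).mp hker
  have hdvd := Subgroup.card_dvd_of_injective _ hinj
  haveI : Fintype (Sylow p G) := Fintype.ofFinite _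
  rwa [Nat.card_eq_fintype_card (α := Equiv.Perm (Sylow p G)), Fintype.card_perm,
    ← Nat.card_eq_fintype_card] at hdvd

theorem burnside [IsSimpleGroup G] {p : ℕ} [Fact p.Prime] (P : Sylow p G)
    (h1 : 1 < Nat.card P) (h2 : Nat.card P < Nat.card G) :
    ¬ (Subgroup.normalizer ((P : Subgroup G) : Set G) ≤
      Subgroup.centralizer ((P : Subgroup G) : Set G)) := by
  intro hP
  have hc := MonoidHom.ker_transferSylow_isComplement' P hP
  have hcard := hc.card_mul_card
  rcases (MonoidHom.normal_ker (MonoidHom.transferSylow P hP)).eq_bot_or_eq_top with h | h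
  · rw [h, Subgroup.card_bot, one_mul] at hcard
    omega
  · rw [h, Subgroup.card_top] at hcard
    have hpos : 0 < Nat.card G := Nat.card_pos
    have : Nat.card (P : Subgroup G) = 1 := by
      have h3 : Nat.card G * Nat.card (P : Subgroup G) = Nat.card G * 1 := by rw [hcard, mul_one]
      exact Nat.eq_of_mul_eq_mul_left hpos h3
    omega

/-- a subgroup of `N` whose order is divisible by `|N|` is `N` -/
theorem eq_of_le_of_card_dvd {K N : Subgroup G} (hle : K ≤ N) (hdvd : Nat.card N ∣ Nat.card K) :
    K = N :=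
  Subgroup.eq_of_le_of_card_ge hle (Nat.le_of_dvd Nat.card_pos hdvd)

/-- an element of prime order generates a Sylow subgroup when `p` exactly divides `|G|` -/
theorem exists_sylow_eq_zpowers {p m : ℕ} [hp : Fact p.Prime] (hG : Nat.card G = p ^ 1 * m)
    (hm : ¬ p ∣ m) {t : G} (ht : orderOf t = p) :
    ∃ T : Sylow p G, (T : Subgroup G) = Subgroup.zpowers t := by
  have hpg : IsPGroup p (Subgroup.zpowers t) := by
    apply IsPGroup.of_card (n := 1)
    rw [Nat.card_zpowers, ht, pow_one]
  obtain ⟨T, hT⟩ := hpg.exists_le_sylow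
  refine ⟨T, ?_⟩
  symm
  apply Subgroup.eq_of_le_of_card_ge hT
  rw [sylow_card hG hm T, Nat.card_zpowers, ht, pow_one]

end General

section Main
variable {G : Type*} [Group G] [Finite G] [IsSimpleGroup G]

theorem card_sylow_seven (h : Nat.card G = 168) : Nat.card (Sylow 7 G) = 8 := by
  haveI : Fact (Nat.Prime 7) := ⟨by norm_num⟩
  obtain ⟨P⟩ : Nonempty (Sylow 7 G) := inferInstance
  have hP : Nat.card P = 7 := by
    have := sylow_card (p := 7) (n := 1) (m := 24) (by rw [h]; norm_num) (by norm_num) P
    simpa using this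
  have hne := sylow_number_ne_one P (by rw [hP]; norm_num) (by rw [hP, h]; norm_num)
  have hidx : (P : Subgroup G).index = 24 := by
    have := Subgroup.index_mul_card (P : Subgroup G)
    rw [hP, h] at this
    omega
  have hdvd := Sylow.card_dvd_index P
  rw [hidx] at hdvd
  have hmod := card_sylow_modEq_one 7 G
  have hle : Nat.card (Sylow 7 G) ≤ 24 := Nat.le_of_dvd (by norm_num) hdvd
  unfold Nat.ModEq at hmod
  generalize Nat.card (Sylow 7 G) = n at *
  interval_cases n <;> omega

theorem card_normalizer_of_card_sylow {p k : ℕ} [Fact p.Prime] (h : Nat.card G = 168)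
    (P : Sylow p G) (hk : Nat.card (Sylow p G) = k) :
    k * Nat.card (Subgroup.normalizer ((P : Subgroup G) : Set G)) = 168 := by
  have h1 : Nat.card (Sylow p G) = (Subgroup.normalizer ((P : Subgroup G) : Set G)).index :=
    Sylow.card_eq_index_normalizer P
  have h2 := Subgroup.index_mul_card (Subgroup.normalizer ((P : Subgroup G) : Set G))
  rw [← h1, hk, h] at h2
  exact h2

theorem card_sylow_three (h : Nat.card G = 168) : Nat.card (Sylow 3 G) = 28 := by
  haveI : Fact (Nat.Prime 7) := ⟨by norm_num⟩
  haveI : Fact (Nat.Prime 3) := ⟨by norm_num⟩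
  obtain ⟨P⟩ : Nonempty (Sylow 3 G) := inferInstance
  have hG3 : Nat.card G = 3 ^ 1 * 56 := by rw [h]; norm_num
  have hP : Nat.card P = 3 := by
    have := sylow_card (p := 3) (n := 1) (m := 56) hG3 (by norm_num) P
    simpa using this
  have hne := sylow_number_ne_one P (by rw [hP]; norm_num) (by rw [hP, h]; norm_num)
  have hidx : (P : Subgroup G).index = 56 := by
    have := Subgroup.index_mul_card (P : Subgroup G)
    rw [hP, h] at this
    omega
  have hdvd := Sylow.card_dvd_index P
  rw [hidx] at hdvd
  have hmod := card_sylow_modEq_one 3 G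
  have hle : Nat.card (Sylow 3 G) ≤ 56 := Nat.le_of_dvd (by norm_num) hdvd
  have hfact := card_dvd_factorial (G := G) 3 hne
  rw [h] at hfact
  unfold Nat.ModEq at hmod
  -- exclude 7
  have hne7 : Nat.card (Sylow 3 G) ≠ 7 := by
    intro hn3
    obtain ⟨P7⟩ : Nonempty (Sylow 7 G) := inferInstance
    have hP7 : Nat.card P7 = 7 := by
      have := sylow_card (p := 7) (n := 1) (m := 24) (by rw [h]; norm_num) (by norm_num) P7
      simpa using this
    have hN7 : Nat.card (Subgroup.normalizer ((P7 : Subgroup G) : Set G)) = 21 := by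
      have := card_normalizer_of_card_sylow h P7 (card_sylow_seven h)
      omega
    have hB7 := burnside P7 (by rw [hP7]; norm_num) (by rw [hP7, h]; norm_num)
    -- generator of P7
    obtain ⟨s, hsP, hs1⟩ : ∃ s ∈ (P7 : Subgroup G), s ≠ 1 := by
      have hne : (P7 : Subgroup G) ≠ ⊥ := by
        intro hb
        rw [hb, Subgroup.card_bot] at hP7
        omega
      obtain ⟨y, hy⟩ := (Subgroup.ne_bot_iff_exists_ne_one).mp hne
      exact ⟨(y : G), y.2, fun h => hy (Subtype.ext h)⟩
    have hgen7 : ∀ v ∈ (P7 : Subgroup G), v ≠ 1 → ∀ y ∈ (P7 : Subgroup G), y ∈ Subgroup.zpowers v := by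
      intro v hv hv1 y hy
      have hh := mem_zpowers_of_prime_card (G := ↥(P7 : Subgroup G)) (p := 7) hP7
        (g := ⟨v, hv⟩) (g' := ⟨y, hy⟩) (fun h => hv1 (congrArg Subtype.val h))
      obtain ⟨k, hk⟩ := Subgroup.mem_zpowers_iff.mp hh
      refine Subgroup.mem_zpowers_iff.mpr ⟨k, ?_⟩
      have := congrArg Subtype.val hk
      simpa using this
    -- element of order 3 in N7
    obtain ⟨t', ht'⟩ := exists_prime_orderOf_dvd_card' (G := ↥(Subgroup.normalizer ((P7 : Subgroup G) : Set G))) 3
      (by rw [hN7]; norm_num)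
    obtain ⟨t, htN, ht3⟩ : ∃ t : G, t ∈ Subgroup.normalizer ((P7 : Subgroup G) : Set G) ∧ orderOf t = 3 :=
      ⟨(t' : G), t'.2, by rw [Subgroup.orderOf_coe]; exact ht'⟩
    obtain ⟨T, hT⟩ := exists_sylow_eq_zpowers hG3 (by norm_num) ht3
    have hTcard : Nat.card (T : Subgroup G) = 3 := by rw [hT, Nat.card_zpowers, ht3]
    have hTP7 : (T : Subgroup G) ⊓ (P7 : Subgroup G) = ⊥ := by
      apply Subgroup.inf_eq_bot_of_coprime
      rw [hTcard, hP7]; norm_num
    -- Claim A
    have claimA : s ∉ Subgroup.normalizer ((T : Subgroup G) : Set G) := by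
      intro hsN
      have htT : t ∈ (T : Subgroup G) := by rw [hT]; exact Subgroup.mem_zpowers t
      have h1 : s * t * s⁻¹ * t⁻¹ ∈ (T : Subgroup G) :=
        Subgroup.mul_mem _ ((Subgroup.mem_normalizer_iff.mp hsN t).mp htT) (Subgroup.inv_mem _ htT)
      have h2 : s * t * s⁻¹ * t⁻¹ ∈ (P7 : Subgroup G) := by
        have : t * s⁻¹ * t⁻¹ ∈ (P7 : Subgroup G) :=
          (Subgroup.mem_normalizer_iff.mp htN s⁻¹).mp (Subgroup.inv_mem _ hsP)
        have e : s * t * s⁻¹ * t⁻¹ = s * (t * s⁻¹ * t⁻¹) := by group
        rw [e]; exact Subgroup.mul_mem _ hsP this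
      have h3 : s * t * s⁻¹ * t⁻¹ ∈ (T : Subgroup G) ⊓ (P7 : Subgroup G) :=
        Subgroup.mem_inf.mpr ⟨h1, h2⟩
      rw [hTP7, Subgroup.mem_bot] at h3
      have hcomm : s * t = t * s := by
        have e : s * t = (s * t * s⁻¹ * t⁻¹) * (t * s) := by group
        rw [e, h3, one_mul]
      -- N7 = P7 ⊔ T ≤ C(P7)
      have hsup : (P7 : Subgroup G) ⊔ (T : Subgroup G) =
          Subgroup.normalizer ((P7 : Subgroup G) : Set G) := by
        apply eq_of_le_of_card_dvd
        · apply sup_le Subgroup.le_normalizer
          rw [hT, Subgroup.zpowers_le]; exact htN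
        · rw [hN7]
          have d1 : 7 ∣ Nat.card ((P7 : Subgroup G) ⊔ (T : Subgroup G) : Subgroup G) := by
            have := Subgroup.card_dvd_of_le (le_sup_left : (P7 : Subgroup G) ≤ (P7 : Subgroup G) ⊔ (T : Subgroup G))
            rwa [hP7] at this
          have d2 : 3 ∣ Nat.card ((P7 : Subgroup G) ⊔ (T : Subgroup G) : Subgroup G) := by
            have := Subgroup.card_dvd_of_le (le_sup_right : (T : Subgroup G) ≤ (P7 : Subgroup G) ⊔ (T : Subgroup G))
            rwa [hTcard] at this
          have : 7 * 3 ∣ Nat.card ((P7 : Subgroup G) ⊔ (T : Subgroup G) : Subgroup G) :=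
            Nat.Coprime.mul_dvd_of_dvd_of_dvd (by norm_num) d1 d2
          simpa using this
      apply hB7
      rw [← hsup]
      have hcs : ∀ y ∈ (P7 : Subgroup G), ∀ c : G, c * s = s * c → y * c = c * y := by
        intro y hy c hc
        obtain ⟨k, rfl⟩ := Subgroup.mem_zpowers_iff.mp (hgen7 s hsP hs1 y hy)
        have hcomm' : Commute c s := hc
        exact ((hcomm'.zpow_right k).eq).symm
      apply sup_le
      · intro c hc
        rw [Subgroup.mem_centralizer_iff]
        intro y hy
        have hcs' : c * s = s * c := by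
          obtain ⟨k, rfl⟩ := Subgroup.mem_zpowers_iff.mp (hgen7 s hsP hs1 c hc)
          exact ((Commute.refl s).zpow_left k).eq
        exact hcs y hy c hcs'
      · rw [hT, Subgroup.zpowers_le, Subgroup.mem_centralizer_iff]
        intro y hy
        exact hcs y hy t hcomm.symm
    -- Claim B : injectivity
    let φ : ↥(P7 : Subgroup G) → Sylow 3 G := fun u => (u : G) • T
    have hφinj : Function.Injective φ := by
      intro u u' huu'
      have h1 : ((u' : G)⁻¹ * (u : G)) • T = T := by
        have h2 : (u : G) • T = (u' : G) • T := huu'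
        rw [mul_smul, h2, inv_smul_smul]
      rw [Sylow.smul_eq_iff_mem_normalizer] at h1
      by_contra hne
      have hv1 : (u' : G)⁻¹ * (u : G) ≠ 1 := by
        intro h
        apply hne
        apply Subtype.ext
        have : (u : G) = (u' : G) * ((u' : G)⁻¹ * (u : G)) := by group
        rw [this, h, mul_one]
      have hvP : (u' : G)⁻¹ * (u : G) ∈ (P7 : Subgroup G) :=
        Subgroup.mul_mem _ (Subgroup.inv_mem _ u'.2) u.2
      have hs := hgen7 _ hvP hv1 s hsP
      apply claimA
      have : Subgroup.zpowers ((u' : G)⁻¹ * (u : G)) ≤ Subgroup.normalizer ((T : Subgroup G) : Set G) := by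
        rw [Subgroup.zpowers_le]; exact h1
      exact this hs
    have hφbij : Function.Bijective φ := by
      apply hφinj.bijective_of_nat_card_le
      rw [hn3, hP7]
    -- all Sylow 3-subgroups lie in N7
    have hall : ∀ T' : Sylow 3 G, (T' : Subgroup G) ≤ Subgroup.normalizer ((P7 : Subgroup G) : Set G) := by
      intro T'
      obtain ⟨u, rfl⟩ := hφbij.2 T'
      intro y hy
      have hy' : y ∈ (((u : G) • T : Sylow 3 G) : Subgroup G) := hy
      rw [Sylow.coe_subgroup_smul, Subgroup.mem_pointwise_smul_iff_inv_smul_mem, MulAut.smul_def,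
        MulAut.conj_inv_apply] at hy'
      have h1 : (u : G)⁻¹ * y * (u : G) ∈ Subgroup.normalizer ((P7 : Subgroup G) : Set G) := by
        have : (T : Subgroup G) ≤ Subgroup.normalizer ((P7 : Subgroup G) : Set G) := by
          rw [hT, Subgroup.zpowers_le]; exact htN
        exact this hy'
      have hu : (u : G) ∈ Subgroup.normalizer ((P7 : Subgroup G) : Set G) := Subgroup.le_normalizer u.2
      have e : y = (u : G) * ((u : G)⁻¹ * y * (u : G)) * (u : G)⁻¹ := by group
      rw [e]
      exact Subgroup.mul_mem _ (Subgroup.mul_mem _ hu h1) (Subgroup.inv_mem _ hu)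
    -- normal closure
    have hK : Subgroup.normalClosure ((T : Subgroup G) : Set G) ≤
        Subgroup.normalizer ((P7 : Subgroup G) : Set G) := by
      unfold Subgroup.normalClosure
      rw [Subgroup.closure_le]
      intro y hy
      rw [Group.mem_conjugatesOfSet_iff] at hy
      obtain ⟨x, hx, hxy⟩ := hy
      rw [isConj_iff] at hxy
      obtain ⟨c, rfl⟩ := hxy
      have : c * x * c⁻¹ ∈ ((c • T : Sylow 3 G) : Subgroup G) := by
        rw [Sylow.coe_subgroup_smul]
        exact Subgroup.smul_mem_pointwise_smul _ (MulAut.conj c) (T : Subgroup G) hx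
      exact hall _ this
    rcases (Subgroup.normalClosure_normal (s := ((T : Subgroup G) : Set G))).eq_bot_or_eq_top with hb | ht
    · have : (T : Subgroup G) ≤ ⊥ := by
        rw [← hb]; exact Subgroup.le_normalClosure
      have h2 : (T : Subgroup G) = ⊥ := le_bot_iff.mp this
      rw [h2, Subgroup.card_bot] at hTcard
      omega
    · rw [ht] at hK
      have : Subgroup.normalizer ((P7 : Subgroup G) : Set G) = ⊤ := top_le_iff.mp hK
      rw [this, Subgroup.card_top, h] at hN7
      omega
  generalize Nat.card (Sylow 3 G) = n at *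
  interval_cases n <;> first | omega | (norm_num [Nat.factorial] at hfact)

/-- no element of even order commutes with an element of order 3 -/
theorem not_commute_three (h : Nat.card G = 168) {t z : G} (ht : orderOf t = 3)
    (hz : 2 ∣ orderOf z) (hzt : z * t = t * z) : False := by
  haveI : Fact (Nat.Prime 3) := ⟨by norm_num⟩
  have hG3 : Nat.card G = 3 ^ 1 * 56 := by rw [h]; norm_num
  obtain ⟨T, hT⟩ := exists_sylow_eq_zpowers hG3 (by norm_num) ht
  have hTcard : Nat.card (T : Subgroup G) = 3 := by rw [hT, Nat.card_zpowers, ht]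
  have hN : Nat.card (Subgroup.normalizer ((T : Subgroup G) : Set G)) = 6 := by
    have := card_normalizer_of_card_sylow h T (card_sylow_three h)
    omega
  have hB := burnside T (by rw [hTcard]; norm_num) (by rw [hTcard, h]; norm_num)
  apply hB
  have hTC : (T : Subgroup G) ≤ Subgroup.centralizer ((T : Subgroup G) : Set G) := by
    intro c hc
    rw [Subgroup.mem_centralizer_iff]
    intro y hy
    rw [hT] at hc hy
    obtain ⟨k, rfl⟩ := Subgroup.mem_zpowers_iff.mp hc
    obtain ⟨l, rfl⟩ := Subgroup.mem_zpowers_iff.mp hy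
    exact (((Commute.refl t).zpow_right k).zpow_left l).eq
  have hHC : Subgroup.zpowers z ≤ Subgroup.centralizer ((T : Subgroup G) : Set G) := by
    rw [Subgroup.zpowers_le, Subgroup.mem_centralizer_iff]
    intro y hy
    rw [hT] at hy
    obtain ⟨l, rfl⟩ := Subgroup.mem_zpowers_iff.mp hy
    have hc : Commute z t := hzt
    exact ((hc.zpow_right l).eq).symm
  have hsup : (T : Subgroup G) ⊔ Subgroup.zpowers z =
      Subgroup.normalizer ((T : Subgroup G) : Set G) := by
    apply eq_of_le_of_card_dvd
    · apply sup_le Subgroup.le_normalizer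
      exact hHC.trans (Subgroup.centralizer_le_normalizer _)
    · rw [hN]
      have d1 : 3 ∣ Nat.card ((T : Subgroup G) ⊔ Subgroup.zpowers z : Subgroup G) := by
        have := Subgroup.card_dvd_of_le (le_sup_left : (T : Subgroup G) ≤ (T : Subgroup G) ⊔ Subgroup.zpowers z)
        rwa [hTcard] at this
      have d2 : 2 ∣ Nat.card ((T : Subgroup G) ⊔ Subgroup.zpowers z : Subgroup G) := by
        have := Subgroup.card_dvd_of_le (le_sup_right : Subgroup.zpowers z ≤ (T : Subgroup G) ⊔ Subgroup.zpowers z)
        rw [Nat.card_zpowers] at this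
        exact hz.trans this
      have : 3 * 2 ∣ Nat.card ((T : Subgroup G) ⊔ Subgroup.zpowers z : Subgroup G) :=
        Nat.Coprime.mul_dvd_of_dvd_of_dvd (by norm_num) d1 d2
      simpa using this
  rw [← hsup]
  exact sup_le hTC hHC

theorem card_sylow_two (h : Nat.card G = 168) : Nat.card (Sylow 2 G) = 21 := by
  classical
  haveI : Fact (Nat.Prime 2) := ⟨by norm_num⟩
  haveI : Fact (Nat.Prime 3) := ⟨by norm_num⟩
  obtain ⟨P⟩ : Nonempty (Sylow 2 G) := inferInstance
  have hP : Nat.card P = 8 := by
    have := sylow_card (p := 2) (n := 3) (m := 21) (by rw [h]; norm_num) (by norm_num) P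
    simpa using this
  have hne := sylow_number_ne_one P (by rw [hP]; norm_num) (by rw [hP, h]; norm_num)
  have hidx : (P : Subgroup G).index = 21 := by
    have := Subgroup.index_mul_card (P : Subgroup G)
    rw [hP, h] at this
    omega
  have hdvd := Sylow.card_dvd_index P
  rw [hidx] at hdvd
  have hle : Nat.card (Sylow 2 G) ≤ 21 := Nat.le_of_dvd (by norm_num) hdvd
  have hfact := card_dvd_factorial (G := G) 2 hne
  rw [h] at hfact
  have hne7 : Nat.card (Sylow 2 G) ≠ 7 := by
    intro hn2
    have hN2 : Nat.card (Subgroup.normalizer ((P : Subgroup G) : Set G)) = 24 := by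
      have := card_normalizer_of_card_sylow h P hn2
      omega
    obtain ⟨t', ht'⟩ := exists_prime_orderOf_dvd_card' (G := ↥(Subgroup.normalizer ((P : Subgroup G) : Set G))) 3
      (by rw [hN2]; norm_num)
    obtain ⟨t, htN, ht3⟩ : ∃ t : G, t ∈ Subgroup.normalizer ((P : Subgroup G) : Set G) ∧ orderOf t = 3 :=
      ⟨(t' : G), t'.2, by rw [Subgroup.orderOf_coe]; exact ht'⟩
    have httt : t * t * t = 1 := by
      have := pow_orderOf_eq_one t
      rw [ht3, pow_three] at this
      rw [mul_assoc]; exact this
    -- the permutation of P induced by t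
    let σ : Equiv.Perm ↥(P : Subgroup G) :=
      { toFun := fun u => ⟨t * (u : G) * t⁻¹, (Subgroup.mem_normalizer_iff.mp htN u).mp u.2⟩
        invFun := fun u => ⟨t⁻¹ * (u : G) * t, by
          have := (Subgroup.mem_normalizer_iff.mp (Subgroup.inv_mem _ htN) u).mp u.2
          simpa using this⟩
        left_inv := by
          intro u
          apply Subtype.ext
          show t⁻¹ * (t * (u : G) * t⁻¹) * t = u
          group
        right_inv := by
          intro u
          apply Subtype.ext
          show t * (t⁻¹ * (u : G) * t) * t⁻¹ = u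
          group }
    have hσ3 : σ ^ 3 ^ 1 = 1 := by
      rw [pow_one]
      apply Equiv.ext
      intro u
      rw [pow_three, Equiv.Perm.mul_apply, Equiv.Perm.mul_apply, Equiv.Perm.one_apply]
      apply Subtype.ext
      show t * (t * (t * (u : G) * t⁻¹) * t⁻¹) * t⁻¹ = u
      have e : t * (t * (t * (u : G) * t⁻¹) * t⁻¹) * t⁻¹ = (t * t * t) * (u : G) * (t * t * t)⁻¹ := by
        group
      rw [e, httt]; group
    haveI : Fintype ↥(P : Subgroup G) := Fintype.ofFinite _
    have hmod := Equiv.Perm.card_compl_support_modEq (p := 3) (n := 1) hσ3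
    have hcardP : Fintype.card ↥(P : Subgroup G) = 8 := by
      rw [← Nat.card_eq_fintype_card]; exact hP
    rw [hcardP] at hmod
    unfold Nat.ModEq at hmod
    have h2 : 1 < σ.supportᶜ.card := by
      by_contra hcon
      push_neg at hcon
      interval_cases σ.supportᶜ.card <;> omega
    obtain ⟨u, hu, v, hv, huv⟩ := Finset.one_lt_card.mp h2
    have hfixed : ∀ w ∈ σ.supportᶜ, t * (w : G) * t⁻¹ = w := by
      intro w hw
      rw [Finset.mem_compl, Equiv.Perm.mem_support, not_not] at hw
      exact congrArg Subtype.val hw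
    -- a non-identity fixed point
    obtain ⟨z, hzfix, hz1⟩ : ∃ z : ↥(P : Subgroup G), t * (z : G) * t⁻¹ = z ∧ z ≠ 1 := by
      by_cases hu1 : u = 1
      · refine ⟨v, hfixed v hv, ?_⟩
        intro hv1
        exact huv (hu1.trans hv1.symm)
      · exact ⟨u, hfixed u hu, hu1⟩
    have hzt : (z : G) * t = t * (z : G) := by
      have e : t * (z : G) = (t * (z : G) * t⁻¹) * t := by group
      rw [e, hzfix]
    obtain ⟨k, hk⟩ := (IsPGroup.iff_orderOf.mp P.isPGroup') z
    have hk' : orderOf (z : G) = 2 ^ k := by rw [Subgroup.orderOf_coe]; exact hk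
    have hkpos : k ≠ 0 := by
      intro hk0
      rw [hk0, pow_zero, orderOf_eq_one_iff] at hk
      exact hz1 hk
    have h2dvd : 2 ∣ orderOf (z : G) := by
      rw [hk']; exact dvd_pow_self 2 hkpos
    exact not_commute_three h ht3 h2dvd hzt
  generalize Nat.card (Sylow 2 G) = n at *
  interval_cases n <;> first | omega | (norm_num [Nat.factorial] at hfact)

end Main

end Cfsg.Agent.Lib.Helper2.Order168
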