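import Mathlib
import Cfsg.Agent.Lib.Helper2.Order168
import Cfsg.Agent.Lib.Helper24.DihIso
import Cfsg.Agent.S0111

/-!
Simple groups of order 168: the Sylow 2-subgroup, element orders, involutions (helper2).
-/

set_option autoImplicit false
set_option maxHeartbeats 800000
open scoped Pointwise

namespace Cfsg.Agent.Lib.Helper2.Order168

section General
variable {G : Type*} [Group G]

theorem orderOf_conj_mul (g x : G) : orderOf (g * x * g⁻¹) = orderOf x := by
  have := MulEquiv.orderOf_eq (MulAut.conj g) x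
  rwa [MulAut.conj_apply] at this

theorem orderOf_conj_mul' (g x : G) : orderOf (g⁻¹ * x * g) = orderOf x := by
  have := orderOf_conj_mul g⁻¹ x
  rwa [inv_inv] at this

theorem two_dvd_orderOf_of_mem_sylow (T : Sylow 2 G) {z : G} (hz : z ∈ (T : Subgroup G))
    (hz1 : z ≠ 1) : 2 ∣ orderOf z := by
  haveI : Fact (Nat.Prime 2) := ⟨by norm_num⟩
  obtain ⟨k, hk⟩ := (IsPGroup.iff_orderOf.mp T.isPGroup') ⟨z, hz⟩
  rw [Subgroup.orderOf_mk] at hk
  have hkpos : k ≠ 0 := by
    intro hk0
    rw [hk0, pow_zero, orderOf_eq_one_iff] at hk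
    exact hz1 hk
  rw [hk]; exact dvd_pow_self 2 hkpos

/-- a two-generated subgroup with commuting generators is commutative -/
theorem closure_pair_comm {a x : G} (hax : x * a = a * x) :
    ∀ u ∈ Subgroup.closure ({a, x} : Set G), ∀ v ∈ Subgroup.closure ({a, x} : Set G),
      u * v = v * u := by
  have h1 : Subgroup.closure ({a, x} : Set G) ≤ Subgroup.centralizer ({a, x} : Set G) := by
    rw [Subgroup.closure_le]
    intro y hy
    rw [SetLike.mem_coe, Subgroup.mem_centralizer_iff]
    intro w hw
    rcases hy with rfl | hy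
    · rcases hw with rfl | hw
      · rfl
      · rw [Set.mem_singleton_iff] at hw
        rw [hw]; exact hax
    · rw [Set.mem_singleton_iff] at hy
      rw [hy]
      rcases hw with rfl | hw
      · exact hax.symm
      · rw [Set.mem_singleton_iff] at hw
        rw [hw]
  rw [← Subgroup.centralizer_closure] at h1
  intro u hu v hv
  have := Subgroup.mem_centralizer_iff.mp (h1 hv) u hu
  exact this

end General

section Main
variable {G : Type*} [Group G] [Finite G] [IsSimpleGroup G]

theorem not_commute_seven (h : Nat.card G = 168) {s z : G} (hs : orderOf s = 7)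
    (hz : 2 ∣ orderOf z) (hzs : z * s = s * z) : False := by
  haveI : Fact (Nat.Prime 7) := ⟨by norm_num⟩
  have hG7 : Nat.card G = 7 ^ 1 * 24 := by rw [h]; norm_num
  obtain ⟨P, hP⟩ := exists_sylow_eq_zpowers hG7 (by norm_num) hs
  have hN : Nat.card (Subgroup.normalizer ((P : Subgroup G) : Set G)) = 21 := by
    have := card_normalizer_of_card_sylow h P (card_sylow_seven h)
    omega
  have hHC : Subgroup.zpowers z ≤ Subgroup.centralizer ((P : Subgroup G) : Set G) := by
    rw [Subgroup.zpowers_le, Subgroup.mem_centralizer_iff]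
    intro y hy
    rw [hP] at hy
    obtain ⟨l, rfl⟩ := Subgroup.mem_zpowers_iff.mp hy
    have hc : Commute z s := hzs
    exact ((hc.zpow_right l).eq).symm
  have hle := hHC.trans (Subgroup.centralizer_le_normalizer _)
  have hd := Subgroup.card_dvd_of_le hle
  rw [Nat.card_zpowers, hN] at hd
  have : 2 ∣ 21 := hz.trans hd
  omega

/-- an element of order 3 does not commute with an element of order 7 -/
theorem not_commute_three_seven (h : Nat.card G = 168) {s t : G} (hs : orderOf s = 7)
    (ht : orderOf t = 3) (hts : t * s = s * t) : False := by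
  haveI : Fact (Nat.Prime 7) := ⟨by norm_num⟩
  have hG7 : Nat.card G = 7 ^ 1 * 24 := by rw [h]; norm_num
  obtain ⟨P, hP⟩ := exists_sylow_eq_zpowers hG7 (by norm_num) hs
  have hPcard : Nat.card (P : Subgroup G) = 7 := by rw [hP, Nat.card_zpowers, hs]
  have hN : Nat.card (Subgroup.normalizer ((P : Subgroup G) : Set G)) = 21 := by
    have := card_normalizer_of_card_sylow h P (card_sylow_seven h)
    omega
  have hB := burnside P (by rw [hPcard]; norm_num) (by rw [hPcard, h]; norm_num)
  apply hB
  have hPC : (P : Subgroup G) ≤ Subgroup.centralizer ((P : Subgroup G) : Set G) := by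
    intro c hc
    rw [Subgroup.mem_centralizer_iff]
    intro y hy
    rw [hP] at hc hy
    obtain ⟨k, rfl⟩ := Subgroup.mem_zpowers_iff.mp hc
    obtain ⟨l, rfl⟩ := Subgroup.mem_zpowers_iff.mp hy
    exact (((Commute.refl s).zpow_right k).zpow_left l).eq
  have hHC : Subgroup.zpowers t ≤ Subgroup.centralizer ((P : Subgroup G) : Set G) := by
    rw [Subgroup.zpowers_le, Subgroup.mem_centralizer_iff]
    intro y hy
    rw [hP] at hy
    obtain ⟨l, rfl⟩ := Subgroup.mem_zpowers_iff.mp hy
    have hc : Commute t s := hts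
    exact ((hc.zpow_right l).eq).symm
  have hsup : (P : Subgroup G) ⊔ Subgroup.zpowers t =
      Subgroup.normalizer ((P : Subgroup G) : Set G) := by
    apply eq_of_le_of_card_dvd
    · apply sup_le Subgroup.le_normalizer
      exact hHC.trans (Subgroup.centralizer_le_normalizer _)
    · rw [hN]
      have d1 : 7 ∣ Nat.card ((P : Subgroup G) ⊔ Subgroup.zpowers t : Subgroup G) := by
        have := Subgroup.card_dvd_of_le (le_sup_left : (P : Subgroup G) ≤ (P : Subgroup G) ⊔ Subgroup.zpowers t)
        rwa [hPcard] at this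
      have d2 : 3 ∣ Nat.card ((P : Subgroup G) ⊔ Subgroup.zpowers t : Subgroup G) := by
        have := Subgroup.card_dvd_of_le (le_sup_right : Subgroup.zpowers t ≤ (P : Subgroup G) ⊔ Subgroup.zpowers t)
        rwa [Nat.card_zpowers, ht] at this
      have : 7 * 3 ∣ Nat.card ((P : Subgroup G) ⊔ Subgroup.zpowers t : Subgroup G) :=
        Nat.Coprime.mul_dvd_of_dvd_of_dvd (by norm_num) d1 d2
      simpa using this
  rw [← hsup]
  exact sup_le hPC hHC

theorem card_sylow_two_subgroup (h : Nat.card G = 168) (T : Sylow 2 G) :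
    Nat.card (T : Subgroup G) = 8 := by
  haveI : Fact (Nat.Prime 2) := ⟨by norm_num⟩
  have := sylow_card (p := 2) (n := 3) (m := 21) (by rw [h]; norm_num) (by norm_num) T
  simpa using this

theorem normalizer_sylow_two (h : Nat.card G = 168) (T : Sylow 2 G) :
    Subgroup.normalizer ((T : Subgroup G) : Set G) = T := by
  haveI : Fact (Nat.Prime 2) := ⟨by norm_num⟩
  have hT := card_sylow_two_subgroup h T
  have hN : Nat.card (Subgroup.normalizer ((T : Subgroup G) : Set G)) = 8 := by
    have := card_normalizer_of_card_sylow h T (card_sylow_two h)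
    omega
  symm
  apply Subgroup.eq_of_le_of_card_ge Subgroup.le_normalizer
  rw [hN, hT]

theorem centralizer_eq_of_central (h : Nat.card G = 168) (T : Sylow 2 G) {z : G}
    (hz : z ∈ (T : Subgroup G)) (hz1 : z ≠ 1) (hc : ∀ t ∈ (T : Subgroup G), t * z = z * t) :
    Subgroup.centralizer ({z} : Set G) = T := by
  haveI : Fact (Nat.Prime 2) := ⟨by norm_num⟩
  haveI : Fact (Nat.Prime 3) := ⟨by norm_num⟩
  haveI : Fact (Nat.Prime 7) := ⟨by norm_num⟩
  have hT := card_sylow_two_subgroup h T
  have h2 := two_dvd_orderOf_of_mem_sylow T hz hz1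
  have hle : (T : Subgroup G) ≤ Subgroup.centralizer ({z} : Set G) := by
    intro t ht
    rw [Subgroup.mem_centralizer_singleton_iff]
    exact hc t ht
  obtain ⟨d, hd⟩ : ∃ d, d = Nat.card (Subgroup.centralizer ({z} : Set G)) := ⟨_, rfl⟩
  have h8 : 8 ∣ d := by
    rw [hd, ← hT]; exact Subgroup.card_dvd_of_le hle
  have h168 : d ∣ 168 := by
    rw [hd, ← h]; exact Subgroup.card_subgroup_dvd_card _
  have h3 : ¬ 3 ∣ d := by
    intro h3
    rw [hd] at h3
    obtain ⟨t', ht'⟩ := exists_prime_orderOf_dvd_card' (G := ↥(Subgroup.centralizer ({z} : Set G))) 3 h3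
    have ht3 : orderOf (t' : G) = 3 := by rw [Subgroup.orderOf_coe]; exact ht'
    have hcomm : (t' : G) * z = z * (t' : G) := Subgroup.mem_centralizer_singleton_iff.mp t'.2
    exact not_commute_three h ht3 h2 hcomm.symm
  have h7 : ¬ 7 ∣ d := by
    intro h7
    rw [hd] at h7
    obtain ⟨t', ht'⟩ := exists_prime_orderOf_dvd_card' (G := ↥(Subgroup.centralizer ({z} : Set G))) 7 h7
    have ht7 : orderOf (t' : G) = 7 := by rw [Subgroup.orderOf_coe]; exact ht'
    have hcomm : (t' : G) * z = z * (t' : G) := Subgroup.mem_centralizer_singleton_iff.mp t'.2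
    exact not_commute_seven h ht7 h2 hcomm.symm
  have hcop : Nat.Coprime d 21 := by
    have e : (21 : ℕ) = 3 * 7 := by norm_num
    rw [e]
    apply Nat.Coprime.mul_right
    · exact ((Nat.Prime.coprime_iff_not_dvd (by norm_num)).mpr h3).symm
    · exact ((Nat.Prime.coprime_iff_not_dvd (by norm_num)).mpr h7).symm
  have hd8 : d ∣ 8 := by
    apply hcop.dvd_of_dvd_mul_right
    have e : (8 : ℕ) * 21 = 168 := by norm_num
    rw [e]; exact h168
  have hd8' : d = 8 := Nat.dvd_antisymm hd8 h8
  symm
  apply Subgroup.eq_of_le_of_card_ge hle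
  rw [← hd, hd8', hT]

theorem sylow_two_not_comm (h : Nat.card G = 168) (T : Sylow 2 G) :
    ¬ ∀ x ∈ (T : Subgroup G), ∀ y ∈ (T : Subgroup G), x * y = y * x := by
  haveI : Fact (Nat.Prime 2) := ⟨by norm_num⟩
  intro hab
  have hT := card_sylow_two_subgroup h T
  apply burnside T (by rw [hT]; norm_num) (by rw [hT, h]; norm_num)
  rw [normalizer_sylow_two h T]
  intro c hc
  rw [Subgroup.mem_centralizer_iff]
  intro y hy
  exact hab y hy c hc

theorem orderOf_dvd_eight (h : Nat.card G = 168) (T : Sylow 2 G) {x : G}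
    (hx : x ∈ (T : Subgroup G)) : orderOf x ∣ 8 := by
  have hT := card_sylow_two_subgroup h T
  have := orderOf_dvd_natCard (⟨x, hx⟩ : ↥(T : Subgroup G))
  rwa [Subgroup.orderOf_mk, hT] at this

theorem exists_orderOf_four (h : Nat.card G = 168) (T : Sylow 2 G) :
    ∃ a ∈ (T : Subgroup G), orderOf a = 4 := by
  by_contra hcon
  push_neg at hcon
  have hord : ∀ x ∈ (T : Subgroup G), x * x = 1 := by
    intro x hx
    have hd : orderOf x ∣ 8 := orderOf_dvd_eight h T hx
    have hle : orderOf x ≤ 8 := Nat.le_of_dvd (by norm_num) hd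
    have h4 := hcon x hx
    have h8 : orderOf x ≠ 8 := by
      intro h8
      have hx2 : x ^ 2 ∈ (T : Subgroup G) := Subgroup.pow_mem _ hx 2
      apply hcon (x ^ 2) hx2
      rw [orderOf_pow' x (by norm_num), h8]
      norm_num
    have h0 : orderOf x ≠ 0 := (orderOf_pos x).ne'
    have h12 : orderOf x = 1 ∨ orderOf x = 2 := by
      generalize orderOf x = n at *
      interval_cases n <;> omega
    rcases h12 with h1 | h2
    · rw [orderOf_eq_one_iff] at h1; rw [h1, one_mul]
    · have := pow_orderOf_eq_one x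
      rw [h2, pow_two] at this; exact this
  apply sylow_two_not_comm h T
  intro x hx y hy
  have hxy := hord (x * y) (Subgroup.mul_mem _ hx hy)
  have hx2 := hord x hx
  have hy2 := hord y hy
  have e : y * x = (x * x) * (y * x) * (y * y) := by rw [hx2, hy2, one_mul, mul_one]
  have e2 : (x * x) * (y * x) * (y * y) = x * ((x * y) * (x * y)) * y := by group
  rw [e, e2, hxy, mul_one]

/-- a Sylow 2-subgroup has an involution different from any given element -/
theorem exists_involution_ne (h : Nat.card G = 168) (T : Sylow 2 G) (z : G) :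
    ∃ x ∈ (T : Subgroup G), orderOf x = 2 ∧ x ≠ z := by
  classical
  haveI : Fact (Nat.Prime 2) := ⟨by norm_num⟩
  by_contra hcon
  push_neg at hcon
  have hT := card_sylow_two_subgroup h T
  -- an involution in T
  obtain ⟨a, haT, ha4⟩ := exists_orderOf_four h T
  have hz0 : orderOf (a ^ 2) = 2 := by
    rw [orderOf_pow' a (by norm_num), ha4]
    norm_num
  have hza : a ^ 2 = z := hcon _ (Subgroup.pow_mem _ haT 2) hz0
  have hzT : z ∈ (T : Subgroup G) := by rw [← hza]; exact Subgroup.pow_mem _ haT 2
  have hz2 : orderOf z = 2 := by rw [← hza]; exact hz0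
  have hz1 : z ≠ 1 := by
    intro h1
    rw [h1, orderOf_one] at hz2
    omega
  -- z is central in T
  have hcen : ∀ t ∈ (T : Subgroup G), t * z = z * t := by
    intro t ht
    have h1 : t * z * t⁻¹ ∈ (T : Subgroup G) :=
      Subgroup.mul_mem _ (Subgroup.mul_mem _ ht hzT) (Subgroup.inv_mem _ ht)
    have h2 : orderOf (t * z * t⁻¹) = 2 := by rw [orderOf_conj_mul, hz2]
    have h3 := hcon _ h1 h2
    have e : t * z = (t * z * t⁻¹) * t := by group
    rw [e, h3]
  have hC := centralizer_eq_of_central h T hzT hz1 hcen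
  -- TI
  have hTI : ∀ g : G, g ∉ (T : Subgroup G) → ∀ u ∈ (T : Subgroup G),
      g⁻¹ * u * g ∈ (T : Subgroup G) → u = 1 := by
    intro g hg u hu hgu
    by_contra hu1
    have h2 := two_dvd_orderOf_of_mem_sylow T hu hu1
    have hv2 : orderOf (u ^ (orderOf u / 2)) = 2 :=
      orderOf_pow_orderOf_div (orderOf_pos u).ne' h2
    have hvT : u ^ (orderOf u / 2) ∈ (T : Subgroup G) := Subgroup.pow_mem _ hu _
    have hvz : u ^ (orderOf u / 2) = z := hcon _ hvT hv2
    have hgv : g⁻¹ * u ^ (orderOf u / 2) * g = (g⁻¹ * u * g) ^ (orderOf u / 2) := by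
      have := conj_pow (a := g⁻¹) (b := u) (i := orderOf u / 2)
      rw [inv_inv] at this
      exact this.symm
    have hgvT : g⁻¹ * z * g ∈ (T : Subgroup G) := by
      rw [← hvz, hgv]; exact Subgroup.pow_mem _ hgu _
    have hgv2 : orderOf (g⁻¹ * z * g) = 2 := by rw [orderOf_conj_mul', hz2]
    have hgz := hcon _ hgvT hgv2
    apply hg
    rw [← hC, Subgroup.mem_centralizer_singleton_iff]
    have e : z * g = g * (g⁻¹ * z * g) := by group
    rw [e, hgz]
  -- the free action
  let S : SubMulAction ↥(T : Subgroup G) (G ⧸ (T : Subgroup G)) :=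
    { carrier := {q | q ≠ ((1 : G) : G ⧸ (T : Subgroup G))}
      smul_mem' := by
        intro c q hq hcq
        apply hq
        obtain ⟨g, rfl⟩ := QuotientGroup.mk_surjective q
        have hcq' : (((c : G) * g : G) : G ⧸ (T : Subgroup G)) =
            ((1 : G) : G ⧸ (T : Subgroup G)) := hcq
        rw [QuotientGroup.eq] at hcq' ⊢
        have e : g⁻¹ * 1 = ((c : G) * g)⁻¹ * 1 * (c : G) := by group
        rw [e]; exact Subgroup.mul_mem _ hcq' c.2 }
  have hfree : ∀ b : S, MulAction.stabilizer ↥(T : Subgroup G) b = ⊥ := by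
    intro b
    rw [eq_bot_iff]
    intro t ht
    rw [MulAction.mem_stabilizer_iff] at ht
    obtain ⟨g, hg⟩ := QuotientGroup.mk_surjective (b : G ⧸ (T : Subgroup G))
    have hb : (b : G ⧸ (T : Subgroup G)) ≠ ((1 : G) : G ⧸ (T : Subgroup G)) := b.2
    have hgT : g ∉ (T : Subgroup G) := by
      intro hgT
      apply hb
      rw [← hg, QuotientGroup.eq]
      have : g⁻¹ * 1 = g⁻¹ := mul_one _
      rw [this]; exact Subgroup.inv_mem _ hgT
    have ht' : (((t : G) * g : G) : G ⧸ (T : Subgroup G)) = ((g : G) : G ⧸ (T : Subgroup G)) := by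
      have := congrArg Subtype.val ht
      rw [SubMulAction.val_smul, ← hg] at this
      exact this
    rw [QuotientGroup.eq] at ht'
    have h3 : g⁻¹ * (t : G) * g ∈ (T : Subgroup G) := by
      have := Subgroup.inv_mem _ ht'
      have e : (((t : G) * g)⁻¹ * g)⁻¹ = g⁻¹ * (t : G) * g := by group
      rwa [e] at this
    have := hTI g hgT t t.2 h3
    rw [Subgroup.mem_bot]
    exact Subtype.ext this
  have e := MulAction.selfEquivOrbitsQuotientProd hfree
  have h1 : Nat.card S = Nat.card (Quotient (MulAction.orbitRel ↥(T : Subgroup G) S)) *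
      Nat.card ↥(T : Subgroup G) := by
    rw [Nat.card_congr e, Nat.card_prod]
  have hidx : (T : Subgroup G).index = 21 := by
    have := Subgroup.index_mul_card (T : Subgroup G)
    rw [hT, h] at this
    omega
  have h2 : Nat.card S = 20 := by
    have h3 : Nat.card S = Nat.card ↥({((1 : G) : G ⧸ (T : Subgroup G))}ᶜ : Set (G ⧸ (T : Subgroup G))) := rfl
    rw [h3, Nat.card_coe_set_eq]
    have h4 := Set.ncard_add_ncard_compl ({((1 : G) : G ⧸ (T : Subgroup G))} : Set (G ⧸ (T : Subgroup G)))
    rw [Set.ncard_singleton] at h4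
    have h5 : Nat.card (G ⧸ (T : Subgroup G)) = 21 := hidx
    omega
  rw [h2, hT] at h1
  omega

/-- the elements of a cyclic group of order 4 -/
theorem mem_zpowers_four {a : G} (ha4 : orderOf a = 4) {y : G} (hy : y ∈ Subgroup.zpowers a) :
    y = 1 ∨ y = a ∨ y = a ^ 2 ∨ y = a ^ 3 := by
  classical
  rw [mem_zpowers_iff_mem_range_orderOf, ha4, Finset.mem_image] at hy
  obtain ⟨k, hk, rfl⟩ := hy
  rw [Finset.mem_range] at hk
  interval_cases k
  · left; exact pow_zero a
  · right; left; exact pow_one a
  · right; right; left; rfl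
  · right; right; right; rfl

/-- the only involution of a cyclic group of order 4 -/
theorem involution_zpowers_four {a : G} (ha4 : orderOf a = 4) {y : G}
    (hy : y ∈ Subgroup.zpowers a) (hy2 : orderOf y = 2) : y = a ^ 2 := by
  rcases mem_zpowers_four ha4 hy with h1 | h1 | h1 | h1
  · rw [h1, orderOf_one] at hy2; omega
  · rw [h1, ha4] at hy2; omega
  · exact h1
  · rw [h1, orderOf_pow' a (by norm_num), ha4] at hy2
    norm_num at hy2

theorem relIndex_zpowers_four (h : Nat.card G = 168) (T : Sylow 2 G) {a : G}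
    (haT : a ∈ (T : Subgroup G)) (ha4 : orderOf a = 4) :
    (Subgroup.zpowers a).relIndex (T : Subgroup G) = 2 := by
  have hT := card_sylow_two_subgroup h T
  have hAT : Subgroup.zpowers a ≤ (T : Subgroup G) := by rw [Subgroup.zpowers_le]; exact haT
  have hAcard : Nat.card (Subgroup.zpowers a) = 4 := by rw [Nat.card_zpowers, ha4]
  have h1 := Subgroup.index_mul_card ((Subgroup.zpowers a).subgroupOf (T : Subgroup G))
  have h2 : Nat.card ((Subgroup.zpowers a).subgroupOf (T : Subgroup G)) = 4 := by
    rw [Nat.card_congr (Subgroup.subgroupOfEquivOfLe hAT).toEquiv, hAcard]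
  rw [h2, hT] at h1
  show ((Subgroup.zpowers a).subgroupOf (T : Subgroup G)).index = 2
  omega

/-- the structure of a Sylow 2-subgroup -/
theorem sylow_two_structure (h : Nat.card G = 168) (T : Sylow 2 G) :
    ∃ a x : G, a ∈ (T : Subgroup G) ∧ x ∈ (T : Subgroup G) ∧ orderOf a = 4 ∧ orderOf x = 2 ∧
      x ∉ Subgroup.zpowers a ∧ x * a * x⁻¹ = a ^ 3 ∧
      Subgroup.closure ({a, x} : Set G) = (T : Subgroup G) := by
  haveI : Fact (Nat.Prime 2) := ⟨by norm_num⟩
  have hT := card_sylow_two_subgroup h T
  obtain ⟨a, haT, ha4⟩ := exists_orderOf_four h T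
  obtain ⟨x, hxT, hx2, hxa⟩ := exists_involution_ne h T (a ^ 2)
  have hxA : x ∉ Subgroup.zpowers a := fun hx => hxa (involution_zpowers_four ha4 hx hx2)
  have hAT : Subgroup.zpowers a ≤ (T : Subgroup G) := by rw [Subgroup.zpowers_le]; exact haT
  have hAcard : Nat.card (Subgroup.zpowers a) = 4 := by rw [Nat.card_zpowers, ha4]
  -- closure {a, x} = T
  have hcl : Subgroup.closure ({a, x} : Set G) = (T : Subgroup G) := by
    have hle : Subgroup.closure ({a, x} : Set G) ≤ (T : Subgroup G) := by
      rw [Subgroup.closure_le]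
      intro y hy
      rcases hy with rfl | hy
      · exact haT
      · rw [Set.mem_singleton_iff] at hy
        rw [hy]; exact hxT
    have hAle : Subgroup.zpowers a ≤ Subgroup.closure ({a, x} : Set G) := by
      rw [Subgroup.zpowers_le]
      exact Subgroup.subset_closure (Set.mem_insert _ _)
    have hxcl : x ∈ Subgroup.closure ({a, x} : Set G) :=
      Subgroup.subset_closure (Set.mem_insert_of_mem _ rfl)
    have d1 := Subgroup.card_dvd_of_le hAle
    have d2 := Subgroup.card_dvd_of_le hle
    rw [hAcard] at d1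
    rw [hT] at d2
    have hne4 : Nat.card (Subgroup.closure ({a, x} : Set G)) ≠ 4 := by
      intro h4
      have : Subgroup.zpowers a = Subgroup.closure ({a, x} : Set G) := by
        apply Subgroup.eq_of_le_of_card_ge hAle
        rw [h4, hAcard]
      apply hxA
      rw [this]; exact hxcl
    apply Subgroup.eq_of_le_of_card_ge hle
    rw [hT]
    have hle8 : Nat.card (Subgroup.closure ({a, x} : Set G)) ≤ 8 := Nat.le_of_dvd (by norm_num) d2
    generalize Nat.card (Subgroup.closure ({a, x} : Set G)) = n at *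
    interval_cases n <;> omega
  refine ⟨a, x, haT, hxT, ha4, hx2, hxA, ?_, hcl⟩
  -- normality of ⟨a⟩ in T
  have hidx2 : ((Subgroup.zpowers a).subgroupOf (T : Subgroup G)).index = 2 :=
    relIndex_zpowers_four h T haT ha4
  have hnorm := Subgroup.normal_of_index_eq_two hidx2
  have hconj : x * a * x⁻¹ ∈ Subgroup.zpowers a := by
    have h1 : (⟨a, haT⟩ : ↥(T : Subgroup G)) ∈ (Subgroup.zpowers a).subgroupOf (T : Subgroup G) := by
      rw [Subgroup.mem_subgroupOf]; exact Subgroup.mem_zpowers a
    have h2 := hnorm.conj_mem _ h1 ⟨x, hxT⟩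
    rw [Subgroup.mem_subgroupOf] at h2
    simpa using h2
  have hco : orderOf (x * a * x⁻¹) = 4 := by rw [orderOf_conj_mul, ha4]
  rcases mem_zpowers_four ha4 hconj with h1 | h1 | h1 | h1
  · rw [h1, orderOf_one] at hco; omega
  · exfalso
    apply sylow_two_not_comm h T
    rw [← hcl]
    apply closure_pair_comm
    have e : x * a = (x * a * x⁻¹) * x := by group
    rw [e, h1]
  · exfalso
    rw [h1, orderOf_pow' a (by norm_num), ha4] at hco
    norm_num at hco
  · exact h1

theorem sylow_two_dihedral (h : Nat.card G = 168) (T : Sylow 2 G) :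
    Nonempty (↥(T : Subgroup G) ≃* DihedralGroup 4) := by
  haveI : Fact (Nat.Prime 2) := ⟨by norm_num⟩
  have hT := card_sylow_two_subgroup h T
  obtain ⟨a, x, haT, hxT, ha4, hx2, hxA, hc, hcl⟩ := sylow_two_structure h T
  have hxx : x * x = 1 := by
    have := pow_orderOf_eq_one x
    rwa [hx2, pow_two] at this
  have ha4' : a ^ 4 = 1 := by
    have := pow_orderOf_eq_one a
    rwa [ha4] at this
  have hyy : (x * a) * (x * a) = 1 := by
    have e : (x * a) * (x * a) = (x * a * x⁻¹) * (x * x) * a := by group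
    rw [e, hc, hxx, mul_one, ← pow_succ]
    exact ha4'
  have hy1 : x * a ≠ 1 := by
    intro h1
    apply hxA
    have : x = a⁻¹ := eq_inv_of_mul_eq_one_left h1
    rw [this]; exact Subgroup.inv_mem _ (Subgroup.mem_zpowers a)
  have hy2 : orderOf (x * a) = 2 := by
    apply orderOf_eq_prime _ hy1
    rw [pow_two]; exact hyy
  have hxy : x * (x * a) = a := by rw [← mul_assoc, hxx, one_mul]
  have hiso := Cfsg.Agent.Lib.Helper24.closure_pair_equiv_dihedral hx2 hy2
  rw [hxy, ha4] at hiso
  obtain ⟨e⟩ := hiso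
  have hcard : Nat.card (Subgroup.closure ({x, x * a} : Set G)) = 8 := by
    rw [Nat.card_congr e.toEquiv, DihedralGroup.nat_card]
  have hEq : Subgroup.closure ({x, x * a} : Set G) = (T : Subgroup G) := by
    apply Subgroup.eq_of_le_of_card_ge
    · rw [Subgroup.closure_le]
      intro y hy
      rcases hy with rfl | hy
      · exact hxT
      · rw [Set.mem_singleton_iff] at hy
        rw [hy]; exact Subgroup.mul_mem _ hxT haT
    · rw [hcard, hT]
  exact ⟨(MulEquiv.subgroupCongr hEq).symm.trans e⟩

/-- a central involution of a Sylow 2-subgroup, with `⟨a⟩` cyclic of order 4 containing it -/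
theorem sylow_two_central (h : Nat.card G = 168) (T : Sylow 2 G) :
    ∃ a : G, a ∈ (T : Subgroup G) ∧ orderOf a = 4 ∧ orderOf (a ^ 2) = 2 ∧
      ∀ t ∈ (T : Subgroup G), t * a ^ 2 = a ^ 2 * t := by
  obtain ⟨a, x, haT, hxT, ha4, hx2, hxA, hc, hcl⟩ := sylow_two_structure h T
  have ha4' : a ^ 4 = 1 := by
    have := pow_orderOf_eq_one a
    rwa [ha4] at this
  refine ⟨a, haT, ha4, ?_, ?_⟩
  · rw [orderOf_pow' a (by norm_num), ha4]
    norm_num
  · have hle : Subgroup.closure ({a, x} : Set G) ≤ Subgroup.centralizer ({a ^ 2} : Set G) := by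
      rw [Subgroup.closure_le]
      intro y hy
      rw [SetLike.mem_coe, Subgroup.mem_centralizer_singleton_iff]
      rcases hy with rfl | hy
      · exact ((Commute.refl y).pow_right 2).eq
      · rw [Set.mem_singleton_iff] at hy
        rw [hy]
        have h1 : x * a ^ 2 * x⁻¹ = a ^ 2 := by
          rw [← conj_pow, hc, ← pow_mul]
          have : a ^ (3 * 2) = a ^ 2 * a ^ 4 := by rw [← pow_add]
          rw [this, ha4', mul_one]
        have e : x * a ^ 2 = (x * a ^ 2 * x⁻¹) * x := by group
        rw [e, h1]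
    intro t ht
    rw [← hcl] at ht
    exact Subgroup.mem_centralizer_singleton_iff.mp (hle ht)

end Main

end Cfsg.Agent.Lib.Helper2.Order168
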