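import Mathlib
import Cfsg.Agent.Lib.Helper2.Order168b

/-!
Simple groups of order 168: element orders and involutions (helper2).
-/

set_option autoImplicit false
set_option maxHeartbeats 800000
open scoped Pointwise

namespace Cfsg.Agent.Lib.Helper2.Order168

section Main
variable {G : Type*} [Group G] [Finite G] [IsSimpleGroup G]

theorem orderOf_ne_eight (h : Nat.card G = 168) (g : G) : orderOf g ≠ 8 := by
  haveI : Fact (Nat.Prime 2) := ⟨by norm_num⟩
  intro h8
  have hpg : IsPGroup 2 (Subgroup.zpowers g) := by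
    apply IsPGroup.of_card (n := 3)
    rw [Nat.card_zpowers, h8]; norm_num
  obtain ⟨T, hT⟩ := hpg.exists_le_sylow
  have hTc := card_sylow_two_subgroup h T
  have hEq : Subgroup.zpowers g = (T : Subgroup G) := by
    apply Subgroup.eq_of_le_of_card_ge hT
    rw [hTc, Nat.card_zpowers, h8]
  apply sylow_two_not_comm h T
  intro x hx y hy
  rw [← hEq] at hx hy
  obtain ⟨k, rfl⟩ := Subgroup.mem_zpowers_iff.mp hx
  obtain ⟨l, rfl⟩ := Subgroup.mem_zpowers_iff.mp hy
  exact (((Commute.refl g).zpow_right l).zpow_left k).eq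

theorem orderOf_cases (h : Nat.card G = 168) (g : G) :
    orderOf g = 1 ∨ orderOf g = 2 ∨ orderOf g = 3 ∨ orderOf g = 4 ∨ orderOf g = 7 := by
  have hn0 : orderOf g ≠ 0 := (orderOf_pos g).ne'
  have hdvd : orderOf g ∣ 168 := by rw [← h]; exact orderOf_dvd_natCard g
  have hcomm : ∀ k : ℕ, g * g ^ k = g ^ k * g := fun k => ((Commute.refl g).pow_right k).eq
  have h23 : ¬ (2 ∣ orderOf g ∧ 3 ∣ orderOf g) := by
    rintro ⟨h2, h3⟩
    have ht : orderOf (g ^ (orderOf g / 3)) = 3 := orderOf_pow_orderOf_div hn0 h3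
    exact not_commute_three h ht h2 (hcomm _)
  have h27 : ¬ (2 ∣ orderOf g ∧ 7 ∣ orderOf g) := by
    rintro ⟨h2, h7⟩
    have hs : orderOf (g ^ (orderOf g / 7)) = 7 := orderOf_pow_orderOf_div hn0 h7
    exact not_commute_seven h hs h2 (hcomm _)
  have h37 : ¬ (3 ∣ orderOf g ∧ 7 ∣ orderOf g) := by
    rintro ⟨h3, h7⟩
    have ht : orderOf (g ^ (orderOf g / 3)) = 3 := orderOf_pow_orderOf_div hn0 h3
    have hs : orderOf (g ^ (orderOf g / 7)) = 7 := orderOf_pow_orderOf_div hn0 h7
    apply not_commute_three_seven h hs ht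
    exact ((Commute.refl g).pow_pow _ _).eq
  have h8 : orderOf g ≠ 8 := orderOf_ne_eight h g
  have hle : orderOf g ≤ 168 := Nat.le_of_dvd (by norm_num) hdvd
  generalize orderOf g = n at *
  interval_cases n <;> omega

theorem involution_conj_central (h : Nat.card G = 168) :
    ∃ z : G, orderOf z = 2 ∧ Nat.card (Subgroup.centralizer ({z} : Set G)) = 8 ∧
      ∀ u : G, orderOf u = 2 → ∃ g : G, g * u * g⁻¹ = z := by
  haveI : Fact (Nat.Prime 2) := ⟨by norm_num⟩
  obtain ⟨T⟩ : Nonempty (Sylow 2 G) := inferInstance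
  have hT := card_sylow_two_subgroup h T
  obtain ⟨a, haT, ha4, hz2, hcen⟩ := sylow_two_central h T
  have hzT : a ^ 2 ∈ (T : Subgroup G) := Subgroup.pow_mem _ haT 2
  have hz1 : a ^ 2 ≠ 1 := by
    intro h1
    rw [h1, orderOf_one] at hz2
    omega
  have hC := centralizer_eq_of_central h T hzT hz1 hcen
  refine ⟨a ^ 2, hz2, by rw [hC, hT], ?_⟩
  intro u hu
  have hpg : IsPGroup 2 (Subgroup.zpowers u) := by
    apply IsPGroup.of_card (n := 1)
    rw [Nat.card_zpowers, hu]; norm_num
  obtain ⟨T', hT'⟩ := hpg.exists_le_sylow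
  obtain ⟨g, hg⟩ := MulAction.exists_smul_eq G T' T
  have huT' : u ∈ (T' : Subgroup G) := hT' (Subgroup.mem_zpowers u)
  have hguT : g * u * g⁻¹ ∈ (T : Subgroup G) := by
    have : g * u * g⁻¹ ∈ ((g • T' : Sylow 2 G) : Subgroup G) := by
      rw [Sylow.coe_subgroup_smul]
      exact Subgroup.smul_mem_pointwise_smul _ (MulAut.conj g) (T' : Subgroup G) huT'
    rwa [hg] at this
  have hgu2 : orderOf (g * u * g⁻¹) = 2 := by rw [orderOf_conj_mul, hu]
  by_cases hQ : g * u * g⁻¹ ∈ Subgroup.zpowers a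
  · exact ⟨g, involution_zpowers_four ha4 hQ hgu2⟩
  · have hQP : Subgroup.zpowers a ≤ (T : Subgroup G) := by rw [Subgroup.zpowers_le]; exact haT
    rcases Cfsg.Agent.S0111.result T (Subgroup.zpowers a) hQP (relIndex_zpowers_four h T haT ha4)
      (g * u * g⁻¹) hgu2 hguT hQ with ⟨M, hMn, hMi, -⟩ | ⟨g', hg'⟩
    · exfalso
      rcases hMn.eq_bot_or_eq_top with hb | ht
      · rw [hb, Subgroup.index_bot, h] at hMi; omega
      · rw [ht, Subgroup.index_top] at hMi; omega
    · refine ⟨g' * g, ?_⟩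
      have h2' : orderOf (g' * (g * u * g⁻¹) * g'⁻¹) = 2 := by rw [orderOf_conj_mul, hgu2]
      have := involution_zpowers_four ha4 hg' h2'
      rw [← this]; group

theorem card_involutions (h : Nat.card G = 168) : Nat.card {g : G // orderOf g = 2} = 21 := by
  obtain ⟨z, hz2, hCz, hconj⟩ := involution_conj_central h
  have hset : ∀ u : G, orderOf u = 2 ↔ u ∈ MulAction.orbit (ConjAct G) z := by
    intro u
    rw [ConjAct.mem_orbit_conjAct]
    constructor
    · intro hu
      obtain ⟨g, hg⟩ := hconj u hu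
      exact isConj_iff.mpr ⟨g, hg⟩
    · intro hu
      obtain ⟨g, hg⟩ := isConj_iff.mp hu
      rw [← orderOf_conj_mul g u, hg, hz2]
  rw [Nat.card_congr (Equiv.subtypeEquivRight hset)]
  have h1 := MulAction.index_stabilizer (ConjAct G) z
  have h2 := Subgroup.index_mul_card (MulAction.stabilizer (ConjAct G) z)
  rw [← Subgroup.nat_card_centralizer_nat_card_stabilizer, hCz] at h2
  have h3 : Nat.card (ConjAct G) = 168 := h
  rw [h3, h1] at h2
  have h4 : Nat.card {u // u ∈ MulAction.orbit (ConjAct G) z} =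
      (MulAction.orbit (ConjAct G) z).ncard := Nat.card_coe_set_eq _
  rw [h4]
  omega

theorem involutions_conj (h : Nat.card G = 168) (s t : G) (hs : orderOf s = 2)
    (ht : orderOf t = 2) : IsConj s t := by
  obtain ⟨z, -, -, hconj⟩ := involution_conj_central h
  obtain ⟨g1, h1⟩ := hconj s hs
  obtain ⟨g2, h2⟩ := hconj t ht
  exact (isConj_iff.mpr ⟨g1, h1⟩).trans (isConj_iff.mpr ⟨g2, h2⟩).symm

end Main

end Cfsg.Agent.Lib.Helper2.Order168
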