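import Mathlib
import Cfsg.Agent.Lib.Helper2.Order168c

/-!
Simple groups of order 168: conjugacy classes of elements (helper2).
-/

set_option autoImplicit false
set_option maxHeartbeats 800000
open scoped Pointwise

namespace Cfsg.Agent.Lib.Helper2.Order168

section General
variable {G : Type*} [Group G] [Finite G]

theorem card_conj_class (x : G) :
    (MulAction.orbit (ConjAct G) x).ncard * Nat.card (Subgroup.centralizer ({x} : Set G)) =
      Nat.card G := by
  have h1 := MulAction.index_stabilizer (ConjAct G) x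
  have h2 := Subgroup.index_mul_card (MulAction.stabilizer (ConjAct G) x)
  rw [← Subgroup.nat_card_centralizer_nat_card_stabilizer, h1] at h2
  exact h2

theorem card_isConj_eq (x : G) :
    Nat.card {g : G // IsConj x g} = (MulAction.orbit (ConjAct G) x).ncard := by
  have h4 : Nat.card {u // u ∈ MulAction.orbit (ConjAct G) x} =
      (MulAction.orbit (ConjAct G) x).ncard := Nat.card_coe_set_eq _
  rw [← h4]
  apply Nat.card_congr
  apply Equiv.subtypeEquivRight
  intro g
  rw [ConjAct.mem_orbit_conjAct]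
  exact isConj_comm

theorem card_order_eq_ncard (d : ℕ) :
    Nat.card {g : G // orderOf g = d} = ({g : G | orderOf g = d} : Set G).ncard :=
  Nat.card_coe_set_eq _

theorem orbit_subset_order (t : G) :
    MulAction.orbit (ConjAct G) t ⊆ {g : G | orderOf g = orderOf t} := by
  intro g hg
  rw [ConjAct.mem_orbit_conjAct] at hg
  obtain ⟨c, hc⟩ := isConj_iff.mp hg
  show orderOf g = orderOf t
  rw [← hc, orderOf_conj_mul]

theorem card_order_ge (t : G) :
    (MulAction.orbit (ConjAct G) t).ncard ≤ Nat.card {g : G // orderOf g = orderOf t} := by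
  rw [card_order_eq_ncard]
  exact Set.ncard_le_ncard (orbit_subset_order t) (Set.toFinite _)

theorem all_conj_of_card {t : G}
    (hcl : Nat.card {g : G // orderOf g = orderOf t} ≤ (MulAction.orbit (ConjAct G) t).ncard) :
    ∀ s : G, orderOf s = orderOf t → IsConj s t := by
  intro s hs
  rw [card_order_eq_ncard] at hcl
  have hEq := Set.eq_of_subset_of_ncard_le (orbit_subset_order t) hcl (Set.toFinite _)
  have : s ∈ MulAction.orbit (ConjAct G) t := by
    rw [hEq]; exact hs
  exact ConjAct.mem_orbit_conjAct.mp this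

end General

section Main
variable {G : Type*} [Group G] [Finite G] [IsSimpleGroup G]

theorem card_by_orders (h : Nat.card G = 168) :
    Nat.card {g : G // orderOf g = 2} + Nat.card {g : G // orderOf g = 3} +
      Nat.card {g : G // orderOf g = 4} + Nat.card {g : G // orderOf g = 7} = 167 := by
  classical
  haveI : Fintype G := Fintype.ofFinite G
  have key : ∀ d : ℕ, (Finset.univ.filter (fun a : G => orderOf a = d)).card =
      Nat.card {g : G // orderOf g = d} := by
    intro d
    rw [Nat.card_eq_fintype_card, Fintype.card_subtype]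
  have hsum := Finset.card_eq_sum_card_fiberwise (f := (orderOf : G → ℕ)) (s := Finset.univ)
    (t := ({1, 2, 3, 4, 7} : Finset ℕ)) (by
      intro g _
      rw [Finset.mem_coe]
      simp only [Finset.mem_insert, Finset.mem_singleton]
      exact orderOf_cases h g)
  rw [Finset.sum_insert (by decide), Finset.sum_insert (by decide), Finset.sum_insert (by decide),
    Finset.sum_insert (by decide), Finset.sum_singleton, key, key, key, key, key, Finset.card_univ,
    ← Nat.card_eq_fintype_card, h] at hsum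
  have h1 : Nat.card {g : G // orderOf g = 1} = 1 := by
    rw [Nat.card_congr (Equiv.subtypeEquivRight (fun g : G => orderOf_eq_one_iff)),
      Nat.card_eq_fintype_card, Fintype.card_subtype_eq]
  omega

theorem card_centralizer_three (h : Nat.card G = 168) {t : G} (ht : orderOf t = 3) :
    Nat.card (Subgroup.centralizer ({t} : Set G)) = 3 := by
  haveI : Fact (Nat.Prime 2) := ⟨by norm_num⟩
  haveI : Fact (Nat.Prime 7) := ⟨by norm_num⟩
  obtain ⟨d, hd⟩ : ∃ d, d = Nat.card (Subgroup.centralizer ({t} : Set G)) := ⟨_, rfl⟩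
  have hle : Subgroup.zpowers t ≤ Subgroup.centralizer ({t} : Set G) := by
    rw [Subgroup.zpowers_le, Subgroup.mem_centralizer_singleton_iff]
  have h3 : 3 ∣ d := by
    have := Subgroup.card_dvd_of_le hle
    rw [Nat.card_zpowers, ht] at this
    rw [hd]; exact this
  have h168 : d ∣ 168 := by rw [hd, ← h]; exact Subgroup.card_subgroup_dvd_card _
  have h2 : ¬ 2 ∣ d := by
    intro h2
    rw [hd] at h2
    obtain ⟨z', hz'⟩ := exists_prime_orderOf_dvd_card' (G := ↥(Subgroup.centralizer ({t} : Set G))) 2 h2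
    have hz2 : orderOf (z' : G) = 2 := by rw [Subgroup.orderOf_coe]; exact hz'
    have hcomm : (z' : G) * t = t * (z' : G) := Subgroup.mem_centralizer_singleton_iff.mp z'.2
    exact not_commute_three h ht (dvd_of_eq hz2.symm) hcomm
  have h7 : ¬ 7 ∣ d := by
    intro h7
    rw [hd] at h7
    obtain ⟨s', hs'⟩ := exists_prime_orderOf_dvd_card' (G := ↥(Subgroup.centralizer ({t} : Set G))) 7 h7
    have hs7 : orderOf (s' : G) = 7 := by rw [Subgroup.orderOf_coe]; exact hs'
    have hcomm : (s' : G) * t = t * (s' : G) := Subgroup.mem_centralizer_singleton_iff.mp s'.2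
    exact not_commute_three_seven h hs7 ht hcomm.symm
  have hcop : Nat.Coprime d 56 := by
    have e : (56 : ℕ) = 2 ^ 3 * 7 := by norm_num
    rw [e]
    apply Nat.Coprime.mul_right
    · apply Nat.Coprime.pow_right
      exact ((Nat.Prime.coprime_iff_not_dvd (by norm_num)).mpr h2).symm
    · exact ((Nat.Prime.coprime_iff_not_dvd (by norm_num)).mpr h7).symm
  have hd3 : d ∣ 3 := by
    apply hcop.dvd_of_dvd_mul_right
    have e : (3 : ℕ) * 56 = 168 := by norm_num
    rw [e]; exact h168
  rw [← hd]; exact Nat.dvd_antisymm hd3 h3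

theorem card_centralizer_seven (h : Nat.card G = 168) {x : G} (hx : orderOf x = 7) :
    Nat.card (Subgroup.centralizer ({x} : Set G)) = 7 := by
  haveI : Fact (Nat.Prime 2) := ⟨by norm_num⟩
  haveI : Fact (Nat.Prime 3) := ⟨by norm_num⟩
  obtain ⟨d, hd⟩ : ∃ d, d = Nat.card (Subgroup.centralizer ({x} : Set G)) := ⟨_, rfl⟩
  have hle : Subgroup.zpowers x ≤ Subgroup.centralizer ({x} : Set G) := by
    rw [Subgroup.zpowers_le, Subgroup.mem_centralizer_singleton_iff]
  have h7 : 7 ∣ d := by
    have := Subgroup.card_dvd_of_le hle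
    rw [Nat.card_zpowers, hx] at this
    rw [hd]; exact this
  have h168 : d ∣ 168 := by rw [hd, ← h]; exact Subgroup.card_subgroup_dvd_card _
  have h2 : ¬ 2 ∣ d := by
    intro h2
    rw [hd] at h2
    obtain ⟨z', hz'⟩ := exists_prime_orderOf_dvd_card' (G := ↥(Subgroup.centralizer ({x} : Set G))) 2 h2
    have hz2 : orderOf (z' : G) = 2 := by rw [Subgroup.orderOf_coe]; exact hz'
    have hcomm : (z' : G) * x = x * (z' : G) := Subgroup.mem_centralizer_singleton_iff.mp z'.2
    exact not_commute_seven h hx (dvd_of_eq hz2.symm) hcomm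
  have h3 : ¬ 3 ∣ d := by
    intro h3
    rw [hd] at h3
    obtain ⟨s', hs'⟩ := exists_prime_orderOf_dvd_card' (G := ↥(Subgroup.centralizer ({x} : Set G))) 3 h3
    have hs3 : orderOf (s' : G) = 3 := by rw [Subgroup.orderOf_coe]; exact hs'
    have hcomm : (s' : G) * x = x * (s' : G) := Subgroup.mem_centralizer_singleton_iff.mp s'.2
    exact not_commute_three_seven h hx hs3 hcomm
  have hcop : Nat.Coprime d 24 := by
    have e : (24 : ℕ) = 2 ^ 3 * 3 := by norm_num
    rw [e]
    apply Nat.Coprime.mul_right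
    · apply Nat.Coprime.pow_right
      exact ((Nat.Prime.coprime_iff_not_dvd (by norm_num)).mpr h2).symm
    · exact ((Nat.Prime.coprime_iff_not_dvd (by norm_num)).mpr h3).symm
  have hd7 : d ∣ 7 := by
    apply hcop.dvd_of_dvd_mul_right
    have e : (7 : ℕ) * 24 = 168 := by norm_num
    rw [e]; exact h168
  rw [← hd]; exact Nat.dvd_antisymm hd7 h7

theorem closure_eq_sylow_two (h : Nat.card G = 168) (T : Sylow 2 G) {a x : G}
    (haT : a ∈ (T : Subgroup G)) (ha4 : orderOf a = 4) (hxT : x ∈ (T : Subgroup G))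
    (hxA : x ∉ Subgroup.zpowers a) : Subgroup.closure ({a, x} : Set G) = (T : Subgroup G) := by
  have hT := card_sylow_two_subgroup h T
  have hAcard : Nat.card (Subgroup.zpowers a) = 4 := by rw [Nat.card_zpowers, ha4]
  have hle : Subgroup.closure ({a, x} : Set G) ≤ (T : Subgroup G) := by
    rw [Subgroup.closure_le]
    intro y hy
    rcases hy with rfl | hy
    · exact haT
    · rw [Set.mem_singleton_iff] at hy
      rw [hy]; exact hxT
  have hAle : Subgroup.zpowers a ≤ Subgroup.closure ({a, x} : Set G) := by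
    rw [Subgroup.zpowers_le]
    exact Subgroup.subset_closure (Set.mem_insert _ _)
  have hxcl : x ∈ Subgroup.closure ({a, x} : Set G) :=
    Subgroup.subset_closure (Set.mem_insert_of_mem _ rfl)
  have d1 := Subgroup.card_dvd_of_le hAle
  have d2 := Subgroup.card_dvd_of_le hle
  rw [hAcard] at d1
  rw [hT] at d2
  have hne4 : Nat.card (Subgroup.closure ({a, x} : Set G)) ≠ 4 := by
    intro h4
    have : Subgroup.zpowers a = Subgroup.closure ({a, x} : Set G) := by
      apply Subgroup.eq_of_le_of_card_ge hAle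
      rw [h4, hAcard]
    apply hxA
    rw [this]; exact hxcl
  apply Subgroup.eq_of_le_of_card_ge hle
  rw [hT]
  have hle8 : Nat.card (Subgroup.closure ({a, x} : Set G)) ≤ 8 := Nat.le_of_dvd (by norm_num) d2
  generalize Nat.card (Subgroup.closure ({a, x} : Set G)) = n at *
  interval_cases n <;> omega

theorem card_centralizer_four (h : Nat.card G = 168) {a : G} (ha : orderOf a = 4) :
    Nat.card (Subgroup.centralizer ({a} : Set G)) = 4 := by
  haveI : Fact (Nat.Prime 2) := ⟨by norm_num⟩
  haveI : Fact (Nat.Prime 3) := ⟨by norm_num⟩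
  haveI : Fact (Nat.Prime 7) := ⟨by norm_num⟩
  obtain ⟨d, hd⟩ : ∃ d, d = Nat.card (Subgroup.centralizer ({a} : Set G)) := ⟨_, rfl⟩
  have hle : Subgroup.zpowers a ≤ Subgroup.centralizer ({a} : Set G) := by
    rw [Subgroup.zpowers_le, Subgroup.mem_centralizer_singleton_iff]
  have h4 : 4 ∣ d := by
    have := Subgroup.card_dvd_of_le hle
    rw [Nat.card_zpowers, ha] at this
    rw [hd]; exact this
  have h168 : d ∣ 168 := by rw [hd, ← h]; exact Subgroup.card_subgroup_dvd_card _
  have h2a : 2 ∣ orderOf a := by rw [ha]; norm_num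
  have h3 : ¬ 3 ∣ d := by
    intro h3
    rw [hd] at h3
    obtain ⟨t', ht'⟩ := exists_prime_orderOf_dvd_card' (G := ↥(Subgroup.centralizer ({a} : Set G))) 3 h3
    have ht3 : orderOf (t' : G) = 3 := by rw [Subgroup.orderOf_coe]; exact ht'
    have hcomm : (t' : G) * a = a * (t' : G) := Subgroup.mem_centralizer_singleton_iff.mp t'.2
    exact not_commute_three h ht3 h2a hcomm.symm
  have h7 : ¬ 7 ∣ d := by
    intro h7
    rw [hd] at h7
    obtain ⟨t', ht'⟩ := exists_prime_orderOf_dvd_card' (G := ↥(Subgroup.centralizer ({a} : Set G))) 7 h7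
    have ht7 : orderOf (t' : G) = 7 := by rw [Subgroup.orderOf_coe]; exact ht'
    have hcomm : (t' : G) * a = a * (t' : G) := Subgroup.mem_centralizer_singleton_iff.mp t'.2
    exact not_commute_seven h ht7 h2a hcomm.symm
  have hcop : Nat.Coprime d 21 := by
    have e : (21 : ℕ) = 3 * 7 := by norm_num
    rw [e]
    apply Nat.Coprime.mul_right
    · exact ((Nat.Prime.coprime_iff_not_dvd (by norm_num)).mpr h3).symm
    · exact ((Nat.Prime.coprime_iff_not_dvd (by norm_num)).mpr h7).symm
  have hd8 : d ∣ 8 := by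
    apply hcop.dvd_of_dvd_mul_right
    have e : (8 : ℕ) * 21 = 168 := by norm_num
    rw [e]; exact h168
  have hne8 : d ≠ 8 := by
    intro h8
    have hpg : IsPGroup 2 (Subgroup.centralizer ({a} : Set G)) := by
      apply IsPGroup.of_card (n := 3)
      rw [← hd, h8]; norm_num
    obtain ⟨T, hT⟩ := hpg.exists_le_sylow
    have hTc := card_sylow_two_subgroup h T
    have hEq : Subgroup.centralizer ({a} : Set G) = (T : Subgroup G) := by
      apply Subgroup.eq_of_le_of_card_ge hT
      rw [hTc, ← hd, h8]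
    have haT : a ∈ (T : Subgroup G) := hT (hle (Subgroup.mem_zpowers a))
    obtain ⟨y, hyT, hyA⟩ : ∃ y ∈ (T : Subgroup G), y ∉ Subgroup.zpowers a := by
      by_contra hcon
      push_neg at hcon
      have hTA : (T : Subgroup G) ≤ Subgroup.zpowers a := hcon
      have := Subgroup.card_dvd_of_le hTA
      rw [hTc, Nat.card_zpowers, ha] at this
      omega
    have hcl := closure_eq_sylow_two h T haT ha hyT hyA
    apply sylow_two_not_comm h T
    rw [← hcl]
    apply closure_pair_comm
    rw [← hEq] at hyT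
    exact Subgroup.mem_centralizer_singleton_iff.mp hyT
  have hle8 : d ≤ 8 := Nat.le_of_dvd (by norm_num) hd8
  rw [← hd]
  clear hd
  interval_cases d <;> omega

theorem not_isConj_inv_seven (h : Nat.card G = 168) {x : G} (hx : orderOf x = 7) :
    ¬ IsConj x x⁻¹ := by
  intro hc
  obtain ⟨g, hg⟩ := isConj_iff.mp hc
  haveI : Fact (Nat.Prime 7) := ⟨by norm_num⟩
  have hG7 : Nat.card G = 7 ^ 1 * 24 := by rw [h]; norm_num
  obtain ⟨P, hP⟩ := exists_sylow_eq_zpowers hG7 (by norm_num) hx
  have hN : Nat.card (Subgroup.normalizer ((P : Subgroup G) : Set G)) = 21 := by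
    have := card_normalizer_of_card_sylow h P (card_sylow_seven h)
    omega
  have e1 : g * x⁻¹ * g⁻¹ = x := by
    have e : g * x⁻¹ * g⁻¹ = (g * x * g⁻¹)⁻¹ := by group
    rw [e, hg, inv_inv]
  have hg' : g⁻¹ * x * g = x⁻¹ := by
    calc g⁻¹ * x * g = g⁻¹ * (g * x⁻¹ * g⁻¹) * g := by rw [e1]
      _ = x⁻¹ := by group
  have hgN : g ∈ Subgroup.normalizer ((P : Subgroup G) : Set G) := by
    rw [Subgroup.mem_normalizer_iff]
    intro y
    rw [hP]
    constructor
    · intro hy
      obtain ⟨k, rfl⟩ := Subgroup.mem_zpowers_iff.mp hy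
      rw [← conj_zpow, hg]
      exact Subgroup.zpow_mem _ (Subgroup.inv_mem _ (Subgroup.mem_zpowers x)) k
    · intro hy
      obtain ⟨k, hk⟩ := Subgroup.mem_zpowers_iff.mp hy
      have e : y = g⁻¹ * (g * y * g⁻¹) * g := by group
      rw [e, ← hk]
      have e2 : g⁻¹ * x ^ k * g = (g⁻¹ * x * g) ^ k := by
        have := conj_zpow (a := g⁻¹) (b := x) (i := k)
        rw [inv_inv] at this
        exact this.symm
      rw [e2, hg']
      exact Subgroup.zpow_mem _ (Subgroup.inv_mem _ (Subgroup.mem_zpowers x)) k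
  have h21 : g ^ 21 = 1 := by
    have := orderOf_dvd_natCard (⟨g, hgN⟩ : ↥(Subgroup.normalizer ((P : Subgroup G) : Set G)))
    rw [Subgroup.orderOf_mk, hN] at this
    exact orderOf_dvd_iff_pow_eq_one.mp this
  have h21' : g ^ 21 = (g * g) ^ 10 * g := by
    rw [← pow_two, ← pow_mul, ← pow_succ]
  have hcx : g * g * x = x * (g * g) := by
    have e : g * g * x = g * (g * x * g⁻¹) * g := by group
    rw [e, hg]
    have e2 : g * x⁻¹ * g = (g * x⁻¹ * g⁻¹) * (g * g) := by group
    rw [e2, e1]
  have hC : Commute ((g * g) ^ 10) x⁻¹ :=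
    ((show Commute (g * g) x from hcx).pow_left 10).inv_right
  have e3 : x = (g * g) ^ 10 * (g * x * g⁻¹) * ((g * g) ^ 10)⁻¹ := by
    have e4 : (g * g) ^ 10 * (g * x * g⁻¹) * ((g * g) ^ 10)⁻¹ =
        ((g * g) ^ 10 * g) * x * ((g * g) ^ 10 * g)⁻¹ := by group
    rw [e4, ← h21', h21]; group
  rw [hg, hC.eq, mul_assoc, mul_inv_cancel, mul_one] at e3
  have hxx : x ^ 2 = 1 := by
    rw [pow_two]
    nth_rewrite 2 [e3]
    exact mul_inv_cancel x
  have := orderOf_dvd_of_pow_eq_one hxx
  rw [hx] at this
  omega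

end Main

end Cfsg.Agent.Lib.Helper2.Order168
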