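import Mathlib
import Cfsg.Agent.Lib.Helper2.Order168d

/-!
Simple groups of order 168: Klein four-subgroups and subgroups of order 24 (helper2).
-/

set_option autoImplicit false
set_option maxHeartbeats 800000
open scoped Pointwise

namespace Cfsg.Agent.Lib.Helper2.Order168

section General
variable {G : Type*} [Group G]

theorem klein_mul_self {U : Subgroup G} (hU : IsKleinFour ↥U) {u : G} (hu : u ∈ U) :
    u * u = 1 := by
  haveI := hU
  have := IsKleinFour.mul_self (⟨u, hu⟩ : ↥U)
  exact congrArg Subtype.val this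

theorem klein_comm {U : Subgroup G} (hU : IsKleinFour ↥U) {u v : G} (hu : u ∈ U) (hv : v ∈ U) :
    u * v = v * u := by
  haveI := hU
  have := mul_comm_of_exponent_two (IsKleinFour.exponent_two (G := ↥U)) (⟨u, hu⟩ : ↥U) ⟨v, hv⟩
  exact congrArg Subtype.val this

theorem klein_card {U : Subgroup G} (hU : IsKleinFour ↥U) : Nat.card U = 4 :=
  IsKleinFour.card_four

theorem klein_orderOf {U : Subgroup G} (hU : IsKleinFour ↥U) {u : G} (hu : u ∈ U)
    (hu1 : u ≠ 1) : orderOf u = 2 := by
  haveI : Fact (Nat.Prime 2) := ⟨by norm_num⟩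
  apply orderOf_eq_prime _ hu1
  rw [pow_two]; exact klein_mul_self hU hu

theorem le_normalizer_of_forall_conj (K W : Subgroup G)
    (hK : ∀ a ∈ K, ∀ w ∈ W, a * w * a⁻¹ ∈ W) : K ≤ Subgroup.normalizer (W : Set G) := by
  intro a ha
  rw [Subgroup.mem_normalizer_iff]
  intro w
  constructor
  · exact hK a ha w
  · intro hw
    have := hK a⁻¹ (K.inv_mem ha) _ hw
    have e : a⁻¹ * (a * w * a⁻¹) * a⁻¹⁻¹ = w := by group
    rwa [e] at this

theorem kleinFour_closure_pair [Finite G] {z u : G} (hz : orderOf z = 2) (hu : orderOf u = 2)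
    (hzu : z ≠ u) (hc : z * u = u * z) : IsKleinFour ↥(Subgroup.closure ({z, u} : Set G)) := by
  haveI : Fact (Nat.Prime 2) := ⟨by norm_num⟩
  have hzz : z * z = 1 := by
    have := pow_orderOf_eq_one z
    rwa [hz, pow_two] at this
  have huu : u * u = 1 := by
    have := pow_orderOf_eq_one u
    rwa [hu, pow_two] at this
  have hzu2 : orderOf (z * u) = 2 := by
    apply orderOf_eq_prime
    · rw [pow_two]
      have e : z * u * (z * u) = z * (u * z) * u := by group
      rw [e, ← hc]
      have e2 : z * (z * u) * u = (z * z) * (u * u) := by group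
      rw [e2, hzz, huu, one_mul]
    · intro h1
      apply hzu
      have : z = u⁻¹ := eq_inv_of_mul_eq_one_left h1
      rw [this]
      exact inv_eq_of_mul_eq_one_left huu
  have hiso := Cfsg.Agent.Lib.Helper24.closure_pair_equiv_dihedral hz hu
  rw [hzu2] at hiso
  obtain ⟨e⟩ := hiso
  constructor
  · rw [Nat.card_congr e.toEquiv]; exact IsKleinFour.card_four
  · rw [Monoid.exponent_eq_of_mulEquiv e]; exact IsKleinFour.exponent_two

theorem klein_eq_closure [Finite G] {U : Subgroup G} (hU : IsKleinFour ↥U) {z u : G}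
    (hz : z ∈ U) (hu : u ∈ U) (hz1 : z ≠ 1) (hu1 : u ≠ 1) (hzu : z ≠ u) :
    U = Subgroup.closure ({z, u} : Set G) := by
  have hk := kleinFour_closure_pair (klein_orderOf hU hz hz1) (klein_orderOf hU hu hu1) hzu
    (klein_comm hU hz hu)
  symm
  apply Subgroup.eq_of_le_of_card_ge
  · rw [Subgroup.closure_le]
    intro y hy
    rcases hy with rfl | hy
    · exact hz
    · rw [Set.mem_singleton_iff] at hy
      rw [hy]; exact hu
  · rw [klein_card hU, klein_card hk]

theorem sylow_conj_in_subgroup [Finite G] {p : ℕ} [Fact p.Prime] (P : Sylow p G)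
    (N : Subgroup G) (g : G) (h1 : (P : Subgroup G) ≤ N)
    (h2 : ((g • P : Sylow p G) : Subgroup G) ≤ N) :
    ∃ n ∈ N, n * g ∈ Subgroup.normalizer ((P : Subgroup G) : Set G) := by
  obtain ⟨n, hn⟩ := MulAction.exists_smul_eq ↥N ((g • P).subtype h2) (P.subtype h1)
  simp_rw [Sylow.smul_subtype, Subgroup.smul_def, smul_smul] at hn
  exact ⟨n, n.2, Sylow.smul_eq_iff_mem_normalizer.mp (Sylow.subtype_injective hn)⟩

/-- in a finite group, an element of a cyclic group of order 2 is `1` or the generator -/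
theorem eq_of_mem_zpowers_two [Finite G] {k c : G} (hk : orderOf k = 2)
    (hc : c ∈ Subgroup.zpowers k) (hc1 : c ≠ 1) : c = k := by
  classical
  rw [mem_zpowers_iff_mem_range_orderOf, hk, Finset.mem_image] at hc
  obtain ⟨i, hi, rfl⟩ := hc
  rw [Finset.mem_range] at hi
  interval_cases i
  · exact absurd (pow_zero k) hc1
  · exact pow_one k

/-- a group of order 24 whose Sylow 3-subgroups are not normal and which has no central
involution is isomorphic to the symmetric group of degree 4 -/
theorem equiv_perm_four_of_card {M : Type*} [Group M] [Finite M] (hM : Nat.card M = 24)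
    (h1 : Nat.card (Sylow 3 M) ≠ 1)
    (h2 : ∀ k : M, orderOf k = 2 → ∃ g : M, g * k ≠ k * g) :
    Nonempty (M ≃* Equiv.Perm (Fin 4)) := by
  classical
  haveI : Fact (Nat.Prime 3) := ⟨by norm_num⟩
  haveI : Fact (Nat.Prime 2) := ⟨by norm_num⟩
  obtain ⟨P⟩ : Nonempty (Sylow 3 M) := inferInstance
  have hM3 : Nat.card M = 3 ^ 1 * 8 := by rw [hM]; norm_num
  have hP : Nat.card (P : Subgroup M) = 3 := by
    have := sylow_card (p := 3) (n := 1) (m := 8) hM3 (by norm_num) P
    simpa using this
  have hn4 : Nat.card (Sylow 3 M) = 4 := by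
    have hidx : (P : Subgroup M).index = 8 := by
      have := Subgroup.index_mul_card (P : Subgroup M)
      rw [hP, hM] at this
      omega
    have hdvd := Sylow.card_dvd_index P
    rw [hidx] at hdvd
    have hmod := card_sylow_modEq_one 3 M
    have hle : Nat.card (Sylow 3 M) ≤ 8 := Nat.le_of_dvd (by norm_num) hdvd
    unfold Nat.ModEq at hmod
    generalize Nat.card (Sylow 3 M) = n at *
    interval_cases n <;> omega
  have hN : ∀ Q : Sylow 3 M,
      Nat.card (Subgroup.normalizer ((Q : Subgroup M) : Set M)) = 6 := by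
    intro Q
    have h1 : Nat.card (Sylow 3 M) = (Subgroup.normalizer ((Q : Subgroup M) : Set M)).index :=
      Sylow.card_eq_index_normalizer Q
    have h2 := Subgroup.index_mul_card (Subgroup.normalizer ((Q : Subgroup M) : Set M))
    rw [← h1, hn4, hM] at h2
    omega
  obtain ⟨φ, hφ⟩ : ∃ φ : M →* Equiv.Perm (Sylow 3 M), φ = MulAction.toPermHom M (Sylow 3 M) :=
    ⟨_, rfl⟩
  have hker : ∀ k ∈ φ.ker, ∀ Q : Sylow 3 M,
      k ∈ Subgroup.normalizer ((Q : Subgroup M) : Set M) := by
    intro k hk Q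
    rw [MonoidHom.mem_ker, hφ] at hk
    have : k • Q = Q := by
      have := congrArg (fun σ : Equiv.Perm (Sylow 3 M) => σ Q) hk
      simpa using this
    exact Sylow.smul_eq_iff_mem_normalizer.mp this
  have hno3 : ∀ k ∈ φ.ker, orderOf k ≠ 3 := by
    intro k hk hk3
    obtain ⟨P0, hP0⟩ := exists_sylow_eq_zpowers hM3 (by norm_num) hk3
    obtain ⟨P1, hP1⟩ : ∃ P1 : Sylow 3 M, P1 ≠ P0 := by
      by_contra hcon
      push_neg at hcon
      apply h1
      haveI : Subsingleton (Sylow 3 M) := ⟨fun A B => (hcon A).trans (hcon B).symm⟩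
      haveI : Unique (Sylow 3 M) := uniqueOfSubsingleton P
      exact Nat.card_unique
    obtain ⟨g, hg⟩ := MulAction.exists_smul_eq M P0 P1
    have hk' : g * k * g⁻¹ ∈ φ.ker := (MonoidHom.normal_ker φ).conj_mem k hk g
    have hP1le : (P1 : Subgroup M) ≤ Subgroup.normalizer ((P0 : Subgroup M) : Set M) := by
      rw [← hg]
      intro y hy
      rw [Sylow.coe_subgroup_smul, Subgroup.mem_pointwise_smul_iff_inv_smul_mem, MulAut.smul_def,
        MulAut.conj_inv_apply, hP0] at hy
      obtain ⟨i, hi⟩ := Subgroup.mem_zpowers_iff.mp hy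
      have hy2 : y = (g * k * g⁻¹) ^ i := by
        rw [conj_zpow, hi]; group
      rw [hy2]
      exact hker _ (Subgroup.zpow_mem _ hk' i) P0
    have hsup : IsPGroup 3 ((P1 : Subgroup M) ⊔ (P0 : Subgroup M) : Subgroup M) :=
      P1.isPGroup'.to_sup_of_normal_right' P0.isPGroup' hP1le
    have h3 := P0.is_maximal' hsup le_sup_right
    have hle : (P1 : Subgroup M) ≤ (P0 : Subgroup M) := by
      rw [← h3]; exact le_sup_left
    apply hP1
    exact Sylow.ext (P1.is_maximal' P0.isPGroup' hle).symm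
  have hkerbot : φ.ker = ⊥ := by
    have hKle : φ.ker ≤ Subgroup.normalizer ((P : Subgroup M) : Set M) := fun k hk => hker k hk P
    have hd6 : Nat.card φ.ker ∣ 6 := by
      rw [← hN P]; exact Subgroup.card_dvd_of_le hKle
    have h3 : ¬ 3 ∣ Nat.card φ.ker := by
      intro h3
      obtain ⟨k', hk'⟩ := exists_prime_orderOf_dvd_card' (G := ↥φ.ker) 3 h3
      exact hno3 (k' : M) k'.2 (by rw [Subgroup.orderOf_coe]; exact hk')
    have hd2 : Nat.card φ.ker ∣ 2 := by
      have hcop : Nat.Coprime (Nat.card φ.ker) 3 :=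
        ((Nat.Prime.coprime_iff_not_dvd (by norm_num)).mpr h3).symm
      apply hcop.dvd_of_dvd_mul_right
      have e : (2 : ℕ) * 3 = 6 := by norm_num
      rw [e]; exact hd6
    by_contra hne
    have hc2 : Nat.card φ.ker = 2 := by
      have hle : Nat.card φ.ker ≤ 2 := Nat.le_of_dvd (by norm_num) hd2
      have hpos : 0 < Nat.card φ.ker := Nat.card_pos
      have hne1 : Nat.card φ.ker ≠ 1 := by
        intro h1'
        exact hne (Subgroup.card_eq_one.mp h1')
      omega
    obtain ⟨k', hk'⟩ := exists_prime_orderOf_dvd_card' (G := ↥φ.ker) 2 (by rw [hc2])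
    have hk2 : orderOf (k' : M) = 2 := by rw [Subgroup.orderOf_coe]; exact hk'
    obtain ⟨g, hg⟩ := h2 (k' : M) hk2
    apply hg
    have hconj : g * (k' : M) * g⁻¹ ∈ φ.ker := (MonoidHom.normal_ker φ).conj_mem _ k'.2 g
    have hk1 : k' ≠ 1 := by
      intro h1'
      rw [h1', orderOf_one] at hk'
      omega
    have hmem := mem_zpowers_of_prime_card (G := ↥φ.ker) (p := 2) hc2
      (g := k') (g' := ⟨g * (k' : M) * g⁻¹, hconj⟩) hk1
    have hne1 : (⟨g * (k' : M) * g⁻¹, hconj⟩ : ↥φ.ker) ≠ 1 := by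
      intro h1'
      have h1'' : g * (k' : M) * g⁻¹ = 1 := congrArg Subtype.val h1'
      apply hk1
      apply Subtype.ext
      have e : (k' : M) = g⁻¹ * (g * (k' : M) * g⁻¹) * g := by group
      rw [e, h1'']; simp
    have heq := eq_of_mem_zpowers_two hk' hmem hne1
    have heq' : g * (k' : M) * g⁻¹ = (k' : M) := congrArg Subtype.val heq
    have e : g * (k' : M) = (g * (k' : M) * g⁻¹) * g := by group
    rw [e, heq']
  have hinj : Function.Injective φ := (MonoidHom.ker_eq_bot_iff φ).mp hkerbot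
  have hcardP : Nat.card (Equiv.Perm (Sylow 3 M)) = 24 := by
    rw [Nat.card_perm, hn4]; rfl
  have hbij : Function.Bijective φ := hinj.bijective_of_nat_card_le (by rw [hcardP, hM])
  have e1 : M ≃* Equiv.Perm (Sylow 3 M) := MulEquiv.ofBijective φ hbij
  have e2 : Sylow 3 M ≃ Fin 4 := Finite.equivFinOfCardEq hn4
  exact ⟨e1.trans (Equiv.permCongrHom e2)⟩

end General

end Cfsg.Agent.Lib.Helper2.Order168
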