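import Mathlib
import Cfsg.Agent.Lib.Helper2.Order168e

/-!
Simple groups of order 168: Klein four-subgroups of a Sylow 2-subgroup (helper2).
-/

set_option autoImplicit false
set_option maxHeartbeats 800000
open scoped Pointwise

namespace Cfsg.Agent.Lib.Helper2.Order168

section Main
variable {G : Type*} [Group G] [Finite G] [IsSimpleGroup G]

theorem card_centralizer_two (h : Nat.card G = 168) {u : G} (hu : orderOf u = 2) :
    Nat.card (Subgroup.centralizer ({u} : Set G)) = 8 := by
  obtain ⟨z, hz2, hCz, hconj⟩ := involution_conj_central h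
  obtain ⟨g, hg⟩ := hconj u hu
  have h1 : u ∈ MulAction.orbit (ConjAct G) z := by
    rw [ConjAct.mem_orbit_conjAct]; exact isConj_iff.mpr ⟨g, hg⟩
  have h2 : MulAction.orbit (ConjAct G) u = MulAction.orbit (ConjAct G) z :=
    MulAction.orbit_eq_iff.mpr h1
  have h3 := card_conj_class u
  have h4 := card_conj_class z
  rw [h2] at h3
  rw [hCz, h] at h4
  rw [h] at h3
  have hn : (MulAction.orbit (ConjAct G) z).ncard = 21 := by omega
  rw [hn] at h3
  omega

/-- subgroups of order 24 are symmetric groups of degree 4 -/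
theorem subgroup_card_24_equiv (h : Nat.card G = 168) (M : Subgroup G) (hM : Nat.card M = 24) :
    Nonempty (↥M ≃* Equiv.Perm (Fin 4)) := by
  haveI : Fact (Nat.Prime 3) := ⟨by norm_num⟩
  haveI : Fact (Nat.Prime 2) := ⟨by norm_num⟩
  apply equiv_perm_four_of_card hM
  · intro h1
    obtain ⟨P⟩ : Nonempty (Sylow 3 ↥M) := inferInstance
    have hM3 : Nat.card ↥M = 3 ^ 1 * 8 := by rw [hM]; norm_num
    have hP : Nat.card (P : Subgroup ↥M) = 3 := by
      have := sylow_card (p := 3) (n := 1) (m := 8) hM3 (by norm_num) P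
      simpa using this
    have hnorm : (P : Subgroup ↥M).Normal := by
      rw [Sylow.card_eq_index_normalizer P, Subgroup.index_eq_one] at h1
      exact Subgroup.normalizer_eq_top_iff.mp h1
    obtain ⟨t₀, ht₀P, ht3M⟩ : ∃ t₀ : ↥M, t₀ ∈ (P : Subgroup ↥M) ∧ orderOf t₀ = 3 := by
      obtain ⟨t', ht'⟩ := exists_prime_orderOf_dvd_card' (G := ↥(P : Subgroup ↥M)) 3 (by rw [hP])
      exact ⟨(t' : ↥M), t'.2, by rw [Subgroup.orderOf_coe]; exact ht'⟩
    have ht3 : orderOf (t₀ : G) = 3 := by rw [Subgroup.orderOf_coe]; exact ht3M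
    have hPz : (P : Subgroup ↥M) = Subgroup.zpowers t₀ := by
      symm
      apply Subgroup.eq_of_le_of_card_ge
      · rw [Subgroup.zpowers_le]; exact ht₀P
      · rw [hP, Nat.card_zpowers, ht3M]
    have hG3 : Nat.card G = 3 ^ 1 * 56 := by rw [h]; norm_num
    obtain ⟨Q, hQ⟩ := exists_sylow_eq_zpowers hG3 (by norm_num) ht3
    have hNQ : Nat.card (Subgroup.normalizer ((Q : Subgroup G) : Set G)) = 6 := by
      have := card_normalizer_of_card_sylow h Q (card_sylow_three h)
      omega
    have hMN : M ≤ Subgroup.normalizer ((Q : Subgroup G) : Set G) := by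
      apply le_normalizer_of_forall_conj
      intro m hm w hw
      rw [hQ] at hw ⊢
      obtain ⟨i, rfl⟩ := Subgroup.mem_zpowers_iff.mp hw
      have h1 : (⟨m, hm⟩ : ↥M) * t₀ * (⟨m, hm⟩ : ↥M)⁻¹ ∈ (P : Subgroup ↥M) :=
        hnorm.conj_mem _ ht₀P _
      rw [hPz] at h1
      obtain ⟨j, hj⟩ := Subgroup.mem_zpowers_iff.mp h1
      have h2 : m * (t₀ : G) * m⁻¹ = (t₀ : G) ^ j := by
        have := congrArg Subtype.val hj
        simpa using this.symm
      rw [← conj_zpow, h2, ← zpow_mul]
      exact Subgroup.zpow_mem_zpowers _ _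
    have := Subgroup.card_dvd_of_le hMN
    rw [hM, hNQ] at this
    omega
  · intro k hk
    by_contra hcon
    push_neg at hcon
    obtain ⟨t', ht'⟩ := exists_prime_orderOf_dvd_card' (G := ↥M) 3 (by rw [hM]; norm_num)
    have ht3 : orderOf (t' : G) = 3 := by rw [Subgroup.orderOf_coe]; exact ht'
    have hk2 : orderOf (k : G) = 2 := by rw [Subgroup.orderOf_coe]; exact hk
    have hc := congrArg Subtype.val (hcon t')
    exact not_commute_three h ht3 (dvd_of_eq hk2.symm) (by simpa using hc.symm)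

theorem mul_mem_zpowers_of_not_mem (h : Nat.card G = 168) (T : Sylow 2 G) {a u v : G}
    (haT : a ∈ (T : Subgroup G)) (ha4 : orderOf a = 4) (huT : u ∈ (T : Subgroup G))
    (hvT : v ∈ (T : Subgroup G)) (hu : u ∉ Subgroup.zpowers a) (hv : v ∉ Subgroup.zpowers a) :
    u * v ∈ Subgroup.zpowers a := by
  have hidx2 : ((Subgroup.zpowers a).subgroupOf (T : Subgroup G)).index = 2 :=
    relIndex_zpowers_four h T haT ha4
  have := Subgroup.mul_mem_iff_of_index_two hidx2 (a := (⟨u, huT⟩ : ↥(T : Subgroup G)))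
    (b := ⟨v, hvT⟩)
  rw [Subgroup.mem_subgroupOf, Subgroup.mem_subgroupOf, Subgroup.mem_subgroupOf] at this
  exact this.mpr ⟨fun h => absurd h hu, fun h => absurd h hv⟩

theorem klein_exists_not_mem (h : Nat.card G = 168) (T : Sylow 2 G) {a : G}
    (ha4 : orderOf a = 4) {U : Subgroup G} (hU : IsKleinFour ↥U) :
    ∃ u ∈ U, u ∉ Subgroup.zpowers a := by
  by_contra hcon
  push_neg at hcon
  have hle : U ≤ Subgroup.zpowers a := hcon
  have hEq : U = Subgroup.zpowers a := by
    apply Subgroup.eq_of_le_of_card_ge hle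
    rw [klein_card hU, Nat.card_zpowers, ha4]
  have haU : a ∈ U := by rw [hEq]; exact Subgroup.mem_zpowers a
  have haa := klein_mul_self hU haU
  have : a ^ 2 = 1 := by rw [pow_two]; exact haa
  have := orderOf_dvd_of_pow_eq_one this
  rw [ha4] at this
  omega

theorem klein_center_mem (h : Nat.card G = 168) (T : Sylow 2 G) {a : G}
    (haT : a ∈ (T : Subgroup G)) (ha4 : orderOf a = 4) {U : Subgroup G}
    (hUT : U ≤ (T : Subgroup G)) (hU : IsKleinFour ↥U) : a ^ 2 ∈ U := by
  obtain ⟨u, huU, huA⟩ := klein_exists_not_mem h T ha4 hU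
  have hu1 : u ≠ 1 := fun h1 => huA (h1 ▸ Subgroup.one_mem _)
  have huu := klein_mul_self hU huU
  obtain ⟨v, hvU, hv1, hvu⟩ : ∃ v ∈ U, v ≠ 1 ∧ v ≠ u := by
    by_contra hcon
    push_neg at hcon
    have hle : U ≤ Subgroup.zpowers u := by
      intro v hv
      by_cases hv1 : v = 1
      · rw [hv1]; exact Subgroup.one_mem _
      · rw [hcon v hv hv1]; exact Subgroup.mem_zpowers u
    have := Subgroup.card_dvd_of_le hle
    rw [klein_card hU, Nat.card_zpowers, klein_orderOf hU huU hu1] at this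
    omega
  by_cases hvA : v ∈ Subgroup.zpowers a
  · have := involution_zpowers_four ha4 hvA (klein_orderOf hU hvU hv1)
    rw [← this]; exact hvU
  · have huv := mul_mem_zpowers_of_not_mem h T haT ha4 (hUT huU) (hUT hvU) huA hvA
    have huvU : u * v ∈ U := Subgroup.mul_mem _ huU hvU
    have huv1 : u * v ≠ 1 := by
      intro h1
      apply hvu
      have : v = u⁻¹ := eq_inv_of_mul_eq_one_right h1
      rw [this]; exact inv_eq_of_mul_eq_one_left huu
    have := involution_zpowers_four ha4 huv (klein_orderOf hU huvU huv1)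
    rw [← this]; exact huvU

theorem le_normalizer_klein (h : Nat.card G = 168) (T : Sylow 2 G) {U : Subgroup G}
    (hUT : U ≤ (T : Subgroup G)) (hU : IsKleinFour ↥U) :
    (T : Subgroup G) ≤ Subgroup.normalizer (U : Set G) := by
  have hT := card_sylow_two_subgroup h T
  have hidx : (U.subgroupOf (T : Subgroup G)).index = 2 := by
    have h1 := Subgroup.index_mul_card (U.subgroupOf (T : Subgroup G))
    have h2 : Nat.card (U.subgroupOf (T : Subgroup G)) = 4 := by
      rw [Nat.card_congr (Subgroup.subgroupOfEquivOfLe hUT).toEquiv]; exact klein_card hU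
    rw [h2, hT] at h1
    omega
  haveI := Subgroup.normal_of_index_eq_two hidx
  exact Subgroup.le_normalizer_of_normal_subgroupOf hUT

theorem card_normalizer_klein (h : Nat.card G = 168) {U : Subgroup G} (hU : IsKleinFour ↥U) :
    Nat.card (Subgroup.normalizer (U : Set G)) = 24 := by
  haveI : Fact (Nat.Prime 2) := ⟨by norm_num⟩
  haveI : Fact (Nat.Prime 7) := ⟨by norm_num⟩
  have hUc := klein_card hU
  have hpg : IsPGroup 2 U := IsPGroup.of_card (n := 2) (by rw [hUc]; norm_num)
  obtain ⟨T, hUT⟩ := hpg.exists_le_sylow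
  have hT := card_sylow_two_subgroup h T
  obtain ⟨a, haT, ha4, hz2, hcen⟩ := sylow_two_central h T
  have hzU := klein_center_mem h T haT ha4 hUT hU
  have hTN := le_normalizer_klein h T hUT hU
  obtain ⟨d, hd⟩ : ∃ d, d = Nat.card (Subgroup.normalizer (U : Set G)) := ⟨_, rfl⟩
  have h8 : 8 ∣ d := by
    rw [hd, ← hT]; exact Subgroup.card_dvd_of_le hTN
  have h168 : d ∣ 168 := by
    rw [hd, ← h]; exact Subgroup.card_subgroup_dvd_card _
  have h7 : ¬ 7 ∣ d := by
    intro h7
    rw [hd] at h7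
    obtain ⟨s', hs'⟩ :=
      exists_prime_orderOf_dvd_card' (G := ↥(Subgroup.normalizer (U : Set G))) 7 h7
    have hs7 : orderOf (s' : G) = 7 := by rw [Subgroup.orderOf_coe]; exact hs'
    obtain ⟨σ, hσ⟩ : ∃ σ : Equiv.Perm ↥U, σ = MulAut.toPerm ↥U (U.normalizerMonoidHom s') :=
      ⟨_, rfl⟩
    have hσ7 : σ ^ 7 = 1 := by
      rw [hσ, ← map_pow, ← map_pow, ← hs', pow_orderOf_eq_one, map_one, map_one]
    have hσ24 : σ ^ 24 = 1 := by
      have := pow_card_eq_one' (G := Equiv.Perm ↥U) (x := σ)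
      rw [Nat.card_perm, hUc] at this
      exact this
    have hσ1 : σ = 1 := by
      have d1 := orderOf_dvd_of_pow_eq_one hσ7
      have d2 := orderOf_dvd_of_pow_eq_one hσ24
      have := Nat.dvd_gcd d1 d2
      have hg : Nat.gcd 7 24 = 1 := by norm_num
      rw [hg, Nat.dvd_one, orderOf_eq_one_iff] at this
      exact this
    have hfix : σ ⟨a ^ 2, hzU⟩ = ⟨a ^ 2, hzU⟩ := by rw [hσ1]; rfl
    have hfix' : (s' : G) * a ^ 2 * (s' : G)⁻¹ = a ^ 2 := by
      have := congrArg Subtype.val hfix
      rw [hσ] at this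
      exact this
    have hcomm : a ^ 2 * (s' : G) = (s' : G) * a ^ 2 := by
      have e : (s' : G) * a ^ 2 = ((s' : G) * a ^ 2 * (s' : G)⁻¹) * (s' : G) := by group
      rw [e, hfix']
    exact not_commute_seven h hs7 (dvd_of_eq hz2.symm) hcomm
  have hne168 : d ≠ 168 := by
    intro h168'
    have htop : Subgroup.normalizer (U : Set G) = ⊤ := by
      apply Subgroup.eq_top_of_card_eq
      rw [← hd, h168', h]
    have hn : U.Normal := Subgroup.normalizer_eq_top_iff.mp htop
    rcases hn.eq_bot_or_eq_top with hb | ht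
    · rw [hb, Subgroup.card_bot] at hUc; omega
    · rw [ht, Subgroup.card_top, h] at hUc; omega
  have hne8 : d ≠ 8 := by
    intro h8'
    have hNT : (T : Subgroup G) = Subgroup.normalizer (U : Set G) := by
      apply Subgroup.eq_of_le_of_card_ge hTN
      rw [← hd, h8', hT]
    obtain ⟨u, huU, huA⟩ := klein_exists_not_mem h T ha4 hU
    have hu1 : u ≠ 1 := fun h1 => huA (h1 ▸ Subgroup.one_mem _)
    have hu2 : orderOf u = 2 := klein_orderOf hU huU hu1
    have hCu := card_centralizer_two h hu2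
    have hpg' : IsPGroup 2 (Subgroup.centralizer ({u} : Set G)) :=
      IsPGroup.of_card (n := 3) (by rw [hCu]; norm_num)
    obtain ⟨T', hT'⟩ := hpg'.exists_le_sylow
    have hT'c := card_sylow_two_subgroup h T'
    have hEq : Subgroup.centralizer ({u} : Set G) = (T' : Subgroup G) := by
      apply Subgroup.eq_of_le_of_card_ge hT'
      rw [hT'c, hCu]
    have hUT' : U ≤ (T' : Subgroup G) := by
      rw [← hEq]
      intro v hv
      rw [Subgroup.mem_centralizer_singleton_iff]
      exact klein_comm hU hv huU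
    have hT'N := le_normalizer_klein h T' hUT' hU
    rw [← hNT] at hT'N
    have hTT' : (T' : Subgroup G) = (T : Subgroup G) := by
      apply Subgroup.eq_of_le_of_card_ge hT'N
      rw [hT, hT'c]
    have haC : a ∈ Subgroup.centralizer ({u} : Set G) := by
      rw [hEq, hTT']; exact haT
    have hau : a * u = u * a := Subgroup.mem_centralizer_singleton_iff.mp haC
    have hcl := closure_eq_sylow_two h T haT ha4 (hUT huU) huA
    apply sylow_two_not_comm h T
    rw [← hcl]
    exact closure_pair_comm hau.symm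
  have hle : d ≤ 168 := Nat.le_of_dvd (by norm_num) h168
  rw [← hd]
  clear hd
  interval_cases d <;> omega

theorem klein_not_conj (h : Nat.card G = 168) (T : Sylow 2 G) {U W : Subgroup G}
    (hUT : U ≤ (T : Subgroup G)) (hWT : W ≤ (T : Subgroup G)) (hU : IsKleinFour ↥U)
    (hW : IsKleinFour ↥W) (g : G) (hg : U.map (MulAut.conj g).toMonoidHom = W) : U = W := by
  haveI : Fact (Nat.Prime 2) := ⟨by norm_num⟩
  have hTU := le_normalizer_klein h T hUT hU
  have hTW := le_normalizer_klein h T hWT hW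
  have hgTW : ((g • T : Sylow 2 G) : Subgroup G) ≤ Subgroup.normalizer (W : Set G) := by
    apply le_normalizer_of_forall_conj
    intro y hy w hw
    rw [Sylow.coe_subgroup_smul, Subgroup.mem_pointwise_smul_iff_inv_smul_mem, MulAut.smul_def,
      MulAut.conj_inv_apply] at hy
    rw [← hg] at hw ⊢
    obtain ⟨u, hu, rfl⟩ := Subgroup.mem_map.mp hw
    have hN := hTU hy
    have h1 : (g⁻¹ * y * g) * u * (g⁻¹ * y * g)⁻¹ ∈ U :=
      (Subgroup.mem_normalizer_iff.mp hN u).mp hu
    refine Subgroup.mem_map.mpr ⟨_, h1, ?_⟩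
    simp only [MulEquiv.coe_toMonoidHom, MulAut.conj_apply]
    group
  obtain ⟨n, hnW, hnT⟩ := sylow_conj_in_subgroup T _ g hTW hgTW
  rw [normalizer_sylow_two h T] at hnT
  apply Subgroup.eq_of_le_of_card_ge
  · intro u hu
    have hm := hTU (Subgroup.inv_mem _ hnT)
    have h1 : (n * g)⁻¹ * u * (n * g)⁻¹⁻¹ ∈ U := (Subgroup.mem_normalizer_iff.mp hm u).mp hu
    have h2 : g * ((n * g)⁻¹ * u * (n * g)⁻¹⁻¹) * g⁻¹ ∈ W := by
      rw [← hg]
      exact Subgroup.mem_map.mpr ⟨_, h1, by simp⟩
    have h3 := (Subgroup.mem_normalizer_iff.mp hnW _).mp h2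
    have e : n * (g * ((n * g)⁻¹ * u * (n * g)⁻¹⁻¹) * g⁻¹) * n⁻¹ = u := by group
    rwa [e] at h3
  · rw [klein_card hU, klein_card hW]

end Main

end Cfsg.Agent.Lib.Helper2.Order168
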