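import Mathlib
import Cfsg.Agent.Lib.Helper2.Order168f
import Cfsg.Agent.S1007

/-!
Simple groups of order 168: orders of maximal subgroups (helper2).
-/

set_option autoImplicit false
set_option maxHeartbeats 800000
open scoped Pointwise

namespace Cfsg.Agent.Lib.Helper2.Order168

section General
variable {G : Type*} [Group G] [Finite G]

theorem le_normalizer_of_card_two_mul {P M : Subgroup G} (hPM : P ≤ M)
    (hc : Nat.card M = 2 * Nat.card P) : M ≤ Subgroup.normalizer (P : Set G) := by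
  have hidx : (P.subgroupOf M).index = 2 := by
    have h1 := Subgroup.index_mul_card (P.subgroupOf M)
    have h2 : Nat.card (P.subgroupOf M) = Nat.card P :=
      Nat.card_congr (Subgroup.subgroupOfEquivOfLe hPM).toEquiv
    rw [h2, hc] at h1
    have hpos : 0 < Nat.card P := Nat.card_pos
    exact Nat.eq_of_mul_eq_mul_right hpos h1
  haveI := Subgroup.normal_of_index_eq_two hidx
  exact Subgroup.le_normalizer_of_normal_subgroupOf hPM

theorem card_dvd_factorial_index [IsSimpleGroup G] (M : Subgroup G) (hM : M ≠ ⊤) :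
    Nat.card G ∣ (M.index).factorial := by
  have hker : (MulAction.toPermHom G (G ⧸ M)).ker = ⊥ := by
    rcases (MonoidHom.normal_ker (MulAction.toPermHom G (G ⧸ M))).eq_bot_or_eq_top with hb | ht
    · exact hb
    · exfalso
      apply hM
      rw [← Subgroup.normalCore_eq_ker] at ht
      have := Subgroup.normalCore_le M
      rw [ht] at this
      exact top_le_iff.mp this
  have hinj : Function.Injective (MulAction.toPermHom G (G ⧸ M)) :=
    (MonoidHom.ker_eq_bot_iff _).mp hker
  have hdvd := Subgroup.card_dvd_of_injective _ hinj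
  rwa [Nat.card_perm] at hdvd

theorem comm_of_card_prime {H : Type*} [Group H] [Finite H] {p : ℕ} [Fact p.Prime]
    (hH : Nat.card H = p) (x y : H) : x * y = y * x := by
  haveI := isCyclic_of_prime_card hH
  obtain ⟨g, hg⟩ := IsCyclic.exists_generator (α := H)
  obtain ⟨i, rfl⟩ := Subgroup.mem_zpowers_iff.mp (hg x)
  obtain ⟨j, rfl⟩ := Subgroup.mem_zpowers_iff.mp (hg y)
  exact (((Commute.refl g).zpow_right j).zpow_left i).eq

end General

section Main
variable {G : Type*} [Group G] [Finite G] [IsSimpleGroup G]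

theorem card_le_24_of_ne_top (h : Nat.card G = 168) (M : Subgroup G) (hM : M ≠ ⊤) :
    Nat.card M ≤ 24 := by
  have hfact := card_dvd_factorial_index M hM
  rw [h] at hfact
  have hmul := Subgroup.index_mul_card M
  rw [h] at hmul
  have h7 : 7 ≤ M.index := by
    by_contra hlt
    push_neg at hlt
    generalize M.index = i at *
    interval_cases i <;> revert hfact <;> decide
  by_contra hgt
  push_neg at hgt
  have : 7 * 25 ≤ M.index * Nat.card M := Nat.mul_le_mul h7 hgt
  omega

theorem coatom_contra (h : Nat.card G = 168) {M K : Subgroup G} (hM : IsCoatom M)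
    (hMK : M ≤ K) (hK : Nat.card K ≠ 168) (hne : Nat.card K ≠ Nat.card M) : False := by
  rcases hM.le_iff.mp hMK with ht | he
  · apply hK
    rw [ht, Subgroup.card_top, h]
  · apply hne
    rw [he]

theorem exists_klein_le (h : Nat.card G = 168) (T : Sylow 2 G) :
    ∃ U : Subgroup G, U ≤ (T : Subgroup G) ∧ IsKleinFour ↥U := by
  have h2 := (Cfsg.Agent.S1007.result h T).1
  have hpos : 0 < Nat.card {U : Subgroup G // U ≤ (T : Subgroup G) ∧ IsKleinFour ↥U} := by
    rw [h2]; norm_num
  obtain ⟨⟨U, hU1, hU2⟩⟩ := (Nat.card_pos_iff.mp hpos).1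
  exact ⟨U, hU1, hU2⟩

theorem not_coatom_of_isPGroup_two (h : Nat.card G = 168) {M : Subgroup G} (hM : IsCoatom M)
    (hp : IsPGroup 2 M) : False := by
  haveI : Fact (Nat.Prime 2) := ⟨by norm_num⟩
  obtain ⟨T, hMT⟩ := hp.exists_le_sylow
  have hT := card_sylow_two_subgroup h T
  obtain ⟨U, hUT, hU⟩ := exists_klein_le h T
  have hN := card_normalizer_klein h hU
  have hTN := le_normalizer_klein h T hUT hU
  have hd := Subgroup.card_dvd_of_le hMT
  rw [hT] at hd
  have hle : Nat.card M ≤ 8 := Nat.le_of_dvd (by norm_num) hd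
  apply coatom_contra h hM (hMT.trans hTN)
  · rw [hN]; norm_num
  · rw [hN]; omega

theorem card_normalizer_zpowers_three (h : Nat.card G = 168) {t : G} (ht : orderOf t = 3) :
    Nat.card (Subgroup.normalizer ((Subgroup.zpowers t : Subgroup G) : Set G)) = 6 := by
  haveI : Fact (Nat.Prime 3) := ⟨by norm_num⟩
  have hG3 : Nat.card G = 3 ^ 1 * 56 := by rw [h]; norm_num
  obtain ⟨Q, hQ⟩ := exists_sylow_eq_zpowers hG3 (by norm_num) ht
  have := card_normalizer_of_card_sylow h Q (card_sylow_three h)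
  rw [hQ] at this
  omega

theorem card_normalizer_zpowers_seven (h : Nat.card G = 168) {s : G} (hs : orderOf s = 7) :
    Nat.card (Subgroup.normalizer ((Subgroup.zpowers s : Subgroup G) : Set G)) = 21 := by
  haveI : Fact (Nat.Prime 7) := ⟨by norm_num⟩
  have hG7 : Nat.card G = 7 ^ 1 * 24 := by rw [h]; norm_num
  obtain ⟨Q, hQ⟩ := exists_sylow_eq_zpowers hG7 (by norm_num) hs
  have := card_normalizer_of_card_sylow h Q (card_sylow_seven h)
  rw [hQ] at this
  omega

theorem not_coatom_three (h : Nat.card G = 168) {M : Subgroup G} (hM : IsCoatom M)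
    (hc : Nat.card M = 3) : False := by
  haveI : Fact (Nat.Prime 3) := ⟨by norm_num⟩
  obtain ⟨t', ht'⟩ := exists_prime_orderOf_dvd_card' (G := ↥M) 3 (by rw [hc])
  have ht3 : orderOf (t' : G) = 3 := by rw [Subgroup.orderOf_coe]; exact ht'
  have hEq : Subgroup.zpowers (t' : G) = M := by
    apply Subgroup.eq_of_le_of_card_ge
    · rw [Subgroup.zpowers_le]; exact t'.2
    · rw [hc, Nat.card_zpowers, ht3]
  have hN := card_normalizer_zpowers_three h ht3
  have hle : M ≤ Subgroup.normalizer ((Subgroup.zpowers (t' : G) : Subgroup G) : Set G) := by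
    rw [hEq]; exact Subgroup.le_normalizer
  apply coatom_contra h hM hle
  · rw [hN]; norm_num
  · rw [hN, hc]; norm_num

theorem not_coatom_seven (h : Nat.card G = 168) {M : Subgroup G} (hM : IsCoatom M)
    (hc : Nat.card M = 7) : False := by
  haveI : Fact (Nat.Prime 7) := ⟨by norm_num⟩
  obtain ⟨t', ht'⟩ := exists_prime_orderOf_dvd_card' (G := ↥M) 7 (by rw [hc])
  have ht7 : orderOf (t' : G) = 7 := by rw [Subgroup.orderOf_coe]; exact ht'
  have hEq : Subgroup.zpowers (t' : G) = M := by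
    apply Subgroup.eq_of_le_of_card_ge
    · rw [Subgroup.zpowers_le]; exact t'.2
    · rw [hc, Nat.card_zpowers, ht7]
  have hN := card_normalizer_zpowers_seven h ht7
  have hle : M ≤ Subgroup.normalizer ((Subgroup.zpowers (t' : G) : Subgroup G) : Set G) := by
    rw [hEq]; exact Subgroup.le_normalizer
  apply coatom_contra h hM hle
  · rw [hN]; norm_num
  · rw [hN, hc]; norm_num

theorem card_ne_fourteen (h : Nat.card G = 168) (M : Subgroup G) : Nat.card M ≠ 14 := by
  haveI : Fact (Nat.Prime 7) := ⟨by norm_num⟩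
  intro hc
  obtain ⟨t', ht'⟩ := exists_prime_orderOf_dvd_card' (G := ↥M) 7 (by rw [hc]; norm_num)
  have ht7 : orderOf (t' : G) = 7 := by rw [Subgroup.orderOf_coe]; exact ht'
  have hPM : Subgroup.zpowers (t' : G) ≤ M := by
    rw [Subgroup.zpowers_le]; exact t'.2
  have hle := le_normalizer_of_card_two_mul hPM (by rw [hc, Nat.card_zpowers, ht7])
  have := Subgroup.card_dvd_of_le hle
  rw [hc, card_normalizer_zpowers_seven h ht7] at this
  omega

/-- a subgroup whose Sylow 3-subgroup has order 3 and is normal has order dividing 6 -/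
theorem card_dvd_six_of_card_sylow_three_eq_one (h : Nat.card G = 168) (M : Subgroup G) {m : ℕ}
    (hM3 : Nat.card M = 3 ^ 1 * m) (hm : ¬ 3 ∣ m) (h1 : Nat.card (Sylow 3 ↥M) = 1) :
    Nat.card M ∣ 6 := by
  haveI : Fact (Nat.Prime 3) := ⟨by norm_num⟩
  obtain ⟨P⟩ : Nonempty (Sylow 3 ↥M) := inferInstance
  have hP : Nat.card (P : Subgroup ↥M) = 3 := by
    have := sylow_card (p := 3) (n := 1) (m := m) hM3 hm P
    simpa using this
  have hnorm : (P : Subgroup ↥M).Normal := by
    rw [Sylow.card_eq_index_normalizer P, Subgroup.index_eq_one] at h1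
    exact Subgroup.normalizer_eq_top_iff.mp h1
  obtain ⟨t₀, ht₀P, ht3M⟩ : ∃ t₀ : ↥M, t₀ ∈ (P : Subgroup ↥M) ∧ orderOf t₀ = 3 := by
    obtain ⟨t', ht'⟩ := exists_prime_orderOf_dvd_card' (G := ↥(P : Subgroup ↥M)) 3 (by rw [hP])
    exact ⟨(t' : ↥M), t'.2, by rw [Subgroup.orderOf_coe]; exact ht'⟩
  have ht3 : orderOf (t₀ : G) = 3 := by rw [Subgroup.orderOf_coe]; exact ht3M
  have hPz : (P : Subgroup ↥M) = Subgroup.zpowers t₀ := by
    symm
    apply Subgroup.eq_of_le_of_card_ge
    · rw [Subgroup.zpowers_le]; exact ht₀P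
    · rw [hP, Nat.card_zpowers, ht3M]
  have hMN : M ≤ Subgroup.normalizer ((Subgroup.zpowers (t₀ : G) : Subgroup G) : Set G) := by
    apply le_normalizer_of_forall_conj
    intro m hm w hw
    obtain ⟨i, rfl⟩ := Subgroup.mem_zpowers_iff.mp hw
    have h1 : (⟨m, hm⟩ : ↥M) * t₀ * (⟨m, hm⟩ : ↥M)⁻¹ ∈ (P : Subgroup ↥M) :=
      hnorm.conj_mem _ ht₀P _
    rw [hPz] at h1
    obtain ⟨j, hj⟩ := Subgroup.mem_zpowers_iff.mp h1
    have h2 : m * (t₀ : G) * m⁻¹ = (t₀ : G) ^ j := by
      have := congrArg Subtype.val hj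
      simpa using this.symm
    rw [← conj_zpow, h2, ← zpow_mul]
    exact Subgroup.zpow_mem_zpowers _ _
  have := Subgroup.card_dvd_of_le hMN
  rwa [card_normalizer_zpowers_three h ht3] at this

/-- a subgroup of order 24 contains the normalizer of one of its subgroups of order 3 -/
theorem exists_three_normalizer_le (h : Nat.card G = 168) (S : Subgroup G)
    (hS : Nat.card S = 24) :
    ∃ t₀ : G, orderOf t₀ = 3 ∧
      Subgroup.normalizer ((Subgroup.zpowers t₀ : Subgroup G) : Set G) ≤ S := by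
  haveI : Fact (Nat.Prime 3) := ⟨by norm_num⟩
  have hS3 : Nat.card ↥S = 3 ^ 1 * 8 := by rw [hS]; norm_num
  obtain ⟨P⟩ : Nonempty (Sylow 3 ↥S) := inferInstance
  have hP : Nat.card (P : Subgroup ↥S) = 3 := by
    have := sylow_card (p := 3) (n := 1) (m := 8) hS3 (by norm_num) P
    simpa using this
  have hn1 : Nat.card (Sylow 3 ↥S) ≠ 1 := by
    intro h1
    have := card_dvd_six_of_card_sylow_three_eq_one h S hS3 (by norm_num) h1
    rw [hS] at this
    omega
  have hn4 : Nat.card (Sylow 3 ↥S) = 4 := by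
    have hidx : (P : Subgroup ↥S).index = 8 := by
      have := Subgroup.index_mul_card (P : Subgroup ↥S)
      rw [hP, hS] at this
      omega
    have hdvd := Sylow.card_dvd_index P
    rw [hidx] at hdvd
    have hmod := card_sylow_modEq_one 3 ↥S
    have hle : Nat.card (Sylow 3 ↥S) ≤ 8 := Nat.le_of_dvd (by norm_num) hdvd
    unfold Nat.ModEq at hmod
    generalize Nat.card (Sylow 3 ↥S) = n at *
    interval_cases n <;> omega
  have hN : Nat.card (Subgroup.normalizer ((P : Subgroup ↥S) : Set ↥S)) = 6 := by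
    have h1 : Nat.card (Sylow 3 ↥S) = (Subgroup.normalizer ((P : Subgroup ↥S) : Set ↥S)).index :=
      Sylow.card_eq_index_normalizer P
    have h2 := Subgroup.index_mul_card (Subgroup.normalizer ((P : Subgroup ↥S) : Set ↥S))
    rw [← h1, hn4, hS] at h2
    omega
  obtain ⟨t₀, ht₀P, ht3S⟩ : ∃ t₀ : ↥S, t₀ ∈ (P : Subgroup ↥S) ∧ orderOf t₀ = 3 := by
    obtain ⟨t', ht'⟩ := exists_prime_orderOf_dvd_card' (G := ↥(P : Subgroup ↥S)) 3 (by rw [hP])
    exact ⟨(t' : ↥S), t'.2, by rw [Subgroup.orderOf_coe]; exact ht'⟩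
  have ht3 : orderOf (t₀ : G) = 3 := by rw [Subgroup.orderOf_coe]; exact ht3S
  have hPz : (P : Subgroup ↥S) = Subgroup.zpowers t₀ := by
    symm
    apply Subgroup.eq_of_le_of_card_ge
    · rw [Subgroup.zpowers_le]; exact ht₀P
    · rw [hP, Nat.card_zpowers, ht3S]
  refine ⟨(t₀ : G), ht3, ?_⟩
  have h1 := Subgroup.le_normalizer_map (H := (P : Subgroup ↥S)) S.subtype
  rw [hPz, MonoidHom.map_zpowers] at h1
  have h2 : Nat.card ((Subgroup.normalizer ((Subgroup.zpowers t₀ : Subgroup ↥S) : Set ↥S)).map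
      S.subtype) = 6 := by
    rw [Subgroup.card_map_of_injective (Subgroup.subtype_injective S), ← hPz, hN]
  have h3 : (Subgroup.normalizer ((Subgroup.zpowers t₀ : Subgroup ↥S) : Set ↥S)).map S.subtype =
      Subgroup.normalizer ((Subgroup.zpowers (t₀ : G) : Subgroup G) : Set G) := by
    apply Subgroup.eq_of_le_of_card_ge h1
    rw [h2]
    exact le_of_eq (card_normalizer_zpowers_three h ht3)
  rw [← h3]
  exact Subgroup.map_subtype_le _

/-- the normalizer of any subgroup of order 3 lies in a subgroup of order 24 -/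
theorem exists_card_24_ge_normalizer_three (h : Nat.card G = 168) {t : G} (ht : orderOf t = 3) :
    ∃ S : Subgroup G, Nat.card S = 24 ∧
      Subgroup.normalizer ((Subgroup.zpowers t : Subgroup G) : Set G) ≤ S := by
  haveI : Fact (Nat.Prime 3) := ⟨by norm_num⟩
  haveI : Fact (Nat.Prime 2) := ⟨by norm_num⟩
  obtain ⟨T⟩ : Nonempty (Sylow 2 G) := inferInstance
  obtain ⟨U, hUT, hU⟩ := exists_klein_le h T
  have hS0 := card_normalizer_klein h hU
  obtain ⟨t₀, ht₀, hle⟩ := exists_three_normalizer_le h _ hS0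
  have hG3 : Nat.card G = 3 ^ 1 * 56 := by rw [h]; norm_num
  obtain ⟨P₀, hP₀⟩ := exists_sylow_eq_zpowers hG3 (by norm_num) ht₀
  obtain ⟨P, hP⟩ := exists_sylow_eq_zpowers hG3 (by norm_num) ht
  obtain ⟨g, hg⟩ := MulAction.exists_smul_eq G P₀ P
  have hmem : g * t₀ * g⁻¹ ∈ Subgroup.zpowers t := by
    rw [← hP, ← hg, Sylow.coe_subgroup_smul]
    exact Subgroup.smul_mem_pointwise_smul _ (MulAut.conj g) (P₀ : Subgroup G)
      (by rw [hP₀]; exact Subgroup.mem_zpowers t₀)
  have hz : Subgroup.zpowers (g * t₀ * g⁻¹) = Subgroup.zpowers t := by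
    apply Subgroup.eq_of_le_of_card_ge
    · rw [Subgroup.zpowers_le]; exact hmem
    · rw [Nat.card_zpowers, Nat.card_zpowers, orderOf_conj_mul, ht, ht₀]
  refine ⟨(Subgroup.normalizer (U : Set G)).map (MulAut.conj g).toMonoidHom, ?_, ?_⟩
  · rw [Subgroup.card_map_of_injective (MulAut.conj g).injective, hS0]
  · have h1 := Subgroup.map_equiv_normalizer_eq (Subgroup.zpowers t₀) (MulAut.conj g)
    rw [MonoidHom.map_zpowers] at h1
    have h2 : (MulAut.conj g).toMonoidHom t₀ = g * t₀ * g⁻¹ := by simp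
    rw [h2, hz] at h1
    rw [← h1]
    exact Subgroup.map_mono hle

theorem not_coatom_six (h : Nat.card G = 168) {M : Subgroup G} (hM : IsCoatom M)
    (hc : Nat.card M = 6) : False := by
  haveI : Fact (Nat.Prime 3) := ⟨by norm_num⟩
  obtain ⟨t', ht'⟩ := exists_prime_orderOf_dvd_card' (G := ↥M) 3 (by rw [hc]; norm_num)
  have ht3 : orderOf (t' : G) = 3 := by rw [Subgroup.orderOf_coe]; exact ht'
  have hPM : Subgroup.zpowers (t' : G) ≤ M := by
    rw [Subgroup.zpowers_le]; exact t'.2
  have hle := le_normalizer_of_card_two_mul hPM (by rw [hc, Nat.card_zpowers, ht3])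
  obtain ⟨S, hS, hNS⟩ := exists_card_24_ge_normalizer_three h ht3
  apply coatom_contra h hM (hle.trans hNS)
  · rw [hS]; norm_num
  · rw [hS, hc]; norm_num

theorem not_comm_of_card_21 (h : Nat.card G = 168) (M : Subgroup G) (hc : Nat.card M = 21) :
    ¬ IsMulCommutative ↥M := by
  haveI : Fact (Nat.Prime 3) := ⟨by norm_num⟩
  haveI : Fact (Nat.Prime 7) := ⟨by norm_num⟩
  intro hcomm
  obtain ⟨t', ht'⟩ := exists_prime_orderOf_dvd_card' (G := ↥M) 3 (by rw [hc]; norm_num)
  obtain ⟨s', hs'⟩ := exists_prime_orderOf_dvd_card' (G := ↥M) 7 (by rw [hc]; norm_num)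
  have ht3 : orderOf (t' : G) = 3 := by rw [Subgroup.orderOf_coe]; exact ht'
  have hs7 : orderOf (s' : G) = 7 := by rw [Subgroup.orderOf_coe]; exact hs'
  have hc' : t' * s' = s' * t' := hcomm.is_comm.comm t' s'
  have hc'' := congrArg Subtype.val hc'
  exact not_commute_three_seven h hs7 ht3 (by simpa using hc'')

end Main

end Cfsg.Agent.Lib.Helper2.Order168
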