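import Mathlib
import Cfsg.Agent.Lib.Helper2.Order168

/-!
# Simple groups of order `p (p^2 - 1) / 2` with `p + 1` Sylow `p`-subgroups: normal form

The conjugation action on the `p + 1` Sylow `p`-subgroups is labelled by `Option (ZMod p)` so
that an element `s` of order `p` is `z ↦ z + 1`, an element `t` of the normaliser fixing a second
point is `z ↦ k z`, and an element `u` interchanging the two points satisfies the Bruhat
relations (helper2).
-/

set_option autoImplicit false
set_option maxHeartbeats 1000000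

namespace Cfsg.Agent.Lib.Helper2.Zass

open Cfsg.Agent.Lib.Helper2.Order168 (sylow_card exists_sylow_eq_zpowers)

section General
variable {G : Type*} [Group G]

theorem exists_pow_lt_of_mem_zpowers [Finite G] {x y : G} (hy : y ∈ Subgroup.zpowers x) :
    ∃ k : ℕ, k < orderOf x ∧ x ^ k = y := by
  classical
  rw [mem_zpowers_iff_mem_range_orderOf] at hy
  obtain ⟨k, hk, hky⟩ := Finset.mem_image.1 hy
  exact ⟨k, Finset.mem_range.1 hk, hky⟩

theorem conj_iter {h s : G} {j : ℕ} (hj : h * s * h⁻¹ = s ^ j) (n : ℕ) :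
    h ^ n * s * (h ^ n)⁻¹ = s ^ (j ^ n) := by
  induction n with
  | zero => simp
  | succ n ih =>
    have e1 : h ^ (n + 1) * s * (h ^ (n + 1))⁻¹ = h * (h ^ n * s * (h ^ n)⁻¹) * h⁻¹ := by
      rw [pow_succ', mul_inv_rev]
      simp only [mul_assoc]
    rw [e1, ih, ← conj_pow, hj, ← pow_mul, pow_succ, mul_comm]

end General

section Label
variable {G : Type*} [Group G] [Finite G] {p : ℕ} [hp : Fact p.Prime]

/-- the labelling of the Sylow subgroups -/
def lab (s : G) (P₀ x₀ : Sylow p G) : Option (ZMod p) → Sylow p G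
  | none => P₀
  | some i => s ^ i.val • x₀

theorem eq_of_smul_eq {s : G} (P₀ : Sylow p G) (hP₀ : (P₀ : Subgroup G) = Subgroup.zpowers s)
    (Q : Sylow p G) (hQ : s • Q = Q) : Q = P₀ := by
  have hpg : IsPGroup p (Subgroup.zpowers s) := by
    rw [← hP₀]
    exact P₀.isPGroup'
  have hfix : Q ∈ MulAction.fixedPoints (↥(Subgroup.zpowers s)) (Sylow p G) := by
    rintro ⟨h, hh⟩
    have h1 : Subgroup.zpowers s ≤ MulAction.stabilizer G Q :=
      Subgroup.zpowers_le.2 (MulAction.mem_stabilizer_iff.2 hQ)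
    exact MulAction.mem_stabilizer_iff.1 (h1 hh)
  have hle : Subgroup.zpowers s ≤ (Q : Subgroup G) :=
    (IsPGroup.sylow_mem_fixedPoints_iff hpg).1 hfix
  symm
  apply Sylow.ext
  rw [hP₀]
  apply Subgroup.eq_of_le_of_card_ge hle
  rw [← hP₀, P₀.card_eq_multiplicity, Q.card_eq_multiplicity]

theorem pow_mod_p {s : G} (hs : orderOf s = p) (n : ℕ) : s ^ (n % p) = s ^ n := by
  have := pow_mod_orderOf s n
  rwa [hs] at this

theorem pow_val_natCast {s : G} (hs : orderOf s = p) (n : ℕ) :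
    s ^ ((n : ZMod p)).val = s ^ n := by
  rw [ZMod.val_natCast, pow_mod_p hs]

theorem pow_val_add {s : G} (hs : orderOf s = p) (i j : ZMod p) :
    s ^ (i + j).val = s ^ i.val * s ^ j.val := by
  haveI : NeZero p := ⟨hp.out.ne_zero⟩
  rw [ZMod.val_add, pow_mod_p hs, pow_add]

theorem pow_val_mul {s : G} (hs : orderOf s = p) (i j : ZMod p) :
    s ^ (i * j).val = (s ^ i.val) ^ j.val := by
  rw [ZMod.val_mul, pow_mod_p hs, pow_mul]

theorem pow_val_eq_one {s : G} (hs : orderOf s = p) (i : ZMod p) (h : s ^ i.val = 1) : i = 0 := by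
  haveI : NeZero p := ⟨hp.out.ne_zero⟩
  have h1 := orderOf_dvd_of_pow_eq_one h
  rw [hs] at h1
  have h2 : i.val < p := ZMod.val_lt i
  have h3 : i.val = 0 := Nat.eq_zero_of_dvd_of_lt h1 h2
  exact (ZMod.val_eq_zero i).1 h3

/-- a nontrivial power of `s` moves every point other than `P₀` -/
theorem smul_ne_of_ne {s : G} (hs : orderOf s = p) (P₀ : Sylow p G)
    (hP₀ : (P₀ : Subgroup G) = Subgroup.zpowers s) (x : Sylow p G) (hx : x ≠ P₀) (i : ZMod p)
    (hi : i ≠ 0) : s ^ i.val • x ≠ x := by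
  haveI : NeZero p := ⟨hp.out.ne_zero⟩
  intro h
  apply hx
  apply eq_of_smul_eq P₀ hP₀
  -- `s` is a power of `s ^ i.val`
  have hcop : Nat.Coprime p i.val := by
    rw [Nat.Prime.coprime_iff_not_dvd hp.out]
    intro hd
    have h2 : i.val < p := ZMod.val_lt i
    have h3 : i.val = 0 := Nat.eq_zero_of_dvd_of_lt hd h2
    exact hi ((ZMod.val_eq_zero i).1 h3)
  obtain ⟨n, hn⟩ : ∃ n : ℕ, (s ^ i.val) ^ n = s := by
    have h1 : s ∈ Subgroup.zpowers (s ^ i.val) := by
      have h2 : orderOf (s ^ i.val) = orderOf s := Nat.Coprime.orderOf_pow (by rw [hs]; exact hcop)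
      have h3 : Subgroup.zpowers (s ^ i.val) = Subgroup.zpowers s := by
        apply Subgroup.eq_of_le_of_card_ge
        · rw [Subgroup.zpowers_le]
          exact Subgroup.npow_mem_zpowers s _
        · rw [Nat.card_zpowers, Nat.card_zpowers, h2]
      rw [h3]
      exact Subgroup.mem_zpowers s
    obtain ⟨n, -, hn⟩ := exists_pow_lt_of_mem_zpowers h1
    exact ⟨n, hn⟩
  have h4 : ∀ n : ℕ, (s ^ i.val) ^ n • x = x := by
    intro n
    induction n with
    | zero => simp
    | succ n ih => rw [pow_succ, mul_smul, h, ih]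
  rw [← hn]
  exact h4 n

theorem lab_injective {s : G} (hs : orderOf s = p) (P₀ : Sylow p G)
    (hP₀ : (P₀ : Subgroup G) = Subgroup.zpowers s) (x₀ : Sylow p G) (hx₀ : x₀ ≠ P₀) :
    Function.Injective (lab s P₀ x₀) := by
  haveI : NeZero p := ⟨hp.out.ne_zero⟩
  have hsP : ∀ n : ℕ, s ^ n • P₀ = P₀ := by
    intro n
    rw [Sylow.smul_eq_iff_mem_normalizer]
    apply Subgroup.le_normalizer
    rw [hP₀]
    exact Subgroup.npow_mem_zpowers s n
  intro a b hab
  rcases a with _ | i <;> rcases b with _ | j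
  · rfl
  · exfalso
    have h1 : P₀ = s ^ j.val • x₀ := hab
    apply hx₀
    have h2 : (s ^ j.val)⁻¹ • P₀ = x₀ := by rw [h1, inv_smul_smul]
    rw [← h2, inv_smul_eq_iff, hsP]
  · exfalso
    have h1 : s ^ i.val • x₀ = P₀ := hab
    apply hx₀
    have h2 : (s ^ i.val)⁻¹ • P₀ = x₀ := by rw [← h1, inv_smul_smul]
    rw [← h2, inv_smul_eq_iff, hsP]
  · have h1 : s ^ i.val • x₀ = s ^ j.val • x₀ := hab
    by_contra hne
    have hne' : i - j ≠ 0 := fun h => hne (by rw [sub_eq_zero.1 h])
    apply smul_ne_of_ne hs P₀ hP₀ x₀ hx₀ (i - j) hne'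
    have e1 : s ^ i.val = s ^ j.val * s ^ (i - j).val := by
      rw [← pow_val_add hs]
      congr 2
      ring
    rw [e1, mul_smul] at h1
    exact smul_left_cancel _ h1

theorem lab_bijective {s : G} (hs : orderOf s = p) (P₀ : Sylow p G)
    (hP₀ : (P₀ : Subgroup G) = Subgroup.zpowers s) (x₀ : Sylow p G) (hx₀ : x₀ ≠ P₀)
    (hn : Nat.card (Sylow p G) = p + 1) : Function.Bijective (lab s P₀ x₀) := by
  haveI : NeZero p := ⟨hp.out.ne_zero⟩
  apply (lab_injective hs P₀ hP₀ x₀ hx₀).bijective_of_nat_card_le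
  rw [hn, Nat.card_eq_fintype_card, Fintype.card_option, ZMod.card]

end Label

section Main
variable {G : Type*} [Group G] [Finite G] [IsSimpleGroup G] {p : ℕ} [hp : Fact p.Prime]

theorem faithful (hn : 1 < Nat.card (Sylow p G)) (g : G)
    (hg : ∀ x : Sylow p G, g • x = x) : g = 1 := by
  have hker : (MulAction.toPermHom G (Sylow p G)).ker = ⊥ := by
    rcases (MonoidHom.normal_ker (MulAction.toPermHom G (Sylow p G))).eq_bot_or_eq_top with h | h
    · exact h
    · exfalso
      have hall : ∀ (a : G) (x : Sylow p G), a • x = x := by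
        intro a x
        have ha : a ∈ (MulAction.toPermHom G (Sylow p G)).ker := by rw [h]; trivial
        rw [MonoidHom.mem_ker] at ha
        have := congrArg (fun f : Equiv.Perm (Sylow p G) => f x) ha
        exact this
      haveI : Subsingleton (Sylow p G) := by
        refine ⟨fun a b => ?_⟩
        obtain ⟨c, hc⟩ := MulAction.exists_smul_eq G a b
        rw [← hc, hall]
      obtain ⟨x⟩ : Nonempty (Sylow p G) := inferInstance
      rw [Nat.card_of_subsingleton x] at hn
      omega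
  have hmem : g ∈ (MulAction.toPermHom G (Sylow p G)).ker := by
    rw [MonoidHom.mem_ker]
    apply Equiv.ext
    intro x
    exact hg x
  rw [hker, Subgroup.mem_bot] at hmem
  exact hmem

theorem exists_rep (m : ℕ) (hpm : p = 2 * m + 1) (hm2 : 2 ≤ m)
    (hG : Nat.card G = (p + 1) * p * m) (hn : Nat.card (Sylow p G) = p + 1)
    (k : ZMod p) (hk : orderOf k = m) :
    ∃ (φ : G →* Equiv.Perm (Option (ZMod p))) (s t u : G),
      Function.Injective φ ∧ Subgroup.closure ({s, t, u} : Set G) = ⊤ ∧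
      (∀ z, φ s z = Option.map (fun x => x + 1) z) ∧
      (∀ z, φ t z = Option.map (fun x => k * x) z) ∧
      φ u none = some 0 ∧ φ u (some 0) = none ∧
      (∃ μ : ℕ, u * t = t ^ μ * u) ∧ (∃ j : ℕ, u * u = t ^ j) ∧
      (∃ b e j : ℕ, u * s * u = s ^ b * u * (s ^ e * t ^ j)) := by
  classical
  haveI : NeZero p := ⟨hp.out.ne_zero⟩
  haveI : Fact (1 < p) := ⟨hp.out.one_lt⟩
  have hm0 : 0 < m := by omega
  -- `s` and `P₀`
  have hG' : Nat.card G = p ^ 1 * ((p + 1) * m) := by rw [hG]; ring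
  have hndvd : ¬ p ∣ (p + 1) * m := by
    rw [Nat.Prime.dvd_mul hp.out]
    rintro (h | h)
    · have h1 : p ∣ 1 := (Nat.dvd_add_right (dvd_refl p)).1 h
      exact hp.out.one_lt.ne' (Nat.dvd_one.1 h1)
    · have := Nat.le_of_dvd hm0 h
      omega
  obtain ⟨s, hs⟩ := exists_prime_orderOf_dvd_card' (G := G) p
    (by rw [hG]; exact dvd_mul_of_dvd_left (dvd_mul_left p (p + 1)) m)
  obtain ⟨P₀, hP₀⟩ := exists_sylow_eq_zpowers hG' hndvd hs
  obtain ⟨x₀, hx₀⟩ : ∃ x₀ : Sylow p G, x₀ ≠ P₀ := by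
    by_contra hcon
    push Not at hcon
    haveI : Subsingleton (Sylow p G) := ⟨fun a b => (hcon a).trans (hcon b).symm⟩
    rw [Nat.card_of_subsingleton P₀] at hn
    omega
  have hbij := lab_bijective hs P₀ hP₀ x₀ hx₀ hn
  have hfaith : ∀ g : G, (∀ x : Sylow p G, g • x = x) → g = 1 := faithful (by omega)
  have hsP : ∀ n : ℕ, s ^ n • P₀ = P₀ := by
    intro n
    rw [Sylow.smul_eq_iff_mem_normalizer]
    apply Subgroup.le_normalizer
    rw [hP₀]
    exact Subgroup.npow_mem_zpowers s n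
  have hsurj : ∀ x : Sylow p G, x ≠ P₀ → ∃ i : ZMod p, s ^ i.val • x₀ = x := by
    intro x hx
    obtain ⟨a, ha⟩ := hbij.2 x
    rcases a with _ | i
    · exact absurd ha.symm hx
    · exact ⟨i, ha⟩
  have hlabinj : ∀ i j : ZMod p, s ^ i.val • x₀ = s ^ j.val • x₀ → i = j := by
    intro i j hij
    have := hbij.1 (a₁ := some i) (a₂ := some j) hij
    exact Option.some.inj this
  -- the two stabilizers
  have hNcard : Nat.card (MulAction.stabilizer G P₀) = p * m := by
    have h2 := (MulAction.stabilizer G P₀).card_mul_index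
    have h1 : (MulAction.stabilizer G P₀).index = p + 1 := by
      rw [MulAction.index_stabilizer_of_transitive, hn]
    rw [h1, hG] at h2
    have h3 : Nat.card (MulAction.stabilizer G P₀) * (p + 1)
        = (p * m) * (p + 1) := by rw [h2]; ring
    exact Nat.eq_of_mul_eq_mul_right (Nat.succ_pos p) h3
  have hT₁card : Nat.card ↥(MulAction.stabilizer G P₀ ⊓ MulAction.stabilizer G x₀) = m := by
    have hgmem : ∀ x : ZMod p × ↥(MulAction.stabilizer G P₀ ⊓ MulAction.stabilizer G x₀),
        s ^ x.1.val * (x.2 : G) ∈ MulAction.stabilizer G P₀ := by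
      intro x
      rw [MulAction.mem_stabilizer_iff, mul_smul, MulAction.mem_stabilizer_iff.1 x.2.2.1, hsP]
    have hgbij : Function.Bijective
        (fun x : ZMod p × ↥(MulAction.stabilizer G P₀ ⊓ MulAction.stabilizer G x₀) =>
          (⟨s ^ x.1.val * (x.2 : G), hgmem x⟩ : MulAction.stabilizer G P₀)) := by
      constructor
      · rintro ⟨i, h⟩ ⟨j, h'⟩ hij
        have h1 : s ^ i.val * (h : G) = s ^ j.val * (h' : G) := congrArg Subtype.val hij
        have h2 : s ^ i.val • x₀ = s ^ j.val • x₀ := by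
          have e1 : (s ^ i.val * (h : G)) • x₀ = s ^ i.val • x₀ := by
            rw [mul_smul, MulAction.mem_stabilizer_iff.1 h.2.2]
          have e2 : (s ^ j.val * (h' : G)) • x₀ = s ^ j.val • x₀ := by
            rw [mul_smul, MulAction.mem_stabilizer_iff.1 h'.2.2]
          rw [← e1, ← e2, h1]
        have h3 : i = j := hlabinj i j h2
        subst h3
        have h4 : (h : G) = (h' : G) := mul_left_cancel h1
        rw [Subtype.ext h4]
      · rintro ⟨n, hnN⟩
        have hnP : n • P₀ = P₀ := MulAction.mem_stabilizer_iff.1 hnN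
        have hne : n • x₀ ≠ P₀ := by
          intro h
          apply hx₀
          have : n • x₀ = n • P₀ := by rw [h, hnP]
          exact smul_left_cancel _ this
        obtain ⟨i, hi⟩ := hsurj _ hne
        have hh : (s ^ i.val)⁻¹ * n ∈ MulAction.stabilizer G P₀ ⊓ MulAction.stabilizer G x₀ := by
          have hh1 : (s ^ i.val)⁻¹ * n ∈ MulAction.stabilizer G P₀ := by
            rw [MulAction.mem_stabilizer_iff, mul_smul, hnP, inv_smul_eq_iff, hsP]
          have hh2 : (s ^ i.val)⁻¹ * n ∈ MulAction.stabilizer G x₀ := by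
            rw [MulAction.mem_stabilizer_iff, mul_smul, ← hi, inv_smul_smul]
          exact ⟨hh1, hh2⟩
        refine ⟨(i, ⟨(s ^ i.val)⁻¹ * n, hh⟩), ?_⟩
        apply Subtype.ext
        show s ^ i.val * ((s ^ i.val)⁻¹ * n) = n
        rw [mul_inv_cancel_left]
    have h1 := Nat.card_congr (Equiv.ofBijective _ hgbij)
    rw [Nat.card_prod, Nat.card_zmod, hNcard] at h1
    exact Nat.eq_of_mul_eq_mul_left hp.out.pos h1
  -- conjugation exponents on the two-point stabilizer
  have hconj : ∀ h : ↥(MulAction.stabilizer G P₀ ⊓ MulAction.stabilizer G x₀),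
      ∃ j : ℕ, j < p ∧ s ^ j = (h : G) * s * (h : G)⁻¹ := by
    intro h
    have h1 : (h : G) ∈ Subgroup.normalizer ((P₀ : Subgroup G) : Set G) := by
      have h0 : (h : G) • P₀ = P₀ := MulAction.mem_stabilizer_iff.1 h.2.1
      exact Sylow.smul_eq_iff_mem_normalizer.1 h0
    have h2 : (h : G) * s * (h : G)⁻¹ ∈ (P₀ : Subgroup G) :=
      (Subgroup.mem_normalizer_iff.1 h1 s).1 (by rw [hP₀]; exact Subgroup.mem_zpowers s)
    rw [hP₀] at h2
    obtain ⟨j, hj, hjs⟩ := exists_pow_lt_of_mem_zpowers h2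
    rw [hs] at hj
    exact ⟨j, hj, hjs⟩
  choose ej hej1 hej2 using hconj
  have hTpow : ∀ h : ↥(MulAction.stabilizer G P₀ ⊓ MulAction.stabilizer G x₀), (h : G) ^ m = 1 := by
    intro h
    have h1 : h ^ m = 1 := by
      rw [← hT₁card]
      exact pow_card_eq_one'
    have h2 := congrArg Subtype.val h1
    rwa [Subgroup.coe_pow] at h2
  have hcommfix : ∀ g : G, g • P₀ = P₀ → g • x₀ = x₀ → g * s = s * g → g = 1 := by
    intro g hgP hgx hgs
    apply hfaith
    intro x
    by_cases hx : x = P₀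
    · rw [hx, hgP]
    · obtain ⟨i, hi⟩ := hsurj x hx
      have hcomm : ∀ n : ℕ, g * s ^ n = s ^ n * g := by
        intro n
        induction n with
        | zero => simp
        | succ n ih => rw [pow_succ, ← mul_assoc, ih, mul_assoc, hgs, ← mul_assoc]
      rw [← hi, ← mul_smul, hcomm, mul_smul, hgx]
  have hpowk : ∀ (g : G) (j n : ℕ), g * s * g⁻¹ = s ^ j → g ^ n = 1 → ((j : ZMod p)) ^ n = 1 := by
    intro g j n hj hgn
    have h1 := conj_iter hj n
    rw [hgn, one_mul, inv_one, mul_one] at h1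
    have h2 : s ^ 1 = s ^ (j ^ n) := by rw [pow_one]; exact h1
    have h3 := pow_eq_pow_iff_modEq.1 h2
    rw [hs] at h3
    have h4 := (ZMod.natCast_eq_natCast_iff (j ^ n) 1 p).2 h3.symm
    push_cast at h4
    exact h4
  have he_pow : ∀ h, ((ej h : ZMod p)) ^ m = 1 := fun h =>
    hpowk (h : G) (ej h) m (hej2 h).symm (hTpow h)
  have he_inj : Function.Injective (fun h => (ej h : ZMod p)) := by
    intro h h' hh
    have h1 : ej h = ej h' := by
      have h2 := congrArg ZMod.val hh
      simp only at h2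
      rwa [ZMod.val_natCast_of_lt (hej1 h), ZMod.val_natCast_of_lt (hej1 h')] at h2
    have h3 : (h : G) * s * (h : G)⁻¹ = (h' : G) * s * (h' : G)⁻¹ := by
      rw [← hej2 h, ← hej2 h', h1]
    have h4 : (h' : G)⁻¹ * (h : G) = 1 := by
      apply hcommfix
      · rw [mul_smul, MulAction.mem_stabilizer_iff.1 h.2.1, inv_smul_eq_iff,
          MulAction.mem_stabilizer_iff.1 h'.2.1]
      · rw [mul_smul, MulAction.mem_stabilizer_iff.1 h.2.2, inv_smul_eq_iff,
          MulAction.mem_stabilizer_iff.1 h'.2.2]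
      · calc (h' : G)⁻¹ * (h : G) * s
            = (h' : G)⁻¹ * ((h : G) * s * (h : G)⁻¹) * (h : G) := by group
          _ = (h' : G)⁻¹ * ((h' : G) * s * (h' : G)⁻¹) * (h : G) := by rw [h3]
          _ = s * ((h' : G)⁻¹ * (h : G)) := by group
    apply Subtype.ext
    exact (inv_mul_eq_one.1 h4).symm
  -- an element with exponent `k`
  obtain ⟨t, ht⟩ : ∃ t : ↥(MulAction.stabilizer G P₀ ⊓ MulAction.stabilizer G x₀),
      (ej t : ZMod p) = k := by
    haveI : Fintype ↥(MulAction.stabilizer G P₀ ⊓ MulAction.stabilizer G x₀) :=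
      Fintype.ofFinite _
    have hsub : Finset.univ.image (fun h => (ej h : ZMod p))
        ⊆ (Polynomial.nthRoots m (1 : ZMod p)).toFinset := by
      intro x hx
      obtain ⟨h, -, rfl⟩ := Finset.mem_image.1 hx
      rw [Multiset.mem_toFinset, Polynomial.mem_nthRoots hm0]
      exact he_pow h
    have hcard1 : (Finset.univ.image (fun h => (ej h : ZMod p))).card = m := by
      rw [Finset.card_image_of_injective _ he_inj, Finset.card_univ, ← Nat.card_eq_fintype_card,
        hT₁card]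
    have hcard2 : (Polynomial.nthRoots m (1 : ZMod p)).toFinset.card ≤ m :=
      (Multiset.toFinset_card_le _).trans (Polynomial.card_nthRoots m 1)
    have heq := Finset.eq_of_subset_of_card_le hsub (by rw [hcard1]; exact hcard2)
    have hkmem : k ∈ (Polynomial.nthRoots m (1 : ZMod p)).toFinset := by
      rw [Multiset.mem_toFinset, Polynomial.mem_nthRoots hm0, ← hk]
      exact pow_orderOf_eq_one k
    rw [← heq] at hkmem
    obtain ⟨t, -, ht⟩ := Finset.mem_image.1 hkmem
    exact ⟨t, ht⟩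
  have htP : (t : G) • P₀ = P₀ := MulAction.mem_stabilizer_iff.1 t.2.1
  have htx : (t : G) • x₀ = x₀ := MulAction.mem_stabilizer_iff.1 t.2.2
  have hkval : k.val = ej t := by
    rw [← ht, ZMod.val_natCast_of_lt (hej1 t)]
  have hts : (t : G) * s * (t : G)⁻¹ = s ^ k.val := by rw [hkval]; exact (hej2 t).symm
  -- the order of `t`
  have hot : orderOf (t : G) = m := by
    apply Nat.dvd_antisymm
    · exact orderOf_dvd_of_pow_eq_one (hTpow t)
    · rw [← hk]
      apply orderOf_dvd_of_pow_eq_one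
      have := hpowk (t : G) k.val (orderOf (t : G)) hts (pow_orderOf_eq_one _)
      rwa [ZMod.natCast_zmod_val] at this
  have hzp : Subgroup.zpowers (t : G) = MulAction.stabilizer G P₀ ⊓ MulAction.stabilizer G x₀ := by
    apply Subgroup.eq_of_le_of_card_ge
    · rw [Subgroup.zpowers_le]
      exact t.2
    · rw [Nat.card_zpowers, hot, hT₁card]
  have hfix2 : ∀ g : G, g • P₀ = P₀ → g • x₀ = x₀ → ∃ j : ℕ, g = (t : G) ^ j := by
    intro g hgP hgx
    have h1 : g ∈ Subgroup.zpowers (t : G) := by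
      rw [hzp]
      exact ⟨MulAction.mem_stabilizer_iff.2 hgP, MulAction.mem_stabilizer_iff.2 hgx⟩
    obtain ⟨j, -, hj⟩ := exists_pow_lt_of_mem_zpowers h1
    exact ⟨j, hj.symm⟩
  have hNdecomp : ∀ n : G, n • P₀ = P₀ → ∃ (e : ZMod p) (j : ℕ), n = s ^ e.val * (t : G) ^ j := by
    intro n hnP
    have hne : n • x₀ ≠ P₀ := by
      intro h
      apply hx₀
      have : n • x₀ = n • P₀ := by rw [h, hnP]
      exact smul_left_cancel _ this
    obtain ⟨e, he⟩ := hsurj _ hne
    obtain ⟨j, hj⟩ := hfix2 ((s ^ e.val)⁻¹ * n)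
      (by rw [mul_smul, hnP, inv_smul_eq_iff, hsP])
      (by rw [mul_smul, ← he, inv_smul_smul])
    exact ⟨e, j, by rw [← hj, mul_inv_cancel_left]⟩
  -- the element `u`
  obtain ⟨g₀, hg₀⟩ := MulAction.exists_smul_eq G P₀ x₀
  have hy : g₀⁻¹ • P₀ ≠ P₀ := by
    intro h
    apply hx₀
    rw [← hg₀]
    rw [inv_smul_eq_iff] at h
    exact h.symm
  obtain ⟨i₀, hi₀⟩ := hsurj _ hy
  have huP : (g₀ * s ^ i₀.val) • P₀ = x₀ := by rw [mul_smul, hsP, hg₀]
  have hux : (g₀ * s ^ i₀.val) • x₀ = P₀ := by rw [mul_smul, hi₀, smul_inv_smul]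
  generalize g₀ * s ^ i₀.val = u at huP hux
  have huP' : u⁻¹ • x₀ = P₀ := by rw [inv_smul_eq_iff, huP]
  have hux' : u⁻¹ • P₀ = x₀ := by rw [inv_smul_eq_iff, hux]
  have hBruhat : ∀ g : G, g • P₀ ≠ P₀ →
      ∃ (b e : ZMod p) (j : ℕ), g = s ^ b.val * u * (s ^ e.val * (t : G) ^ j) := by
    intro g hg
    obtain ⟨b, hb⟩ := hsurj _ hg
    obtain ⟨e, j, hej⟩ := hNdecomp (u⁻¹ * (s ^ b.val)⁻¹ * g)
      (by rw [mul_smul, mul_smul, ← hb, inv_smul_smul, huP'])
    refine ⟨b, e, j, ?_⟩
    rw [← hej]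
    group
  -- the permutation representation
  let φ : G →* Equiv.Perm (Option (ZMod p)) :=
    ((Equiv.ofBijective _ hbij).symm.permCongrHom.toMonoidHom).comp
      (MulAction.toPermHom G (Sylow p G))
  have hφ : ∀ (g : G) (z : Option (ZMod p)), φ g z
      = (Equiv.ofBijective _ hbij).symm (g • lab s P₀ x₀ z) := by
    intro g z
    rfl
  have hφlab : ∀ z : Option (ZMod p), (Equiv.ofBijective _ hbij).symm (lab s P₀ x₀ z) = z :=
    fun z => Equiv.ofBijective_symm_apply_apply _ hbij z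
  have hlab0 : lab s P₀ x₀ (some 0) = x₀ := by
    show s ^ (0 : ZMod p).val • x₀ = x₀
    rw [ZMod.val_zero, pow_zero, one_smul]
  refine ⟨φ, s, (t : G), u, ?_, ?_, ?_, ?_, ?_, ?_, ?_, ?_, ?_⟩
  · rw [injective_iff_map_eq_one]
    intro g hg
    apply hfaith
    intro x
    obtain ⟨z, rfl⟩ := hbij.2 x
    have h1 : φ g z = z := by rw [hg]; rfl
    rw [hφ] at h1
    have h2 := congrArg (Equiv.ofBijective _ hbij) h1
    rw [Equiv.apply_symm_apply] at h2
    exact h2
  · rw [eq_top_iff]
    intro g _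
    have hsmem : s ∈ Subgroup.closure ({s, (t : G), u} : Set G) :=
      Subgroup.subset_closure (by simp)
    have htmem : (t : G) ∈ Subgroup.closure ({s, (t : G), u} : Set G) :=
      Subgroup.subset_closure (by simp)
    have humem : u ∈ Subgroup.closure ({s, (t : G), u} : Set G) :=
      Subgroup.subset_closure (by simp)
    by_cases hgP : g • P₀ = P₀
    · obtain ⟨e, j, rfl⟩ := hNdecomp g hgP
      exact Subgroup.mul_mem _ (Subgroup.pow_mem _ hsmem _) (Subgroup.pow_mem _ htmem _)
    · obtain ⟨b, e, j, rfl⟩ := hBruhat g hgP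
      exact Subgroup.mul_mem _ (Subgroup.mul_mem _ (Subgroup.pow_mem _ hsmem _) humem)
        (Subgroup.mul_mem _ (Subgroup.pow_mem _ hsmem _) (Subgroup.pow_mem _ htmem _))
  · intro z
    rw [hφ]
    rcases z with _ | i
    · have h1 : s • lab s P₀ x₀ none = lab s P₀ x₀ none := by
        have := hsP 1
        rwa [pow_one] at this
      rw [h1, hφlab]
      rfl
    · have h1 : s • lab s P₀ x₀ (some i) = lab s P₀ x₀ (some (i + 1)) := by
        show s • s ^ i.val • x₀ = s ^ (i + 1).val • x₀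
        rw [add_comm, pow_val_add hs, ZMod.val_one, pow_one, mul_smul]
      rw [h1, hφlab]
      rfl
  · intro z
    rw [hφ]
    rcases z with _ | i
    · have h1 : (t : G) • lab s P₀ x₀ none = lab s P₀ x₀ none := htP
      rw [h1, hφlab]
      rfl
    · have h1 : (t : G) • lab s P₀ x₀ (some i) = lab s P₀ x₀ (some (k * i)) := by
        show (t : G) • s ^ i.val • x₀ = s ^ (k * i).val • x₀
        have e1 : (t : G) * s ^ i.val = ((t : G) * s * (t : G)⁻¹) ^ i.val * (t : G) := by
          rw [conj_pow]; group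
        rw [← mul_smul, e1, mul_smul, htx, hts, pow_val_mul hs]
      rw [h1, hφlab]
      rfl
  · rw [hφ]
    have h1 : u • lab s P₀ x₀ none = lab s P₀ x₀ (some 0) := by
      rw [hlab0]
      exact huP
    rw [h1, hφlab]
  · rw [hφ, hlab0, hux]
    exact hφlab none
  · obtain ⟨μ, hμ⟩ := hfix2 (u * (t : G) * u⁻¹)
      (by rw [mul_smul, mul_smul, hux', htx, hux])
      (by rw [mul_smul, mul_smul, huP', htP, huP])
    refine ⟨μ, ?_⟩
    rw [← hμ]
    group
  · exact hfix2 (u * u) (by rw [mul_smul, huP, hux]) (by rw [mul_smul, hux, huP])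
  · have hne : (u * s * u) • P₀ ≠ P₀ := by
      intro h
      rw [mul_smul, mul_smul, huP] at h
      have h2 : s • x₀ = x₀ := by
        have : u • (s • x₀) = u • x₀ := by rw [h, hux]
        exact smul_left_cancel _ this
      have h3 := smul_ne_of_ne hs P₀ hP₀ x₀ hx₀ 1 one_ne_zero
      rw [ZMod.val_one, pow_one] at h3
      exact h3 h2
    obtain ⟨b, e, j, hbej⟩ := hBruhat _ hne
    exact ⟨b.val, e.val, j, hbej⟩

end Main

end Cfsg.Agent.Lib.Helper2.Zass
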