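import Mathlib
import Cfsg.Agent.S0991
import Cfsg.Agent.Lib.Helper2.Order168g
import Cfsg.Agent.Lib.Helper2.ZassA

/-!
# Simple groups of order 360: Sylow numbers and the trivial intersection property (helper2)
-/

set_option autoImplicit false
set_option maxHeartbeats 1000000

namespace Cfsg.Agent.Lib.Helper2.A6

open Cfsg.Agent.Lib.Helper2.Order168 (sylow_card sylow_number_ne_one card_dvd_factorial burnside
  card_dvd_factorial_index le_normalizer_of_card_two_mul)

instance fact_prime_five : Fact (Nat.Prime 5) := ⟨by norm_num⟩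

section General
variable {G : Type*} [Group G] [Finite G]

theorem card_sylow_mul_card_normalizer {p : ℕ} [Fact p.Prime] (P : Sylow p G) :
    Nat.card (Sylow p G) * Nat.card (Subgroup.normalizer ((P : Subgroup G) : Set G))
      = Nat.card G := by
  have h1 : Nat.card (Sylow p G) = (Subgroup.normalizer ((P : Subgroup G) : Set G)).index :=
    Sylow.card_eq_index_normalizer P
  rw [h1]
  exact Subgroup.index_mul_card _

end General

section Main
variable {G : Type*} [Group G] [Finite G] [IsSimpleGroup G]

theorem not_comm (h : Nat.card G = 360) : ¬ IsMulCommutative G := by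
  intro hc
  have hcomm : ∀ a b : G, a * b = b * a := fun a b => hc.is_comm.comm a b
  obtain ⟨x, hx⟩ := exists_prime_orderOf_dvd_card' (G := G) 2 (by rw [h]; norm_num)
  have hn : (Subgroup.zpowers x).Normal := by
    constructor
    intro n hn g
    have : g * n * g⁻¹ = n := by rw [hcomm g n, mul_assoc, mul_inv_cancel, mul_one]
    rw [this]
    exact hn
  have hcard : Nat.card (Subgroup.zpowers x) = 2 := by rw [Nat.card_zpowers, hx]
  rcases hn.eq_bot_or_eq_top with hb | ht
  · rw [hb, Subgroup.card_bot] at hcard
    omega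
  · rw [ht, Subgroup.card_top, h] at hcard
    omega

theorem card_sylow_three_sub (h : Nat.card G = 360) (P : Sylow 3 G) : Nat.card P = 9 := by
  have := sylow_card (p := 3) (n := 2) (m := 40) (by rw [h]; norm_num) (by norm_num) P
  simpa using this

theorem card_sylow_five_sub (h : Nat.card G = 360) (P : Sylow 5 G) : Nat.card P = 5 := by
  have := sylow_card (p := 5) (n := 1) (m := 72) (by rw [h]; norm_num) (by norm_num) P
  simpa using this

theorem card_sylow_two_sub (h : Nat.card G = 360) (P : Sylow 2 G) : Nat.card P = 8 := by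
  have := sylow_card (p := 2) (n := 3) (m := 45) (by rw [h]; norm_num) (by norm_num) P
  simpa using this

theorem sylow_three_comm (h : Nat.card G = 360) (P : Sylow 3 G) (x y : G)
    (hx : x ∈ (P : Subgroup G)) (hy : y ∈ (P : Subgroup G)) : x * y = y * x := by
  have hc : Nat.card (P : Subgroup G) = 3 ^ 2 := by rw [card_sylow_three_sub h P]; norm_num
  have := IsPGroup.commutative_of_card_eq_prime_sq hc ⟨x, hx⟩ ⟨y, hy⟩
  exact congrArg Subtype.val this

theorem card_sylow_three (h : Nat.card G = 360) : Nat.card (Sylow 3 G) = 10 := by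
  obtain ⟨P⟩ : Nonempty (Sylow 3 G) := inferInstance
  have hP := card_sylow_three_sub h P
  have hne := sylow_number_ne_one P (by rw [hP]; norm_num) (by rw [hP, h]; norm_num)
  have hidx : (P : Subgroup G).index = 40 := by
    have := Subgroup.index_mul_card (P : Subgroup G)
    rw [hP, h] at this
    omega
  have hdvd := Sylow.card_dvd_index P
  rw [hidx] at hdvd
  have hmod := card_sylow_modEq_one 3 G
  have hle : Nat.card (Sylow 3 G) ≤ 40 := Nat.le_of_dvd (by norm_num) hdvd
  have hfact := card_dvd_factorial (G := G) 3 hne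
  rw [h] at hfact
  have hne40 : Nat.card (Sylow 3 G) ≠ 40 := by
    intro h40
    have hN : Nat.card (Subgroup.normalizer ((P : Subgroup G) : Set G)) = 9 := by
      have h2 := card_sylow_mul_card_normalizer P
      rw [h40, h] at h2
      omega
    have hNP : Subgroup.normalizer ((P : Subgroup G) : Set G) = (P : Subgroup G) := by
      symm
      apply Subgroup.eq_of_le_of_card_ge Subgroup.le_normalizer
      rw [hN, hP]
    apply burnside P (by rw [hP]; norm_num) (by rw [hP, h]; norm_num)
    rw [hNP]
    intro x hx
    rw [Subgroup.mem_centralizer_iff]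
    intro y hy
    exact sylow_three_comm h P y x hy hx
  unfold Nat.ModEq at hmod
  generalize Nat.card (Sylow 3 G) = n at *
  interval_cases n <;> first | omega | (exfalso; revert hfact; decide)

theorem card_sylow_five (h : Nat.card G = 360) :
    Nat.card (Sylow 5 G) = 6 ∨ Nat.card (Sylow 5 G) = 36 := by
  obtain ⟨P⟩ : Nonempty (Sylow 5 G) := inferInstance
  have hP := card_sylow_five_sub h P
  have hne := sylow_number_ne_one P (by rw [hP]; norm_num) (by rw [hP, h]; norm_num)
  have hidx : (P : Subgroup G).index = 72 := by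
    have := Subgroup.index_mul_card (P : Subgroup G)
    rw [hP, h] at this
    omega
  have hdvd := Sylow.card_dvd_index P
  rw [hidx] at hdvd
  have hmod := card_sylow_modEq_one 5 G
  have hle : Nat.card (Sylow 5 G) ≤ 72 := Nat.le_of_dvd (by norm_num) hdvd
  unfold Nat.ModEq at hmod
  generalize Nat.card (Sylow 5 G) = n at *
  interval_cases n <;> omega

theorem card_alt_six : Nat.card (alternatingGroup (Fin 6)) = 360 := by
  have h2 := two_mul_card_alternatingGroup (α := Fin 6)
  rw [Fintype.card_perm, Fintype.card_fin] at h2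
  rw [Nat.card_eq_fintype_card]
  have : Nat.factorial 6 = 720 := by decide
  omega

theorem iso_of_card_sylow_five (h : Nat.card G = 360) (h5 : Nat.card (Sylow 5 G) = 6) :
    Nonempty (G ≃* alternatingGroup (Fin 6)) := by
  obtain ⟨P⟩ : Nonempty (Sylow 5 G) := inferInstance
  have hidx : (Subgroup.normalizer ((P : Subgroup G) : Set G)).index = 6 := by
    rw [← h5]
    exact (Sylow.card_eq_index_normalizer P).symm
  have hH : Subgroup.normalizer ((P : Subgroup G) : Set G) ≠ ⊤ := by
    intro ht
    rw [ht, Subgroup.index_top] at hidx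
    omega
  have key : ∀ n : ℕ, (Subgroup.normalizer ((P : Subgroup G) : Set G)).index = n →
      ∃ f : G →* ↥(alternatingGroup (Fin n)), Function.Injective f := by
    intro n hn
    subst hn
    exact Cfsg.Agent.S0991.result (not_comm h) _ hH
  obtain ⟨f, hf⟩ := key 6 hidx
  have hbij : Function.Bijective f :=
    hf.bijective_of_nat_card_le (by rw [h, card_alt_six])
  exact ⟨MulEquiv.ofBijective f hbij⟩

theorem center_eq_bot (h : Nat.card G = 360) : Subgroup.center G = ⊥ := by
  rcases (inferInstance : (Subgroup.center G).Normal).eq_bot_or_eq_top with hb | ht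
  · exact hb
  · exfalso
    apply not_comm h
    refine ⟨⟨fun a b => ?_⟩⟩
    have ha : a ∈ Subgroup.center G := by rw [ht]; trivial
    exact (Subgroup.mem_center_iff.1 ha b).symm

/-- a proper subgroup has index at least six -/
theorem six_le_index (h : Nat.card G = 360) (M : Subgroup G) (hM : M ≠ ⊤) : 6 ≤ M.index := by
  have hfact := card_dvd_factorial_index M hM
  rw [h] at hfact
  by_contra hlt
  push Not at hlt
  generalize M.index = k at *
  interval_cases k <;> (revert hfact; decide)

/-- distinct Sylow 3-subgroups intersect trivially -/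
theorem inf_eq_bot (h : Nat.card G = 360) (P Q : Sylow 3 G) (hPQ : P ≠ Q) :
    (P : Subgroup G) ⊓ (Q : Subgroup G) = ⊥ := by
  by_contra hD
  have hPC : (P : Subgroup G) ≤
      Subgroup.centralizer (((P : Subgroup G) ⊓ (Q : Subgroup G) : Subgroup G) : Set G) := by
    intro x hx
    rw [Subgroup.mem_centralizer_iff]
    intro y hy
    exact sylow_three_comm h P y x (Subgroup.mem_inf.1 hy).1 hx
  have hQC : (Q : Subgroup G) ≤
      Subgroup.centralizer (((P : Subgroup G) ⊓ (Q : Subgroup G) : Subgroup G) : Set G) := by
    intro x hx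
    rw [Subgroup.mem_centralizer_iff]
    intro y hy
    exact sylow_three_comm h Q y x (Subgroup.mem_inf.1 hy).2 hx
  have hCtop : Subgroup.centralizer
      (((P : Subgroup G) ⊓ (Q : Subgroup G) : Subgroup G) : Set G) ≠ ⊤ := by
    intro ht
    apply hD
    rw [eq_bot_iff, ← center_eq_bot h]
    intro x hx
    rw [Subgroup.mem_center_iff]
    intro g
    have hg : g ∈ Subgroup.centralizer
        (((P : Subgroup G) ⊓ (Q : Subgroup G) : Subgroup G) : Set G) := by rw [ht]; trivial
    rw [Subgroup.mem_centralizer_iff] at hg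
    exact (hg x hx).symm
  generalize hCdef : Subgroup.centralizer
      (((P : Subgroup G) ⊓ (Q : Subgroup G) : Subgroup G) : Set G) = C at hPC hQC hCtop
  -- numerics
  have hk6 := six_le_index h C hCtop
  have hmul := Subgroup.index_mul_card C
  rw [h] at hmul
  have hP9 := card_sylow_three_sub h P
  let P' : Sylow 3 ↥C := P.subtype hPC
  let Q' : Sylow 3 ↥C := Q.subtype hQC
  have hne : P' ≠ Q' := fun e => hPQ (Sylow.subtype_injective e)
  have h1 : 1 < Nat.card (Sylow 3 ↥C) := Finite.one_lt_card_iff_nontrivial.2 ⟨⟨P', Q', hne⟩⟩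
  have hmod := card_sylow_modEq_one 3 ↥C
  have hdvd := Sylow.card_dvd_index P'
  have hP'9 : Nat.card (P' : Subgroup ↥C) = 9 := by
    have e1 : (P' : Subgroup ↥C) = (P : Subgroup G).subgroupOf C := Sylow.coe_subtype P hPC
    rw [e1, Nat.card_congr (Subgroup.subgroupOfEquivOfLe hPC).toEquiv, hP9]
  have hmul' := Subgroup.index_mul_card (P' : Subgroup ↥C)
  rw [hP'9] at hmul'
  have hnum : Nat.card ↥C = 36 ∧ Nat.card (Sylow 3 ↥C) = 4 := by
    unfold Nat.ModEq at hmod
    generalize Nat.card (Sylow 3 ↥C) = n at *
    generalize (P' : Subgroup ↥C).index = i at *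
    generalize C.index = k at *
    generalize Nat.card ↥C = c at *
    have hki : k * i = 40 := by
      have e : 9 * (k * i) = 9 * 40 := by
        calc 9 * (k * i) = k * (i * 9) := by ring
          _ = 9 * 40 := by rw [hmul', hmul]
      exact Nat.eq_of_mul_eq_mul_left (by norm_num) e
    have hi6 : i ≤ 6 := by
      have h2 : 6 * i ≤ k * i := Nat.mul_le_mul_right i hk6
      omega
    have hn : n ≤ i := Nat.le_of_dvd (by
      rcases Nat.eq_zero_or_pos i with h0 | h0
      · rw [h0] at hki; omega
      · exact h0) hdvd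
    interval_cases i <;> interval_cases n <;> omega
  obtain ⟨hC36, hn4⟩ := hnum
  -- the normaliser of `P'` in `C` is `P'`
  have hN9 : Nat.card (Subgroup.normalizer ((P' : Subgroup ↥C) : Set ↥C)) = 9 := by
    have h2 := card_sylow_mul_card_normalizer P'
    rw [hn4, hC36] at h2
    omega
  have hNP : Subgroup.normalizer ((P' : Subgroup ↥C) : Set ↥C) = (P' : Subgroup ↥C) := by
    symm
    apply Subgroup.eq_of_le_of_card_ge Subgroup.le_normalizer
    rw [hN9, hP'9]
  have hle : Subgroup.normalizer ((P' : Subgroup ↥C) : Set ↥C)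
      ≤ Subgroup.centralizer ((P' : Subgroup ↥C) : Set ↥C) := by
    rw [hNP]
    intro x hx
    rw [Subgroup.mem_centralizer_iff]
    intro y hy
    have hc : Nat.card (P' : Subgroup ↥C) = 3 ^ 2 := by rw [hP'9]; norm_num
    have := IsPGroup.commutative_of_card_eq_prime_sq hc ⟨y, hy⟩ ⟨x, hx⟩
    exact congrArg Subtype.val this
  have hcompl := MonoidHom.ker_transferSylow_isComplement' P' hle
  have hcm := hcompl.card_mul_card
  rw [hP'9, hC36] at hcm
  have hV'4 : Nat.card (MonoidHom.transferSylow P' hle).ker = 4 := by omega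
  generalize hV'def : (MonoidHom.transferSylow P' hle).ker = V' at hV'4
  have hV'n : V'.Normal := by rw [← hV'def]; exact MonoidHom.normal_ker _
  -- push to `G`
  have hV4 : Nat.card (V'.map C.subtype) = 4 := by
    rw [Subgroup.card_map_of_injective C.subtype_injective, hV'4]
  have hVC : V'.map C.subtype ≤ C := Subgroup.map_subtype_le V'
  have hsub : (V'.map C.subtype).subgroupOf C = V' :=
    Subgroup.comap_map_eq_self_of_injective C.subtype_injective V'
  haveI : ((V'.map C.subtype).subgroupOf C).Normal := by rw [hsub]; exact hV'n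
  have hCN : C ≤ Subgroup.normalizer ((V'.map C.subtype : Subgroup G) : Set G) :=
    Subgroup.le_normalizer_of_normal_subgroupOf hVC
  have hV2 : IsPGroup 2 (V'.map C.subtype) := IsPGroup.of_card (n := 2) (by rw [hV4]; norm_num)
  obtain ⟨S, hS⟩ := hV2.exists_le_sylow
  have hS8 := card_sylow_two_sub h S
  have hSN : (S : Subgroup G) ≤ Subgroup.normalizer ((V'.map C.subtype : Subgroup G) : Set G) :=
    le_normalizer_of_card_two_mul hS (by rw [hS8, hV4])
  generalize V'.map C.subtype = V at hV4 hCN hSN
  have h36 : 36 ∣ Nat.card (Subgroup.normalizer (V : Set G)) := by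
    rw [← hC36]; exact Subgroup.card_dvd_of_le hCN
  have h8 : 8 ∣ Nat.card (Subgroup.normalizer (V : Set G)) := by
    rw [← hS8]; exact Subgroup.card_dvd_of_le hSN
  have h72 : 72 ∣ Nat.card (Subgroup.normalizer (V : Set G)) := by
    have h9 : 9 ∣ Nat.card (Subgroup.normalizer (V : Set G)) := Dvd.dvd.trans (by norm_num) h36
    exact Nat.Coprime.mul_dvd_of_dvd_of_dvd (by norm_num : Nat.Coprime 9 8) h9 h8
  have hmulN := Subgroup.index_mul_card (Subgroup.normalizer (V : Set G))
  rw [h] at hmulN
  have hNtop : Subgroup.normalizer (V : Set G) = ⊤ := by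
    by_contra hne
    have h6 := six_le_index h _ hne
    obtain ⟨j, hj⟩ := h72
    rw [hj] at hmulN
    generalize (Subgroup.normalizer (V : Set G)).index = k at *
    have hkj : k * j = 5 := by
      have e : 72 * (k * j) = 72 * 5 := by
        calc 72 * (k * j) = k * (72 * j) := by ring
          _ = 72 * 5 := by rw [hmulN]
      exact Nat.eq_of_mul_eq_mul_left (by norm_num) e
    have hj0 : 0 < j := by
      rcases Nat.eq_zero_or_pos j with h0 | h0
      · rw [h0] at hkj; omega
      · exact h0
    have : k * 1 ≤ k * j := Nat.mul_le_mul_left k hj0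
    omega
  have hVn : V.Normal := Subgroup.normalizer_eq_top_iff.mp hNtop
  rcases hVn.eq_bot_or_eq_top with hb | ht
  · rw [hb, Subgroup.card_bot] at hV4
    omega
  · rw [ht, Subgroup.card_top, h] at hV4
    omega

end Main

end Cfsg.Agent.Lib.Helper2.A6
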