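import Mathlib
import Cfsg.Agent.Lib.Helper2.A6a
import Cfsg.Agent.Lib.Helper8.Burnside
import Cfsg.Agent.Lib.Helper28.PermChar

/-!
# Simple groups of order 360 with 36 Sylow 5-subgroups: the action on the ten Sylow 3-subgroups is
a Zassenhaus action (helper2)
-/

set_option autoImplicit false
set_option maxHeartbeats 1000000

namespace Cfsg.Agent.Lib.Helper2.A6

open Cfsg.Agent.Lib.Helper8 (fixN sum_fixN sum_fixN_sq fixN_eq_zero_iff)

section General
variable {G : Type*} [Group G] [Finite G]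

theorem mem_of_smul_eq {p : ℕ} [Fact p.Prime] (P Q : Sylow p G) (x : G)
    (hx : x ∈ (P : Subgroup G)) (hQ : x • Q = Q) : x ∈ (Q : Subgroup G) := by
  have hpg : IsPGroup p (Subgroup.zpowers x) := P.isPGroup'.to_le (Subgroup.zpowers_le.2 hx)
  have hfix : Q ∈ MulAction.fixedPoints (↥(Subgroup.zpowers x)) (Sylow p G) := by
    rintro ⟨g, hg⟩
    have h1 : Subgroup.zpowers x ≤ MulAction.stabilizer G Q :=
      Subgroup.zpowers_le.2 (MulAction.mem_stabilizer_iff.2 hQ)
    exact MulAction.mem_stabilizer_iff.1 (h1 hg)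
  have hle := (IsPGroup.sylow_mem_fixedPoints_iff hpg).1 hfix
  exact hle (Subgroup.mem_zpowers x)

theorem smul_self_of_mem {p : ℕ} [Fact p.Prime] (P : Sylow p G) (x : G)
    (hx : x ∈ (P : Subgroup G)) : x • P = P := by
  rw [Sylow.smul_eq_iff_mem_normalizer]
  exact Subgroup.le_normalizer hx

end General

section Main
variable {G : Type*} [Group G] [Finite G] [IsSimpleGroup G]

/-- a nontrivial element of a Sylow 3-subgroup fixes no other Sylow 3-subgroup -/
theorem smul_ne (h : Nat.card G = 360) (P Q : Sylow 3 G) (hPQ : Q ≠ P) (x : G)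
    (hx : x ∈ (P : Subgroup G)) (hx1 : x ≠ 1) : x • Q ≠ Q := by
  intro hQ
  have h1 := mem_of_smul_eq P Q x hx hQ
  have h2 : x ∈ (P : Subgroup G) ⊓ (Q : Subgroup G) := ⟨hx, h1⟩
  rw [inf_eq_bot h P Q (Ne.symm hPQ), Subgroup.mem_bot] at h2
  exact hx1 h2

/-- a Sylow 3-subgroup is regular on the other nine -/
theorem exists_smul_eq (h : Nat.card G = 360) (P x₀ Q : Sylow 3 G) (hx₀ : x₀ ≠ P) (hQ : Q ≠ P) :
    ∃ x ∈ (P : Subgroup G), x • x₀ = Q := by
  classical
  have hne : ∀ x : (P : Subgroup G), (x : G) • x₀ ≠ P := by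
    intro x hx
    apply hx₀
    have h1 : (x : G)⁻¹ • P = P := smul_self_of_mem P _ (Subgroup.inv_mem _ x.2)
    calc x₀ = (x : G)⁻¹ • ((x : G) • x₀) := (inv_smul_smul _ _).symm
      _ = (x : G)⁻¹ • P := by rw [hx]
      _ = P := h1
  let f : ↥(P : Subgroup G) → {Q : Sylow 3 G // Q ≠ P} := fun x => ⟨(x : G) • x₀, hne x⟩
  have hf : Function.Injective f := by
    intro x y hxy
    have h1 : (x : G) • x₀ = (y : G) • x₀ := congrArg Subtype.val hxy
    have h2 : ((y : G)⁻¹ * (x : G)) • x₀ = x₀ := by rw [mul_smul, h1, inv_smul_smul]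
    by_contra hne'
    have h3 : (y : G)⁻¹ * (x : G) ≠ 1 := by
      intro h4
      apply hne'
      apply Subtype.ext
      exact (inv_mul_eq_one.1 h4).symm
    exact smul_ne h P x₀ hx₀ _ (Subgroup.mul_mem _ (Subgroup.inv_mem _ y.2) x.2) h3 h2
  have hcard : Nat.card {Q : Sylow 3 G // Q ≠ P} = 9 := by
    have e := Nat.card_congr (Equiv.optionSubtypeNe P)
    rw [Finite.card_option, card_sylow_three h] at e
    omega
  have hbij : Function.Bijective f :=
    hf.bijective_of_nat_card_le (by rw [hcard, card_sylow_three_sub h P])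
  obtain ⟨x, hx⟩ := hbij.2 ⟨Q, hQ⟩
  exact ⟨x, x.2, congrArg Subtype.val hx⟩

theorem two_trans (h : Nat.card G = 360) :
    MulAction.IsMultiplyPretransitive G (Sylow 3 G) 2 := by
  rw [MulAction.is_two_pretransitive_iff]
  intro a b c d hab hcd
  obtain ⟨g₁, hg₁⟩ := MulAction.exists_smul_eq G a c
  have hb' : g₁ • b ≠ c := by
    intro hbc
    apply hab
    rw [← hg₁] at hbc
    exact (smul_left_cancel _ hbc).symm
  obtain ⟨x, hx, hxd⟩ := exists_smul_eq h c (g₁ • b) d hb' (Ne.symm hcd)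
  refine ⟨x * g₁, ?_, ?_⟩
  · rw [mul_smul, hg₁]
    exact smul_self_of_mem c x hx
  · rw [mul_smul, hxd]

theorem card_normalizer_three (h : Nat.card G = 360) (Q : Sylow 3 G) :
    Nat.card (Subgroup.normalizer ((Q : Subgroup G) : Set G)) = 36 := by
  have h2 := card_sylow_mul_card_normalizer Q
  rw [card_sylow_three h, h] at h2
  omega

/-- there are at least 144 elements of order five -/
theorem card_order_five (h : Nat.card G = 360) (h5 : Nat.card (Sylow 5 G) = 36) :
    144 ≤ Nat.card {x : G // orderOf x = 5} := by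
  classical
  have hgen : ∀ P : Sylow 5 G, ∃ x : G, x ∈ (P : Subgroup G) ∧ orderOf x = 5 := by
    intro P
    obtain ⟨x, hx⟩ := exists_prime_orderOf_dvd_card' (G := ↥(P : Subgroup G)) 5
      (by rw [card_sylow_five_sub h P])
    exact ⟨(x : G), x.2, by rw [Subgroup.orderOf_coe]; exact hx⟩
  choose gen hgenP hgen5 using hgen
  have hcop : ∀ i : Fin 4, Nat.Coprime 5 (i.val + 1) := by decide
  have hord : ∀ (P : Sylow 5 G) (i : Fin 4), orderOf (gen P ^ (i.val + 1)) = 5 := by
    intro P i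
    rw [Nat.Coprime.orderOf_pow (by rw [hgen5]; exact hcop i), hgen5]
  let f : Sylow 5 G × Fin 4 → {x : G // orderOf x = 5} :=
    fun x => ⟨gen x.1 ^ (x.2.val + 1), hord x.1 x.2⟩
  have hzp : ∀ (P : Sylow 5 G) (y : G), y ∈ (P : Subgroup G) → orderOf y = 5 →
      (P : Subgroup G) = Subgroup.zpowers y := by
    intro P y hy hy5
    symm
    apply Subgroup.eq_of_le_of_card_ge (Subgroup.zpowers_le.2 hy)
    rw [Nat.card_zpowers, hy5, card_sylow_five_sub h P]
  have hf : Function.Injective f := by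
    rintro ⟨P, i⟩ ⟨Q, j⟩ hPQ
    have h1 : gen P ^ (i.val + 1) = gen Q ^ (j.val + 1) := congrArg Subtype.val hPQ
    have hPQ' : P = Q := by
      apply Sylow.ext
      rw [hzp P _ (Subgroup.pow_mem _ (hgenP P) _) (hord P i),
        hzp Q _ (Subgroup.pow_mem _ (hgenP Q) _) (hord Q j), h1]
    subst hPQ'
    have h2 : i.val + 1 = j.val + 1 := by
      apply pow_injOn_Iio_orderOf (x := gen P)
      · rw [Set.mem_Iio, hgen5]; have := i.2; omega
      · rw [Set.mem_Iio, hgen5]; have := j.2; omega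
      · exact h1
    have h3 : i = j := Fin.ext (by omega)
    rw [h3]
  have hle := Nat.card_le_card_of_injective f hf
  rw [Nat.card_prod, h5, Nat.card_eq_fintype_card (α := Fin 4), Fintype.card_fin] at hle
  omega

/-- the Zassenhaus property: only the identity fixes three Sylow 3-subgroups -/
theorem eq_one_of_three_fixed (h : Nat.card G = 360) (h5 : Nat.card (Sylow 5 G) = 36) (g : G)
    (a b c : Sylow 3 G) (hab : a ≠ b) (hac : a ≠ c) (hbc : b ≠ c)
    (ha : g • a = a) (hb : g • b = b) (hc : g • c = c) : g = 1 := by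
  classical
  by_contra hg
  haveI : Fintype G := Fintype.ofFinite G
  haveI : Fintype (Sylow 3 G) := Fintype.ofFinite _
  have hG : Fintype.card G = 360 := by rw [← Nat.card_eq_fintype_card, h]
  have hΩ : Fintype.card (Sylow 3 G) = 10 := by rw [← Nat.card_eq_fintype_card, card_sylow_three h]
  have hS1 : ∑ x : G, fixN (Ω := Sylow 3 G) x = 360 := by rw [sum_fixN, hG]
  have hrank : Nat.card (MulAction.orbitRel.Quotient G (Sylow 3 G × Sylow 3 G)) = 2 :=
    (Cfsg.Agent.Lib.Helper28.card_orbits_prod_eq_two_iff G (Sylow 3 G)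
      (by rw [card_sylow_three h]; norm_num)).2 (two_trans h)
  have hS2 : ∑ x : G, fixN (Ω := Sylow 3 G) x ^ 2 = 720 := by rw [sum_fixN_sq, hrank, hG]
  -- the weight
  let w : G → ℤ := fun x => ((fixN (Ω := Sylow 3 G) x : ℤ) - 1) * ((fixN (Ω := Sylow 3 G) x : ℤ) - 2)
  have hwsum : ∑ x : G, w x = 360 := by
    have e : ∀ x : G, w x = (fixN (Ω := Sylow 3 G) x : ℤ) ^ 2
        - 3 * (fixN (Ω := Sylow 3 G) x : ℤ) + 2 := by
      intro x
      show ((fixN (Ω := Sylow 3 G) x : ℤ) - 1) * ((fixN (Ω := Sylow 3 G) x : ℤ) - 2) = _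
      ring
    have h1 : (∑ x : G, (fixN (Ω := Sylow 3 G) x : ℤ)) = 360 := by exact_mod_cast hS1
    have h2 : (∑ x : G, (fixN (Ω := Sylow 3 G) x : ℤ) ^ 2) = 720 := by exact_mod_cast hS2
    simp_rw [e]
    rw [Finset.sum_add_distrib, Finset.sum_sub_distrib, ← Finset.mul_sum, h1, h2,
      Finset.sum_const, Finset.card_univ, hG]
    norm_num
  have hwnn : ∀ x : G, 0 ≤ w x := by
    intro x
    show 0 ≤ ((fixN (Ω := Sylow 3 G) x : ℤ) - 1) * ((fixN (Ω := Sylow 3 G) x : ℤ) - 2)
    generalize fixN (Ω := Sylow 3 G) x = n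
    rcases Nat.lt_or_ge n 2 with hn | hn
    · interval_cases n <;> norm_num
    · apply mul_nonneg
      · have : (2 : ℤ) ≤ n := by exact_mod_cast hn
        linarith
      · have : (2 : ℤ) ≤ n := by exact_mod_cast hn
        linarith
  -- the three kinds of elements
  let T : Finset G := Finset.univ.filter (fun x => orderOf x = 5)
  have hT144 : 144 ≤ T.card := by
    have h1 := card_order_five h h5
    rw [Nat.card_eq_fintype_card, Fintype.card_subtype] at h1
    exact h1
  have hfT : ∀ x ∈ T, fixN (Ω := Sylow 3 G) x = 0 := by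
    intro x hx
    have hx5 : orderOf x = 5 := (Finset.mem_filter.1 hx).2
    rw [fixN_eq_zero_iff]
    intro Q hQ
    rw [Sylow.smul_eq_iff_mem_normalizer] at hQ
    have hQ' : x ∈ Subgroup.normalizer ((Q : Subgroup G) : Set G) := hQ
    have h1 := Subgroup.orderOf_dvd_natCard _ hQ'
    rw [hx5, card_normalizer_three h Q] at h1
    omega
  have hf1 : fixN (Ω := Sylow 3 G) (1 : G) = 10 := by
    unfold fixN
    rw [← hΩ, ← Finset.card_univ]
    congr 1
    ext Q
    simp
  have hfg : 3 ≤ fixN (Ω := Sylow 3 G) g := by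
    unfold fixN
    have : 2 < (Finset.univ.filter fun ω : Sylow 3 G => g • ω = ω).card := by
      rw [Finset.two_lt_card_iff]
      exact ⟨a, b, c, by simp [ha], by simp [hb], by simp [hc], hab, hac, hbc⟩
    omega
  have hgT : g ∉ T := by
    intro hgT
    have := hfT g hgT
    omega
  have h1T : (1 : G) ∉ insert g T := by
    rw [Finset.mem_insert]
    rintro (h1 | h1)
    · exact hg h1.symm
    · have := (Finset.mem_filter.1 h1).2
      rw [orderOf_one] at this
      omega
  have hsub : ∑ x ∈ insert (1 : G) (insert g T), w x ≤ ∑ x : G, w x :=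
    Finset.sum_le_sum_of_subset_of_nonneg (Finset.subset_univ _) (fun x _ _ => hwnn x)
  rw [Finset.sum_insert h1T, Finset.sum_insert hgT, hwsum] at hsub
  have hw1 : w 1 = 72 := by
    show ((fixN (Ω := Sylow 3 G) (1 : G) : ℤ) - 1) * ((fixN (Ω := Sylow 3 G) (1 : G) : ℤ) - 2) = 72
    rw [hf1]
    norm_num
  have hwg : 2 ≤ w g := by
    show 2 ≤ ((fixN (Ω := Sylow 3 G) g : ℤ) - 1) * ((fixN (Ω := Sylow 3 G) g : ℤ) - 2)
    have h3 : (3 : ℤ) ≤ fixN (Ω := Sylow 3 G) g := by exact_mod_cast hfg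
    nlinarith
  have hwT : ∑ x ∈ T, w x = 2 * (T.card : ℤ) := by
    have e : ∀ x ∈ T, w x = 2 := by
      intro x hx
      show ((fixN (Ω := Sylow 3 G) x : ℤ) - 1) * ((fixN (Ω := Sylow 3 G) x : ℤ) - 2) = 2
      rw [hfT x hx]
      norm_num
    rw [Finset.sum_congr rfl e, Finset.sum_const]
    simp
    ring
  rw [hw1, hwT] at hsub
  have : (144 : ℤ) ≤ T.card := by exact_mod_cast hT144
  linarith

end Main

end Cfsg.Agent.Lib.Helper2.A6
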