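import Mathlib
import Cfsg.Agent.S0991
import Cfsg.Agent.Lib.Helper2.A6b

/-!
# Simple groups of order 504: Sylow 7- and 3-subgroups (helper2)
-/

set_option autoImplicit false
set_option maxHeartbeats 1000000

namespace Cfsg.Agent.Lib.Helper2.O504

open Cfsg.Agent.Lib.Helper2.Order168 (sylow_card sylow_number_ne_one card_dvd_factorial burnside
  card_dvd_factorial_index le_normalizer_of_card_two_mul comm_of_card_prime)
open Cfsg.Agent.Lib.Helper2.A6 (card_sylow_mul_card_normalizer mem_of_smul_eq smul_self_of_mem)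
open Cfsg.Agent.Lib.Helper2.Zass (faithful)

instance fact_prime_seven : Fact (Nat.Prime 7) := ⟨by norm_num⟩

section General
variable {G : Type*} [Group G] [Finite G]

/-- a Sylow subgroup acting freely on another Sylow subgroup, with the right count, is regular on
the other Sylow subgroups -/
theorem exists_smul_eq_of_free {p : ℕ} [Fact p.Prime] (P x₀ Q : Sylow p G) (hx₀ : x₀ ≠ P)
    (hQ : Q ≠ P) (hfree : ∀ x ∈ (P : Subgroup G), x • x₀ = x₀ → x = 1)
    (hcard : Nat.card (Sylow p G) = Nat.card (P : Subgroup G) + 1) :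
    ∃ x ∈ (P : Subgroup G), x • x₀ = Q := by
  classical
  have hne : ∀ x : (P : Subgroup G), (x : G) • x₀ ≠ P := by
    intro x hx
    apply hx₀
    have h1 : (x : G)⁻¹ • P = P := smul_self_of_mem P _ (Subgroup.inv_mem _ x.2)
    calc x₀ = (x : G)⁻¹ • ((x : G) • x₀) := (inv_smul_smul _ _).symm
      _ = (x : G)⁻¹ • P := by rw [hx]
      _ = P := h1
  let f : ↥(P : Subgroup G) → {Q : Sylow p G // Q ≠ P} := fun x => ⟨(x : G) • x₀, hne x⟩
  have hf : Function.Injective f := by
    intro x y hxy
    have h1 : (x : G) • x₀ = (y : G) • x₀ := congrArg Subtype.val hxy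
    have h2 : ((y : G)⁻¹ * (x : G)) • x₀ = x₀ := by rw [mul_smul, h1, inv_smul_smul]
    have h3 := hfree _ (Subgroup.mul_mem _ (Subgroup.inv_mem _ y.2) x.2) h2
    apply Subtype.ext
    exact (inv_mul_eq_one.1 h3).symm
  have hc : Nat.card {Q : Sylow p G // Q ≠ P} = Nat.card (P : Subgroup G) := by
    have e := Nat.card_congr (Equiv.optionSubtypeNe P)
    rw [Finite.card_option, hcard] at e
    omega
  have hbij : Function.Bijective f :=
    hf.bijective_of_nat_card_le (by rw [hc])
  obtain ⟨x, hx⟩ := hbij.2 ⟨Q, hQ⟩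
  exact ⟨x, x.2, congrArg Subtype.val hx⟩

end General

section Main
variable {G : Type*} [Group G] [Finite G] [IsSimpleGroup G]

theorem not_comm (h : Nat.card G = 504) : ¬ IsMulCommutative G := by
  intro hc
  have hcomm : ∀ a b : G, a * b = b * a := fun a b => hc.is_comm.comm a b
  obtain ⟨x, hx⟩ := exists_prime_orderOf_dvd_card' (G := G) 2 (by rw [h]; norm_num)
  have hn : (Subgroup.zpowers x).Normal := by
    constructor
    intro n hn g
    have : g * n * g⁻¹ = n := by rw [hcomm g n, mul_assoc, mul_inv_cancel, mul_one]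
    rw [this]
    exact hn
  have hcard : Nat.card (Subgroup.zpowers x) = 2 := by rw [Nat.card_zpowers, hx]
  rcases hn.eq_bot_or_eq_top with hb | ht
  · rw [hb, Subgroup.card_bot] at hcard
    omega
  · rw [ht, Subgroup.card_top, h] at hcard
    omega

theorem center_eq_bot (h : Nat.card G = 504) : Subgroup.center G = ⊥ := by
  rcases (inferInstance : (Subgroup.center G).Normal).eq_bot_or_eq_top with hb | ht
  · exact hb
  · exfalso
    apply not_comm h
    refine ⟨⟨fun a b => ?_⟩⟩
    have ha : a ∈ Subgroup.center G := by rw [ht]; trivial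
    exact (Subgroup.mem_center_iff.1 ha b).symm

theorem card_sylow_two_sub (h : Nat.card G = 504) (P : Sylow 2 G) : Nat.card P = 8 := by
  have := sylow_card (p := 2) (n := 3) (m := 63) (by rw [h]; norm_num) (by norm_num) P
  simpa using this

theorem card_sylow_three_sub (h : Nat.card G = 504) (P : Sylow 3 G) : Nat.card P = 9 := by
  have := sylow_card (p := 3) (n := 2) (m := 56) (by rw [h]; norm_num) (by norm_num) P
  simpa using this

theorem card_sylow_seven_sub (h : Nat.card G = 504) (P : Sylow 7 G) : Nat.card P = 7 := by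
  have := sylow_card (p := 7) (n := 1) (m := 72) (by rw [h]; norm_num) (by norm_num) P
  simpa using this

theorem sylow_three_comm (h : Nat.card G = 504) (P : Sylow 3 G) (x y : G)
    (hx : x ∈ (P : Subgroup G)) (hy : y ∈ (P : Subgroup G)) : x * y = y * x := by
  have hc : Nat.card (P : Subgroup G) = 3 ^ 2 := by rw [card_sylow_three_sub h P]; norm_num
  have := IsPGroup.commutative_of_card_eq_prime_sq hc ⟨x, hx⟩ ⟨y, hy⟩
  exact congrArg Subtype.val this

/-- there is no subgroup of index seven -/
theorem index_ne_seven (h : Nat.card G = 504) (M : Subgroup G) : M.index ≠ 7 := by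
  intro h7
  have hM : M ≠ ⊤ := by
    intro ht
    rw [ht, Subgroup.index_top] at h7
    omega
  have key : ∀ n : ℕ, M.index = n →
      ∃ f : G →* ↥(alternatingGroup (Fin n)), Function.Injective f := by
    intro n hn
    subst hn
    exact Cfsg.Agent.S0991.result (not_comm h) M hM
  obtain ⟨f, hf⟩ := key 7 h7
  haveI : IsSimpleGroup (alternatingGroup (Fin 7)) := alternatingGroup.isSimpleGroup (by simp)
  have hA7 : Nat.card (alternatingGroup (Fin 7)) = 2520 := by
    have h2 := two_mul_card_alternatingGroup (α := Fin 7)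
    rw [Fintype.card_perm, Fintype.card_fin] at h2
    rw [Nat.card_eq_fintype_card]
    have : Nat.factorial 7 = 5040 := by decide
    omega
  have hr : Nat.card f.range = 504 := by
    rw [← h]
    exact (Nat.card_congr (MonoidHom.ofInjective hf).toEquiv).symm
  have hne : f.range ≠ ⊤ := by
    intro ht
    rw [ht, Subgroup.card_top, hA7] at hr
    omega
  have hfact := card_dvd_factorial_index f.range hne
  have hidx : f.range.index = 5 := by
    have := Subgroup.index_mul_card f.range
    rw [hr, hA7] at this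
    omega
  rw [hidx, hA7] at hfact
  revert hfact
  decide

theorem eight_le_index (h : Nat.card G = 504) (M : Subgroup G) (hM : M ≠ ⊤) : 8 ≤ M.index := by
  have hfact := card_dvd_factorial_index M hM
  rw [h] at hfact
  have h7 := index_ne_seven h M
  by_contra hlt
  push Not at hlt
  generalize M.index = k at *
  interval_cases k <;> first | omega | (revert hfact; decide)

theorem card_sylow_seven_or (h : Nat.card G = 504) :
    Nat.card (Sylow 7 G) = 8 ∨ Nat.card (Sylow 7 G) = 36 := by
  obtain ⟨P⟩ : Nonempty (Sylow 7 G) := inferInstance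
  have hP := card_sylow_seven_sub h P
  have hne := sylow_number_ne_one P (by rw [hP]; norm_num) (by rw [hP, h]; norm_num)
  have hidx : (P : Subgroup G).index = 72 := by
    have := Subgroup.index_mul_card (P : Subgroup G)
    rw [hP, h] at this
    omega
  have hdvd := Sylow.card_dvd_index P
  rw [hidx] at hdvd
  have hmod := card_sylow_modEq_one 7 G
  have hle : Nat.card (Sylow 7 G) ≤ 72 := Nat.le_of_dvd (by norm_num) hdvd
  unfold Nat.ModEq at hmod
  generalize Nat.card (Sylow 7 G) = n at *
  interval_cases n <;> omega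

/-- a nontrivial element of a Sylow 7-subgroup fixes no other Sylow 7-subgroup -/
theorem seven_free (h : Nat.card G = 504) (P Q : Sylow 7 G) (hQ : Q ≠ P) (y : G)
    (hy : y ∈ (P : Subgroup G)) (hyQ : y • Q = Q) : y = 1 := by
  have hP := card_sylow_seven_sub h P
  by_contra hy1
  have hyQ' := mem_of_smul_eq P Q y hy hyQ
  have hy7 : orderOf y = 7 := by
    have hd : orderOf y ∣ 7 := by
      rw [← hP]
      exact Subgroup.orderOf_dvd_natCard _ hy
    rcases (Nat.dvd_prime (by norm_num : Nat.Prime 7)).1 hd with h1 | h7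
    · exact absurd (orderOf_eq_one_iff.1 h1) hy1
    · exact h7
  have hzy : Subgroup.zpowers y = (P : Subgroup G) := by
    apply Subgroup.eq_of_le_of_card_ge (Subgroup.zpowers_le.2 hy)
    rw [Nat.card_zpowers, hy7, hP]
  have hPQ : (P : Subgroup G) ≤ (Q : Subgroup G) := by
    rw [← hzy]
    exact Subgroup.zpowers_le.2 hyQ'
  apply hQ
  symm
  apply Sylow.ext
  apply Subgroup.eq_of_le_of_card_ge hPQ
  rw [card_sylow_seven_sub h Q, hP]

theorem card_sylow_seven (h : Nat.card G = 504) : Nat.card (Sylow 7 G) = 36 := by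
  rcases card_sylow_seven_or h with h8 | h36
  swap
  · exact h36
  exfalso
  obtain ⟨P⟩ : Nonempty (Sylow 7 G) := inferInstance
  have hP := card_sylow_seven_sub h P
  have hN : Nat.card (Subgroup.normalizer ((P : Subgroup G) : Set G)) = 63 := by
    have h2 := card_sylow_mul_card_normalizer P
    rw [h8, h] at h2
    omega
  obtain ⟨c', hc'⟩ := exists_prime_orderOf_dvd_card' (G := ↥(P : Subgroup G)) 7 (by rw [hP])
  have hc7 : orderOf (c' : G) = 7 := by rw [Subgroup.orderOf_coe]; exact hc'
  have hcP : (c' : G) ∈ (P : Subgroup G) := c'.2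
  generalize (c' : G) = c at hc7 hcP
  have hzp : Subgroup.zpowers c = (P : Subgroup G) := by
    apply Subgroup.eq_of_le_of_card_ge (Subgroup.zpowers_le.2 hcP)
    rw [Nat.card_zpowers, hc7, hP]
  generalize hNdef : Subgroup.normalizer ((P : Subgroup G) : Set G) = N at hN
  obtain ⟨R⟩ : Nonempty (Sylow 3 ↥N) := inferInstance
  have hR : Nat.card (R : Subgroup ↥N) = 9 := by
    have := sylow_card (G := ↥N) (p := 3) (n := 2) (m := 7) (by rw [hN]; norm_num)
      (by norm_num) R
    simpa using this
  have hconj : ∀ r : ↥N, (r : G) * c * (r : G)⁻¹ ∈ (P : Subgroup G) := by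
    intro r
    have hr : (r : G) ∈ Subgroup.normalizer ((P : Subgroup G) : Set G) := by
      rw [hNdef]; exact r.2
    exact (Subgroup.mem_normalizer_iff.1 hr c).1 hcP
  let f : ↥(R : Subgroup ↥N) → ↥(P : Subgroup G) :=
    fun r => ⟨((r : ↥N) : G) * c * ((r : ↥N) : G)⁻¹, hconj r⟩
  have hninj : ¬ Function.Injective f := by
    intro hinj
    have := Nat.card_le_card_of_injective f hinj
    rw [hP, hR] at this
    omega
  have hex : ∃ r₁ r₂ : ↥(R : Subgroup ↥N), r₁ ≠ r₂ ∧ f r₁ = f r₂ := by
    by_contra hcon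
    push Not at hcon
    apply hninj
    intro a b hab
    by_contra hne
    exact hcon a b hne hab
  obtain ⟨r₁, r₂, hr12, hfr⟩ := hex
  let xR : ↥(R : Subgroup ↥N) := r₂⁻¹ * r₁
  have hxR9 : xR ^ 9 = 1 := by
    have := pow_card_eq_one' (G := ↥(R : Subgroup ↥N)) (x := xR)
    rwa [hR] at this
  have hxR1 : xR ≠ 1 := by
    intro h1
    apply hr12
    exact (inv_mul_eq_one.1 h1).symm
  obtain ⟨x, hxdef⟩ : ∃ x : G, x = ((xR : ↥N) : G) := ⟨_, rfl⟩
  have hx9 : x ^ 9 = 1 := by
    have := congrArg (fun z : ↥(R : Subgroup ↥N) => ((z : ↥N) : G)) hxR9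
    rw [hxdef]
    simpa using this
  have hx1 : x ≠ 1 := by
    intro h1
    apply hxR1
    apply Subtype.ext
    apply Subtype.ext
    rw [← hxdef, h1]
    rfl
  have hxN : x ∈ Subgroup.normalizer ((P : Subgroup G) : Set G) := by
    rw [hNdef, hxdef]
    exact (xR : ↥N).2
  have hxP : x • P = P := Sylow.smul_eq_iff_mem_normalizer.2 hxN
  have hxc : x * c = c * x := by
    have e1 : ((r₁ : ↥N) : G) * c * ((r₁ : ↥N) : G)⁻¹ = ((r₂ : ↥N) : G) * c * ((r₂ : ↥N) : G)⁻¹ :=
      congrArg Subtype.val hfr
    have hxeq : x = ((r₂ : ↥N) : G)⁻¹ * ((r₁ : ↥N) : G) := by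
      rw [hxdef]
      rfl
    generalize ((r₁ : ↥N) : G) = g₁ at e1 hxeq
    generalize ((r₂ : ↥N) : G) = g₂ at e1 hxeq
    have e2 : g₁ * c = g₂ * c * g₂⁻¹ * g₁ := by rw [← e1]; group
    rw [hxeq]
    calc g₂⁻¹ * g₁ * c = g₂⁻¹ * (g₁ * c) := by rw [mul_assoc]
      _ = g₂⁻¹ * (g₂ * c * g₂⁻¹ * g₁) := by rw [e2]
      _ = c * (g₂⁻¹ * g₁) := by group
  have hxcomm : ∀ y ∈ (P : Subgroup G), x * y = y * x := by
    intro y hy
    rw [← hzp] at hy
    obtain ⟨j, rfl⟩ := Subgroup.mem_zpowers_iff.1 hy
    exact ((Commute.zpow_right (show Commute x c from hxc) j)).eq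
  have hfix : ∀ Q : Sylow 7 G, x • Q = Q := by
    intro Q
    by_cases hQ : Q = P
    · rw [hQ]; exact hxP
    · have hxQ : x • Q ≠ P := by
        intro he
        apply hQ
        have e : Q = x⁻¹ • P := by rw [← he, inv_smul_smul]
        rw [e, inv_smul_eq_iff, hxP]
      obtain ⟨y, hy, hyQ⟩ := exists_smul_eq_of_free P Q (x • Q) hQ hxQ
        (fun y hy hyQ => seven_free h P Q hQ y hy hyQ) (by rw [h8, hP])
      have hxy : x * y = y * x := hxcomm y hy
      have hpow : ∀ n : ℕ, x ^ n • Q = y ^ n • Q := by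
        intro n
        induction n with
        | zero => simp
        | succ n ih =>
          have hc' : x ^ n * y = y * x ^ n :=
            ((Commute.pow_left (show Commute x y from hxy) n)).eq
          calc x ^ (n + 1) • Q = x ^ n • (x • Q) := by rw [pow_succ, mul_smul]
            _ = x ^ n • (y • Q) := by rw [hyQ]
            _ = (x ^ n * y) • Q := by rw [mul_smul]
            _ = (y * x ^ n) • Q := by rw [hc']
            _ = y • (x ^ n • Q) := by rw [mul_smul]
            _ = y • (y ^ n • Q) := by rw [ih]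
            _ = y ^ (n + 1) • Q := by rw [pow_succ', mul_smul]
      have h9 := hpow 9
      rw [hx9, one_smul] at h9
      have hy9 : y ^ 9 = 1 := seven_free h P Q hQ (y ^ 9) (pow_mem hy 9) h9.symm
      have hd9 : orderOf y ∣ 9 := orderOf_dvd_of_pow_eq_one hy9
      have hd7 : orderOf y ∣ 7 := by
        rw [← hP]
        exact Subgroup.orderOf_dvd_natCard _ hy
      have hd1 : orderOf y ∣ Nat.gcd 9 7 := Nat.dvd_gcd hd9 hd7
      have hg : Nat.gcd 9 7 = 1 := by decide
      rw [hg, Nat.dvd_one, orderOf_eq_one_iff] at hd1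
      rw [← hyQ, hd1, one_smul]
  exact hx1 (faithful (by rw [h8]; norm_num) x hfix)

theorem card_normalizer_seven (h : Nat.card G = 504) (P : Sylow 7 G) :
    Nat.card (Subgroup.normalizer ((P : Subgroup G) : Set G)) = 14 := by
  have h2 := card_sylow_mul_card_normalizer P
  rw [card_sylow_seven h, h] at h2
  omega

theorem centralizer_seven (h : Nat.card G = 504) (P : Sylow 7 G) :
    Subgroup.centralizer ((P : Subgroup G) : Set G) = (P : Subgroup G) := by
  have hP := card_sylow_seven_sub h P
  have hN := card_normalizer_seven h P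
  have hcomm : ∀ x ∈ (P : Subgroup G), ∀ y ∈ (P : Subgroup G), x * y = y * x := by
    intro x hx y hy
    have := comm_of_card_prime (H := ↥(P : Subgroup G)) (p := 7) hP ⟨x, hx⟩ ⟨y, hy⟩
    exact congrArg Subtype.val this
  have hPC : (P : Subgroup G) ≤ Subgroup.centralizer ((P : Subgroup G) : Set G) := by
    intro x hx
    rw [Subgroup.mem_centralizer_iff]
    intro y hy
    exact hcomm y hy x hx
  have hCN : Subgroup.centralizer ((P : Subgroup G) : Set G)
      ≤ Subgroup.normalizer ((P : Subgroup G) : Set G) := Subgroup.centralizer_le_normalizer _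
  symm
  apply Subgroup.eq_of_le_of_card_ge hPC
  rw [hP]
  have hd1 : 7 ∣ Nat.card (Subgroup.centralizer ((P : Subgroup G) : Set G)) := by
    have := Subgroup.card_dvd_of_le hPC
    rwa [hP] at this
  have hd2 : Nat.card (Subgroup.centralizer ((P : Subgroup G) : Set G)) ∣ 14 := by
    rw [← hN]; exact Subgroup.card_dvd_of_le hCN
  by_contra hlt
  push Not at hlt
  have h14 : Nat.card (Subgroup.centralizer ((P : Subgroup G) : Set G)) = 14 := by
    have hle := Nat.le_of_dvd (by norm_num) hd2
    generalize Nat.card (Subgroup.centralizer ((P : Subgroup G) : Set G)) = n at *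
    interval_cases n <;> omega
  apply burnside P (by rw [hP]; norm_num) (by rw [hP, h]; norm_num)
  have e : Subgroup.centralizer ((P : Subgroup G) : Set G)
      = Subgroup.normalizer ((P : Subgroup G) : Set G) := by
    apply Subgroup.eq_of_le_of_card_ge hCN
    rw [hN, h14]
  rw [e]

/-- there is no subgroup of index eight -/
theorem index_ne_eight (h : Nat.card G = 504) (M : Subgroup G) : M.index ≠ 8 := by
  intro h8
  have hM : Nat.card M = 63 := by
    have := Subgroup.index_mul_card M
    rw [h8, h] at this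
    omega
  obtain ⟨Q⟩ : Nonempty (Sylow 7 ↥M) := inferInstance
  have hQ : Nat.card (Q : Subgroup ↥M) = 7 := by
    have := sylow_card (G := ↥M) (p := 7) (n := 1) (m := 9) (by rw [hM]; norm_num)
      (by norm_num) Q
    simpa using this
  have hn1 : Nat.card (Sylow 7 ↥M) = 1 := by
    have hidx : (Q : Subgroup ↥M).index = 9 := by
      have := Subgroup.index_mul_card (Q : Subgroup ↥M)
      rw [hQ, hM] at this
      omega
    have hdvd := Sylow.card_dvd_index Q
    rw [hidx] at hdvd
    have hmod := card_sylow_modEq_one 7 ↥M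
    have hle : Nat.card (Sylow 7 ↥M) ≤ 9 := Nat.le_of_dvd (by norm_num) hdvd
    unfold Nat.ModEq at hmod
    generalize Nat.card (Sylow 7 ↥M) = n at *
    interval_cases n <;> omega
  have hQn : (Q : Subgroup ↥M).Normal := by
    rw [Sylow.card_eq_index_normalizer Q, Subgroup.index_eq_one] at hn1
    exact Subgroup.normalizer_eq_top_iff.mp hn1
  have hV7 : Nat.card ((Q : Subgroup ↥M).map M.subtype) = 7 := by
    rw [Subgroup.card_map_of_injective M.subtype_injective, hQ]
  have hVM : (Q : Subgroup ↥M).map M.subtype ≤ M := Subgroup.map_subtype_le _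
  have hsub : ((Q : Subgroup ↥M).map M.subtype).subgroupOf M = (Q : Subgroup ↥M) :=
    Subgroup.comap_map_eq_self_of_injective M.subtype_injective _
  haveI : (((Q : Subgroup ↥M).map M.subtype).subgroupOf M).Normal := by rw [hsub]; exact hQn
  have hMN : M ≤ Subgroup.normalizer (((Q : Subgroup ↥M).map M.subtype : Subgroup G) : Set G) :=
    Subgroup.le_normalizer_of_normal_subgroupOf hVM
  have hV : IsPGroup 7 ((Q : Subgroup ↥M).map M.subtype) :=
    IsPGroup.of_card (n := 1) (by rw [hV7]; norm_num)
  obtain ⟨T, hT⟩ := hV.exists_le_sylow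
  have hTe : (Q : Subgroup ↥M).map M.subtype = (T : Subgroup G) := by
    apply Subgroup.eq_of_le_of_card_ge hT
    rw [card_sylow_seven_sub h T, hV7]
  rw [hTe] at hMN
  have hd := Subgroup.card_dvd_of_le hMN
  rw [hM, card_normalizer_seven h T] at hd
  omega

theorem nine_le_index (h : Nat.card G = 504) (M : Subgroup G) (hM : M ≠ ⊤) : 9 ≤ M.index := by
  have h8 := eight_le_index h M hM
  have h8' := index_ne_eight h M
  omega

theorem card_sylow_three (h : Nat.card G = 504) : Nat.card (Sylow 3 G) = 28 := by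
  obtain ⟨P⟩ : Nonempty (Sylow 3 G) := inferInstance
  have hP := card_sylow_three_sub h P
  have hne := sylow_number_ne_one P (by rw [hP]; norm_num) (by rw [hP, h]; norm_num)
  have hidx : (P : Subgroup G).index = 56 := by
    have := Subgroup.index_mul_card (P : Subgroup G)
    rw [hP, h] at this
    omega
  have hdvd := Sylow.card_dvd_index P
  rw [hidx] at hdvd
  have hmod := card_sylow_modEq_one 3 G
  have hle : Nat.card (Sylow 3 G) ≤ 56 := Nat.le_of_dvd (by norm_num) hdvd
  have h8 : 8 ≤ Nat.card (Sylow 3 G) := by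
    rw [Sylow.card_eq_index_normalizer P]
    apply eight_le_index h
    intro ht
    apply hne
    rw [Sylow.card_eq_index_normalizer P, ht, Subgroup.index_top]
  unfold Nat.ModEq at hmod
  generalize Nat.card (Sylow 3 G) = n at *
  interval_cases n <;> omega

theorem card_normalizer_three (h : Nat.card G = 504) (P : Sylow 3 G) :
    Nat.card (Subgroup.normalizer ((P : Subgroup G) : Set G)) = 18 := by
  have h2 := card_sylow_mul_card_normalizer P
  rw [card_sylow_three h, h] at h2
  omega

theorem centralizer_three (h : Nat.card G = 504) (P : Sylow 3 G) :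
    Subgroup.centralizer ((P : Subgroup G) : Set G) = (P : Subgroup G) := by
  have hP := card_sylow_three_sub h P
  have hN := card_normalizer_three h P
  have hPC : (P : Subgroup G) ≤ Subgroup.centralizer ((P : Subgroup G) : Set G) := by
    intro x hx
    rw [Subgroup.mem_centralizer_iff]
    intro y hy
    exact sylow_three_comm h P y x hy hx
  have hCN : Subgroup.centralizer ((P : Subgroup G) : Set G)
      ≤ Subgroup.normalizer ((P : Subgroup G) : Set G) := Subgroup.centralizer_le_normalizer _
  symm
  apply Subgroup.eq_of_le_of_card_ge hPC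
  rw [hP]
  have hd1 : 9 ∣ Nat.card (Subgroup.centralizer ((P : Subgroup G) : Set G)) := by
    rw [← hP]; exact Subgroup.card_dvd_of_le hPC
  have hd2 : Nat.card (Subgroup.centralizer ((P : Subgroup G) : Set G)) ∣ 18 := by
    rw [← hN]; exact Subgroup.card_dvd_of_le hCN
  by_contra hlt
  push Not at hlt
  have h18 : Nat.card (Subgroup.centralizer ((P : Subgroup G) : Set G)) = 18 := by
    have hle := Nat.le_of_dvd (by norm_num) hd2
    generalize Nat.card (Subgroup.centralizer ((P : Subgroup G) : Set G)) = n at *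
    interval_cases n <;> omega
  apply burnside P (by rw [hP]; norm_num) (by rw [hP, h]; norm_num)
  have e : Subgroup.centralizer ((P : Subgroup G) : Set G)
      = Subgroup.normalizer ((P : Subgroup G) : Set G) := by
    apply Subgroup.eq_of_le_of_card_ge hCN
    rw [hN, h18]
  rw [e]

/-- distinct Sylow 3-subgroups intersect trivially -/
theorem inf_eq_bot (h : Nat.card G = 504) (P Q : Sylow 3 G) (hPQ : P ≠ Q) :
    (P : Subgroup G) ⊓ (Q : Subgroup G) = ⊥ := by
  by_contra hD
  have hPC : (P : Subgroup G) ≤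
      Subgroup.centralizer (((P : Subgroup G) ⊓ (Q : Subgroup G) : Subgroup G) : Set G) := by
    intro x hx
    rw [Subgroup.mem_centralizer_iff]
    intro y hy
    exact sylow_three_comm h P y x (Subgroup.mem_inf.1 hy).1 hx
  have hQC : (Q : Subgroup G) ≤
      Subgroup.centralizer (((P : Subgroup G) ⊓ (Q : Subgroup G) : Subgroup G) : Set G) := by
    intro x hx
    rw [Subgroup.mem_centralizer_iff]
    intro y hy
    exact sylow_three_comm h Q y x (Subgroup.mem_inf.1 hy).2 hx
  have hCtop : Subgroup.centralizer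
      (((P : Subgroup G) ⊓ (Q : Subgroup G) : Subgroup G) : Set G) ≠ ⊤ := by
    intro ht
    apply hD
    rw [eq_bot_iff, ← center_eq_bot h]
    intro x hx
    rw [Subgroup.mem_center_iff]
    intro g
    have hg : g ∈ Subgroup.centralizer
        (((P : Subgroup G) ⊓ (Q : Subgroup G) : Subgroup G) : Set G) := by rw [ht]; trivial
    rw [Subgroup.mem_centralizer_iff] at hg
    exact (hg x hx).symm
  generalize hCdef : Subgroup.centralizer
      (((P : Subgroup G) ⊓ (Q : Subgroup G) : Subgroup G) : Set G) = C at hPC hQC hCtop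
  -- numerics
  have hk9 := nine_le_index h C hCtop
  have hmul := Subgroup.index_mul_card C
  rw [h] at hmul
  have hP9 := card_sylow_three_sub h P
  let P' : Sylow 3 ↥C := P.subtype hPC
  let Q' : Sylow 3 ↥C := Q.subtype hQC
  have hne : P' ≠ Q' := fun e => hPQ (Sylow.subtype_injective e)
  have h1 : 1 < Nat.card (Sylow 3 ↥C) := Finite.one_lt_card_iff_nontrivial.2 ⟨⟨P', Q', hne⟩⟩
  have hmod := card_sylow_modEq_one 3 ↥C
  have hdvd := Sylow.card_dvd_index P'
  have hP'9 : Nat.card (P' : Subgroup ↥C) = 9 := by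
    have e1 : (P' : Subgroup ↥C) = (P : Subgroup G).subgroupOf C := Sylow.coe_subtype P hPC
    rw [e1, Nat.card_congr (Subgroup.subgroupOfEquivOfLe hPC).toEquiv, hP9]
  have hmul' := Subgroup.index_mul_card (P' : Subgroup ↥C)
  rw [hP'9] at hmul'
  have hnum : Nat.card ↥C = 36 ∧ Nat.card (Sylow 3 ↥C) = 4 := by
    unfold Nat.ModEq at hmod
    generalize Nat.card (Sylow 3 ↥C) = n at *
    generalize (P' : Subgroup ↥C).index = i at *
    generalize C.index = k at *
    generalize Nat.card ↥C = c at *
    have hki : k * i = 56 := by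
      have e : 9 * (k * i) = 9 * 56 := by
        calc 9 * (k * i) = k * (i * 9) := by ring
          _ = 9 * 56 := by rw [hmul', hmul]
      exact Nat.eq_of_mul_eq_mul_left (by norm_num) e
    have hi6 : i ≤ 6 := by
      have h2 : 9 * i ≤ k * i := Nat.mul_le_mul_right i hk9
      omega
    have hn : n ≤ i := Nat.le_of_dvd (by
      rcases Nat.eq_zero_or_pos i with h0 | h0
      · rw [h0] at hki; omega
      · exact h0) hdvd
    interval_cases i <;> interval_cases n <;> omega
  obtain ⟨hC36, hn4⟩ := hnum
  -- the normaliser of `P'` in `C` is `P'`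
  have hN9 : Nat.card (Subgroup.normalizer ((P' : Subgroup ↥C) : Set ↥C)) = 9 := by
    have h2 := card_sylow_mul_card_normalizer P'
    rw [hn4, hC36] at h2
    omega
  have hNP : Subgroup.normalizer ((P' : Subgroup ↥C) : Set ↥C) = (P' : Subgroup ↥C) := by
    symm
    apply Subgroup.eq_of_le_of_card_ge Subgroup.le_normalizer
    rw [hN9, hP'9]
  have hle : Subgroup.normalizer ((P' : Subgroup ↥C) : Set ↥C)
      ≤ Subgroup.centralizer ((P' : Subgroup ↥C) : Set ↥C) := by
    rw [hNP]
    intro x hx
    rw [Subgroup.mem_centralizer_iff]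
    intro y hy
    have hc : Nat.card (P' : Subgroup ↥C) = 3 ^ 2 := by rw [hP'9]; norm_num
    have := IsPGroup.commutative_of_card_eq_prime_sq hc ⟨y, hy⟩ ⟨x, hx⟩
    exact congrArg Subtype.val this
  have hcompl := MonoidHom.ker_transferSylow_isComplement' P' hle
  have hcm := hcompl.card_mul_card
  rw [hP'9, hC36] at hcm
  have hV'4 : Nat.card (MonoidHom.transferSylow P' hle).ker = 4 := by omega
  generalize hV'def : (MonoidHom.transferSylow P' hle).ker = V' at hV'4
  have hV'n : V'.Normal := by rw [← hV'def]; exact MonoidHom.normal_ker _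
  -- push to `G`
  have hV4 : Nat.card (V'.map C.subtype) = 4 := by
    rw [Subgroup.card_map_of_injective C.subtype_injective, hV'4]
  have hVC : V'.map C.subtype ≤ C := Subgroup.map_subtype_le V'
  have hsub : (V'.map C.subtype).subgroupOf C = V' :=
    Subgroup.comap_map_eq_self_of_injective C.subtype_injective V'
  haveI : ((V'.map C.subtype).subgroupOf C).Normal := by rw [hsub]; exact hV'n
  have hCN : C ≤ Subgroup.normalizer ((V'.map C.subtype : Subgroup G) : Set G) :=
    Subgroup.le_normalizer_of_normal_subgroupOf hVC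
  have hV2 : IsPGroup 2 (V'.map C.subtype) := IsPGroup.of_card (n := 2) (by rw [hV4]; norm_num)
  obtain ⟨S, hS⟩ := hV2.exists_le_sylow
  have hS8 := card_sylow_two_sub h S
  have hSN : (S : Subgroup G) ≤ Subgroup.normalizer ((V'.map C.subtype : Subgroup G) : Set G) :=
    le_normalizer_of_card_two_mul hS (by rw [hS8, hV4])
  generalize V'.map C.subtype = V at hV4 hCN hSN
  have h36 : 36 ∣ Nat.card (Subgroup.normalizer (V : Set G)) := by
    rw [← hC36]; exact Subgroup.card_dvd_of_le hCN
  have h8 : 8 ∣ Nat.card (Subgroup.normalizer (V : Set G)) := by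
    rw [← hS8]; exact Subgroup.card_dvd_of_le hSN
  have h72 : 72 ∣ Nat.card (Subgroup.normalizer (V : Set G)) := by
    have h9 : 9 ∣ Nat.card (Subgroup.normalizer (V : Set G)) := Dvd.dvd.trans (by norm_num) h36
    exact Nat.Coprime.mul_dvd_of_dvd_of_dvd (by norm_num : Nat.Coprime 9 8) h9 h8
  have hmulN := Subgroup.index_mul_card (Subgroup.normalizer (V : Set G))
  rw [h] at hmulN
  have hNtop : Subgroup.normalizer (V : Set G) = ⊤ := by
    by_contra hne
    have h9 := nine_le_index h _ hne
    obtain ⟨j, hj⟩ := h72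
    rw [hj] at hmulN
    generalize (Subgroup.normalizer (V : Set G)).index = k at *
    have hkj : k * j = 7 := by
      have e : 72 * (k * j) = 72 * 7 := by
        calc 72 * (k * j) = k * (72 * j) := by ring
          _ = 72 * 7 := by rw [hmulN]
      exact Nat.eq_of_mul_eq_mul_left (by norm_num) e
    have hj0 : 0 < j := by
      rcases Nat.eq_zero_or_pos j with h0 | h0
      · rw [h0] at hkj; omega
      · exact h0
    have : k * 1 ≤ k * j := Nat.mul_le_mul_left k hj0
    omega
  have hVn : V.Normal := Subgroup.normalizer_eq_top_iff.mp hNtop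
  rcases hVn.eq_bot_or_eq_top with hb | ht
  · rw [hb, Subgroup.card_bot] at hV4
    omega
  · rw [ht, Subgroup.card_top, h] at hV4
    omega

end Main

end Cfsg.Agent.Lib.Helper2.O504
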