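import Mathlib
import Cfsg.Agent.Lib.Helper2.Order504a
import Cfsg.Agent.Lib.Helper9.ClassSize

/-!
# Simple groups of order 504: counting elements, the Sylow 2-subgroups (helper2)
-/

set_option autoImplicit false
set_option maxHeartbeats 1000000

namespace Cfsg.Agent.Lib.Helper2.O504

open Cfsg.Agent.Lib.Helper2.Order168 (sylow_card sylow_number_ne_one card_dvd_factorial burnside
  card_dvd_factorial_index le_normalizer_of_card_two_mul comm_of_card_prime exists_sylow_eq_zpowers)
open Cfsg.Agent.Lib.Helper2.A6 (card_sylow_mul_card_normalizer mem_of_smul_eq smul_self_of_mem)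
open Cfsg.Agent.Lib.Helper9 (card_carrier_mul_card_centralizer)

/-- elements of order seven, and nontrivial 3-elements -/
def Bad {G : Type*} [Group G] (x : G) : Prop := orderOf x = 7 ∨ (x ≠ 1 ∧ x ^ 9 = 1)

theorem bad_conj {G : Type*} [Group G] (g x : G) : Bad (g * x * g⁻¹) ↔ Bad x := by
  have ho : orderOf (g * x * g⁻¹) = orderOf x := by
    have := (MulAut.conj g).orderOf_eq x
    rw [MulAut.conj_apply] at this
    exact this
  unfold Bad
  rw [ho, conj_pow, Ne, conj_eq_one_iff, conj_eq_one_iff]

theorem not_bad_one {G : Type*} [Group G] : ¬ Bad (1 : G) := by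
  rintro (h7 | ⟨h1, -⟩)
  · rw [orderOf_one] at h7; omega
  · exact h1 rfl

theorem not_bad_two {G : Type*} [Group G] (w : G) (hw1 : w ≠ 1) (hw8 : w ^ 8 = 1) : ¬ Bad w := by
  rintro (h7 | ⟨-, h9⟩)
  · have hd : orderOf w ∣ 8 := orderOf_dvd_of_pow_eq_one hw8
    rw [h7] at hd
    omega
  · apply hw1
    calc w = w ^ 8 * w := by rw [hw8, one_mul]
      _ = w ^ 9 := by rw [← pow_succ]
      _ = 1 := h9

section Main
variable {G : Type*} [Group G] [Finite G] [IsSimpleGroup G]

/-- there are at least 216 elements of order seven -/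
theorem card_order_seven (h : Nat.card G = 504) :
    216 ≤ Nat.card {x : G // orderOf x = 7} := by
  classical
  have hgen : ∀ P : Sylow 7 G, ∃ x : G, x ∈ (P : Subgroup G) ∧ orderOf x = 7 := by
    intro P
    obtain ⟨x, hx⟩ := exists_prime_orderOf_dvd_card' (G := ↥(P : Subgroup G)) 7
      (by rw [card_sylow_seven_sub h P])
    exact ⟨(x : G), x.2, by rw [Subgroup.orderOf_coe]; exact hx⟩
  choose gen hgenP hgen7 using hgen
  have hcop : ∀ i : Fin 6, Nat.Coprime 7 (i.val + 1) := by decide
  have hord : ∀ (P : Sylow 7 G) (i : Fin 6), orderOf (gen P ^ (i.val + 1)) = 7 := by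
    intro P i
    rw [Nat.Coprime.orderOf_pow (by rw [hgen7]; exact hcop i), hgen7]
  let f : Sylow 7 G × Fin 6 → {x : G // orderOf x = 7} :=
    fun x => ⟨gen x.1 ^ (x.2.val + 1), hord x.1 x.2⟩
  have hzp : ∀ (P : Sylow 7 G) (y : G), y ∈ (P : Subgroup G) → orderOf y = 7 →
      (P : Subgroup G) = Subgroup.zpowers y := by
    intro P y hy hy7
    symm
    apply Subgroup.eq_of_le_of_card_ge (Subgroup.zpowers_le.2 hy)
    rw [Nat.card_zpowers, hy7, card_sylow_seven_sub h P]
  have hf : Function.Injective f := by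
    rintro ⟨P, i⟩ ⟨Q, j⟩ hPQ
    have h1 : gen P ^ (i.val + 1) = gen Q ^ (j.val + 1) := congrArg Subtype.val hPQ
    have hPQ' : P = Q := by
      apply Sylow.ext
      rw [hzp P _ (Subgroup.pow_mem _ (hgenP P) _) (hord P i),
        hzp Q _ (Subgroup.pow_mem _ (hgenP Q) _) (hord Q j), h1]
    subst hPQ'
    have h2 : i.val + 1 = j.val + 1 := by
      apply pow_injOn_Iio_orderOf (x := gen P)
      · rw [Set.mem_Iio, hgen7]; have := i.2; omega
      · rw [Set.mem_Iio, hgen7]; have := j.2; omega
      · exact h1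
    have h3 : i = j := Fin.ext (by omega)
    rw [h3]
  have hle := Nat.card_le_card_of_injective f hf
  rw [Nat.card_prod, card_sylow_seven h, Nat.card_eq_fintype_card (α := Fin 6),
    Fintype.card_fin] at hle
  omega

/-- there are at least 224 nontrivial 3-elements -/
theorem card_three_elements (h : Nat.card G = 504) :
    224 ≤ Nat.card {x : G // x ≠ 1 ∧ x ^ 9 = 1} := by
  classical
  haveI : Fintype (Sylow 3 G) := Fintype.ofFinite _
  let f : (Σ P : Sylow 3 G, {y : ↥(P : Subgroup G) // y ≠ 1}) → {x : G // x ≠ 1 ∧ x ^ 9 = 1} :=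
    fun a => ⟨((a.2.1 : ↥(a.1 : Subgroup G)) : G), by
      constructor
      · intro h1
        exact a.2.2 (Subtype.ext h1)
      · have := pow_card_eq_one' (G := ↥(a.1 : Subgroup G)) (x := a.2.1)
        rw [card_sylow_three_sub h a.1] at this
        have h2 := congrArg (fun z : ↥(a.1 : Subgroup G) => (z : G)) this
        simpa using h2⟩
  have hf : Function.Injective f := by
    rintro ⟨P, y, hy⟩ ⟨Q, y', hy'⟩ hxy
    have h1 : (y : G) = (y' : G) := congrArg Subtype.val hxy
    have hPQ : P = Q := by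
      by_contra hne
      have h2 : (y : G) ∈ (P : Subgroup G) ⊓ (Q : Subgroup G) := ⟨y.2, by rw [h1]; exact y'.2⟩
      rw [inf_eq_bot h P Q hne, Subgroup.mem_bot] at h2
      exact hy (Subtype.ext h2)
    subst hPQ
    have h3 : y = y' := Subtype.ext h1
    subst h3
    rfl
  have hle := Nat.card_le_card_of_injective f hf
  rw [Nat.card_sigma] at hle
  have hsum : ∑ P : Sylow 3 G, Nat.card {y : ↥(P : Subgroup G) // y ≠ 1} = 224 := by
    have h8 : ∀ P : Sylow 3 G, Nat.card {y : ↥(P : Subgroup G) // y ≠ 1} = 8 := by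
      intro P
      have e := Nat.card_congr (Equiv.optionSubtypeNe (1 : ↥(P : Subgroup G)))
      rw [Finite.card_option, card_sylow_three_sub h P] at e
      omega
    rw [Finset.sum_congr rfl (fun P _ => h8 P), Finset.sum_const, Finset.card_univ,
      ← Nat.card_eq_fintype_card, card_sylow_three h]
    rfl
  rw [hsum] at hle
  exact hle

theorem card_bad (h : Nat.card G = 504) : 440 ≤ Nat.card {x : G // Bad x} := by
  let f : {x : G // orderOf x = 7} ⊕ {x : G // x ≠ 1 ∧ x ^ 9 = 1} → {x : G // Bad x} :=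
    fun a => match a with
      | Sum.inl x => ⟨x.1, Or.inl x.2⟩
      | Sum.inr x => ⟨x.1, Or.inr x.2⟩
  have hf : Function.Injective f := by
    rintro (⟨x, hx⟩ | ⟨x, hx⟩) (⟨y, hy⟩ | ⟨y, hy⟩) hxy
    · have h1 : x = y := congrArg Subtype.val hxy
      subst h1; rfl
    · exfalso
      have h1 : x = y := congrArg Subtype.val hxy
      subst h1
      have hd : orderOf x ∣ 9 := orderOf_dvd_of_pow_eq_one hy.2
      rw [hx] at hd
      omega
    · exfalso
      have h1 : x = y := congrArg Subtype.val hxy
      subst h1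
      have hd : orderOf x ∣ 9 := orderOf_dvd_of_pow_eq_one hx.2
      rw [hy] at hd
      omega
    · have h1 : x = y := congrArg Subtype.val hxy
      subst h1; rfl
  have hle := Nat.card_le_card_of_injective f hf
  rw [Nat.card_sum] at hle
  have h1 := card_order_seven h
  have h2 := card_three_elements h
  omega

theorem card_rest (h : Nat.card G = 504) : Nat.card {x : G // ¬ Bad x} ≤ 64 := by
  classical
  have e := Nat.card_congr (Equiv.sumCompl (fun x : G => Bad x))
  rw [Nat.card_sum, h] at e
  have := card_bad h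
  omega

theorem card_carrier_le (h : Nat.card G = 504) (y : G) (hy : ¬ Bad y) :
    Nat.card (ConjClasses.mk y).carrier ≤ 64 := by
  let f : (ConjClasses.mk y).carrier → {x : G // ¬ Bad x} := fun w => ⟨w.1, by
    have hw := w.2
    rw [ConjClasses.mem_carrier_iff_mk_eq, ConjClasses.mk_eq_mk_iff_isConj, isConj_iff] at hw
    obtain ⟨c, hc⟩ := hw
    intro hb
    apply hy
    rw [← hc]
    exact (bad_conj c w.1).2 hb⟩
  have hf : Function.Injective f := fun a b hab =>
    Subtype.ext (congrArg (fun t : {x : G // ¬ Bad x} => (t : G)) hab)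
  exact le_trans (Nat.card_le_card_of_injective f hf) (card_rest h)

/-- no element of order three commutes with a nontrivial 2-element -/
theorem no_three_two (h : Nat.card G = 504) (x z : G) (hx : orderOf x = 3) (hz1 : z ≠ 1)
    (hz8 : z ^ 8 = 1) (hxz : x * z = z * x) : False := by
  have hx3 : x ^ 3 = 1 := by rw [← hx]; exact pow_orderOf_eq_one x
  have hcomm : Commute x z := hxz
  have hy16 : (x * z) ^ 16 = x := by
    rw [hcomm.mul_pow]
    have e1 : x ^ 16 = x := by
      calc x ^ 16 = (x ^ 3) ^ 5 * x := by rw [← pow_mul, ← pow_succ]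
        _ = x := by rw [hx3, one_pow, one_mul]
    have e2 : z ^ 16 = 1 := by
      calc z ^ 16 = (z ^ 8) ^ 2 := by rw [← pow_mul]
        _ = 1 := by rw [hz8, one_pow]
    rw [e1, e2, mul_one]
  have hy9 : (x * z) ^ 9 = z := by
    rw [hcomm.mul_pow]
    have e1 : x ^ 9 = 1 := by
      calc x ^ 9 = (x ^ 3) ^ 3 := by rw [← pow_mul]
        _ = 1 := by rw [hx3, one_pow]
    have e2 : z ^ 9 = z := by
      calc z ^ 9 = z ^ 8 * z := by rw [← pow_succ]
        _ = z := by rw [hz8, one_mul]
    rw [e1, e2, one_mul]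
  have hy24 : (x * z) ^ 24 = 1 := by
    rw [hcomm.mul_pow]
    have e1 : x ^ 24 = 1 := by
      calc x ^ 24 = (x ^ 3) ^ 8 := by rw [← pow_mul]
        _ = 1 := by rw [hx3, one_pow]
    have e2 : z ^ 24 = 1 := by
      calc z ^ 24 = (z ^ 8) ^ 3 := by rw [← pow_mul]
        _ = 1 := by rw [hz8, one_pow]
    rw [e1, e2, mul_one]
  generalize x * z = y at hy16 hy9 hy24
  have hnb : ¬ Bad y := by
    rintro (h7 | ⟨-, h9⟩)
    · have hd : orderOf y ∣ 24 := orderOf_dvd_of_pow_eq_one hy24
      rw [h7] at hd
      omega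
    · rw [hy9] at h9
      exact hz1 h9
  have hcls := card_carrier_le h y hnb
  have hmul := card_carrier_mul_card_centralizer y
  rw [h] at hmul
  have hCx : ∀ g ∈ Subgroup.centralizer ({y} : Set G), g * x = x * g := by
    intro g hg
    rw [Subgroup.mem_centralizer_singleton_iff] at hg
    rw [← hy16]
    exact ((Commute.pow_right (show Commute g y from hg) 16)).eq
  have hCz : ∀ g ∈ Subgroup.centralizer ({y} : Set G), g * z = z * g := by
    intro g hg
    rw [Subgroup.mem_centralizer_singleton_iff] at hg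
    rw [← hy9]
    exact ((Commute.pow_right (show Commute g y from hg) 9)).eq
  have hpx : IsPGroup 3 (Subgroup.zpowers x) :=
    IsPGroup.of_card (n := 1) (by rw [Nat.card_zpowers, hx, pow_one])
  obtain ⟨P, hP⟩ := hpx.exists_le_sylow
  have hxP : x ∈ (P : Subgroup G) := hP (Subgroup.mem_zpowers x)
  have hx1 : x ≠ 1 := by
    intro h1
    rw [h1, orderOf_one] at hx
    omega
  have hCN : Subgroup.centralizer ({y} : Set G)
      ≤ Subgroup.normalizer ((P : Subgroup G) : Set G) := by
    intro g hg
    have hgx := hCx g hg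
    have hsm : g • P = P := by
      by_contra hne
      have h1 : g * x * g⁻¹ ∈ ((g • P : Sylow 3 G) : Subgroup G) := by
        rw [Sylow.coe_subgroup_smul]
        exact Subgroup.smul_mem_pointwise_smul _ (MulAut.conj g) (P : Subgroup G) hxP
      rw [hgx, mul_inv_cancel_right] at h1
      have h2 : x ∈ ((g • P : Sylow 3 G) : Subgroup G) ⊓ (P : Subgroup G) := ⟨h1, hxP⟩
      rw [inf_eq_bot h (g • P) P hne, Subgroup.mem_bot] at h2
      exact hx1 h2
    have h3 : g ∈ Subgroup.normalizer ((P : Subgroup G) : Set G) :=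
      Sylow.smul_eq_iff_mem_normalizer.1 hsm
    exact h3
  generalize Subgroup.centralizer ({y} : Set G) = C at hCx hCz hCN hmul
  have hc18 : Nat.card C ∣ 18 := by
    have := Subgroup.card_dvd_of_le hCN
    rwa [card_normalizer_three h P] at this
  have h9 : 9 ∣ Nat.card C := by
    have hle := Nat.le_of_dvd (by norm_num) hc18
    generalize Nat.card C = c at *
    generalize Nat.card (ConjClasses.mk y).carrier = k at *
    interval_cases c <;> omega
  obtain ⟨K, hK⟩ := Sylow.exists_subgroup_card_pow_prime 3 (n := 2) (G := ↥C)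
    (by norm_num; exact h9)
  have hK9 : Nat.card (K.map C.subtype) = 9 := by
    rw [Subgroup.card_map_of_injective C.subtype_injective, hK]
    norm_num
  have hKp : IsPGroup 3 (K.map C.subtype) := IsPGroup.of_card (n := 2) (by rw [hK9]; norm_num)
  obtain ⟨P', hP'⟩ := hKp.exists_le_sylow
  have hKe : K.map C.subtype = (P' : Subgroup G) := by
    apply Subgroup.eq_of_le_of_card_ge hP'
    rw [card_sylow_three_sub h P', hK9]
  have hzc : z ∈ Subgroup.centralizer ((P' : Subgroup G) : Set G) := by
    rw [Subgroup.mem_centralizer_iff]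
    intro p hp
    have hp' : p ∈ K.map C.subtype := by rw [hKe]; exact hp
    obtain ⟨k, -, rfl⟩ := Subgroup.mem_map.1 hp'
    exact hCz (k : G) k.2
  rw [centralizer_three h P'] at hzc
  have hd9 : orderOf z ∣ 9 := by
    have := Subgroup.orderOf_dvd_natCard _ hzc
    rwa [card_sylow_three_sub h P'] at this
  have hd8 : orderOf z ∣ 8 := orderOf_dvd_of_pow_eq_one hz8
  have hd1 : orderOf z ∣ Nat.gcd 9 8 := Nat.dvd_gcd hd9 hd8
  have hg : Nat.gcd 9 8 = 1 := by decide
  rw [hg, Nat.dvd_one, orderOf_eq_one_iff] at hd1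
  exact hz1 hd1

/-- the centraliser of a nontrivial 2-element is a 2-group -/
theorem card_centralizer_two (h : Nat.card G = 504) (z : G) (hz1 : z ≠ 1) (hz8 : z ^ 8 = 1) :
    Nat.card (Subgroup.centralizer ({z} : Set G)) ∣ 8 := by
  have hdvd : Nat.card (Subgroup.centralizer ({z} : Set G)) ∣ 8 * 63 := by
    have := Subgroup.card_subgroup_dvd_card (Subgroup.centralizer ({z} : Set G))
    rwa [h] at this
  have h3 : ¬ 3 ∣ Nat.card (Subgroup.centralizer ({z} : Set G)) := by
    intro hd
    obtain ⟨x, hx⟩ := exists_prime_orderOf_dvd_card'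
      (G := ↥(Subgroup.centralizer ({z} : Set G))) 3 hd
    have hx3 : orderOf (x : G) = 3 := by rw [Subgroup.orderOf_coe]; exact hx
    have hxz : (x : G) * z = z * (x : G) := Subgroup.mem_centralizer_singleton_iff.1 x.2
    exact no_three_two h (x : G) z hx3 hz1 hz8 hxz
  have h7 : ¬ 7 ∣ Nat.card (Subgroup.centralizer ({z} : Set G)) := by
    intro hd
    obtain ⟨c, hc⟩ := exists_prime_orderOf_dvd_card'
      (G := ↥(Subgroup.centralizer ({z} : Set G))) 7 hd
    have hc7 : orderOf (c : G) = 7 := by rw [Subgroup.orderOf_coe]; exact hc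
    have hcz : (c : G) * z = z * (c : G) := Subgroup.mem_centralizer_singleton_iff.1 c.2
    obtain ⟨T, hT⟩ := exists_sylow_eq_zpowers (p := 7) (m := 72) (by rw [h]; norm_num)
      (by norm_num) hc7
    have hzT : z ∈ Subgroup.centralizer ((T : Subgroup G) : Set G) := by
      rw [Subgroup.mem_centralizer_iff]
      intro p hp
      have hp' : p ∈ Subgroup.zpowers (c : G) := by rw [← hT]; exact hp
      obtain ⟨j, rfl⟩ := Subgroup.mem_zpowers_iff.1 hp'
      exact ((Commute.zpow_left (show Commute (c : G) z from hcz) j)).eq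
    rw [centralizer_seven h T] at hzT
    have hd7 : orderOf z ∣ 7 := by
      have := Subgroup.orderOf_dvd_natCard _ hzT
      rwa [card_sylow_seven_sub h T] at this
    have hd8 : orderOf z ∣ 8 := orderOf_dvd_of_pow_eq_one hz8
    have hd1 : orderOf z ∣ Nat.gcd 7 8 := Nat.dvd_gcd hd7 hd8
    have hg : Nat.gcd 7 8 = 1 := by decide
    rw [hg, Nat.dvd_one, orderOf_eq_one_iff] at hd1
    exact hz1 hd1
  have hc3 : Nat.Coprime (Nat.card (Subgroup.centralizer ({z} : Set G))) 3 :=
    ((Nat.Prime.coprime_iff_not_dvd Nat.prime_three).2 h3).symm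
  have hc7 : Nat.Coprime (Nat.card (Subgroup.centralizer ({z} : Set G))) 7 :=
    ((Nat.Prime.coprime_iff_not_dvd (by norm_num : Nat.Prime 7)).2 h7).symm
  have hc63 : Nat.Coprime (Nat.card (Subgroup.centralizer ({z} : Set G))) 63 := by
    have e : (63 : ℕ) = 3 ^ 2 * 7 := by norm_num
    rw [e]
    exact Nat.Coprime.mul_right (Nat.Coprime.pow_right 2 hc3) hc7
  exact Nat.Coprime.dvd_of_dvd_mul_right hc63 hdvd

/-- every nontrivial 2-element is an involution whose centraliser has order eight -/
theorem two_elements (h : Nat.card G = 504) (w : G) (hw1 : w ≠ 1) (hw8 : w ^ 8 = 1) :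
    w ^ 2 = 1 ∧ Nat.card (Subgroup.centralizer ({w} : Set G)) = 8 := by
  classical
  obtain ⟨S⟩ : Nonempty (Sylow 2 G) := inferInstance
  have hS := card_sylow_two_sub h S
  haveI : Nontrivial ↥(S : Subgroup G) := by
    rw [← Finite.one_lt_card_iff_nontrivial, hS]; norm_num
  haveI : Nontrivial (Subgroup.center ↥(S : Subgroup G)) := S.isPGroup'.center_nontrivial
  obtain ⟨z', hz'⟩ := exists_ne (1 : Subgroup.center ↥(S : Subgroup G))
  obtain ⟨z, hzdef⟩ : ∃ z : G, z = ((z' : ↥(S : Subgroup G)) : G) := ⟨_, rfl⟩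
  have hzS : z ∈ (S : Subgroup G) := by rw [hzdef]; exact (z' : ↥(S : Subgroup G)).2
  have hz1 : z ≠ 1 := by
    intro h1
    apply hz'
    apply Subtype.ext
    apply Subtype.ext
    rw [← hzdef, h1]
    rfl
  have hzc : ∀ s ∈ (S : Subgroup G), s * z = z * s := by
    intro s hs
    have := Subgroup.mem_center_iff.1 z'.2 ⟨s, hs⟩
    have h2 := congrArg (fun t : ↥(S : Subgroup G) => (t : G)) this
    rw [hzdef]
    exact h2
  have hz8 : z ^ 8 = 1 := by
    have hd : orderOf z ∣ 8 := by
      have := Subgroup.orderOf_dvd_natCard _ hzS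
      rwa [hS] at this
    exact orderOf_dvd_iff_pow_eq_one.1 hd
  have hSC : (S : Subgroup G) ≤ Subgroup.centralizer ({z} : Set G) := by
    intro s hs
    rw [Subgroup.mem_centralizer_singleton_iff]
    exact hzc s hs
  have hC8 : Nat.card (Subgroup.centralizer ({z} : Set G)) = 8 := by
    have hd1 := card_centralizer_two h z hz1 hz8
    have hd2 := Subgroup.card_dvd_of_le hSC
    rw [hS] at hd2
    exact Nat.dvd_antisymm hd1 hd2
  have hcls : Nat.card (ConjClasses.mk z).carrier = 63 := by
    have := card_carrier_mul_card_centralizer z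
    rw [hC8, h] at this
    omega
  have hcar : ∀ v : (ConjClasses.mk z).carrier, ¬ Bad (v : G) ∧ (v : G) ≠ 1 := by
    intro v
    have hv := v.2
    rw [ConjClasses.mem_carrier_iff_mk_eq, ConjClasses.mk_eq_mk_iff_isConj, isConj_iff] at hv
    obtain ⟨c, hc⟩ := hv
    constructor
    · intro hb
      apply not_bad_two z hz1 hz8
      rw [← hc]
      exact (bad_conj c v.1).2 hb
    · intro h1
      apply hz1
      rw [← hc, h1, mul_one, mul_inv_cancel]
  let f : Option (ConjClasses.mk z).carrier → {x : G // ¬ Bad x} := fun o =>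
    match o with
    | none => ⟨1, not_bad_one⟩
    | some v => ⟨v.1, (hcar v).1⟩
  have hf : Function.Injective f := by
    rintro (_ | a) (_ | b) hab
    · rfl
    · exfalso
      have h1 : (1 : G) = (b : G) := congrArg Subtype.val hab
      exact (hcar b).2 h1.symm
    · exfalso
      have h1 : (a : G) = 1 := congrArg Subtype.val hab
      exact (hcar a).2 h1
    · have h1 : (a : G) = (b : G) := congrArg (fun t : {x : G // ¬ Bad x} => (t : G)) hab
      rw [Subtype.ext h1]
  have hbij : Function.Bijective f := by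
    apply hf.bijective_of_nat_card_le
    rw [Finite.card_option, hcls]
    exact card_rest h
  have hall : ∀ r : G, ¬ Bad r → r = 1 ∨ ConjClasses.mk r = ConjClasses.mk z := by
    intro r hr
    obtain ⟨o, ho⟩ := hbij.2 ⟨r, hr⟩
    rcases o with _ | v
    · left
      exact (congrArg Subtype.val ho).symm
    · right
      have h1 : (v : G) = r := congrArg Subtype.val ho
      rw [← h1]
      exact ConjClasses.mem_carrier_iff_mk_eq.1 v.2
  have hconj_order : ∀ r : G, ConjClasses.mk r = ConjClasses.mk z → orderOf r = orderOf z := by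
    intro r hr
    rw [ConjClasses.mk_eq_mk_iff_isConj, isConj_iff] at hr
    obtain ⟨c, hc⟩ := hr
    have := (MulAut.conj c).orderOf_eq r
    rw [MulAut.conj_apply, hc] at this
    exact this.symm
  obtain ⟨u, hu⟩ := exists_prime_orderOf_dvd_card' (G := G) 2 (by rw [h]; norm_num)
  have hu1 : u ≠ 1 := by
    intro h1
    rw [h1, orderOf_one] at hu
    omega
  have hu8 : u ^ 8 = 1 := by
    have h2 : u ^ 2 = 1 := by rw [← hu]; exact pow_orderOf_eq_one u
    calc u ^ 8 = (u ^ 2) ^ 4 := by rw [← pow_mul]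
      _ = 1 := by rw [h2, one_pow]
  have hoz : orderOf z = 2 := by
    rcases hall u (not_bad_two u hu1 hu8) with h1 | h1
    · exact absurd h1 hu1
    · rw [← hconj_order u h1, hu]
  rcases hall w (not_bad_two w hw1 hw8) with h1 | h1
  · exact absurd h1 hw1
  · constructor
    · have h2 : orderOf w = 2 := by rw [hconj_order w h1, hoz]
      rw [← h2]
      exact pow_orderOf_eq_one w
    · have := card_carrier_mul_card_centralizer w
      rw [h1, hcls, h] at this
      omega

theorem sylow_two_pow (h : Nat.card G = 504) (S : Sylow 2 G) (s : G)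
    (hs : s ∈ (S : Subgroup G)) : s ^ 8 = 1 := by
  have hd : orderOf s ∣ 8 := by
    have := Subgroup.orderOf_dvd_natCard _ hs
    rwa [card_sylow_two_sub h S] at this
  exact orderOf_dvd_iff_pow_eq_one.1 hd

theorem sylow_two_sq (h : Nat.card G = 504) (S : Sylow 2 G) (s : G)
    (hs : s ∈ (S : Subgroup G)) : s ^ 2 = 1 := by
  by_cases h1 : s = 1
  · rw [h1, one_pow]
  · exact (two_elements h s h1 (sylow_two_pow h S s hs)).1

theorem sylow_two_comm (h : Nat.card G = 504) (S : Sylow 2 G) (s t : G)
    (hs : s ∈ (S : Subgroup G)) (ht : t ∈ (S : Subgroup G)) : s * t = t * s := by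
  have h1 := sylow_two_sq h S s hs
  have h2 := sylow_two_sq h S t ht
  have h3 := sylow_two_sq h S (s * t) (Subgroup.mul_mem _ hs ht)
  have e1 : s * s = 1 := by rw [← pow_two]; exact h1
  have e2 : t * t = 1 := by rw [← pow_two]; exact h2
  have e3 : (s * t) * (s * t) = 1 := by rw [← pow_two]; exact h3
  have h4 : s * t * (s * t) * (t * s) = t * s := by rw [e3, one_mul]
  have h5 : s * t * (s * t) * (t * s) = s * t := by
    calc s * t * (s * t) * (t * s) = s * t * s * (t * t) * s := by simp only [mul_assoc]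
      _ = s * t * (s * s) := by rw [e2, mul_one, mul_assoc]
      _ = s * t := by rw [e1, mul_one]
  exact h5.symm.trans h4

theorem centralizer_two_eq (h : Nat.card G = 504) (S : Sylow 2 G) (s : G)
    (hs : s ∈ (S : Subgroup G)) (hs1 : s ≠ 1) :
    Subgroup.centralizer ({s} : Set G) = (S : Subgroup G) := by
  have hSC : (S : Subgroup G) ≤ Subgroup.centralizer ({s} : Set G) := by
    intro t ht
    rw [Subgroup.mem_centralizer_singleton_iff]
    exact sylow_two_comm h S t s ht hs
  symm
  apply Subgroup.eq_of_le_of_card_ge hSC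
  rw [(two_elements h s hs1 (sylow_two_pow h S s hs)).2, card_sylow_two_sub h S]

/-- distinct Sylow 2-subgroups intersect trivially -/
theorem two_inf_eq_bot (h : Nat.card G = 504) (S T : Sylow 2 G) (hST : S ≠ T) :
    (S : Subgroup G) ⊓ (T : Subgroup G) = ⊥ := by
  rw [Subgroup.eq_bot_iff_forall]
  intro s hs
  by_contra hs1
  apply hST
  apply Sylow.ext
  rw [← centralizer_two_eq h S s hs.1 hs1, ← centralizer_two_eq h T s hs.2 hs1]

theorem card_sylow_two (h : Nat.card G = 504) : Nat.card (Sylow 2 G) = 9 := by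
  classical
  haveI : Fintype (Sylow 2 G) := Fintype.ofFinite _
  obtain ⟨S₀⟩ : Nonempty (Sylow 2 G) := inferInstance
  have hne : Subgroup.normalizer ((S₀ : Subgroup G) : Set G) ≠ ⊤ := by
    intro ht
    have hn : (S₀ : Subgroup G).Normal := Subgroup.normalizer_eq_top_iff.mp ht
    have hc := card_sylow_two_sub h S₀
    rcases hn.eq_bot_or_eq_top with hb | ht'
    · rw [hb, Subgroup.card_bot] at hc
      omega
    · rw [ht', Subgroup.card_top, h] at hc
      omega
  have h9 : 9 ≤ Nat.card (Sylow 2 G) := by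
    rw [Sylow.card_eq_index_normalizer S₀]
    exact nine_le_index h _ hne
  have hT2 : Nat.card {w : G // w ≠ 1 ∧ w ^ 8 = 1} ≤ 63 := by
    let f : Option {w : G // w ≠ 1 ∧ w ^ 8 = 1} → {x : G // ¬ Bad x} := fun o =>
      match o with
      | none => ⟨1, not_bad_one⟩
      | some w => ⟨w.1, not_bad_two w.1 w.2.1 w.2.2⟩
    have hf : Function.Injective f := by
      rintro (_ | a) (_ | b) hab
      · rfl
      · exfalso
        have h1 : (1 : G) = (b : G) := congrArg Subtype.val hab
        exact b.2.1 h1.symm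
      · exfalso
        have h1 : (a : G) = 1 := congrArg Subtype.val hab
        exact a.2.1 h1
      · have h1 : (a : G) = (b : G) := congrArg (fun t : {x : G // ¬ Bad x} => (t : G)) hab
        rw [Subtype.ext h1]
    have h1 := Nat.card_le_card_of_injective f hf
    rw [Finite.card_option] at h1
    have h2 := card_rest h
    omega
  let g : (Σ S : Sylow 2 G, {s : ↥(S : Subgroup G) // s ≠ 1}) → {w : G // w ≠ 1 ∧ w ^ 8 = 1} :=
    fun a => ⟨((a.2.1 : ↥(a.1 : Subgroup G)) : G), by
      constructor
      · intro h1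
        exact a.2.2 (Subtype.ext h1)
      · exact sylow_two_pow h a.1 _ (a.2.1 : ↥(a.1 : Subgroup G)).2⟩
  have hg : Function.Injective g := by
    rintro ⟨P, y, hy⟩ ⟨Q, y', hy'⟩ hxy
    have h1 : (y : G) = (y' : G) := congrArg Subtype.val hxy
    have hPQ : P = Q := by
      by_contra hne'
      have h2 : (y : G) ∈ (P : Subgroup G) ⊓ (Q : Subgroup G) := ⟨y.2, by rw [h1]; exact y'.2⟩
      rw [two_inf_eq_bot h P Q hne', Subgroup.mem_bot] at h2
      exact hy (Subtype.ext h2)
    subst hPQ
    have h3 : y = y' := Subtype.ext h1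
    subst h3
    rfl
  have hle := Nat.card_le_card_of_injective g hg
  rw [Nat.card_sigma] at hle
  have hsum : ∑ S : Sylow 2 G, Nat.card {s : ↥(S : Subgroup G) // s ≠ 1}
      = Nat.card (Sylow 2 G) * 7 := by
    have h7 : ∀ S : Sylow 2 G, Nat.card {s : ↥(S : Subgroup G) // s ≠ 1} = 7 := by
      intro S
      have e := Nat.card_congr (Equiv.optionSubtypeNe (1 : ↥(S : Subgroup G)))
      rw [Finite.card_option, card_sylow_two_sub h S] at e
      omega
    rw [Finset.sum_congr rfl (fun S _ => h7 S), Finset.sum_const, Finset.card_univ,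
      ← Nat.card_eq_fintype_card, smul_eq_mul]
  rw [hsum] at hle
  omega

theorem card_normalizer_two (h : Nat.card G = 504) (S : Sylow 2 G) :
    Nat.card (Subgroup.normalizer ((S : Subgroup G) : Set G)) = 56 := by
  have h2 := card_sylow_mul_card_normalizer S
  rw [card_sylow_two h, h] at h2
  omega

end Main

end Cfsg.Agent.Lib.Helper2.O504
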