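import Mathlib
import Cfsg.Prelude.Def_Characters

/-!
Characters composed with group homomorphisms / automorphisms (helper2).
-/

set_option autoImplicit false

namespace Cfsg.Agent.Lib.Helper2

open Cfsg

universe u v

/-- Subrepresentations of `ρ ∘ f` and of `ρ` coincide when `f` is surjective. -/
def subrepCompOrderIso {k : Type*} [Field k] {G : Type u} {G' : Type v} [Monoid G] [Monoid G']
    {V : Type*} [AddCommGroup V] [Module k V] (ρ : Representation k G V) (f : G' →* G)
    (hf : Function.Surjective f) :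
    Subrepresentation (MonoidHom.comp ρ f : Representation k G' V) ≃o Subrepresentation ρ where
  toFun σ := ⟨σ.toSubmodule, fun g v hv => by
    obtain ⟨g', rfl⟩ := hf g
    exact σ.apply_mem_toSubmodule g' hv⟩
  invFun σ := ⟨σ.toSubmodule, fun g' v hv => σ.apply_mem_toSubmodule (f g') hv⟩
  left_inv σ := rfl
  right_inv σ := rfl
  map_rel_iff' := Iff.rfl

theorem isIrreducible_comp_of_surjective {k : Type*} [Field k] {G : Type u} {G' : Type v}
    [Monoid G] [Monoid G'] {V : Type*} [AddCommGroup V] [Module k V] (ρ : Representation k G V)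
    (f : G' →* G) (hf : Function.Surjective f) (hρ : ρ.IsIrreducible) :
    Representation.IsIrreducible (MonoidHom.comp ρ f : Representation k G' V) :=
  (OrderIso.isSimpleOrder_iff (subrepCompOrderIso ρ f hf)).mpr hρ

theorem isCharacter_comp_hom {G : Type u} {G' : Type v} [Group G] [Group G'] {χ : G → ℂ}
    (hχ : IsCharacter G χ) (f : G' →* G) : IsCharacter G' (χ ∘ f) := by
  obtain ⟨n, ρ, rfl⟩ := hχ
  exact ⟨n, MonoidHom.comp ρ f, rfl⟩

theorem isIrrCharacter_comp_of_surjective {G : Type u} {G' : Type v} [Group G] [Group G']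
    {χ : G → ℂ} (hχ : IsIrrCharacter G χ) (f : G' →* G) (hf : Function.Surjective f) :
    IsIrrCharacter G' (χ ∘ f) := by
  obtain ⟨n, ρ, hρ, rfl⟩ := hχ
  exact ⟨n, MonoidHom.comp ρ f, isIrreducible_comp_of_surjective ρ f hf hρ, rfl⟩

theorem isIrrCharacter_comp_mulEquiv {G : Type u} {G' : Type v} [Group G] [Group G']
    {χ : G → ℂ} (hχ : IsIrrCharacter G χ) (e : G' ≃* G) : IsIrrCharacter G' (χ ∘ e) :=
  isIrrCharacter_comp_of_surjective hχ e.toMonoidHom e.surjective

/-- The conjugate of an irreducible character of a normal subgroup is an irreducible character. -/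
theorem isIrrCharacter_conj_of_normal {G : Type u} [Group G] (H : Subgroup G) [hN : H.Normal]
    {θ : H → ℂ} (hθ : IsIrrCharacter H θ) (g : G) :
    IsIrrCharacter H (fun h : H => θ ⟨g * h * g⁻¹, hN.conj_mem h h.2 g⟩) :=
  isIrrCharacter_comp_mulEquiv hθ (MulAut.conjNormal g : H ≃* H)

theorem extendByZero_of_mem {G : Type u} [Group G] (H : Subgroup G) (θ : H → ℂ) (g : G)
    (hg : g ∈ H) : extendByZero H θ g = θ ⟨g, hg⟩ := by
  unfold extendByZero
  exact Subtype.val_injective.extend_apply θ 0 ⟨g, hg⟩

theorem extendByZero_of_not_mem {G : Type u} [Group G] (H : Subgroup G) (θ : H → ℂ) (g : G)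
    (hg : g ∉ H) : extendByZero H θ g = 0 := by
  unfold extendByZero
  rw [Function.extend_apply']
  · rfl
  · rintro ⟨h, rfl⟩
    exact hg h.2

/-- Extension by zero of a conjugate function on a normal subgroup. -/
theorem extendByZero_conj {G : Type u} [Group G] (H : Subgroup G) [hN : H.Normal] (θ : H → ℂ)
    (g y : G) :
    extendByZero H (fun h : H => θ ⟨g * h * g⁻¹, hN.conj_mem h h.2 g⟩) y =
      extendByZero H θ (g * y * g⁻¹) := by
  by_cases hy : y ∈ H
  · rw [extendByZero_of_mem H _ y hy, extendByZero_of_mem H θ _ (hN.conj_mem y hy g)]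
  · have hy' : g * y * g⁻¹ ∉ H := by
      intro h
      apply hy
      have := hN.conj_mem _ h g⁻¹
      simpa [mul_assoc] using this
    rw [extendByZero_of_not_mem H _ y hy, extendByZero_of_not_mem H θ _ hy']

/-- Induction from a normal subgroup does not see conjugation of the function. -/
theorem indFun_conj_of_normal {G : Type u} [Group G] [Fintype G] (H : Subgroup G) [hN : H.Normal]
    (θ : H → ℂ) (g : G) :
    indFun H (fun h : H => θ ⟨g * h * g⁻¹, hN.conj_mem h h.2 g⟩) = indFun H θ := by
  funext k
  unfold indFun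
  congr 1
  rw [← Equiv.sum_comp (Equiv.mulRight g⁻¹) (fun x => extendByZero H θ (x⁻¹ * k * x))]
  apply Finset.sum_congr rfl
  intro x _
  rw [extendByZero_conj]
  congr 1
  simp only [Equiv.coe_mulRight]
  group

/-- The value of the induced function on the normal subgroup itself. -/
theorem indFun_coe_of_normal {G : Type u} [Group G] [Fintype G] (H : Subgroup G) [hN : H.Normal]
    (θ : H → ℂ) (h : H) :
    indFun H θ h = (Nat.card H : ℂ)⁻¹ * ∑ x : G, θ ⟨x * h * x⁻¹, hN.conj_mem h h.2 x⟩ := by
  unfold indFun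
  congr 1
  rw [← Equiv.sum_comp (Equiv.inv G)]
  apply Finset.sum_congr rfl
  intro x _
  simp only [Equiv.inv_apply, inv_inv]
  exact extendByZero_of_mem H θ _ (hN.conj_mem h h.2 x)

/-- The induced function from a normal subgroup vanishes outside it. -/
theorem indFun_of_not_mem_of_normal {G : Type u} [Group G] [Fintype G] (H : Subgroup G)
    [hN : H.Normal] (θ : H → ℂ) (g : G) (hg : g ∉ H) : indFun H θ g = 0 := by
  unfold indFun
  rw [Finset.sum_eq_zero, mul_zero]
  intro x _
  apply extendByZero_of_not_mem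
  intro h
  apply hg
  have := hN.conj_mem _ h x
  simpa [mul_assoc] using this

end Cfsg.Agent.Lib.Helper2
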