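import Mathlib
import Cfsg.Agent.Lib.Helper2.NilpotentBasic

/-!
Elements of coprime order in nilpotent groups commute; prime-part decomposition (helper2).
-/

set_option autoImplicit false

namespace Cfsg.Agent.Lib.Helper2

universe u

theorem commute_of_coprime_aux (n : ℕ) : ∀ (K : Type u) [Group K] [Finite K]
    [Group.IsNilpotent K], Nat.card K = n → ∀ a b : K, (orderOf a).Coprime (orderOf b) →
    a * b = b * a := by
  induction n using Nat.strong_induction_on with
  | _ n ih =>
    intro K _ _ _ hn a b hab
    by_cases htriv : (⊤ : Subgroup K) = ⊥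
    · have ha : a ∈ (⊤ : Subgroup K) := Subgroup.mem_top a
      have hb : b ∈ (⊤ : Subgroup K) := Subgroup.mem_top b
      rw [htriv, Subgroup.mem_bot] at ha hb
      rw [ha, hb]
    · have hZ : Subgroup.center K ≠ ⊥ := by
        have := normal_inf_center_ne_bot (⊤ : Subgroup K) htriv
        rwa [top_inf_eq] at this
      have hcard : Nat.card (K ⧸ Subgroup.center K) < n := by
        rw [← hn, ← Subgroup.index_eq_card, ← (Subgroup.center K).index_mul_card]
        have h1 : 1 < Nat.card (Subgroup.center K) :=
          (Subgroup.one_lt_card_iff_ne_bot _).mpr hZ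
        have h2 : 0 < (Subgroup.center K).index :=
          Nat.pos_of_ne_zero Subgroup.index_ne_zero_of_finite
        exact lt_mul_of_one_lt_right h2 h1
      have hcop : (orderOf (QuotientGroup.mk' (Subgroup.center K) a)).Coprime
          (orderOf (QuotientGroup.mk' (Subgroup.center K) b)) :=
        Nat.Coprime.coprime_dvd_left (orderOf_map_dvd _ a)
          (Nat.Coprime.coprime_dvd_right (orderOf_map_dvd _ b) hab)
      have hq := ih _ hcard (K ⧸ Subgroup.center K) rfl _ _ hcop
      -- z = a b a⁻¹ b⁻¹ is central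
      obtain ⟨z, hzdef⟩ : ∃ z : K, z = a * b * a⁻¹ * b⁻¹ := ⟨_, rfl⟩
      have hz : z ∈ Subgroup.center K := by
        rw [hzdef, ← QuotientGroup.ker_mk' (Subgroup.center K), MonoidHom.mem_ker]
        rw [map_mul, map_mul, map_mul, hq, map_inv, map_inv]
        group
      have hzc : ∀ k : K, k * z = z * k := fun k => (Subgroup.mem_center_iff.mp hz k)
      have e1 : a * b * a⁻¹ = z * b := by rw [hzdef]; group
      have e2 : b * a⁻¹ * b⁻¹ = a⁻¹ * z := by rw [hzdef]; group
      have hzb : z ^ orderOf b = 1 := by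
        have hc : Commute z b := (hzc b).symm
        have h1 : (z * b) ^ orderOf b = 1 := by
          rw [← e1, conj_pow, pow_orderOf_eq_one]; group
        rw [hc.mul_pow, pow_orderOf_eq_one, mul_one] at h1
        exact h1
      have hza : z ^ orderOf a = 1 := by
        have hc : Commute a⁻¹ z := hzc a⁻¹
        have h1 : (a⁻¹ * z) ^ orderOf a = 1 := by
          rw [← e2, conj_pow, inv_pow, pow_orderOf_eq_one]; group
        rw [hc.mul_pow, inv_pow, pow_orderOf_eq_one, inv_one, one_mul] at h1
        exact h1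
      have hz1 : z = 1 := by
        have d1 := orderOf_dvd_of_pow_eq_one hza
        have d2 := orderOf_dvd_of_pow_eq_one hzb
        have := Nat.dvd_gcd d1 d2
        rw [hab] at this
        exact orderOf_eq_one_iff.mp (Nat.dvd_one.mp this)
      calc a * b = (a * b * a⁻¹ * b⁻¹) * (b * a) := by group
        _ = b * a := by rw [← hzdef, hz1, one_mul]

/-- In a finite nilpotent group, elements of coprime order commute. -/
theorem commute_of_coprime_orderOf {K : Type u} [Group K] [Finite K] [Group.IsNilpotent K]
    (a b : K) (h : (orderOf a).Coprime (orderOf b)) : a * b = b * a :=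
  commute_of_coprime_aux _ K rfl a b h

/-- Subgroup version. -/
theorem commute_of_coprime_orderOf_of_mem {G : Type u} [Group G] [Finite G] (C : Subgroup G)
    (hC : Group.IsNilpotent C) (a b : G) (ha : a ∈ C) (hb : b ∈ C)
    (h : (orderOf a).Coprime (orderOf b)) : a * b = b * a := by
  have h1 := commute_of_coprime_orderOf (⟨a, ha⟩ : C) ⟨b, hb⟩
    (by rw [Subgroup.orderOf_mk, Subgroup.orderOf_mk]; exact h)
  exact congrArg Subtype.val h1

/-- Decomposition of an element into its `p`-part and `p'`-part. -/
theorem exists_p_decomp {G : Type*} [Group G] [Finite G] (c : G) (p : ℕ) (hp : p.Prime) :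
    ∃ a b : G, a ∈ Subgroup.zpowers c ∧ b ∈ Subgroup.zpowers c ∧ c = a * b ∧
      (∃ k, orderOf a ∣ p ^ k) ∧ (orderOf b).Coprime p := by
  have hn0 : orderOf c ≠ 0 := (orderOf_pos c).ne'
  have hcop : (p ^ (orderOf c).factorization p).Coprime
      (orderOf c / p ^ (orderOf c).factorization p) :=
    (Nat.coprime_ordCompl hp hn0).pow_left _
  have hmul : p ^ (orderOf c).factorization p * (orderOf c / p ^ (orderOf c).factorization p) =
      orderOf c := Nat.ordProj_mul_ordCompl_eq_self (orderOf c) p
  obtain ⟨e, he1, he0⟩ := Nat.chineseRemainder hcop 1 0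
  obtain ⟨f, hf0, hf1⟩ := Nat.chineseRemainder hcop 0 1
  refine ⟨c ^ e, c ^ f, Subgroup.npow_mem_zpowers c e, Subgroup.npow_mem_zpowers c f, ?_,
    ⟨(orderOf c).factorization p, ?_⟩, ?_⟩
  · rw [← pow_add]
    conv_lhs => rw [← pow_one c]
    rw [pow_eq_pow_iff_modEq, ← hmul, ← Nat.modEq_and_modEq_iff_modEq_mul hcop]
    constructor
    · simpa using (he1.add hf0).symm
    · simpa using (he0.add hf1).symm
  · apply orderOf_dvd_of_pow_eq_one
    obtain ⟨t, ht⟩ := Nat.modEq_zero_iff_dvd.mp he0
    rw [← pow_mul, ht, mul_comm _ t, mul_assoc, mul_comm (orderOf c / _), hmul, pow_mul',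
      pow_orderOf_eq_one, one_pow]
  · have hd : orderOf (c ^ f) ∣ orderOf c / p ^ (orderOf c).factorization p := by
      apply orderOf_dvd_of_pow_eq_one
      obtain ⟨t, ht⟩ := Nat.modEq_zero_iff_dvd.mp hf0
      rw [← pow_mul, ht, mul_comm _ t, mul_assoc, hmul, pow_mul', pow_orderOf_eq_one, one_pow]
    exact Nat.Coprime.coprime_dvd_left hd (Nat.coprime_ordCompl hp hn0).symm

end Cfsg.Agent.Lib.Helper2
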