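import Cfsg.Agent.Lib.Helper3.PSolvable
import Mathlib
import Cfsg.Prelude.Def_Local
import Cfsg.Agent.Lib.Helper2.Cores
import Cfsg.Agent.Lib.Helper20.Transport

/-!
The upper `p`-series and `p`-length (helper2).

* `pPrimeCore_map_mulEquiv`   : `O_{p'}` is transported by isomorphisms
* `comap_transport`           : preimages of transported subgroups of `G/K` and `H/L` agree
* `upperPSeries_add_two`      : the upper `p`-series of `G / O_{p',p}(G)` is that of `G`, shifted by 2
* `upperPSeries_mono`, `PLengthLE.mono`, `PLengthLE.of_quot`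
* `plength_zero_of_not_dvd`
-/

set_option autoImplicit false

namespace Cfsg.Agent.Lib.Helper2

open Cfsg

section
variable {A B : Type*} [Group A] [Group B]

theorem pPrimeCore_map_mulEquiv (p : ℕ) (e : A ≃* B) :
    (pPrimeCore p A).map e.toMonoidHom = pPrimeCore p B := by
  unfold pPrimeCore
  apply Cfsg.Agent.Lib.Helper20.map_sSup_mulEquiv
  · rintro N ⟨hNn, hNp⟩
    refine ⟨hNn.map _ e.surjective, ?_⟩
    have : Nat.card ↥(N.map e.toMonoidHom) = Nat.card ↥N :=
      Subgroup.card_map_of_injective e.injective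
    rw [this]; exact hNp
  · rintro N ⟨hNn, hNp⟩
    refine ⟨hNn.map _ e.symm.surjective, ?_⟩
    have : Nat.card ↥(N.map e.symm.toMonoidHom) = Nat.card ↥N :=
      Subgroup.card_map_of_injective e.symm.injective
    rw [this]; exact hNp

end

theorem exists_quot_equiv {G H : Type*} [Group G] [Group H] (f : G →* H)
    (hf : Function.Surjective f) (L : Subgroup H) [L.Normal] (K : Subgroup G) [K.Normal]
    (hK : K = L.comap f) :
    ∃ e : G ⧸ K ≃* H ⧸ L, ∀ g : G, e (QuotientGroup.mk' K g) = QuotientGroup.mk' L (f g) := by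
  subst hK
  let φ : G →* H ⧸ L := (QuotientGroup.mk' L).comp f
  have hφ : Function.Surjective φ := (QuotientGroup.mk'_surjective L).comp hf
  have hker : φ.ker = L.comap f := by
    rw [← MonoidHom.comap_ker, QuotientGroup.ker_mk']
  refine ⟨(QuotientGroup.quotientMulEquivOfEq hker.symm).trans
    (QuotientGroup.quotientKerEquivOfSurjective φ hφ), ?_⟩
  intro g
  rfl

theorem comap_transport {G H : Type*} [Group G] [Group H] (f : G →* H)
    (hf : Function.Surjective f) (L : Subgroup H) [L.Normal] (K : Subgroup G) [K.Normal]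
    (hK : K = L.comap f) (FK : Subgroup (G ⧸ K)) (FL : Subgroup (H ⧸ L))
    (hF : ∀ e : G ⧸ K ≃* H ⧸ L, FK.map e.toMonoidHom = FL) :
    FK.comap (QuotientGroup.mk' K) = (FL.comap (QuotientGroup.mk' L)).comap f := by
  obtain ⟨e, he⟩ := exists_quot_equiv f hf L K hK
  ext g
  simp only [Subgroup.mem_comap]
  rw [← hF e, ← he g]
  constructor
  · intro h
    exact Subgroup.mem_map_of_mem e.toMonoidHom h
  · rintro ⟨y, hy, hye⟩
    have : y = QuotientGroup.mk' K g := e.injective hye
    rw [← this]; exact hy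

theorem upperPSeries_succ_of_even (p : ℕ) (G : Type*) [Group G] (n : ℕ) (hn : Even n) :
    (upperPSeries p G (n + 1)).1 =
      (pPrimeCore p (G ⧸ (upperPSeries p G n).1)).comap (QuotientGroup.mk' _) := by
  rw [upperPSeries]
  simp only [hn, if_true]

theorem upperPSeries_succ_of_odd (p : ℕ) (G : Type*) [Group G] (n : ℕ) (hn : ¬ Even n) :
    (upperPSeries p G (n + 1)).1 =
      (pCore p (G ⧸ (upperPSeries p G n).1)).comap (QuotientGroup.mk' _) := by
  rw [upperPSeries]
  simp only [hn, if_false]

theorem upperPSeries_add_two (p : ℕ) (G : Type*) [Group G] (n : ℕ) :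
    (upperPSeries p G (n + 2)).1 =
      ((upperPSeries p (G ⧸ (upperPSeries p G 2).1) n).1).comap
        (QuotientGroup.mk' (upperPSeries p G 2).1) := by
  induction n with
  | zero =>
    have h0 : (upperPSeries p (G ⧸ (upperPSeries p G 2).1) 0).1 = ⊥ := by
      rw [upperPSeries]
    rw [h0, MonoidHom.comap_bot, QuotientGroup.ker_mk']
  | succ n ih =>
    by_cases hn : Even n
    · have hn2 : Even (n + 2) := by
        rcases hn with ⟨k, hk⟩; exact ⟨k + 1, by omega⟩
      rw [show n + 1 + 2 = (n + 2) + 1 by ring]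
      rw [upperPSeries_succ_of_even p G (n + 2) hn2,
        upperPSeries_succ_of_even p (G ⧸ (upperPSeries p G 2).1) n hn]
      exact comap_transport (QuotientGroup.mk' _) (QuotientGroup.mk'_surjective _) _ _ ih _ _
        (fun e => pPrimeCore_map_mulEquiv p e)
    · have hn2 : ¬ Even (n + 2) := by
        intro h
        apply hn
        rcases h with ⟨k, hk⟩; exact ⟨k - 1, by omega⟩
      rw [show n + 1 + 2 = (n + 2) + 1 by ring]
      rw [upperPSeries_succ_of_odd p G (n + 2) hn2,
        upperPSeries_succ_of_odd p (G ⧸ (upperPSeries p G 2).1) n hn]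
      exact comap_transport (QuotientGroup.mk' _) (QuotientGroup.mk'_surjective _) _ _ ih _ _
        (fun e => Cfsg.Agent.Lib.Helper20.pCore_map_mulEquiv p e)

theorem upperPSeries_le_succ (p : ℕ) (G : Type*) [Group G] (n : ℕ) :
    (upperPSeries p G n).1 ≤ (upperPSeries p G (n + 1)).1 := by
  have key : ∀ X : Subgroup (G ⧸ (upperPSeries p G n).1),
      (upperPSeries p G n).1 ≤ X.comap (QuotientGroup.mk' _) := by
    intro X x hx
    rw [Subgroup.mem_comap]
    have : QuotientGroup.mk' (upperPSeries p G n).1 x = 1 := (QuotientGroup.eq_one_iff x).mpr hx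
    rw [this]; exact X.one_mem
  by_cases hn : Even n
  · rw [upperPSeries_succ_of_even p G n hn]; exact key _
  · rw [upperPSeries_succ_of_odd p G n hn]; exact key _

theorem upperPSeries_mono (p : ℕ) (G : Type*) [Group G] :
    Monotone (fun n => (upperPSeries p G n).1) :=
  monotone_nat_of_le_succ (upperPSeries_le_succ p G)

theorem PLengthLE.mono {p : ℕ} {G : Type*} [Group G] {k k' : ℕ} (h : k ≤ k')
    (hk : PLengthLE p k G) : PLengthLE p k' G := by
  unfold PLengthLE at *
  rw [eq_top_iff, ← hk]
  exact upperPSeries_mono p G (by omega)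

theorem PLengthLE.of_quot {p : ℕ} {G : Type*} [Group G] {k : ℕ}
    (hk : PLengthLE p k (G ⧸ (upperPSeries p G 2).1)) : PLengthLE p (k + 1) G := by
  unfold PLengthLE at *
  rw [show 2 * (k + 1) + 1 = (2 * k + 1) + 2 by ring, upperPSeries_add_two, hk, Subgroup.comap_top]

theorem pPrimeCore_eq_top_of_coprime {p : ℕ} {X : Type*} [Group X]
    (h : (Nat.card X).Coprime p) : pPrimeCore p X = ⊤ := by
  rw [eq_top_iff]
  apply le_pPrimeCore inferInstance
  rw [Subgroup.card_top]; exact h

theorem plength_zero_of_not_dvd {p : ℕ} [Fact p.Prime] {G : Type*} [Group G] [Finite G]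
    (h : ¬ p ∣ Nat.card G) : PLengthLE p 0 G := by
  have hp : p.Prime := Fact.out
  have hcop : (Nat.card G).Coprime p := ((Nat.Prime.coprime_iff_not_dvd hp).mpr h).symm
  unfold PLengthLE
  rw [show 2 * 0 + 1 = 0 + 1 from rfl, upperPSeries_succ_of_even p G 0 (by decide)]
  rw [pPrimeCore_eq_top_of_coprime, Subgroup.comap_top]
  exact Nat.Coprime.coprime_dvd_left (Subgroup.card_quotient_dvd_card _) hcop

end Cfsg.Agent.Lib.Helper2
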