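import Mathlib
import Cfsg.Agent.S0243
import Cfsg.Agent.Lib.Helper24.PSL27
import Cfsg.Agent.Lib.Helper2.ZassA

/-!
# Simple groups of order `p (p^2 - 1) / 2`: the model `PSL(2, p)` on the projective line and the
identification of the normal form of `ZassA` with it (helper2).
-/

set_option autoImplicit false
set_option maxHeartbeats 1000000

namespace Cfsg.Agent.Lib.Helper2.Zass

open Cfsg.Agent.Lib.Helper2.Order168 (sylow_card sylow_number_ne_one)

section Model
variable {F : Type*} [Field F] [DecidableEq F]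

/-- homogeneous coordinates of a point of the projective line -/
def rep : Option F → (Fin 2 → F)
  | none => ![1, 0]
  | some z => ![z, 1]

/-- the point with given homogeneous coordinates -/
def unrep (v : Fin 2 → F) : Option F := if v 1 = 0 then none else some (v 0 / v 1)

theorem unrep_rep (x : Option F) : unrep (rep x) = x := by
  rcases x with _ | z
  · simp [rep, unrep]
  · simp [rep, unrep]

theorem unrep_smul (c : F) (hc : c ≠ 0) (v : Fin 2 → F) : unrep (c • v) = unrep v := by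
  unfold unrep
  simp only [Pi.smul_apply, smul_eq_mul]
  by_cases h : v 1 = 0
  · simp [h]
  · have h' : c * v 1 ≠ 0 := mul_ne_zero hc h
    rw [if_neg h', if_neg h, mul_div_mul_left _ _ hc]

theorem rep_unrep (v : Fin 2 → F) (hv : v ≠ 0) : ∃ c : F, c ≠ 0 ∧ rep (unrep v) = c • v := by
  unfold unrep
  by_cases h : v 1 = 0
  · rw [if_pos h]
    have h0 : v 0 ≠ 0 := by
      intro h0
      apply hv
      funext i
      fin_cases i
      · exact h0
      · exact h
    refine ⟨(v 0)⁻¹, inv_ne_zero h0, ?_⟩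
    funext i
    fin_cases i
    · simp [rep, h0]
    · simp [rep, h]
  · rw [if_neg h]
    refine ⟨(v 1)⁻¹, inv_ne_zero h, ?_⟩
    funext i
    fin_cases i
    · simp [rep, div_eq_inv_mul]
    · simp [rep, h]

theorem rep_ne_zero (x : Option F) : rep x ≠ 0 := by
  rcases x with _ | z
  · intro h
    have := congrFun h 0
    simp [rep] at this
  · intro h
    have := congrFun h 1
    simp [rep] at this

/-- the Moebius action of a matrix -/
def act (A : Matrix (Fin 2) (Fin 2) F) (x : Option F) : Option F := unrep (A.mulVec (rep x))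

theorem act_one (x : Option F) : act (1 : Matrix (Fin 2) (Fin 2) F) x = x := by
  unfold act
  rw [Matrix.one_mulVec, unrep_rep]

theorem act_mul (A B : Matrix (Fin 2) (Fin 2) F) (hB : B.det ≠ 0) (x : Option F) :
    act (A * B) x = act A (act B x) := by
  unfold act
  have hne : B.mulVec (rep x) ≠ 0 := by
    intro h
    exact rep_ne_zero x (Matrix.eq_zero_of_mulVec_eq_zero hB h)
  obtain ⟨c, hc, hcv⟩ := rep_unrep _ hne
  rw [hcv, Matrix.mulVec_smul, unrep_smul c hc, Matrix.mulVec_mulVec]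

theorem act_scalar (r : F) (hr : r ≠ 0) (x : Option F) :
    act (Matrix.scalar (Fin 2) r) x = x := by
  unfold act
  have h1 : (Matrix.scalar (Fin 2) r).mulVec (rep x) = r • rep x := by
    funext i
    rw [Matrix.scalar_apply, Matrix.mulVec_diagonal]
    rfl
  rw [h1, unrep_smul r hr, unrep_rep]

theorem act_S (x : Option F) :
    act (!![1, 1; 0, 1] : Matrix (Fin 2) (Fin 2) F) x = Option.map (fun z => z + 1) x := by
  rcases x with _ | z
  · simp [act, rep, unrep, Matrix.mulVec, dotProduct, Fin.sum_univ_two]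
  · simp [act, rep, unrep, Matrix.mulVec, dotProduct, Fin.sum_univ_two]

theorem act_T (a : F) (ha : a ≠ 0) (x : Option F) :
    act (!![a, 0; 0, a⁻¹] : Matrix (Fin 2) (Fin 2) F) x = Option.map (fun z => a ^ 2 * z) x := by
  rcases x with _ | z
  · simp [act, rep, unrep, Matrix.mulVec, dotProduct, Fin.sum_univ_two, ha]
  · simp [act, rep, unrep, Matrix.mulVec, dotProduct, Fin.sum_univ_two, ha]
    field_simp

theorem act_U_none (b : F) (hb : b ≠ 0) :
    act (!![0, b; -b⁻¹, 0] : Matrix (Fin 2) (Fin 2) F) none = some 0 := by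
  simp [act, rep, unrep, Matrix.mulVec, dotProduct, Fin.sum_univ_two, hb]

theorem act_U_zero (b : F) :
    act (!![0, b; -b⁻¹, 0] : Matrix (Fin 2) (Fin 2) F) (some 0) = none := by
  simp [act, rep, unrep, Matrix.mulVec, dotProduct, Fin.sum_univ_two]

theorem act_U_some (b : F) (hb : b ≠ 0) (z : F) (hz : z ≠ 0) :
    act (!![0, b; -b⁻¹, 0] : Matrix (Fin 2) (Fin 2) F) (some z) = some (-(b ^ 2) / z) := by
  simp [act, rep, unrep, Matrix.mulVec, dotProduct, Fin.sum_univ_two, hb, hz]
  field_simp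

/-- the action of `SL(2, F)` on the projective line -/
def actPerm (A : Matrix.SpecialLinearGroup (Fin 2) F) : Equiv.Perm (Option F) where
  toFun := act A.1
  invFun := act (A⁻¹).1
  left_inv x := by
    rw [← act_mul _ _ (by rw [A.2]; exact one_ne_zero), ← Matrix.SpecialLinearGroup.coe_mul,
      inv_mul_cancel, Matrix.SpecialLinearGroup.coe_one, act_one]
  right_inv x := by
    rw [← act_mul _ _ (by rw [(A⁻¹).2]; exact one_ne_zero), ← Matrix.SpecialLinearGroup.coe_mul,
      mul_inv_cancel, Matrix.SpecialLinearGroup.coe_one, act_one]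

/-- the action of `SL(2, F)` on the projective line, as a homomorphism -/
def actHom : Matrix.SpecialLinearGroup (Fin 2) F →* Equiv.Perm (Option F) where
  toFun := actPerm
  map_one' := by
    apply Equiv.ext
    intro x
    show act (1 : Matrix.SpecialLinearGroup (Fin 2) F).1 x = x
    rw [Matrix.SpecialLinearGroup.coe_one, act_one]
  map_mul' A B := by
    apply Equiv.ext
    intro x
    show act (A * B).1 x = act A.1 (act B.1 x)
    rw [Matrix.SpecialLinearGroup.coe_mul, act_mul _ _ (by rw [B.2]; exact one_ne_zero)]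

theorem actHom_apply (A : Matrix.SpecialLinearGroup (Fin 2) F) (x : Option F) :
    actHom A x = act A.1 x := rfl

theorem actHom_center (A : Matrix.SpecialLinearGroup (Fin 2) F)
    (hA : A ∈ Subgroup.center (Matrix.SpecialLinearGroup (Fin 2) F)) : actHom A = 1 := by
  rw [Matrix.SpecialLinearGroup.mem_center_iff] at hA
  obtain ⟨r, hr, hrA⟩ := hA
  have hr0 : r ≠ 0 := by
    rintro rfl
    rw [Fintype.card_fin, zero_pow two_ne_zero] at hr
    exact zero_ne_one hr
  apply Equiv.ext
  intro x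
  rw [actHom_apply, ← hrA, act_scalar r hr0]
  rfl

end Model

section Table

/-- the candidate tables for the element interchanging the two base points -/
def tbl (p m : ℕ) (ν' : ZMod p) (μ : ℕ) (c₁ c₂ : ZMod p) : Option (ZMod p) → Option (ZMod p)
  | none => some 0
  | some z => if z = 0 then none else if z ^ m = 1 then some (z ^ μ * c₁)
      else some ((z * ν') ^ μ * c₂)

/-- the third relation, for a table -/
def P3 (p m : ℕ) (ν' : ZMod p) (μ : ℕ) (c₁ c₂ b e c : ZMod p) (z : Option (ZMod p)) : Prop :=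
  tbl p m ν' μ c₁ c₂ (Option.map (fun x => x + 1) (tbl p m ν' μ c₁ c₂ z))
    = Option.map (fun x => x + b) (tbl p m ν' μ c₁ c₂ (Option.map (fun x => c * x + e) z))

instance (p m : ℕ) (ν' : ZMod p) (μ : ℕ) (c₁ c₂ b e c : ZMod p) (z : Option (ZMod p)) :
    Decidable (P3 p m ν' μ c₁ c₂ b e c z) := by unfold P3; infer_instance

/-- the tables satisfying the relations are Moebius maps: a finite check for each `p` -/
def Good (p m : ℕ) (k ν' : ZMod p) : Prop :=
  ∀ μ : Fin m, k ^ (μ.val * μ.val) = k → ∀ c₁ : ZMod p, c₁ ≠ 0 → ∀ c₂ : ZMod p, c₂ ≠ 0 →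
  ∀ L : ZMod p, L ^ m = 1 →
    (∀ z : ZMod p, tbl p m ν' μ c₁ c₂ (tbl p m ν' μ c₁ c₂ (some z)) = some (L * z)) →
  ∀ b : ZMod p, P3 p m ν' μ c₁ c₂ b 0 0 none →
  ∀ e : ZMod p, some (0 : ZMod p) = Option.map (fun x => x + b) (tbl p m ν' μ c₁ c₂ (some e)) →
  ∀ c : ZMod p, c ^ m = 1 → (∀ z : Option (ZMod p), P3 p m ν' μ c₁ c₂ b e c z) →
  ∃ d : ZMod p, d ≠ 0 ∧ ∀ z : ZMod p, z ≠ 0 →
    tbl p m ν' μ c₁ c₂ (some z) = some (-(d ^ 2) * z ^ (p - 2))

/-- every nonzero residue is `k ^ i` or `ν k ^ i` -/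
def Cover (p m : ℕ) (k ν : ZMod p) : Prop :=
  ∀ z : ZMod p, z ≠ 0 → ∃ i : Fin m, z = k ^ i.val ∨ z = ν * k ^ i.val

end Table

section Perm
variable {p : ℕ}

theorem perm_pow_add (σ : Equiv.Perm (Option (ZMod p)))
    (hσ : ∀ z, σ z = Option.map (fun x => x + 1) z) (n : ℕ) (z : Option (ZMod p)) :
    (σ ^ n) z = Option.map (fun x => x + (n : ZMod p)) z := by
  induction n generalizing z with
  | zero =>
    rcases z with _ | x
    · rfl
    · simp
  | succ n ih =>
    rw [pow_succ, Equiv.Perm.mul_apply, hσ, ih]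
    rcases z with _ | x
    · rfl
    · show some (x + 1 + (n : ZMod p)) = some (x + ((n + 1 : ℕ) : ZMod p))
      rw [Nat.cast_succ]
      congr 1
      ring

theorem perm_pow_mul (k : ZMod p) (τ : Equiv.Perm (Option (ZMod p)))
    (hτ : ∀ z, τ z = Option.map (fun x => k * x) z) (n : ℕ) (z : Option (ZMod p)) :
    (τ ^ n) z = Option.map (fun x => k ^ n * x) z := by
  induction n generalizing z with
  | zero =>
    rcases z with _ | x
    · rfl
    · simp
  | succ n ih =>
    rw [pow_succ, Equiv.Perm.mul_apply, hτ, ih]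
    rcases z with _ | x
    · rfl
    · show some (k ^ n * (k * x)) = some (k ^ (n + 1) * x)
      congr 1
      ring

theorem perm_shift (k : ZMod p) (π : Equiv.Perm (Option (ZMod p))) (μ : ℕ)
    (hR1 : ∀ z, π (Option.map (fun x => k * x) z) = Option.map (fun x => k ^ μ * x) (π z))
    (i : ℕ) (w v : ZMod p) (hw : π (some w) = some v) :
    π (some (k ^ i * w)) = some (k ^ (μ * i) * v) := by
  induction i with
  | zero => simpa using hw
  | succ i ih =>
    have e1 : k ^ (i + 1) * w = k * (k ^ i * w) := by ring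
    have h1 : π (some (k * (k ^ i * w)))
        = Option.map (fun x => k ^ μ * x) (π (some (k ^ i * w))) := hR1 (some (k ^ i * w))
    rw [ih] at h1
    rw [e1, h1]
    show some (k ^ μ * (k ^ (μ * i) * v)) = some (k ^ (μ * (i + 1)) * v)
    congr 1
    ring

theorem perm_ne (π : Equiv.Perm (Option (ZMod p))) (h0 : π none = some 0)
    (h0' : π (some 0) = none) (z : ZMod p) (hz : z ≠ 0) :
    ∃ w : ZMod p, w ≠ 0 ∧ π (some z) = some w := by
  rcases hπ : π (some z) with _ | w
  · exfalso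
    apply hz
    have := π.injective (hπ.trans h0'.symm)
    exact Option.some.inj this
  · refine ⟨w, ?_, rfl⟩
    rintro rfl
    have := π.injective (hπ.trans h0.symm)
    exact Option.some_ne_none _ this

theorem perm_eq_tbl {m : ℕ} (k ν ν' : ZMod p) (hkm : k ^ m = 1) (hνν' : ν * ν' = 1)
    (hνm : ν ^ m ≠ 1) (hone : (1 : ZMod p) ≠ 0)
    (hcover : ∀ z : ZMod p, z ≠ 0 → ∃ i : ℕ, z = k ^ i ∨ z = ν * k ^ i)
    (π : Equiv.Perm (Option (ZMod p))) (h0 : π none = some 0) (h0' : π (some 0) = none)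
    (μ : ℕ) (hR1 : ∀ z, π (Option.map (fun x => k * x) z) = Option.map (fun x => k ^ μ * x) (π z)) :
    ∃ c₁ c₂ : ZMod p, c₁ ≠ 0 ∧ c₂ ≠ 0 ∧ π (some 1) = some c₁ ∧
      ∀ x, π x = tbl p m ν' μ c₁ c₂ x := by
  have hν0 : ν ≠ 0 := by
    rintro rfl
    rw [zero_mul] at hνν'
    exact hone hνν'.symm
  obtain ⟨c₁, hc₁, hπ1⟩ := perm_ne π h0 h0' 1 hone
  obtain ⟨c₂, hc₂, hπν⟩ := perm_ne π h0 h0' ν hν0
  refine ⟨c₁, c₂, hc₁, hc₂, hπ1, ?_⟩
  intro x
  rcases x with _ | z
  · rw [h0]
    rfl
  · by_cases hz : z = 0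
    · subst hz
      rw [h0']
      simp [tbl]
    · have hkim : ∀ i : ℕ, (k ^ i) ^ m = 1 := by
        intro i
        rw [← pow_mul, mul_comm, pow_mul, hkm, one_pow]
      obtain ⟨i, hi | hi⟩ := hcover z hz
      · have h1 := perm_shift k π μ hR1 i 1 c₁ hπ1
        rw [mul_one] at h1
        rw [hi, h1]
        show some _ = (if k ^ i = 0 then none else if (k ^ i) ^ m = 1 then some ((k ^ i) ^ μ * c₁)
          else some ((k ^ i * ν') ^ μ * c₂))
        rw [if_neg (hi ▸ hz), if_pos (hkim i), ← pow_mul, mul_comm i μ]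
      · have h1 := perm_shift k π μ hR1 i ν c₂ hπν
        have hz' : ν * k ^ i ≠ 0 := hi ▸ hz
        have hzm : (ν * k ^ i) ^ m ≠ 1 := by
          rw [mul_pow, hkim i, mul_one]
          exact hνm
        have e1 : ν * k ^ i * ν' = k ^ i := by
          calc ν * k ^ i * ν' = k ^ i * (ν * ν') := by ring
            _ = k ^ i := by rw [hνν', mul_one]
        rw [hi, mul_comm ν (k ^ i), h1, mul_comm (k ^ i) ν]
        show some _ = (if ν * k ^ i = 0 then none else if (ν * k ^ i) ^ m = 1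
          then some ((ν * k ^ i) ^ μ * c₁) else some ((ν * k ^ i * ν') ^ μ * c₂))
        rw [if_neg hz', if_neg hzm, e1, ← pow_mul, mul_comm i μ]

theorem perm_eq_mob [hp : Fact p.Prime] {m : ℕ} (hm0 : 0 < m) (k ν ν' : ZMod p)
    (hk : orderOf k = m) (hνν' : ν * ν' = 1) (hνm : ν ^ m ≠ 1)
    (hcover : Cover p m k ν) (hgood : Good p m k ν')
    (π : Equiv.Perm (Option (ZMod p))) (h0 : π none = some 0) (h0' : π (some 0) = none)
    (μ : ℕ) (hR1 : ∀ z, π (Option.map (fun x => k * x) z) = Option.map (fun x => k ^ μ * x) (π z))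
    (L : ZMod p) (hL : L ^ m = 1) (hR2 : ∀ z, π (π z) = Option.map (fun x => L * x) z)
    (b e c : ZMod p) (hc : c ^ m = 1)
    (hR3 : ∀ z, π (Option.map (fun x => x + 1) (π z))
      = Option.map (fun x => x + b) (π (Option.map (fun x => c * x + e) z))) :
    ∃ d : ZMod p, d ≠ 0 ∧ ∀ z : ZMod p, z ≠ 0 → π (some z) = some (-(d ^ 2) / z) := by
  haveI : Fact (1 < p) := ⟨hp.out.one_lt⟩
  have hone : (1 : ZMod p) ≠ 0 := one_ne_zero
  have hkm : k ^ m = 1 := by
    rw [← hk]
    exact pow_orderOf_eq_one k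
  have hμm : μ % m < m := Nat.mod_lt _ hm0
  have hkμ : k ^ (μ % m) = k ^ μ := by
    have := pow_mod_orderOf k μ
    rwa [hk] at this
  have hR1' : ∀ z, π (Option.map (fun x => k * x) z)
      = Option.map (fun x => k ^ (μ % m) * x) (π z) := by
    intro z
    rw [hkμ]
    exact hR1 z
  have hcover' : ∀ z : ZMod p, z ≠ 0 → ∃ i : ℕ, z = k ^ i ∨ z = ν * k ^ i := by
    intro z hz
    obtain ⟨i, hi⟩ := hcover z hz
    exact ⟨i.val, hi⟩
  obtain ⟨c₁, c₂, hc₁, hc₂, hπ1, hπ⟩ :=
    perm_eq_tbl (m := m) k ν ν' hkm hνν' hνm hone hcover' π h0 h0' (μ % m) hR1'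
  have hL0 : L ≠ 0 := by
    rintro rfl
    rw [zero_pow hm0.ne'] at hL
    exact hone hL.symm
  -- the filter on `μ`
  have hfilter : k ^ ((μ % m) * (μ % m)) = k := by
    have h1 : π (some c₁) = some L := by
      have := hR2 (some 1)
      rw [hπ1] at this
      rw [this]
      show some (L * 1) = some L
      rw [mul_one]
    have h2 := perm_shift k π (μ % m) hR1' 1 1 c₁ hπ1
    have h3 := perm_shift k π (μ % m) hR1' (μ % m) c₁ L h1
    have h4 := hR2 (some (k ^ 1 * 1))
    rw [h2, mul_one, h3] at h4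
    have h5 : k ^ (μ % m * (μ % m)) * L = L * (k ^ 1 * 1) := Option.some.inj h4
    rw [pow_one, mul_one, mul_comm L k] at h5
    exact mul_right_cancel₀ hL0 h5
  have hR2' : ∀ z : ZMod p, tbl p m ν' (μ % m) c₁ c₂ (tbl p m ν' (μ % m) c₁ c₂ (some z))
      = some (L * z) := by
    intro z
    have := hR2 (some z)
    simp only [hπ] at this
    exact this
  have hR3' : ∀ z : Option (ZMod p), P3 p m ν' (μ % m) c₁ c₂ b e c z := by
    intro z
    have := hR3 z
    simp only [hπ] at this
    exact this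
  have hst1 : P3 p m ν' (μ % m) c₁ c₂ b 0 0 none := hR3' none
  have hst2 : some (0 : ZMod p)
      = Option.map (fun x => x + b) (tbl p m ν' (μ % m) c₁ c₂ (some e)) := by
    have h1 := hR3' (some 0)
    unfold P3 at h1
    have e1 : tbl p m ν' (μ % m) c₁ c₂ (some 0) = none := by simp [tbl]
    have e2 : Option.map (fun x => c * x + e) (some (0 : ZMod p)) = some e := by simp
    rw [e1, e2] at h1
    exact h1
  obtain ⟨d, hd, hmob⟩ := hgood ⟨μ % m, hμm⟩ hfilter c₁ hc₁ c₂ hc₂ L hL hR2' b hst1 e hst2 c hc hR3'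
  refine ⟨d, hd, ?_⟩
  intro z hz
  rw [hπ, hmob z hz]
  have h1 : z ^ (p - 2) * z = 1 := by
    rw [← pow_succ]
    have : p - 2 + 1 = p - 1 := by
      have := hp.out.two_le
      omega
    rw [this]
    exact ZMod.pow_card_sub_one_eq_one hz
  have h2 : z ^ (p - 2) = z⁻¹ := eq_inv_of_mul_eq_one_left h1
  rw [h2, div_eq_mul_inv]

end Perm

section Assembly

theorem card_PSL {F : Type*} [Field F] [Fintype F] {p m : ℕ} (hF : Fintype.card F = p)
    (hpm : p = 2 * m + 1) (hm0 : 0 < m) :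
    Nat.card (Matrix.ProjectiveSpecialLinearGroup (Fin 2) F) = (p + 1) * p * m := by
  have h := Cfsg.Agent.S0243.result hF 2 le_rfl
  rw [Fin.prod_univ_two] at h
  subst hpm
  have h1 : Nat.gcd 2 (2 * m + 1 - 1) = 2 := by
    rw [Nat.add_sub_cancel]
    exact Nat.gcd_eq_left (dvd_mul_right 2 m)
  have hsq : (2 * m + 1) ^ 2 = 4 * m * m + 4 * m + 1 := by ring
  have h2 : (2 * m + 1) ^ 2 - (2 * m + 1) ^ ((0 : Fin 2) : ℕ) = 4 * m * m + 4 * m := by
    simp only [Fin.val_zero, pow_zero]
    omega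
  have h3 : (2 * m + 1) ^ 2 - (2 * m + 1) ^ ((1 : Fin 2) : ℕ) = 4 * m * m + 2 * m := by
    simp only [Fin.val_one, pow_one]
    omega
  rw [h1, h2, h3, Nat.add_sub_cancel] at h
  have e : (4 * m * m + 4 * m) * (4 * m * m + 2 * m)
      = (4 * m) * ((2 * m + 1 + 1) * (2 * m + 1) * m) := by ring
  have h4 : (4 * m) * Nat.card (Matrix.ProjectiveSpecialLinearGroup (Fin 2) F)
      = (4 * m) * ((2 * m + 1 + 1) * (2 * m + 1) * m) := by
    rw [← e, ← h]
    ring
  exact Nat.eq_of_mul_eq_mul_left (by omega : 0 < 4 * m) h4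

theorem card_sylow_eq {G : Type*} [Group G] [Finite G] [IsSimpleGroup G] {p : ℕ}
    [hp : Fact p.Prime] (m : ℕ) (hm0 : 0 < m) (hmp : m < p) (hG : Nat.card G = (p + 1) * p * m)
    (hdiv : ∀ n : ℕ, n ∣ (p + 1) * m → n % p = 1 → n = 1 ∨ n = p + 1) :
    Nat.card (Sylow p G) = p + 1 := by
  obtain ⟨P⟩ : Nonempty (Sylow p G) := inferInstance
  have hG' : Nat.card G = p ^ 1 * ((p + 1) * m) := by rw [hG]; ring
  have hndvd : ¬ p ∣ (p + 1) * m := by
    rw [Nat.Prime.dvd_mul hp.out]
    rintro (h | h)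
    · have h1 : p ∣ 1 := (Nat.dvd_add_right (dvd_refl p)).1 h
      exact hp.out.one_lt.ne' (Nat.dvd_one.1 h1)
    · have := Nat.le_of_dvd hm0 h
      omega
  have hP : Nat.card P = p := by
    have := sylow_card hG' hndvd P
    simpa using this
  have hlt : p < (p + 1) * p * m := by
    have h1 : p < (p + 1) * p := by nlinarith [hp.out.pos]
    exact lt_of_lt_of_le h1 (Nat.le_mul_of_pos_right _ hm0)
  have hne := sylow_number_ne_one P (by rw [hP]; exact hp.out.one_lt) (by rw [hP, hG]; exact hlt)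
  have hidx : (P : Subgroup G).index = (p + 1) * m := by
    have := Subgroup.index_mul_card (P : Subgroup G)
    rw [hP, hG] at this
    have h2 : (P : Subgroup G).index * p = ((p + 1) * m) * p := by rw [this]; ring
    exact Nat.eq_of_mul_eq_mul_right hp.out.pos h2
  have hdvd := Sylow.card_dvd_index P
  rw [hidx] at hdvd
  have hmod := card_sylow_modEq_one p G
  have h1 : Nat.card (Sylow p G) % p = 1 := by
    unfold Nat.ModEq at hmod
    rw [hmod, Nat.mod_eq_of_lt hp.out.one_lt]
  rcases hdiv _ hdvd h1 with h | h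
  · exact absurd h hne
  · exact h

open Cfsg.Agent.Lib.Helper24.PSL27 (slRingEquiv mulEquiv_mem_center)

theorem main {G : Type*} [Group G] [Finite G] [IsSimpleGroup G] {p : ℕ} [hp : Fact p.Prime]
    (m : ℕ) (hpm : p = 2 * m + 1) (hm2 : 2 ≤ m) (hG : Nat.card G = (p + 1) * p * m)
    (hn : Nat.card (Sylow p G) = p + 1)
    (a ν ν' : ZMod p) (hk : orderOf (a ^ 2) = m) (hνν' : ν * ν' = 1) (hνm : ν ^ m ≠ 1)
    (hcover : Cover p m (a ^ 2) ν) (hgood : Good p m (a ^ 2) ν')
    {F : Type*} [Field F] [Fintype F] (hF : Fintype.card F = p) :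
    Nonempty (G ≃* Matrix.ProjectiveSpecialLinearGroup (Fin 2) F) := by
  classical
  haveI : Fact (1 < p) := ⟨hp.out.one_lt⟩
  have hm0 : 0 < m := by omega
  obtain ⟨φ, s, t, u, hinj, hcl, hs, ht, hu0, hu0', ⟨μ, hR1⟩, ⟨j, hR2⟩, ⟨b, e, j', hR3⟩⟩ :=
    exists_rep m hpm hm2 hG hn (a ^ 2) hk
  have hkm : (a ^ 2) ^ m = 1 := by
    rw [← hk]
    exact pow_orderOf_eq_one _
  have ha : a ≠ 0 := by
    rintro rfl
    rw [zero_pow two_ne_zero, zero_pow hm0.ne'] at hkm
    exact zero_ne_one hkm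
  have hspow := perm_pow_add (φ s) hs
  have htpow := perm_pow_mul (a ^ 2) (φ t) ht
  have hP1 : ∀ z, φ u (Option.map (fun x => a ^ 2 * x) z)
      = Option.map (fun x => (a ^ 2) ^ μ * x) (φ u z) := by
    intro z
    have h1 := congrArg (fun g => φ g z) hR1
    simp only [map_mul, map_pow, Equiv.Perm.mul_apply] at h1
    rw [ht, htpow] at h1
    exact h1
  have hP2 : ∀ z, φ u (φ u z) = Option.map (fun x => (a ^ 2) ^ j * x) z := by
    intro z
    have h1 := congrArg (fun g => φ g z) hR2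
    simp only [map_mul, map_pow, Equiv.Perm.mul_apply] at h1
    rw [htpow] at h1
    exact h1
  have hP3 : ∀ z, φ u (Option.map (fun x => x + 1) (φ u z))
      = Option.map (fun x => x + (b : ZMod p))
        (φ u (Option.map (fun x => (a ^ 2) ^ j' * x + (e : ZMod p)) z)) := by
    intro z
    have h1 := congrArg (fun g => φ g z) hR3
    simp only [map_mul, map_pow, Equiv.Perm.mul_apply] at h1
    rw [hs, hspow, hspow, htpow] at h1
    have e1 : Option.map (fun x => x + (e : ZMod p)) (Option.map (fun x => (a ^ 2) ^ j' * x) z)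
        = Option.map (fun x => (a ^ 2) ^ j' * x + (e : ZMod p)) z := by
      rcases z with _ | x
      · rfl
      · rfl
    rw [e1] at h1
    exact h1
  have hLm : ((a ^ 2) ^ j) ^ m = 1 := by
    rw [← pow_mul, mul_comm, pow_mul, hkm, one_pow]
  have hcm : ((a ^ 2) ^ j') ^ m = 1 := by
    rw [← pow_mul, mul_comm, pow_mul, hkm, one_pow]
  obtain ⟨d, hd, hmob⟩ := perm_eq_mob hm0 (a ^ 2) ν ν' hk hνν' hνm hcover hgood (φ u) hu0 hu0'
    μ hP1 ((a ^ 2) ^ j) hLm hP2 (b : ZMod p) (e : ZMod p) ((a ^ 2) ^ j') hcm hP3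
  -- the model
  let ρF : F ≃+* ZMod p := (ZMod.ringEquivOfPrime F hp.out hF).symm
  let eF := slRingEquiv (n := Fin 2) ρF
  let Ψ₀ : Matrix.SpecialLinearGroup (Fin 2) F →* Equiv.Perm (Option (ZMod p)) :=
    (actHom (F := ZMod p)).comp eF.toMonoidHom
  have hΨ₀ : ∀ x, Ψ₀ x = actHom (eF x) := fun x => rfl
  have hcen : Subgroup.center (Matrix.SpecialLinearGroup (Fin 2) F) ≤ Ψ₀.ker := by
    intro x hx
    rw [MonoidHom.mem_ker, hΨ₀]
    exact actHom_center _ (mulEquiv_mem_center eF x hx)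
  let Ψ : Matrix.ProjectiveSpecialLinearGroup (Fin 2) F →* Equiv.Perm (Option (ZMod p)) :=
    QuotientGroup.lift (Subgroup.center (Matrix.SpecialLinearGroup (Fin 2) F)) Ψ₀ hcen
  have hΨmk : ∀ A : Matrix.SpecialLinearGroup (Fin 2) (ZMod p), actHom A ∈ Ψ.range := by
    intro A
    refine ⟨QuotientGroup.mk (eF.symm A), ?_⟩
    show Ψ₀ (eF.symm A) = actHom A
    rw [hΨ₀, MulEquiv.apply_symm_apply]
  have hp5 : 5 ≤ p := by omega
  haveI : IsSimpleGroup (Matrix.ProjectiveSpecialLinearGroup (Fin 2) F) :=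
    Matrix.ProjectiveSpecialLinearGroup.rank_two_simple
      (by rw [Nat.card_eq_fintype_card, hF]; omega)
  let S' : Matrix.SpecialLinearGroup (Fin 2) (ZMod p) :=
    ⟨!![1, 1; 0, 1], by simp [Matrix.det_fin_two]⟩
  let T' : Matrix.SpecialLinearGroup (Fin 2) (ZMod p) :=
    ⟨!![a, 0; 0, a⁻¹], by simp [Matrix.det_fin_two, ha]⟩
  let U' : Matrix.SpecialLinearGroup (Fin 2) (ZMod p) :=
    ⟨!![0, d; -d⁻¹, 0], by simp [Matrix.det_fin_two, hd]⟩
  have hS' : actHom S' = φ s := by
    apply Equiv.ext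
    intro z
    rw [actHom_apply, hs]
    exact act_S z
  have hT' : actHom T' = φ t := by
    apply Equiv.ext
    intro z
    rw [actHom_apply, ht]
    exact act_T a ha z
  have hU' : actHom U' = φ u := by
    apply Equiv.ext
    intro z
    rw [actHom_apply]
    rcases z with _ | z
    · rw [hu0]
      exact act_U_none d hd
    · by_cases hz : z = 0
      · subst hz
        rw [hu0']
        exact act_U_zero d
      · rw [hmob z hz]
        exact act_U_some d hd z hz
  have hker : Ψ.ker = ⊥ := by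
    rcases Ψ.normal_ker.eq_bot_or_eq_top with h | h
    · exact h
    · exfalso
      have h1 : (QuotientGroup.mk (eF.symm S') :
          Matrix.ProjectiveSpecialLinearGroup (Fin 2) F) ∈ Ψ.ker := by
        rw [h]; trivial
      rw [MonoidHom.mem_ker] at h1
      have h2 : Ψ₀ (eF.symm S') = 1 := h1
      rw [hΨ₀, MulEquiv.apply_symm_apply, hS'] at h2
      have h3 := hs (some 0)
      rw [h2] at h3
      have h4 : (some (0 : ZMod p)) = some (0 + 1) := h3
      have h5 : (0 : ZMod p) = 0 + 1 := Option.some.inj h4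
      rw [zero_add] at h5
      exact zero_ne_one h5
  have hΨinj : Function.Injective Ψ := (MonoidHom.ker_eq_bot_iff Ψ).mp hker
  have hsub : φ.range ≤ Ψ.range := by
    rintro x ⟨g, rfl⟩
    have h1 : Subgroup.closure ({s, t, u} : Set G) ≤ Subgroup.comap φ Ψ.range := by
      rw [Subgroup.closure_le]
      intro x hx
      simp only [Set.mem_insert_iff, Set.mem_singleton_iff] at hx
      rcases hx with rfl | rfl | rfl
      · show φ x ∈ Ψ.range
        rw [← hS']
        exact hΨmk S'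
      · show φ x ∈ Ψ.range
        rw [← hT']
        exact hΨmk T'
      · show φ x ∈ Ψ.range
        rw [← hU']
        exact hΨmk U'
    have h2 : g ∈ Subgroup.closure ({s, t, u} : Set G) := by rw [hcl]; trivial
    exact h1 h2
  have hcardφ : Nat.card φ.range = Nat.card G :=
    (Nat.card_congr (MonoidHom.ofInjective hinj).toEquiv).symm
  have hcardΨ : Nat.card Ψ.range = Nat.card (Matrix.ProjectiveSpecialLinearGroup (Fin 2) F) :=
    (Nat.card_congr (MonoidHom.ofInjective hΨinj).toEquiv).symm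
  have heq : φ.range = Ψ.range := by
    apply Subgroup.eq_of_le_of_card_ge hsub
    rw [hcardφ, hcardΨ, hG, card_PSL hF hpm hm0]
  exact ⟨(MonoidHom.ofInjective hinj).trans
    ((MulEquiv.subgroupCongr heq).trans (MonoidHom.ofInjective hΨinj).symm)⟩

end Assembly

end Cfsg.Agent.Lib.Helper2.Zass
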