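import Mathlib
import Cfsg.Agent.Lib.Helper2.ZassB

/-!
# Identification of a normal form over a finite field `F` with `PSL(2, F)` (helper2)

Field-generic version of the table lemmas of `ZassB`, and the assembly: a group with a faithful
permutation representation on `Option F` in the normal form of `ZassC` is `PSL(2, F)`, provided a
finite check `Good` on `F` holds.
-/

set_option autoImplicit false
set_option maxHeartbeats 1000000

namespace Cfsg.Agent.Lib.Helper2.ZassF

open Cfsg.Agent.Lib.Helper2.Zass (act actHom actHom_apply act_T act_U_none act_U_zero act_U_some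
  actHom_center)

section Table
variable (F : Type*) [Field F] [DecidableEq F]

/-- the candidate tables for the element interchanging the two base points -/
def tbl (m : ℕ) (ν' : F) (μ : ℕ) (c₁ c₂ : F) : Option F → Option F
  | none => some 0
  | some z => if z = 0 then none else if z ^ m = 1 then some (z ^ μ * c₁)
      else some ((z * ν') ^ μ * c₂)

/-- the third relation, for a table -/
def P3 (m : ℕ) (ν' : F) (μ : ℕ) (c₁ c₂ b e c : F) (z : Option F) : Prop :=
  tbl F m ν' μ c₁ c₂ (Option.map (fun x => x + 1) (tbl F m ν' μ c₁ c₂ z))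
    = Option.map (fun x => x + b) (tbl F m ν' μ c₁ c₂ (Option.map (fun x => c * x + e) z))

instance (m : ℕ) (ν' : F) (μ : ℕ) (c₁ c₂ b e c : F) (z : Option F) :
    Decidable (P3 F m ν' μ c₁ c₂ b e c z) := by unfold P3; infer_instance

/-- the tables satisfying the relations are Moebius maps: a finite check -/
def Good (q m : ℕ) (k ν' : F) : Prop :=
  ∀ μ : Fin m, k ^ (μ.val * μ.val) = k → ∀ c₁ : F, c₁ ≠ 0 → ∀ c₂ : F, c₂ ≠ 0 →
  ∀ L : F, L ^ m = 1 →
    (∀ z : F, tbl F m ν' μ c₁ c₂ (tbl F m ν' μ c₁ c₂ (some z)) = some (L * z)) →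
  ∀ b : F, P3 F m ν' μ c₁ c₂ b 0 0 none →
  ∀ e : F, some (0 : F) = Option.map (fun x => x + b) (tbl F m ν' μ c₁ c₂ (some e)) →
  ∀ c : F, c ^ m = 1 → (∀ z : Option F, P3 F m ν' μ c₁ c₂ b e c z) →
  ∃ d : F, d ≠ 0 ∧ ∀ z : F, z ≠ 0 →
    tbl F m ν' μ c₁ c₂ (some z) = some (-(d ^ 2) * z ^ (q - 2))

/-- every nonzero element is `k ^ i` or `ν k ^ i` -/
def Cover (m : ℕ) (k ν : F) : Prop :=
  ∀ z : F, z ≠ 0 → ∃ i : Fin m, z = k ^ i.val ∨ z = ν * k ^ i.val

end Table

section Perm
variable {F : Type*} [Field F] [DecidableEq F]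

theorem act_Sb (b : F) (x : Option F) :
    act (!![1, b; 0, 1] : Matrix (Fin 2) (Fin 2) F) x = Option.map (fun z => z + b) x := by
  rcases x with _ | z
  · simp [act, Zass.rep, Zass.unrep, Matrix.mulVec, dotProduct, Fin.sum_univ_two]
  · simp [act, Zass.rep, Zass.unrep, Matrix.mulVec, dotProduct, Fin.sum_univ_two]

theorem perm_pow_mul (k : F) (τ : Equiv.Perm (Option F))
    (hτ : ∀ z, τ z = Option.map (fun x => k * x) z) (n : ℕ) (z : Option F) :
    (τ ^ n) z = Option.map (fun x => k ^ n * x) z := by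
  induction n generalizing z with
  | zero =>
    rcases z with _ | x
    · rfl
    · simp
  | succ n ih =>
    rw [pow_succ, Equiv.Perm.mul_apply, hτ, ih]
    rcases z with _ | x
    · rfl
    · show some (k ^ n * (k * x)) = some (k ^ (n + 1) * x)
      congr 1
      ring

theorem perm_shift (k : F) (π : Equiv.Perm (Option F)) (μ : ℕ)
    (hR1 : ∀ z, π (Option.map (fun x => k * x) z) = Option.map (fun x => k ^ μ * x) (π z))
    (i : ℕ) (w v : F) (hw : π (some w) = some v) :
    π (some (k ^ i * w)) = some (k ^ (μ * i) * v) := by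
  induction i with
  | zero => simpa using hw
  | succ i ih =>
    have e1 : k ^ (i + 1) * w = k * (k ^ i * w) := by ring
    have h1 : π (some (k * (k ^ i * w)))
        = Option.map (fun x => k ^ μ * x) (π (some (k ^ i * w))) := hR1 (some (k ^ i * w))
    rw [ih] at h1
    rw [e1, h1]
    show some (k ^ μ * (k ^ (μ * i) * v)) = some (k ^ (μ * (i + 1)) * v)
    congr 1
    ring

theorem perm_ne (π : Equiv.Perm (Option F)) (h0 : π none = some 0)
    (h0' : π (some 0) = none) (z : F) (hz : z ≠ 0) :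
    ∃ w : F, w ≠ 0 ∧ π (some z) = some w := by
  rcases hπ : π (some z) with _ | w
  · exfalso
    apply hz
    have := π.injective (hπ.trans h0'.symm)
    exact Option.some.inj this
  · refine ⟨w, ?_, rfl⟩
    rintro rfl
    have := π.injective (hπ.trans h0.symm)
    exact Option.some_ne_none _ this

theorem perm_eq_tbl {m : ℕ} (k ν ν' : F) (hkm : k ^ m = 1) (hνν' : ν * ν' = 1)
    (hνm : ν ^ m ≠ 1)
    (hcover : ∀ z : F, z ≠ 0 → ∃ i : ℕ, z = k ^ i ∨ z = ν * k ^ i)
    (π : Equiv.Perm (Option F)) (h0 : π none = some 0) (h0' : π (some 0) = none)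
    (μ : ℕ) (hR1 : ∀ z, π (Option.map (fun x => k * x) z) = Option.map (fun x => k ^ μ * x) (π z)) :
    ∃ c₁ c₂ : F, c₁ ≠ 0 ∧ c₂ ≠ 0 ∧ π (some 1) = some c₁ ∧
      ∀ x, π x = tbl F m ν' μ c₁ c₂ x := by
  have hν0 : ν ≠ 0 := by
    rintro rfl
    rw [zero_mul] at hνν'
    exact zero_ne_one hνν'
  obtain ⟨c₁, hc₁, hπ1⟩ := perm_ne π h0 h0' 1 one_ne_zero
  obtain ⟨c₂, hc₂, hπν⟩ := perm_ne π h0 h0' ν hν0
  refine ⟨c₁, c₂, hc₁, hc₂, hπ1, ?_⟩
  intro x
  rcases x with _ | z
  · rw [h0]
    rfl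
  · by_cases hz : z = 0
    · subst hz
      rw [h0']
      simp [tbl]
    · have hkim : ∀ i : ℕ, (k ^ i) ^ m = 1 := by
        intro i
        rw [← pow_mul, mul_comm, pow_mul, hkm, one_pow]
      obtain ⟨i, hi | hi⟩ := hcover z hz
      · have h1 := perm_shift k π μ hR1 i 1 c₁ hπ1
        rw [mul_one] at h1
        rw [hi, h1]
        show some _ = (if k ^ i = 0 then none else if (k ^ i) ^ m = 1 then some ((k ^ i) ^ μ * c₁)
          else some ((k ^ i * ν') ^ μ * c₂))
        rw [if_neg (hi ▸ hz), if_pos (hkim i), ← pow_mul, mul_comm i μ]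
      · have h1 := perm_shift k π μ hR1 i ν c₂ hπν
        have hz' : ν * k ^ i ≠ 0 := hi ▸ hz
        have hzm : (ν * k ^ i) ^ m ≠ 1 := by
          rw [mul_pow, hkim i, mul_one]
          exact hνm
        have e1 : ν * k ^ i * ν' = k ^ i := by
          calc ν * k ^ i * ν' = k ^ i * (ν * ν') := by ring
            _ = k ^ i := by rw [hνν', mul_one]
        rw [hi, mul_comm ν (k ^ i), h1, mul_comm (k ^ i) ν]
        show some _ = (if ν * k ^ i = 0 then none else if (ν * k ^ i) ^ m = 1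
          then some ((ν * k ^ i) ^ μ * c₁) else some ((ν * k ^ i * ν') ^ μ * c₂))
        rw [if_neg hz', if_neg hzm, e1, ← pow_mul, mul_comm i μ]

theorem perm_eq_mob [Fintype F] {m : ℕ} (hm0 : 0 < m) (k ν ν' : F)
    (hk : orderOf k = m) (hνν' : ν * ν' = 1) (hνm : ν ^ m ≠ 1)
    (hcover : Cover F m k ν) (hgood : Good F (Fintype.card F) m k ν')
    (π : Equiv.Perm (Option F)) (h0 : π none = some 0) (h0' : π (some 0) = none)
    (μ : ℕ) (hR1 : ∀ z, π (Option.map (fun x => k * x) z) = Option.map (fun x => k ^ μ * x) (π z))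
    (L : F) (hL : L ^ m = 1) (hR2 : ∀ z, π (π z) = Option.map (fun x => L * x) z)
    (b e c : F) (hc : c ^ m = 1)
    (hR3 : ∀ z, π (Option.map (fun x => x + 1) (π z))
      = Option.map (fun x => x + b) (π (Option.map (fun x => c * x + e) z))) :
    ∃ d : F, d ≠ 0 ∧ ∀ z : F, z ≠ 0 → π (some z) = some (-(d ^ 2) / z) := by
  have hkm : k ^ m = 1 := by
    rw [← hk]
    exact pow_orderOf_eq_one k
  have hμm : μ % m < m := Nat.mod_lt _ hm0
  have hkμ : k ^ (μ % m) = k ^ μ := by
    have := pow_mod_orderOf k μ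
    rwa [hk] at this
  have hR1' : ∀ z, π (Option.map (fun x => k * x) z)
      = Option.map (fun x => k ^ (μ % m) * x) (π z) := by
    intro z
    rw [hkμ]
    exact hR1 z
  have hcover' : ∀ z : F, z ≠ 0 → ∃ i : ℕ, z = k ^ i ∨ z = ν * k ^ i := by
    intro z hz
    obtain ⟨i, hi⟩ := hcover z hz
    exact ⟨i.val, hi⟩
  obtain ⟨c₁, c₂, hc₁, hc₂, hπ1, hπ⟩ :=
    perm_eq_tbl (m := m) k ν ν' hkm hνν' hνm hcover' π h0 h0' (μ % m) hR1'
  have hL0 : L ≠ 0 := by
    rintro rfl
    rw [zero_pow hm0.ne'] at hL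
    exact zero_ne_one hL
  have hfilter : k ^ ((μ % m) * (μ % m)) = k := by
    have h1 : π (some c₁) = some L := by
      have := hR2 (some 1)
      rw [hπ1] at this
      rw [this]
      show some (L * 1) = some L
      rw [mul_one]
    have h2 := perm_shift k π (μ % m) hR1' 1 1 c₁ hπ1
    have h3 := perm_shift k π (μ % m) hR1' (μ % m) c₁ L h1
    have h4 := hR2 (some (k ^ 1 * 1))
    rw [h2, mul_one, h3] at h4
    have h5 : k ^ (μ % m * (μ % m)) * L = L * (k ^ 1 * 1) := Option.some.inj h4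
    rw [pow_one, mul_one, mul_comm L k] at h5
    exact mul_right_cancel₀ hL0 h5
  have hR2' : ∀ z : F, tbl F m ν' (μ % m) c₁ c₂ (tbl F m ν' (μ % m) c₁ c₂ (some z))
      = some (L * z) := by
    intro z
    have := hR2 (some z)
    simp only [hπ] at this
    exact this
  have hR3' : ∀ z : Option F, P3 F m ν' (μ % m) c₁ c₂ b e c z := by
    intro z
    have := hR3 z
    simp only [hπ] at this
    exact this
  have hst1 : P3 F m ν' (μ % m) c₁ c₂ b 0 0 none := hR3' none
  have hst2 : some (0 : F)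
      = Option.map (fun x => x + b) (tbl F m ν' (μ % m) c₁ c₂ (some e)) := by
    have h1 := hR3' (some 0)
    unfold P3 at h1
    have e1 : tbl F m ν' (μ % m) c₁ c₂ (some 0) = none := by simp [tbl]
    have e2 : Option.map (fun x => c * x + e) (some (0 : F)) = some e := by simp
    rw [e1, e2] at h1
    exact h1
  obtain ⟨d, hd, hmob⟩ := hgood ⟨μ % m, hμm⟩ hfilter c₁ hc₁ c₂ hc₂ L hL hR2' b hst1 e hst2 c hc hR3'
  refine ⟨d, hd, ?_⟩
  intro z hz
  rw [hπ, hmob z hz]
  have hq : 2 ≤ Fintype.card F := Fintype.one_lt_card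
  have h1 : z ^ (Fintype.card F - 2) * z = 1 := by
    rw [← pow_succ]
    have : Fintype.card F - 2 + 1 = Fintype.card F - 1 := by omega
    rw [this]
    exact FiniteField.pow_card_sub_one_eq_one z hz
  have h2 : z ^ (Fintype.card F - 2) = z⁻¹ := eq_inv_of_mul_eq_one_left h1
  rw [h2, div_eq_mul_inv]

end Perm

section Assembly

theorem main {G : Type*} [Group G] [Finite G] {F : Type*} [Field F] [Fintype F] [DecidableEq F]
    (hF4 : 4 ≤ Fintype.card F)
    (hcard : Nat.card (Matrix.ProjectiveSpecialLinearGroup (Fin 2) F) = Nat.card G)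
    (m : ℕ) (hm0 : 0 < m) (a ν ν' : F) (hk : orderOf (a ^ 2) = m) (hνν' : ν * ν' = 1)
    (hνm : ν ^ m ≠ 1) (hcover : Cover F m (a ^ 2) ν)
    (hgood : Good F (Fintype.card F) m (a ^ 2) ν')
    (φ : G →* Equiv.Perm (Option F)) (hinj : Function.Injective φ) (θ : F → G) (t u : G)
    (hcl : Subgroup.closure ({t, u} ∪ Set.range θ) = ⊤)
    (hθ : ∀ b z, φ (θ b) z = Option.map (fun x => x + b) z)
    (ht : ∀ z, φ t z = Option.map (fun x => a ^ 2 * x) z)
    (hu0 : φ u none = some 0) (hu0' : φ u (some 0) = none)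
    (hR1 : ∃ μ : ℕ, u * t = t ^ μ * u) (hR2 : ∃ j : ℕ, u * u = t ^ j)
    (hR3 : ∃ (b e : F) (j : ℕ), u * θ 1 * u = θ b * u * (θ e * t ^ j)) :
    Nonempty (G ≃* Matrix.ProjectiveSpecialLinearGroup (Fin 2) F) := by
  classical
  obtain ⟨μ, hR1⟩ := hR1
  obtain ⟨j, hR2⟩ := hR2
  obtain ⟨b, e, j', hR3⟩ := hR3
  have hkm : (a ^ 2) ^ m = 1 := by
    rw [← hk]
    exact pow_orderOf_eq_one _
  have ha : a ≠ 0 := by
    rintro rfl
    rw [zero_pow two_ne_zero, zero_pow hm0.ne'] at hkm
    exact zero_ne_one hkm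
  have htpow := perm_pow_mul (a ^ 2) (φ t) ht
  have hP1 : ∀ z, φ u (Option.map (fun x => a ^ 2 * x) z)
      = Option.map (fun x => (a ^ 2) ^ μ * x) (φ u z) := by
    intro z
    have h1 := congrArg (fun g => φ g z) hR1
    simp only [map_mul, map_pow, Equiv.Perm.mul_apply] at h1
    rw [ht, htpow] at h1
    exact h1
  have hP2 : ∀ z, φ u (φ u z) = Option.map (fun x => (a ^ 2) ^ j * x) z := by
    intro z
    have h1 := congrArg (fun g => φ g z) hR2
    simp only [map_mul, map_pow, Equiv.Perm.mul_apply] at h1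
    rw [htpow] at h1
    exact h1
  have hP3 : ∀ z, φ u (Option.map (fun x => x + 1) (φ u z))
      = Option.map (fun x => x + b)
        (φ u (Option.map (fun x => (a ^ 2) ^ j' * x + e) z)) := by
    intro z
    have h1 := congrArg (fun g => φ g z) hR3
    simp only [map_mul, map_pow, Equiv.Perm.mul_apply] at h1
    simp only [hθ, htpow] at h1
    have e1 : Option.map (fun x => x + e) (Option.map (fun x => (a ^ 2) ^ j' * x) z)
        = Option.map (fun x => (a ^ 2) ^ j' * x + e) z := by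
      rcases z with _ | x
      · rfl
      · rfl
    rw [e1] at h1
    exact h1
  have hLm : ((a ^ 2) ^ j) ^ m = 1 := by
    rw [← pow_mul, mul_comm, pow_mul, hkm, one_pow]
  have hcm : ((a ^ 2) ^ j') ^ m = 1 := by
    rw [← pow_mul, mul_comm, pow_mul, hkm, one_pow]
  obtain ⟨d, hd, hmob⟩ := perm_eq_mob hm0 (a ^ 2) ν ν' hk hνν' hνm hcover hgood (φ u) hu0 hu0'
    μ hP1 ((a ^ 2) ^ j) hLm hP2 b e ((a ^ 2) ^ j') hcm hP3
  -- the model
  let Ψ₀ : Matrix.SpecialLinearGroup (Fin 2) F →* Equiv.Perm (Option F) := actHom (F := F)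
  have hcen : Subgroup.center (Matrix.SpecialLinearGroup (Fin 2) F) ≤ Ψ₀.ker := by
    intro x hx
    rw [MonoidHom.mem_ker]
    exact actHom_center _ hx
  let Ψ : Matrix.ProjectiveSpecialLinearGroup (Fin 2) F →* Equiv.Perm (Option F) :=
    QuotientGroup.lift (Subgroup.center (Matrix.SpecialLinearGroup (Fin 2) F)) Ψ₀ hcen
  have hΨmk : ∀ A : Matrix.SpecialLinearGroup (Fin 2) F, actHom A ∈ Ψ.range := by
    intro A
    exact ⟨QuotientGroup.mk A, rfl⟩
  haveI : IsSimpleGroup (Matrix.ProjectiveSpecialLinearGroup (Fin 2) F) :=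
    Matrix.ProjectiveSpecialLinearGroup.rank_two_simple
      (by rw [Nat.card_eq_fintype_card]; exact hF4)
  let S' : F → Matrix.SpecialLinearGroup (Fin 2) F := fun b =>
    ⟨!![1, b; 0, 1], by simp [Matrix.det_fin_two]⟩
  let T' : Matrix.SpecialLinearGroup (Fin 2) F :=
    ⟨!![a, 0; 0, a⁻¹], by simp [Matrix.det_fin_two, ha]⟩
  let U' : Matrix.SpecialLinearGroup (Fin 2) F :=
    ⟨!![0, d; -d⁻¹, 0], by simp [Matrix.det_fin_two, hd]⟩
  have hS' : ∀ b, actHom (S' b) = φ (θ b) := by
    intro b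
    apply Equiv.ext
    intro z
    rw [actHom_apply, hθ]
    exact act_Sb b z
  have hT' : actHom T' = φ t := by
    apply Equiv.ext
    intro z
    rw [actHom_apply, ht]
    exact act_T a ha z
  have hU' : actHom U' = φ u := by
    apply Equiv.ext
    intro z
    rw [actHom_apply]
    rcases z with _ | z
    · rw [hu0]
      exact act_U_none d hd
    · by_cases hz : z = 0
      · subst hz
        rw [hu0']
        exact act_U_zero d
      · rw [hmob z hz]
        exact act_U_some d hd z hz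
  have hker : Ψ.ker = ⊥ := by
    rcases Ψ.normal_ker.eq_bot_or_eq_top with h | h
    · exact h
    · exfalso
      have h1 : (QuotientGroup.mk (S' 1) :
          Matrix.ProjectiveSpecialLinearGroup (Fin 2) F) ∈ Ψ.ker := by
        rw [h]; trivial
      rw [MonoidHom.mem_ker] at h1
      have h2 : actHom (S' 1) = 1 := h1
      rw [hS'] at h2
      have h3 := hθ 1 (some 0)
      rw [h2] at h3
      have h4 : (some (0 : F)) = some (0 + 1) := h3
      have h5 : (0 : F) = 0 + 1 := Option.some.inj h4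
      rw [zero_add] at h5
      exact zero_ne_one h5
  have hΨinj : Function.Injective Ψ := (MonoidHom.ker_eq_bot_iff Ψ).mp hker
  have hsub : φ.range ≤ Ψ.range := by
    rintro x ⟨g, rfl⟩
    have h1 : Subgroup.closure ({t, u} ∪ Set.range θ) ≤ Subgroup.comap φ Ψ.range := by
      rw [Subgroup.closure_le]
      intro x hx
      rcases hx with hx | ⟨b, rfl⟩
      · simp only [Set.mem_insert_iff, Set.mem_singleton_iff] at hx
        rcases hx with rfl | rfl
        · show φ x ∈ Ψ.range
          rw [← hT']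
          exact hΨmk T'
        · show φ x ∈ Ψ.range
          rw [← hU']
          exact hΨmk U'
      · show φ (θ b) ∈ Ψ.range
        rw [← hS']
        exact hΨmk (S' b)
    have h2 : g ∈ Subgroup.closure ({t, u} ∪ Set.range θ) := by rw [hcl]; trivial
    exact h1 h2
  have hcardφ : Nat.card φ.range = Nat.card G :=
    (Nat.card_congr (MonoidHom.ofInjective hinj).toEquiv).symm
  have hcardΨ : Nat.card Ψ.range = Nat.card (Matrix.ProjectiveSpecialLinearGroup (Fin 2) F) :=
    (Nat.card_congr (MonoidHom.ofInjective hΨinj).toEquiv).symm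
  have heq : φ.range = Ψ.range := by
    apply Subgroup.eq_of_le_of_card_ge hsub
    rw [hcardφ, hcardΨ, hcard]
  exact ⟨(MonoidHom.ofInjective hinj).trans
    ((MulEquiv.subgroupCongr heq).trans (MonoidHom.ofInjective hΨinj).symm)⟩

end Assembly

end Cfsg.Agent.Lib.Helper2.ZassF
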