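import Mathlib

/-!
# Normal form of a doubly transitive action with a regular normal abelian subgroup of the point
stabiliser labelled by a field (helper2)

`G` acts faithfully on `Ω`; `θ : F → G` is additive, fixes `P₀` and is regular on the other points;
`t` fixes `P₀`, `x₀` and acts on `θ` as multiplication by `k`; the two point stabiliser is `⟨t⟩`.
Then the action is labelled by `Option F` with `θ a : z ↦ z + a`, `t : z ↦ k z`, and an element
`u` interchanging `none` and `some 0` satisfying the Bruhat relations.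
-/

set_option autoImplicit false
set_option maxHeartbeats 1000000

namespace Cfsg.Agent.Lib.Helper2.ZassC

variable {G : Type*} [Group G] {Ω : Type*} [MulAction G Ω] {F : Type*} [Field F]

/-- the labelling of the points -/
def lab (θ : F → G) (P₀ x₀ : Ω) : Option F → Ω
  | none => P₀
  | some a => θ a • x₀

theorem exists_rep (P₀ x₀ : Ω) (hx₀ : x₀ ≠ P₀)
    (hfaith : ∀ g : G, (∀ x : Ω, g • x = x) → g = 1)
    (θ : F → G) (hθadd : ∀ a b, θ (a + b) = θ a * θ b) (hθP : ∀ a, θ a • P₀ = P₀)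
    (hθinj : ∀ a b, θ a • x₀ = θ b • x₀ → a = b)
    (hθsurj : ∀ x : Ω, x ≠ P₀ → ∃ a, θ a • x₀ = x)
    (t : G) (htP : t • P₀ = P₀) (htx : t • x₀ = x₀) (k : F)
    (htθ : ∀ a, t * θ a * t⁻¹ = θ (k * a))
    (hK : ∀ g : G, g • P₀ = P₀ → g • x₀ = x₀ → ∃ j : ℕ, g = t ^ j)
    (g₀ : G) (hg₀ : g₀ • P₀ = x₀) :
    ∃ (φ : G →* Equiv.Perm (Option F)) (u : G),
      Function.Injective φ ∧ Subgroup.closure ({t, u} ∪ Set.range θ) = ⊤ ∧
      (∀ a z, φ (θ a) z = Option.map (fun x => x + a) z) ∧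
      (∀ z, φ t z = Option.map (fun x => k * x) z) ∧
      φ u none = some 0 ∧ φ u (some 0) = none ∧
      (∃ μ : ℕ, u * t = t ^ μ * u) ∧ (∃ j : ℕ, u * u = t ^ j) ∧
      (∃ (b e : F) (j : ℕ), u * θ 1 * u = θ b * u * (θ e * t ^ j)) := by
  classical
  have hθ0 : θ 0 = 1 := by
    have h := hθadd 0 0
    rw [add_zero] at h
    exact mul_left_cancel (a := θ 0) (by rw [mul_one]; exact h.symm)
  have hθPinv : ∀ a, (θ a)⁻¹ • P₀ = P₀ := by
    intro a
    rw [inv_smul_eq_iff, hθP]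
  have hne : ∀ a, θ a • x₀ ≠ P₀ := by
    intro a h
    apply hx₀
    have : x₀ = (θ a)⁻¹ • P₀ := by rw [← h, inv_smul_smul]
    rw [this, hθPinv]
  have hbij : Function.Bijective (lab θ P₀ x₀) := by
    constructor
    · intro a b hab
      rcases a with _ | a <;> rcases b with _ | b
      · rfl
      · exact absurd hab.symm (hne b)
      · exact absurd hab (hne a)
      · have : a = b := hθinj a b hab
        rw [this]
    · intro x
      by_cases hx : x = P₀
      · exact ⟨none, hx.symm⟩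
      · obtain ⟨a, ha⟩ := hθsurj x hx
        exact ⟨some a, ha⟩
  have hNdecomp : ∀ n : G, n • P₀ = P₀ → ∃ (e : F) (j : ℕ), n = θ e * t ^ j := by
    intro n hnP
    have hne' : n • x₀ ≠ P₀ := by
      intro h
      apply hx₀
      have : n • x₀ = n • P₀ := by rw [h, hnP]
      exact smul_left_cancel _ this
    obtain ⟨e, he⟩ := hθsurj _ hne'
    obtain ⟨j, hj⟩ := hK ((θ e)⁻¹ * n)
      (by rw [mul_smul, hnP, hθPinv])
      (by rw [mul_smul, ← he, inv_smul_smul])
    exact ⟨e, j, by rw [← hj, mul_inv_cancel_left]⟩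
  -- the element `u`
  have hy : g₀⁻¹ • P₀ ≠ P₀ := by
    intro h
    apply hx₀
    rw [← hg₀]
    rw [inv_smul_eq_iff] at h
    exact h.symm
  obtain ⟨i₀, hi₀⟩ := hθsurj _ hy
  have huP : (g₀ * θ i₀) • P₀ = x₀ := by rw [mul_smul, hθP, hg₀]
  have hux : (g₀ * θ i₀) • x₀ = P₀ := by rw [mul_smul, hi₀, smul_inv_smul]
  generalize g₀ * θ i₀ = u at huP hux
  have huP' : u⁻¹ • x₀ = P₀ := by rw [inv_smul_eq_iff, huP]
  have hux' : u⁻¹ • P₀ = x₀ := by rw [inv_smul_eq_iff, hux]
  have hBruhat : ∀ g : G, g • P₀ ≠ P₀ →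
      ∃ (b e : F) (j : ℕ), g = θ b * u * (θ e * t ^ j) := by
    intro g hg
    obtain ⟨b, hb⟩ := hθsurj _ hg
    obtain ⟨e, j, hej⟩ := hNdecomp (u⁻¹ * (θ b)⁻¹ * g)
      (by rw [mul_smul, mul_smul, ← hb, inv_smul_smul, huP'])
    refine ⟨b, e, j, ?_⟩
    rw [← hej]
    group
  let φ : G →* Equiv.Perm (Option F) :=
    ((Equiv.ofBijective _ hbij).symm.permCongrHom.toMonoidHom).comp
      (MulAction.toPermHom G Ω)
  have hφ : ∀ (g : G) (z : Option F), φ g z
      = (Equiv.ofBijective _ hbij).symm (g • lab θ P₀ x₀ z) := by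
    intro g z
    rfl
  have hφlab : ∀ z : Option F, (Equiv.ofBijective _ hbij).symm (lab θ P₀ x₀ z) = z :=
    fun z => Equiv.ofBijective_symm_apply_apply _ hbij z
  have hlab0 : lab θ P₀ x₀ (some 0) = x₀ := by
    show θ 0 • x₀ = x₀
    rw [hθ0, one_smul]
  have hfix2 : ∀ g : G, g • P₀ = P₀ → g • x₀ = x₀ → ∃ j : ℕ, g = t ^ j := hK
  refine ⟨φ, u, ?_, ?_, ?_, ?_, ?_, ?_, ?_, ?_, ?_⟩
  · rw [injective_iff_map_eq_one]
    intro g hg
    apply hfaith
    intro x
    obtain ⟨z, rfl⟩ := hbij.2 x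
    have h1 : φ g z = z := by rw [hg]; rfl
    rw [hφ] at h1
    have h2 := congrArg (Equiv.ofBijective _ hbij) h1
    rw [Equiv.apply_symm_apply] at h2
    exact h2
  · rw [eq_top_iff]
    intro g _
    have hθmem : ∀ a, θ a ∈ Subgroup.closure ({t, u} ∪ Set.range θ) :=
      fun a => Subgroup.subset_closure (Or.inr ⟨a, rfl⟩)
    have htmem : t ∈ Subgroup.closure ({t, u} ∪ Set.range θ) :=
      Subgroup.subset_closure (Or.inl (by simp))
    have humem : u ∈ Subgroup.closure ({t, u} ∪ Set.range θ) :=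
      Subgroup.subset_closure (Or.inl (by simp))
    by_cases hgP : g • P₀ = P₀
    · obtain ⟨e, j, rfl⟩ := hNdecomp g hgP
      exact Subgroup.mul_mem _ (hθmem e) (Subgroup.pow_mem _ htmem _)
    · obtain ⟨b, e, j, rfl⟩ := hBruhat g hgP
      exact Subgroup.mul_mem _ (Subgroup.mul_mem _ (hθmem b) humem)
        (Subgroup.mul_mem _ (hθmem e) (Subgroup.pow_mem _ htmem _))
  · intro a z
    rw [hφ]
    rcases z with _ | c
    · have h1 : θ a • lab θ P₀ x₀ none = lab θ P₀ x₀ none := hθP a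
      rw [h1, hφlab]
      rfl
    · have h1 : θ a • lab θ P₀ x₀ (some c) = lab θ P₀ x₀ (some (c + a)) := by
        show θ a • θ c • x₀ = θ (c + a) • x₀
        rw [add_comm, hθadd, mul_smul]
      rw [h1, hφlab]
      rfl
  · intro z
    rw [hφ]
    rcases z with _ | c
    · have h1 : t • lab θ P₀ x₀ none = lab θ P₀ x₀ none := htP
      rw [h1, hφlab]
      rfl
    · have h1 : t • lab θ P₀ x₀ (some c) = lab θ P₀ x₀ (some (k * c)) := by
        show t • θ c • x₀ = θ (k * c) • x₀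
        have e1 : t * θ c = (t * θ c * t⁻¹) * t := by group
        rw [← mul_smul, e1, mul_smul, htx, htθ]
      rw [h1, hφlab]
      rfl
  · rw [hφ]
    have h1 : u • lab θ P₀ x₀ none = lab θ P₀ x₀ (some 0) := by
      rw [hlab0]
      exact huP
    rw [h1, hφlab]
  · rw [hφ, hlab0, hux]
    exact hφlab none
  · obtain ⟨μ, hμ⟩ := hfix2 (u * t * u⁻¹)
      (by rw [mul_smul, mul_smul, hux', htx, hux])
      (by rw [mul_smul, mul_smul, huP', htP, huP])
    refine ⟨μ, ?_⟩
    rw [← hμ]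
    group
  · exact hfix2 (u * u) (by rw [mul_smul, huP, hux]) (by rw [mul_smul, hux, huP])
  · have hne2 : (u * θ 1 * u) • P₀ ≠ P₀ := by
      intro h
      rw [mul_smul, mul_smul, huP] at h
      have h2 : θ 1 • x₀ = x₀ := by
        have : u • (θ 1 • x₀) = u • x₀ := by rw [h, hux]
        exact smul_left_cancel _ this
      have h3 : θ 1 • x₀ = θ 0 • x₀ := by rw [h2, hθ0, one_smul]
      exact one_ne_zero (hθinj 1 0 h3)
    exact hBruhat _ hne2

end Cfsg.Agent.Lib.Helper2.ZassC
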