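import Mathlib
import Cfsg.Agent.S0243
import Cfsg.Agent.Lib.Helper2.A6b
import Cfsg.Agent.Lib.Helper2.ZassC
import Cfsg.Agent.Lib.Helper2.ZassF
import Cfsg.Agent.Lib.Helper24.U33Phi

/-!
# A simple group of order 360 with 36 Sylow 5-subgroups is `PSL(2, 9)` (helper2)
-/

set_option autoImplicit false
set_option maxHeartbeats 2000000

namespace Cfsg.Agent.Lib.Helper2.A6

open Cfsg.Agent.Lib.Helper24.U33 (F9)
open Cfsg.Agent.Lib.Helper2.Zass (conj_iter exists_pow_lt_of_mem_zpowers pow_val_add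
  pow_val_eq_one faithful)

theorem mod9 : ∀ a : ZMod 9, a ^ 2 + 1 ≠ 0 := by decide
theorem mod3 : ∀ a : ZMod 3, a ^ 2 + 1 ≠ 0 := by decide

set_option maxRecDepth 100000 in
theorem good9 : ZassF.Good F9 9 4 ((⟨1, 2⟩ : F9) ^ 2) ⟨2, 1⟩ := by
  unfold ZassF.Good
  decide +kernel

set_option maxRecDepth 100000 in
theorem cover9 : ZassF.Cover F9 4 ((⟨1, 2⟩ : F9) ^ 2) ⟨1, 1⟩ := by
  unfold ZassF.Cover
  decide +kernel

set_option maxRecDepth 100000 in
theorem order9 : orderOf ((⟨1, 2⟩ : F9) ^ 2) = 4 := by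
  rw [orderOf_eq_iff (by norm_num)]
  decide +kernel

theorem sq9 : ((⟨1, 2⟩ : F9) ^ 2) = ⟨0, 1⟩ := by decide
theorem inv9 : (⟨1, 1⟩ : F9) * ⟨2, 1⟩ = 1 := by decide
theorem nu9 : (⟨1, 1⟩ : F9) ^ 4 ≠ 1 := by decide

theorem card_psl9 : Nat.card (Matrix.ProjectiveSpecialLinearGroup (Fin 2) F9) = 360 := by
  have h := Cfsg.Agent.S0243.result F9.card 2 le_rfl
  simp [Fin.prod_univ_two] at h
  rw [Nat.card_eq_fintype_card]
  omega

section Main
variable {G : Type*} [Group G] [Finite G] [IsSimpleGroup G]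

theorem iso_psl (h : Nat.card G = 360) (h5 : Nat.card (Sylow 5 G) = 36) :
    Nonempty (G ≃* Matrix.ProjectiveSpecialLinearGroup (Fin 2) F9) := by
  have hn3 := card_sylow_three h
  obtain ⟨P₀⟩ : Nonempty (Sylow 3 G) := inferInstance
  obtain ⟨x₀, hx₀⟩ : ∃ x₀ : Sylow 3 G, x₀ ≠ P₀ := by
    by_contra hcon
    push Not at hcon
    haveI : Subsingleton (Sylow 3 G) := ⟨fun a b => (hcon a).trans (hcon b).symm⟩
    rw [Nat.card_of_subsingleton P₀] at hn3
    omega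
  have hP9 := card_sylow_three_sub h P₀
  have hZ := eq_one_of_three_fixed h h5
  have hcomm := sylow_three_comm h P₀
  have hPfix : ∀ x ∈ (P₀ : Subgroup G), x • P₀ = P₀ := fun x hx => smul_self_of_mem P₀ x hx
  have hreg : ∀ (y : Sylow 3 G), y ≠ P₀ → ∀ x ∈ (P₀ : Subgroup G), x • y = y → x = 1 := by
    intro y hy x hx hxx
    by_contra hx1
    exact smul_ne h P₀ y hy x hx hx1 hxx
  have hsurj : ∀ Q : Sylow 3 G, Q ≠ P₀ → ∃ x ∈ (P₀ : Subgroup G), x • x₀ = Q :=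
    fun Q hQ => exists_smul_eq h P₀ x₀ Q hx₀ hQ
  have hnorm : ∀ k : G, k • P₀ = P₀ → ∀ x ∈ (P₀ : Subgroup G),
      k * x * k⁻¹ ∈ (P₀ : Subgroup G) := by
    intro k hk x hx
    have hk' : k ∈ Subgroup.normalizer ((P₀ : Subgroup G) : Set G) :=
      Sylow.smul_eq_iff_mem_normalizer.1 hk
    exact (Subgroup.mem_normalizer_iff.1 hk' x).1 hx
  have hneP : ∀ x ∈ (P₀ : Subgroup G), x • x₀ ≠ P₀ := by
    intro x hx he
    apply hx₀
    have h1 : x⁻¹ • P₀ = P₀ := hPfix _ (Subgroup.inv_mem _ hx)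
    calc x₀ = x⁻¹ • (x • x₀) := (inv_smul_smul _ _).symm
      _ = x⁻¹ • P₀ := by rw [he]
      _ = P₀ := h1
  -- the two point stabiliser acts without fixed points
  have hfpf : ∀ k : G, k • P₀ = P₀ → k • x₀ = x₀ → ∀ x ∈ (P₀ : Subgroup G),
      k * x * k⁻¹ = x → x ≠ 1 → k = 1 := by
    intro k hkP hkx x hx hkxk hx1
    have h3 : k • (x • x₀) = x • x₀ := by
      have e1 : k * x = (k * x * k⁻¹) * k := by group
      rw [← mul_smul, e1, mul_smul, hkx, hkxk]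
    have hne2 : x • x₀ ≠ x₀ := fun he => hx1 (hreg x₀ hx₀ x hx he)
    exact hZ k P₀ x₀ (x • x₀) (Ne.symm hx₀) (Ne.symm (hneP x hx)) (Ne.symm hne2) hkP hkx h3
  have hinvol : ∀ k : G, k • P₀ = P₀ → k • x₀ = x₀ → k * k = 1 → k ≠ 1 →
      ∀ x ∈ (P₀ : Subgroup G), k * x * k⁻¹ = x⁻¹ := by
    intro k hkP hkx hkk hk1 x hx
    have hy : k * (x * (k * x * k⁻¹)) * k⁻¹ = x * (k * x * k⁻¹) := by
      have e1 : k * (x * (k * x * k⁻¹)) * k⁻¹ = (k * x * k⁻¹) * ((k * k) * x * (k * k)⁻¹) := by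
        group
      rw [e1, hkk, one_mul, inv_one, mul_one]
      exact hcomm _ _ (hnorm k hkP x hx) hx
    by_contra hne
    have hy1 : x * (k * x * k⁻¹) ≠ 1 := by
      intro h0
      apply hne
      exact eq_inv_of_mul_eq_one_right h0
    exact hk1 (hfpf k hkP hkx _ (Subgroup.mul_mem _ hx (hnorm k hkP x hx)) hy hy1)
  -- the order of the two point stabiliser
  have hNcard : Nat.card (MulAction.stabilizer G P₀) = 36 := by
    have h2 := (MulAction.stabilizer G P₀).card_mul_index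
    rw [MulAction.index_stabilizer_of_transitive, hn3, h] at h2
    omega
  have hKcard : Nat.card ↥(MulAction.stabilizer G P₀ ⊓ MulAction.stabilizer G x₀) = 4 := by
    have hgmem : ∀ y : ↥(P₀ : Subgroup G) ×
        ↥(MulAction.stabilizer G P₀ ⊓ MulAction.stabilizer G x₀),
        (y.1 : G) * (y.2 : G) ∈ MulAction.stabilizer G P₀ := by
      intro y
      rw [MulAction.mem_stabilizer_iff, mul_smul, MulAction.mem_stabilizer_iff.1 y.2.2.1,
        hPfix _ y.1.2]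
    have hgbij : Function.Bijective
        (fun y : ↥(P₀ : Subgroup G) × ↥(MulAction.stabilizer G P₀ ⊓ MulAction.stabilizer G x₀) =>
          (⟨(y.1 : G) * (y.2 : G), hgmem y⟩ : MulAction.stabilizer G P₀)) := by
      constructor
      · rintro ⟨x, k⟩ ⟨x', k'⟩ hxy
        have h1 : (x : G) * (k : G) = (x' : G) * (k' : G) := congrArg Subtype.val hxy
        have h2 : (x : G) • x₀ = (x' : G) • x₀ := by
          have e1 : ((x : G) * (k : G)) • x₀ = (x : G) • x₀ := by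
            rw [mul_smul, MulAction.mem_stabilizer_iff.1 k.2.2]
          have e2 : ((x' : G) * (k' : G)) • x₀ = (x' : G) • x₀ := by
            rw [mul_smul, MulAction.mem_stabilizer_iff.1 k'.2.2]
          rw [← e1, ← e2, h1]
        have h3 : (x' : G)⁻¹ * (x : G) = 1 := by
          apply hreg x₀ hx₀ _ (Subgroup.mul_mem _ (Subgroup.inv_mem _ x'.2) x.2)
          rw [mul_smul, h2, inv_smul_smul]
        have h4 : (x : G) = (x' : G) := (inv_mul_eq_one.1 h3).symm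
        have h5 : x = x' := Subtype.ext h4
        subst h5
        have h6 : (k : G) = (k' : G) := mul_left_cancel h1
        rw [Subtype.ext h6]
      · rintro ⟨n, hnN⟩
        have hnP : n • P₀ = P₀ := MulAction.mem_stabilizer_iff.1 hnN
        have hne : n • x₀ ≠ P₀ := by
          intro h0
          apply hx₀
          have : n • x₀ = n • P₀ := by rw [h0, hnP]
          exact smul_left_cancel _ this
        obtain ⟨x, hx, hxe⟩ := hsurj _ hne
        have hh1 : x⁻¹ * n ∈ MulAction.stabilizer G P₀ := by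
          rw [MulAction.mem_stabilizer_iff, mul_smul, hnP]
          exact hPfix _ (Subgroup.inv_mem _ hx)
        have hh2 : x⁻¹ * n ∈ MulAction.stabilizer G x₀ := by
          rw [MulAction.mem_stabilizer_iff, mul_smul, ← hxe, inv_smul_smul]
        refine ⟨(⟨x, hx⟩, ⟨x⁻¹ * n, ⟨hh1, hh2⟩⟩), ?_⟩
        apply Subtype.ext
        show x * (x⁻¹ * n) = n
        rw [mul_inv_cancel_left]
    have h1 := Nat.card_congr (Equiv.ofBijective _ hgbij)
    rw [Nat.card_prod, hP9, hNcard] at h1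
    omega
  -- a nontrivial element of `P₀`
  obtain ⟨s₁, hs₁P, hs₁1⟩ : ∃ x ∈ (P₀ : Subgroup G), x ≠ 1 := by
    by_contra hcon
    push Not at hcon
    have : (P₀ : Subgroup G) = ⊥ := (Subgroup.eq_bot_iff_forall _).2 hcon
    rw [this, Subgroup.card_bot] at hP9
    omega
  -- an element of order four
  obtain ⟨t, htK, htt⟩ : ∃ t ∈ MulAction.stabilizer G P₀ ⊓ MulAction.stabilizer G x₀,
      t * t ≠ 1 := by
    by_contra hcon
    push Not at hcon
    haveI : Fintype ↥(MulAction.stabilizer G P₀ ⊓ MulAction.stabilizer G x₀) :=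
      Fintype.ofFinite _
    have h3 : 2 < Fintype.card ↥(MulAction.stabilizer G P₀ ⊓ MulAction.stabilizer G x₀) := by
      rw [← Nat.card_eq_fintype_card, hKcard]
      norm_num
    obtain ⟨a, b, c, hab, hac, hbc⟩ := Fintype.two_lt_card_iff.1 h3
    obtain ⟨k₁, k₂, hk₁, hk₂, hk₁₂⟩ :
        ∃ k₁ k₂ : ↥(MulAction.stabilizer G P₀ ⊓ MulAction.stabilizer G x₀),
          k₁ ≠ 1 ∧ k₂ ≠ 1 ∧ k₁ ≠ k₂ := by
      by_cases ha : a = 1
      · refine ⟨b, c, ?_, ?_, hbc⟩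
        · rw [← ha]; exact Ne.symm hab
        · rw [← ha]; exact Ne.symm hac
      · by_cases hb : b = 1
        · exact ⟨a, c, ha, by rw [← hb]; exact Ne.symm hbc, hac⟩
        · exact ⟨a, b, ha, hb, hab⟩
    have hk₁P : (k₁ : G) • P₀ = P₀ := MulAction.mem_stabilizer_iff.1 k₁.2.1
    have hk₁x : (k₁ : G) • x₀ = x₀ := MulAction.mem_stabilizer_iff.1 k₁.2.2
    have hk₂P : (k₂ : G) • P₀ = P₀ := MulAction.mem_stabilizer_iff.1 k₂.2.1
    have hk₂x : (k₂ : G) • x₀ = x₀ := MulAction.mem_stabilizer_iff.1 k₂.2.2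
    have hk₁' : (k₁ : G) ≠ 1 := fun h0 => hk₁ (Subtype.ext h0)
    have hk₂' : (k₂ : G) ≠ 1 := fun h0 => hk₂ (Subtype.ext h0)
    have hi₁ := hinvol k₁ hk₁P hk₁x (hcon _ k₁.2) hk₁'
    have hi₂ := hinvol k₂ hk₂P hk₂x (hcon _ k₂.2) hk₂'
    have h12 : ((k₁ : G) * (k₂ : G)) ≠ 1 := by
      intro h0
      apply hk₁₂
      apply Subtype.ext
      have h1 : (k₁ : G) * (k₁ : G) = 1 := hcon _ k₁.2
      have : (k₂ : G) = (k₁ : G) := by
        calc (k₂ : G) = ((k₁ : G) * (k₁ : G)) * (k₂ : G) := by rw [h1, one_mul]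
          _ = (k₁ : G) * ((k₁ : G) * (k₂ : G)) := by rw [mul_assoc]
          _ = (k₁ : G) := by rw [h0, mul_one]
      exact this.symm
    apply h12
    apply hfpf _ (by rw [mul_smul, hk₂P, hk₁P]) (by rw [mul_smul, hk₂x, hk₁x]) s₁ hs₁P _ hs₁1
    have e : (k₁ : G) * (k₂ : G) * s₁ * ((k₁ : G) * (k₂ : G))⁻¹
        = (k₁ : G) * ((k₂ : G) * s₁ * (k₂ : G)⁻¹) * (k₁ : G)⁻¹ := by group
    rw [e, hi₂ s₁ hs₁P]
    have e2 : (k₁ : G) * s₁⁻¹ * (k₁ : G)⁻¹ = ((k₁ : G) * s₁ * (k₁ : G)⁻¹)⁻¹ := by group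
    rw [e2, hi₁ s₁ hs₁P, inv_inv]
  have htP : t • P₀ = P₀ := MulAction.mem_stabilizer_iff.1 htK.1
  have htx : t • x₀ = x₀ := MulAction.mem_stabilizer_iff.1 htK.2
  have hot : orderOf t = 4 := by
    have hd : orderOf t ∣ 4 := by
      rw [← hKcard]
      exact Subgroup.orderOf_dvd_natCard _ htK
    have hpos : 0 < orderOf t := orderOf_pos t
    have h1 : orderOf t ≠ 1 := by
      intro h1
      rw [orderOf_eq_one_iff] at h1
      apply htt
      rw [h1, mul_one]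
    have h2 : orderOf t ≠ 2 := by
      intro h2
      apply htt
      have := pow_orderOf_eq_one t
      rw [h2, pow_two] at this
      exact this
    generalize orderOf t = n at hd hpos h1 h2
    have hle : n ≤ 4 := Nat.le_of_dvd (by norm_num) hd
    interval_cases n <;> omega
  have hzp : Subgroup.zpowers t = MulAction.stabilizer G P₀ ⊓ MulAction.stabilizer G x₀ := by
    apply Subgroup.eq_of_le_of_card_ge (Subgroup.zpowers_le.2 htK)
    rw [Nat.card_zpowers, hot, hKcard]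
  have hK : ∀ g : G, g • P₀ = P₀ → g • x₀ = x₀ → ∃ j : ℕ, g = t ^ j := by
    intro g hgP hgx
    have h1 : g ∈ Subgroup.zpowers t := by
      rw [hzp]
      exact ⟨MulAction.mem_stabilizer_iff.2 hgP, MulAction.mem_stabilizer_iff.2 hgx⟩
    obtain ⟨j, -, hj⟩ := exists_pow_lt_of_mem_zpowers h1
    exact ⟨j, hj.symm⟩
  have hzz : (t * t) * (t * t) = 1 := by
    have h4 := pow_orderOf_eq_one t
    rw [hot] at h4
    calc (t * t) * (t * t) = t ^ 4 := by
          simp only [pow_succ, pow_zero, one_mul, mul_assoc]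
      _ = 1 := h4
  have hzinv : ∀ x ∈ (P₀ : Subgroup G), (t * t) * x * (t * t)⁻¹ = x⁻¹ :=
    hinvol (t * t) (by rw [mul_smul, htP, htP]) (by rw [mul_smul, htx, htx]) hzz htt
  -- `P₀` has exponent three
  have hexp : ∀ x ∈ (P₀ : Subgroup G), x ^ 3 = 1 := by
    intro x hx
    by_contra hx3
    have hd : orderOf x ∣ 9 := by
      rw [← hP9]
      exact Subgroup.orderOf_dvd_natCard _ hx
    have ho : orderOf x = 9 := by
      have hpos := orderOf_pos x
      have h1 : orderOf x ≠ 1 := fun h1 => hx3 (by rw [orderOf_eq_one_iff.1 h1, one_pow])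
      have h3 : orderOf x ≠ 3 := fun h3 => hx3 (by rw [← h3]; exact pow_orderOf_eq_one x)
      generalize orderOf x = n at hd hpos h1 h3
      have hle : n ≤ 9 := Nat.le_of_dvd (by norm_num) hd
      interval_cases n <;> omega
    have hzpx : Subgroup.zpowers x = (P₀ : Subgroup G) :=
      Subgroup.eq_of_le_of_card_ge (Subgroup.zpowers_le.2 hx)
        (by rw [Nat.card_zpowers, ho, hP9])
    have h1 : t * x * t⁻¹ ∈ Subgroup.zpowers x := by
      rw [hzpx]
      exact hnorm t htP x hx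
    obtain ⟨j, -, hj⟩ := exists_pow_lt_of_mem_zpowers h1
    have h2 := conj_iter hj.symm 2
    have h3 : t ^ 2 * x * (t ^ 2)⁻¹ = x⁻¹ := by
      rw [pow_two]
      exact hzinv x hx
    have h4 : x ^ (j ^ 2 + 1) = 1 := by rw [pow_succ, ← h2, h3, inv_mul_cancel]
    have h5 : 9 ∣ j ^ 2 + 1 := by
      rw [← ho]
      exact orderOf_dvd_of_pow_eq_one h4
    have h6 : ((j ^ 2 + 1 : ℕ) : ZMod 9) = 0 := (ZMod.natCast_eq_zero_iff _ 9).2 h5
    push_cast at h6
    exact mod9 (j : ZMod 9) h6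
  have hs₁ : orderOf s₁ = 3 := orderOf_eq_prime (hexp s₁ hs₁P) hs₁1
  have hs₂P : t * s₁ * t⁻¹ ∈ (P₀ : Subgroup G) := hnorm t htP s₁ hs₁P
  have hs₂1 : t * s₁ * t⁻¹ ≠ 1 := by
    intro h0
    apply hs₁1
    have e : s₁ = t⁻¹ * (t * s₁ * t⁻¹) * t := by group
    rw [e, h0]
    group
  have hs₂ : orderOf (t * s₁ * t⁻¹) = 3 := orderOf_eq_prime (hexp _ hs₂P) hs₂1
  have hts₂ : t * (t * s₁ * t⁻¹) * t⁻¹ = s₁⁻¹ := by
    have e : t * (t * s₁ * t⁻¹) * t⁻¹ = (t * t) * s₁ * (t * t)⁻¹ := by group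
    rw [e]
    exact hzinv s₁ hs₁P
  have hs₂notin : ∀ e : ℕ, t * s₁ * t⁻¹ ≠ s₁ ^ e := by
    intro e he
    have h2 := conj_iter he 2
    have h3 : t ^ 2 * s₁ * (t ^ 2)⁻¹ = s₁⁻¹ := by
      rw [pow_two]
      exact hzinv s₁ hs₁P
    have h4 : s₁ ^ (e ^ 2 + 1) = 1 := by rw [pow_succ, ← h2, h3, inv_mul_cancel]
    have h5 : 3 ∣ e ^ 2 + 1 := by
      rw [← hs₁]
      exact orderOf_dvd_of_pow_eq_one h4
    have h6 : ((e ^ 2 + 1 : ℕ) : ZMod 3) = 0 := (ZMod.natCast_eq_zero_iff _ 3).2 h5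
    push_cast at h6
    exact mod3 (e : ZMod 3) h6
  generalize hs₂def : t * s₁ * t⁻¹ = s₂ at hs₂P hs₂1 hs₂ hts₂ hs₂notin
  -- the labelling by `F9`
  have hpc : ∀ n m : ℕ, s₂ ^ m * s₁ ^ n = s₁ ^ n * s₂ ^ m :=
    fun n m => hcomm _ _ (pow_mem hs₂P m) (pow_mem hs₁P n)
  have hneg : ∀ i : ZMod 3, s₁ ^ (-i).val = (s₁ ^ i.val)⁻¹ := by
    intro i
    have h1 := pow_val_add hs₁ i (-i)
    rw [add_neg_cancel, ZMod.val_zero, pow_zero] at h1
    exact eq_inv_of_mul_eq_one_right h1.symm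
  let θ : F9 → G := fun c => s₁ ^ c.re.val * s₂ ^ c.im.val
  have hθdef : ∀ c : F9, θ c = s₁ ^ c.re.val * s₂ ^ c.im.val := fun c => rfl
  have hθadd : ∀ c c' : F9, θ (c + c') = θ c * θ c' := by
    intro c c'
    show s₁ ^ (c.re + c'.re).val * s₂ ^ (c.im + c'.im).val
      = (s₁ ^ c.re.val * s₂ ^ c.im.val) * (s₁ ^ c'.re.val * s₂ ^ c'.im.val)
    rw [pow_val_add hs₁, pow_val_add hs₂]
    calc s₁ ^ c.re.val * s₁ ^ c'.re.val * (s₂ ^ c.im.val * s₂ ^ c'.im.val)
        = s₁ ^ c.re.val * (s₁ ^ c'.re.val * s₂ ^ c.im.val) * s₂ ^ c'.im.val := by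
          simp only [mul_assoc]
      _ = s₁ ^ c.re.val * (s₂ ^ c.im.val * s₁ ^ c'.re.val) * s₂ ^ c'.im.val := by rw [hpc]
      _ = (s₁ ^ c.re.val * s₂ ^ c.im.val) * (s₁ ^ c'.re.val * s₂ ^ c'.im.val) := by
          simp only [mul_assoc]
  have hθmem : ∀ c : F9, θ c ∈ (P₀ : Subgroup G) :=
    fun c => Subgroup.mul_mem _ (pow_mem hs₁P _) (pow_mem hs₂P _)
  have hθP : ∀ c : F9, θ c • P₀ = P₀ := fun c => hPfix _ (hθmem c)
  have hθker : ∀ c : F9, θ c = 1 → c = 0 := by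
    intro c hc
    rw [hθdef] at hc
    have hz3 : ∀ b : ZMod 3, b = 0 ∨ b = 1 ∨ b = 2 := by decide
    have e : s₂ ^ c.im.val = s₁ ^ (-c.re).val := by
      rw [hneg]
      exact eq_inv_of_mul_eq_one_right hc
    have him : c.im = 0 := by
      rcases hz3 c.im with h0 | h1 | h2
      · exact h0
      · exfalso
        rw [h1] at e
        have hv : (1 : ZMod 3).val = 1 := by decide
        rw [hv, pow_one] at e
        exact hs₂notin _ e
      · exfalso
        rw [h2] at e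
        have hv : (2 : ZMod 3).val = 2 := by decide
        rw [hv] at e
        have h3 : s₂ ^ 3 = 1 := hexp s₂ hs₂P
        have e4 : s₂ = (s₂ ^ 2) ^ 2 := by
          rw [← pow_mul]
          have : s₂ ^ (2 * 2) = s₂ ^ 3 * s₂ := by rw [← pow_succ]
          rw [this, h3, one_mul]
        rw [e, ← pow_mul] at e4
        exact hs₂notin _ e4
    have hre : c.re = 0 := by
      rw [him, ZMod.val_zero, pow_zero, mul_one] at hc
      exact pow_val_eq_one hs₁ c.re hc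
    obtain ⟨re, im⟩ := c
    simp only at him hre
    subst him hre
    rfl
  have hθsub : ∀ c c' : F9, θ (c - c') * θ c' = θ c := by
    intro c c'
    rw [← hθadd, sub_add_cancel]
  have hθinj : ∀ c c' : F9, θ c • x₀ = θ c' • x₀ → c = c' := by
    intro c c' hcc
    have h1 : θ (c - c') • (θ c' • x₀) = θ c' • x₀ := by
      rw [← mul_smul, hθsub, hcc]
    have h2 : θ (c - c') = 1 := hreg _ (hneP _ (hθmem c')) _ (hθmem _) h1
    exact sub_eq_zero.1 (hθker _ h2)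
  have hθsurjP : ∀ y ∈ (P₀ : Subgroup G), ∃ c : F9, θ c = y := by
    intro y hy
    let f : F9 → ↥(P₀ : Subgroup G) := fun c => ⟨θ c, hθmem c⟩
    have hf : Function.Injective f := by
      intro c c' hcc
      have h1 : θ c = θ c' := congrArg Subtype.val hcc
      have h2 : θ (c - c') = 1 := by
        have := hθsub c c'
        rw [h1] at this
        exact mul_eq_right.1 this
      exact sub_eq_zero.1 (hθker _ h2)
    have hbij : Function.Bijective f :=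
      hf.bijective_of_nat_card_le (by rw [hP9, Nat.card_eq_fintype_card, F9.card])
    obtain ⟨c, hc⟩ := hbij.2 ⟨y, hy⟩
    exact ⟨c, congrArg Subtype.val hc⟩
  have hθsurj : ∀ Q : Sylow 3 G, Q ≠ P₀ → ∃ c : F9, θ c • x₀ = Q := by
    intro Q hQ
    obtain ⟨y, hy, hyQ⟩ := hsurj Q hQ
    obtain ⟨c, hc⟩ := hθsurjP y hy
    exact ⟨c, by rw [hc, hyQ]⟩
  have htθ : ∀ c : F9, t * θ c * t⁻¹ = θ (((⟨1, 2⟩ : F9) ^ 2) * c) := by
    intro c
    rw [sq9]
    have ere : ((⟨0, 1⟩ : F9) * c).re = -c.im := by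
      show (0 : ZMod 3) * c.re - 1 * c.im = -c.im
      ring
    have eim : ((⟨0, 1⟩ : F9) * c).im = c.re := by
      show (0 : ZMod 3) * c.im + 1 * c.re = c.re
      ring
    rw [hθdef, hθdef, ere, eim, hneg]
    have e1 : t * (s₁ ^ c.re.val * s₂ ^ c.im.val) * t⁻¹
        = (t * s₁ * t⁻¹) ^ c.re.val * (t * s₂ * t⁻¹) ^ c.im.val := by
      rw [conj_pow, conj_pow]
      group
    rw [e1, hs₂def, hts₂, inv_pow]
    exact hcomm _ _ (pow_mem hs₂P _) (Subgroup.inv_mem _ (pow_mem hs₁P _))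
  obtain ⟨g₀, hg₀⟩ := MulAction.exists_smul_eq G P₀ x₀
  have hfaith : ∀ g : G, (∀ x : Sylow 3 G, g • x = x) → g = 1 :=
    faithful (by rw [hn3]; norm_num)
  obtain ⟨φ, u, hinj, hcl, hθφ, htφ, hu0, hu0', hR1, hR2, hR3⟩ :=
    ZassC.exists_rep P₀ x₀ hx₀ hfaith θ hθadd hθP hθinj hθsurj t htP htx
      ((⟨1, 2⟩ : F9) ^ 2) htθ hK g₀ hg₀
  have hgood : ZassF.Good F9 (Fintype.card F9) 4 ((⟨1, 2⟩ : F9) ^ 2) ⟨2, 1⟩ := by
    rw [F9.card]
    exact good9
  exact ZassF.main (by rw [F9.card]; norm_num) (by rw [card_psl9, h]) 4 (by norm_num)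
    (⟨1, 2⟩ : F9) ⟨1, 1⟩ ⟨2, 1⟩ order9 inv9 nu9 cover9 hgood φ hinj θ t u hcl hθφ htφ hu0 hu0'
    hR1 hR2 hR3

end Main

end Cfsg.Agent.Lib.Helper2.A6
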