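import Mathlib
import Cfsg.Agent.Lib.Helper2.A6c

/-!
# A simple group of order 360 is the alternating group of degree six (helper2)
-/

set_option autoImplicit false
set_option maxHeartbeats 1000000

namespace Cfsg.Agent.Lib.Helper2.A6

open Cfsg.Agent.Lib.Helper24.U33 (F9)
open Cfsg.Agent.Lib.Helper2.Zass (exists_pow_lt_of_mem_zpowers)

/-- the even permutations of order five on six letters -/
def fiveSet : Finset (Equiv.Perm (Fin 6)) :=
  Finset.univ.filter (fun g : Equiv.Perm (Fin 6) =>
    Equiv.Perm.sign g = 1 ∧ g ^ 5 = 1 ∧ g ≠ 1)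

set_option maxRecDepth 100000 in
theorem count_five : 25 ≤ fiveSet.card := by
  unfold fiveSet
  decide +kernel

theorem card_order_five_alt :
    25 ≤ Nat.card {x : alternatingGroup (Fin 6) // orderOf x = 5} := by
  have hS : ∀ g ∈ fiveSet, Equiv.Perm.sign g = 1 ∧ g ^ 5 = 1 ∧ g ≠ 1 :=
    fun g hg => (Finset.mem_filter.1 hg).2
  let f : fiveSet → {x : alternatingGroup (Fin 6) // orderOf x = 5} := fun g =>
    ⟨⟨g.1, Equiv.Perm.mem_alternatingGroup.2 (hS g.1 g.2).1⟩, by
      apply orderOf_eq_prime
      · apply Subtype.ext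
        exact (hS g.1 g.2).2.1
      · intro h1
        exact (hS g.1 g.2).2.2 (congrArg Subtype.val h1)⟩
  have hf : Function.Injective f := by
    intro a b hab
    apply Subtype.ext
    exact congrArg (fun x => (x.1 : Equiv.Perm (Fin 6))) hab
  have hle := Nat.card_le_card_of_injective f hf
  rw [Nat.card_eq_fintype_card, Fintype.card_coe] at hle
  exact le_trans count_five hle

section Main
variable {G : Type*} [Group G] [Finite G] [IsSimpleGroup G]

theorem card_order_five_le (h : Nat.card G = 360) :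
    Nat.card {x : G // orderOf x = 5} ≤ 4 * Nat.card (Sylow 5 G) := by
  classical
  have hgen : ∀ P : Sylow 5 G, ∃ x : G, x ∈ (P : Subgroup G) ∧ orderOf x = 5 := by
    intro P
    obtain ⟨x, hx⟩ := exists_prime_orderOf_dvd_card' (G := ↥(P : Subgroup G)) 5
      (by rw [card_sylow_five_sub h P])
    exact ⟨(x : G), x.2, by rw [Subgroup.orderOf_coe]; exact hx⟩
  choose gen hgenP hgen5 using hgen
  have hcop : ∀ i : Fin 4, Nat.Coprime 5 (i.val + 1) := by decide
  have hord : ∀ (P : Sylow 5 G) (i : Fin 4), orderOf (gen P ^ (i.val + 1)) = 5 := by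
    intro P i
    rw [Nat.Coprime.orderOf_pow (by rw [hgen5]; exact hcop i), hgen5]
  let f : Sylow 5 G × Fin 4 → {x : G // orderOf x = 5} :=
    fun x => ⟨gen x.1 ^ (x.2.val + 1), hord x.1 x.2⟩
  have hzp : ∀ (P : Sylow 5 G) (y : G), y ∈ (P : Subgroup G) → orderOf y = 5 →
      (P : Subgroup G) = Subgroup.zpowers y := by
    intro P y hy hy5
    symm
    apply Subgroup.eq_of_le_of_card_ge (Subgroup.zpowers_le.2 hy)
    rw [Nat.card_zpowers, hy5, card_sylow_five_sub h P]
  have hf : Function.Surjective f := by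
    rintro ⟨x, hx⟩
    have hp : IsPGroup 5 (Subgroup.zpowers x) := by
      apply IsPGroup.of_card (n := 1)
      rw [Nat.card_zpowers, hx, pow_one]
    obtain ⟨P, hP⟩ := hp.exists_le_sylow
    have hxP : x ∈ (P : Subgroup G) := hP (Subgroup.mem_zpowers x)
    have hx2 : x ∈ Subgroup.zpowers (gen P) := by
      rw [← hzp P (gen P) (hgenP P) (hgen5 P)]
      exact hxP
    obtain ⟨k, hk, hkx⟩ := exists_pow_lt_of_mem_zpowers hx2
    rw [hgen5] at hk
    have hk0 : k ≠ 0 := by
      intro h0
      rw [h0, pow_zero] at hkx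
      rw [← hkx, orderOf_one] at hx
      omega
    refine ⟨(P, ⟨k - 1, by omega⟩), ?_⟩
    apply Subtype.ext
    show gen P ^ (k - 1 + 1) = x
    rw [Nat.sub_add_cancel (by omega)]
    exact hkx
  have hle := Nat.card_le_card_of_surjective f hf
  rw [Nat.card_prod, Nat.card_eq_fintype_card (α := Fin 4), Fintype.card_fin] at hle
  omega

end Main

theorem card_sylow_five_alt : Nat.card (Sylow 5 (alternatingGroup (Fin 6))) = 36 := by
  haveI : IsSimpleGroup (alternatingGroup (Fin 6)) :=
    alternatingGroup.isSimpleGroup (by simp)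
  rcases card_sylow_five (G := alternatingGroup (Fin 6)) card_alt_six with h6 | h36
  · exfalso
    have h1 := card_order_five_le (G := alternatingGroup (Fin 6)) card_alt_six
    have h2 := card_order_five_alt
    rw [h6] at h1
    omega
  · exact h36

theorem alt_iso_psl :
    Nonempty (alternatingGroup (Fin 6) ≃* Matrix.ProjectiveSpecialLinearGroup (Fin 2) F9) := by
  haveI : IsSimpleGroup (alternatingGroup (Fin 6)) :=
    alternatingGroup.isSimpleGroup (by simp)
  exact iso_psl card_alt_six card_sylow_five_alt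

theorem iso_alt {G : Type*} [Group G] [Finite G] [IsSimpleGroup G] (h : Nat.card G = 360) :
    Nonempty (G ≃* alternatingGroup (Fin 6)) := by
  rcases card_sylow_five h with h5 | h5
  · exact iso_of_card_sylow_five h h5
  · obtain ⟨e1⟩ := iso_psl h h5
    obtain ⟨e2⟩ := alt_iso_psl
    exact ⟨e1.trans e2.symm⟩

end Cfsg.Agent.Lib.Helper2.A6
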