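import Mathlib
import Cfsg.Agent.Lib.Helper2.CoprimeSylow
import Cfsg.Agent.Lib.Helper13.SZConjB

/-!
Counting Sylow subgroups: Frattini-type index formulas (helper2).
-/

set_option autoImplicit false

namespace Cfsg.Agent.Lib.Helper2

open Cfsg.Agent.Lib.Helper13
open scoped Pointwise

section
variable {G : Type*} [Group G]

/-- For `N` normal, `[DN : D] = [N : N ∩ D]`. -/
theorem relIndex_sup_of_normal [Finite G] (D N : Subgroup G) [N.Normal] :
    D.relIndex (D ⊔ N) = D.relIndex N := by
  have h1 : N.relIndex (D ⊔ N) = N.relIndex D := Subgroup.relIndex_sup_right D N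
  have cN : Nat.card (D ⊓ N : Subgroup G) * D.relIndex N = Nat.card N := by
    have := Subgroup.relIndex_mul_relIndex ⊥ (D ⊓ N) N bot_le inf_le_right
    rwa [Subgroup.relIndex_bot_left, Subgroup.relIndex_bot_left, Subgroup.inf_relIndex_right] at this
  have cD : Nat.card (D ⊓ N : Subgroup G) * N.relIndex D = Nat.card D := by
    have := Subgroup.relIndex_mul_relIndex ⊥ (D ⊓ N) D bot_le inf_le_left
    rwa [Subgroup.relIndex_bot_left, Subgroup.relIndex_bot_left, Subgroup.inf_relIndex_left] at this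
  have c1 : Nat.card N * N.relIndex (D ⊔ N) = Nat.card (D ⊔ N : Subgroup G) := by
    have := Subgroup.relIndex_mul_relIndex ⊥ N (D ⊔ N) bot_le le_sup_right
    rwa [Subgroup.relIndex_bot_left, Subgroup.relIndex_bot_left] at this
  have c2 : Nat.card D * D.relIndex (D ⊔ N) = Nat.card (D ⊔ N : Subgroup G) := by
    have := Subgroup.relIndex_mul_relIndex ⊥ D (D ⊔ N) bot_le le_sup_left
    rwa [Subgroup.relIndex_bot_left, Subgroup.relIndex_bot_left] at this
  have hpos : 0 < Nat.card (D ⊓ N : Subgroup G) * N.relIndex D := by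
    rw [cD]; exact Nat.card_pos
  apply Nat.eq_of_mul_eq_mul_left hpos
  symm
  calc Nat.card (D ⊓ N : Subgroup G) * N.relIndex D * D.relIndex N
      = (Nat.card (D ⊓ N : Subgroup G) * D.relIndex N) * N.relIndex D := by ring
    _ = Nat.card N * N.relIndex (D ⊔ N) := by rw [cN, h1]
    _ = Nat.card D * D.relIndex (D ⊔ N) := by rw [c1, c2]
    _ = Nat.card (D ⊓ N : Subgroup G) * N.relIndex D * D.relIndex (D ⊔ N) := by rw [cD]

/-- If `D` normalizes `M` then `[DM : D] = [M : M ∩ D]`. -/
theorem relIndex_sup_of_le_normalizer [Finite G] (D M : Subgroup G)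
    (h : D ≤ Subgroup.normalizer (M : Set G)) : D.relIndex (D ⊔ M) = D.relIndex M := by
  have hML : M ≤ D ⊔ M := le_sup_right
  have hDL : D ≤ D ⊔ M := le_sup_left
  have hn : (M.subgroupOf (D ⊔ M)).Normal :=
    (Subgroup.normal_subgroupOf_iff_le_normalizer hML).mpr (sup_le h Subgroup.le_normalizer)
  have key := relIndex_sup_of_normal (D.subgroupOf (D ⊔ M)) (M.subgroupOf (D ⊔ M))
  rw [← Subgroup.subgroupOf_sup hDL hML, Subgroup.relIndex_subgroupOf le_rfl,
    Subgroup.relIndex_subgroupOf hML] at key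
  exact key

/-- Frattini argument: if `M` contains the Sylow subgroup `P` then `N_G(M) ≤ N_G(P) M`. -/
theorem frattini_sylow [Finite G] {p : ℕ} [Fact p.Prime] (P : Sylow p G) (M : Subgroup G)
    (hPM : (P : Subgroup G) ≤ M) :
    Subgroup.normalizer (M : Set G) ≤ Subgroup.normalizer ((P : Subgroup G) : Set G) ⊔ M := by
  intro t ht
  obtain ⟨k, hkM, hk⟩ := sylow_orbit M (P.subtype hPM) t ht
  have e : ((P.subtype hPM : Sylow p M) : Subgroup M).map M.subtype = (P : Subgroup G) := by
    rw [Sylow.coe_subtype, Subgroup.map_subgroupOf_eq_of_le hPM]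
  rw [e] at hk
  have hk' : MulAut.conj t • (P : Subgroup G) = MulAut.conj k • (P : Subgroup G) := hk
  have h5 : k⁻¹ * t ∈ Subgroup.normalizer ((P : Subgroup G) : Set G) := by
    rw [← cj_eq_self_iff_mem_normalizer, cj_mul, hk', ← cj_mul, inv_mul_cancel, cj_one]
  have : t = k * (k⁻¹ * t) := by group
  rw [this]
  exact Subgroup.mul_mem _ (Subgroup.mem_sup_right hkM) (Subgroup.mem_sup_left h5)

/-- The number of Sylow subgroups of a subgroup `M`, in terms of a subgroup `Q ≤ M` of `G` which
is Sylow in `M`. -/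
theorem card_sylow_subgroup [Finite G] {p : ℕ} [Fact p.Prime] (M Q : Subgroup G) (hQM : Q ≤ M)
    (S : Sylow p M) (hS : (S : Subgroup M) = Q.subgroupOf M) :
    Nat.card (Sylow p M) = (Subgroup.normalizer (Q : Set G)).relIndex M := by
  rw [Sylow.card_eq_index_normalizer S]
  have e : Subgroup.normalizer ((S : Sylow p M) : Set M) =
      Subgroup.normalizer (((S : Sylow p M) : Subgroup M) : Set M) := rfl
  rw [e, hS, ← Subgroup.subgroupOf_normalizer_eq hQM]
  rfl

/-- The number of Sylow subgroups of a quotient. -/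
theorem card_sylow_quotient_eq_index [Finite G] {p : ℕ} [Fact p.Prime] (K : Subgroup G)
    [K.Normal] (P : Sylow p G) :
    Nat.card (Sylow p (G ⧸ K)) =
      (Subgroup.normalizer (((P : Subgroup G) ⊔ K : Subgroup G) : Set G)).index := by
  have hsurj : Function.Surjective (QuotientGroup.mk' K) := QuotientGroup.mk'_surjective K
  rw [Sylow.card_eq_index_normalizer (P.mapSurjective hsurj),
    ← Subgroup.index_comap_of_surjective _ hsurj]
  congr 1
  have := Subgroup.comap_normalizer_eq_of_surjective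
    ((P.mapSurjective hsurj : Sylow p (G ⧸ K)) : Subgroup (G ⧸ K)) hsurj
  have e : Subgroup.normalizer ((P.mapSurjective hsurj : Sylow p (G ⧸ K)) : Set (G ⧸ K)) =
      Subgroup.normalizer (((P.mapSurjective hsurj : Sylow p (G ⧸ K)) : Subgroup (G ⧸ K)) :
        Set (G ⧸ K)) := rfl
  rw [e, this, Sylow.coe_mapSurjective, Subgroup.comap_map_eq, QuotientGroup.ker_mk']

/-- `n_p(G) = n_p(G/K) · [PK : N_{PK}(P)]`. -/
theorem card_sylow_eq_mul [Finite G] {p : ℕ} [Fact p.Prime] (K : Subgroup G) [K.Normal]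
    (P : Sylow p G) :
    Nat.card (Sylow p G) = Nat.card (Sylow p (G ⧸ K)) *
      (Subgroup.normalizer ((P : Subgroup G) : Set G)).relIndex ((P : Subgroup G) ⊔ K) := by
  have hsm : ∀ g : G, MulAut.conj g • ((P : Subgroup G) ⊔ K) =
      MulAut.conj g • (P : Subgroup G) ⊔ K := by
    intro g
    rw [Subgroup.smul_sup, cj_normal g K]
  have hNT : Subgroup.normalizer ((P : Subgroup G) : Set G) ≤
      Subgroup.normalizer (((P : Subgroup G) ⊔ K : Subgroup G) : Set G) := by
    intro g hg
    rw [← cj_eq_self_iff_mem_normalizer] at hg ⊢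
    rw [hsm, hg]
  have h2 : Nat.card (Sylow p G) = (Subgroup.normalizer ((P : Subgroup G) : Set G)).index :=
    Sylow.card_eq_index_normalizer P
  have h3 := Subgroup.relIndex_mul_index hNT
  have h4 : Subgroup.normalizer (((P : Subgroup G) ⊔ K : Subgroup G) : Set G) =
      Subgroup.normalizer ((P : Subgroup G) : Set G) ⊔ ((P : Subgroup G) ⊔ K) :=
    le_antisymm (frattini_sylow P _ le_sup_left) (sup_le hNT Subgroup.le_normalizer)
  rw [h2, ← h3, card_sylow_quotient_eq_index K P, mul_comm]
  congr 1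
  rw [h4, relIndex_sup_of_le_normalizer _ _ hNT]

/-- Quotienting by a normal `p`-subgroup does not change the number of Sylow `p`-subgroups. -/
theorem card_sylow_quotient_pgroup [Finite G] {p : ℕ} [Fact p.Prime] (Z : Subgroup G) [Z.Normal]
    (hZ : IsPGroup p Z) : Nat.card (Sylow p (G ⧸ Z)) = Nat.card (Sylow p G) := by
  obtain ⟨P⟩ : Nonempty (Sylow p G) := inferInstance
  rw [card_sylow_quotient_eq_index Z P, Sylow.card_eq_index_normalizer P]
  have : (P : Subgroup G) ⊔ Z = P := sup_eq_left.mpr (hZ.le_sylow_of_normal P)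
  rw [this]
  rfl

end

end Cfsg.Agent.Lib.Helper2
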