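import Mathlib
import Cfsg.Prelude
import Cfsg.Agent.Lib.Helper2.Cores
import Cfsg.Agent.Lib.Helper20.Cores
import Cfsg.Agent.Lib.Helper14.ConjUnion

/-!
Solvable ambivalent groups with one class of involutions (helper2), part A:
the Sylow 2-subgroup has a unique involution.
-/

set_option autoImplicit false

namespace Cfsg.Agent.Lib.Helper2.Ambiv

open Cfsg

variable {G : Type*} [Group G]

/-- If `y ^ 2 ^ a` centralizes the nontrivial exponent-2 subgroup `W` and `y` normalizes `W`,
then `y` centralizes a nontrivial element of `W`. -/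
theorem exists_fixed (a : ℕ) : ∀ (y : G) (W : Subgroup G),
    (∀ w ∈ W, y ^ (2 ^ a) * w = w * y ^ (2 ^ a)) → (∀ w ∈ W, w * w = 1) →
    (∀ w ∈ W, y * w * y⁻¹ ∈ W) → W ≠ ⊥ → ∃ v ∈ W, v ≠ 1 ∧ y * v = v * y := by
  induction a with
  | zero =>
    intro y W hc _ _ hne
    obtain ⟨⟨w, hw⟩, hw1⟩ := (Subgroup.ne_bot_iff_exists_ne_one).mp hne
    refine ⟨w, hw, fun h => hw1 (Subtype.ext h), ?_⟩
    simpa using hc w hw
  | succ a ih =>
    intro y W hc hexp hnorm hne
    have hcomm : ∀ p ∈ W, ∀ q ∈ W, p * q = q * p := by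
      intro p hp q hq
      have h1 := hexp (p * q) (W.mul_mem hp hq)
      have hp' : p⁻¹ = p := inv_eq_of_mul_eq_one_right (hexp p hp)
      have hq' : q⁻¹ = q := inv_eq_of_mul_eq_one_right (hexp q hq)
      have h2 : (p * q)⁻¹ = p * q := inv_eq_of_mul_eq_one_right h1
      rw [mul_inv_rev, hp', hq'] at h2
      exact h2.symm
    have hy2 : y ^ 2 ^ (a + 1) = (y ^ 2) ^ 2 ^ a := by
      rw [pow_succ', pow_mul]
    obtain ⟨w, hw, hw1, hwy⟩ := ih (y ^ 2) W
      (by intro w hw; rw [← hy2]; exact hc w hw) hexp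
      (by
        intro w hw
        have : y ^ 2 * w * (y ^ 2)⁻¹ = y * (y * w * y⁻¹) * y⁻¹ := by
          rw [pow_two]; group
        rw [this]
        exact hnorm _ (hnorm w hw)) hne
    have hw' : y * w * y⁻¹ ∈ W := hnorm w hw
    have hfix : y * (w * (y * w * y⁻¹)) * y⁻¹ = w * (y * w * y⁻¹) := by
      have h1 : y * (y * w * y⁻¹) * y⁻¹ = w := by
        have : y * (y * w * y⁻¹) * y⁻¹ = y ^ 2 * w * (y ^ 2)⁻¹ := by
          rw [pow_two]; group
        rw [this, hwy, mul_inv_cancel_right]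
      calc y * (w * (y * w * y⁻¹)) * y⁻¹
          = (y * w * y⁻¹) * (y * (y * w * y⁻¹) * y⁻¹) := by group
        _ = (y * w * y⁻¹) * w := by rw [h1]
        _ = w * (y * w * y⁻¹) := hcomm _ hw' _ hw
    by_cases hu : w * (y * w * y⁻¹) = 1
    · refine ⟨w, hw, hw1, ?_⟩
      have h1 : y * w * y⁻¹ = w⁻¹ := (inv_eq_of_mul_eq_one_right hu).symm
      have h2 : w⁻¹ = w := inv_eq_of_mul_eq_one_right (hexp w hw)
      rw [h2] at h1
      exact mul_inv_eq_iff_eq_mul.mp h1
    · exact ⟨_, W.mul_mem hw hw', hu, mul_inv_eq_iff_eq_mul.mp hfix⟩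


theorem odd_dvd_two {d : ℕ} (hd : Odd d) (h : d ∣ 2) : d = 1 :=
  Nat.Coprime.eq_one_of_dvd (Nat.coprime_two_right.mpr hd) h

theorem odd_dvd_four {d : ℕ} (hd : Odd d) (h : d ∣ 4) : d = 1 := by
  have h4 : (4 : ℕ) = 2 ^ 2 := by norm_num
  rw [h4] at h
  exact Nat.Coprime.eq_one_of_dvd (Nat.Coprime.pow_right 2 (Nat.coprime_two_right.mpr hd)) h

/-- Core case: `O(G) = 1`. -/
theorem invol_unique_core [Finite G] [Group.IsSolvable G]
    (hO : Cfsg.pPrimeCore 2 G = ⊥)
    (hamb : ∀ x : G, IsConj x x⁻¹)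
    (hone : ∀ s t : G, orderOf s = 2 → orderOf t = 2 → IsConj s t)
    (s t : G) (hs : orderOf s = 2) (ht : orderOf t = 2) : s = t := by
  classical
  haveI : Fact (Nat.Prime 2) := ⟨Nat.prime_two⟩
  have hex : ∃ n, derivedSeries G n = ⊥ := Group.IsSolvable.solvable
  have hn0 : Nat.find hex ≠ 0 := by
    intro h0
    have := Nat.find_spec hex
    rw [h0, derivedSeries_zero] at this
    have hs1 : s ∈ (⊥ : Subgroup G) := by rw [← this]; exact Subgroup.mem_top s
    rw [Subgroup.mem_bot] at hs1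
    rw [hs1, orderOf_one] at hs
    omega
  obtain ⟨k, hk⟩ := Nat.exists_eq_succ_of_ne_zero hn0
  set A := derivedSeries G k with hA
  have hAne : A ≠ ⊥ := Nat.find_min hex (by omega : k < Nat.find hex)
  have hAcomm : ⁅A, A⁆ = ⊥ := by
    have := Nat.find_spec hex
    rw [hk, Nat.succ_eq_add_one, derivedSeries_succ] at this
    exact this
  have hAn : A.Normal := derivedSeries_normal G k
  have hAc : ∀ a ∈ A, ∀ b ∈ A, a * b = b * a := by
    intro a ha b hb
    have := Subgroup.commutator_mem_commutator ha hb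
    rw [hAcomm, Subgroup.mem_bot] at this
    exact commutatorElement_eq_one_iff_mul_comm.mp this
  -- A has even order
  have h2A : 2 ∣ Nat.card A := by
    by_contra h2
    have hcop : (Nat.card A).Coprime 2 :=
      Nat.coprime_comm.mp ((Nat.Prime.coprime_iff_not_dvd Nat.prime_two).mpr h2)
    have := Cfsg.Agent.Lib.Helper2.le_pPrimeCore hAn hcop
    rw [hO] at this
    exact hAne (le_bot_iff.mp this)
  obtain ⟨z, hz⟩ := exists_prime_orderOf_dvd_card' 2 h2A
  have hzG : orderOf (z : G) = 2 := by rw [Subgroup.orderOf_coe]; exact hz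
  have hinvA : ∀ u : G, orderOf u = 2 → u ∈ A := by
    intro u hu
    obtain ⟨c, hc⟩ := isConj_iff.mp (hone (z : G) u hzG hu)
    rw [← hc]
    exact hAn.conj_mem _ z.2 c
  have hsq : ∀ u : G, orderOf u = 2 → u * u = 1 := by
    intro u hu
    have := pow_orderOf_eq_one u
    rwa [hu, pow_two] at this
  have hne1 : ∀ u : G, orderOf u = 2 → u ≠ 1 := by
    intro u hu h
    rw [h, orderOf_one] at hu
    omega
  have hord2 : ∀ u : G, u * u = 1 → u ≠ 1 → orderOf u = 2 := by
    intro u hu hu1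
    exact orderOf_eq_prime (by rw [pow_two]; exact hu) hu1
  -- the subgroup V of all elements of A of order at most 2
  let V : Subgroup G :=
    { carrier := {g | g ∈ A ∧ g * g = 1}
      mul_mem' := by
        rintro a b ⟨ha, ha2⟩ ⟨hb, hb2⟩
        refine ⟨A.mul_mem ha hb, ?_⟩
        calc a * b * (a * b) = a * (b * a) * b := by group
          _ = a * (a * b) * b := by rw [hAc b hb a ha]
          _ = (a * a) * (b * b) := by group
          _ = 1 := by rw [ha2, hb2, one_mul]
      one_mem' := ⟨A.one_mem, by simp⟩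
      inv_mem' := by
        rintro a ⟨ha, ha2⟩
        refine ⟨A.inv_mem ha, ?_⟩
        rw [← mul_inv_rev, ha2, inv_one] }
  have hVmem : ∀ g : G, g ∈ V ↔ g ∈ A ∧ g * g = 1 := fun g => Iff.rfl
  have hVconj : ∀ v ∈ V, ∀ c : G, c * v * c⁻¹ ∈ V := by
    intro v hv c
    rw [hVmem] at hv ⊢
    refine ⟨hAn.conj_mem v hv.1 c, ?_⟩
    calc c * v * c⁻¹ * (c * v * c⁻¹) = c * (v * v) * c⁻¹ := by group
      _ = 1 := by rw [hv.2]; group
  have hinvV : ∀ u : G, orderOf u = 2 → u ∈ V := fun u hu => ⟨hinvA u hu, hsq u hu⟩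
  -- (*) every odd order element commutes with an involution
  have star : ∀ x : G, Odd (orderOf x) → ∃ u ∈ V, u ≠ 1 ∧ u * x = x * u := by
    intro x hodd
    by_cases hx1 : x = 1
    · exact ⟨s, hinvV s hs, hne1 s hs, by rw [hx1]; simp⟩
    obtain ⟨c, hc⟩ := isConj_iff.mp (hamb x)
    have h1 : c * x = x⁻¹ * c := mul_inv_eq_iff_eq_mul.mp hc
    have h2 : x * c = c * x⁻¹ := by
      have : x * (c * x) = c := by rw [h1]; group
      calc x * c = x * (c * x) * x⁻¹ := by group
        _ = c * x⁻¹ := by rw [this]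
    have hcc : Commute (c * c) x := by
      show c * c * x = x * (c * c)
      calc c * c * x = c * (c * x) := by group
        _ = c * (x⁻¹ * c) := by rw [h1]
        _ = (c * x⁻¹) * c := by group
        _ = (x * c) * c := by rw [h2]
        _ = x * (c * c) := by group
    have hxne : ¬ (x * x = 1) := by
      intro hxx
      have : orderOf x ∣ 2 := orderOf_dvd_of_pow_eq_one (by rw [pow_two]; exact hxx)
      exact hx1 (orderOf_eq_one_iff.mp (odd_dvd_two hodd this))
    have hN : 0 < orderOf c := orderOf_pos c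
    rcases Nat.even_or_odd (orderOf c) with hev | hod
    · obtain ⟨k, hk⟩ := hev
      have hk0 : k ≠ 0 := by omega
      have hu2 : c ^ k * c ^ k = 1 := by
        rw [← pow_add, ← hk, pow_orderOf_eq_one]
      have hu1 : c ^ k ≠ 1 := pow_ne_one_of_lt_orderOf hk0 (by omega)
      have huV : c ^ k ∈ V := hinvV _ (hord2 _ hu2 hu1)
      rcases Nat.even_or_odd k with hkev | hkod
      · obtain ⟨j, hj⟩ := hkev
        have : c ^ k = (c * c) ^ j := by
          rw [hj, ← pow_two, ← pow_mul, two_mul]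
        refine ⟨c ^ k, huV, hu1, ?_⟩
        rw [this]
        exact (hcc.pow_left j).eq
      · exfalso
        obtain ⟨j, hj⟩ := hkod
        have hcj : c ^ k = (c * c) ^ j * c := by
          rw [hj, pow_succ, ← pow_two, ← pow_mul]
        have hux : c ^ k * x * (c ^ k)⁻¹ = x⁻¹ := by
          have hcomm := (hcc.pow_left j).inv_right
          rw [hcj]
          calc (c * c) ^ j * c * x * ((c * c) ^ j * c)⁻¹
              = (c * c) ^ j * (c * x * c⁻¹) * ((c * c) ^ j)⁻¹ := by group
            _ = (c * c) ^ j * x⁻¹ * ((c * c) ^ j)⁻¹ := by rw [hc]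
            _ = x⁻¹ := by rw [hcomm.eq, mul_inv_cancel_right]
        set u := c ^ k with hu
        have huinv : u⁻¹ = u := inv_eq_of_mul_eq_one_right hu2
        rw [huinv] at hux
        have hmem : (x * u * x⁻¹) * u ∈ V := V.mul_mem (hVconj u huV x) huV
        have hcalc : (x * u * x⁻¹) * u = x * x := by
          have : u * x⁻¹ * u = x := by
            have h3 : u * x⁻¹ * u = (u * x * u)⁻¹ := by
              rw [mul_inv_rev, mul_inv_rev, huinv, ← mul_assoc]
            rw [h3, hux, inv_inv]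
          calc (x * u * x⁻¹) * u = x * (u * x⁻¹ * u) := by group
            _ = x * x := by rw [this]
        rw [hcalc, hVmem] at hmem
        have h4 : x ^ 4 = 1 := by
          have : x ^ 4 = x * x * (x * x) := by
            rw [show (4 : ℕ) = 2 + 2 from rfl, pow_add, pow_two]
          rw [this]; exact hmem.2
        have : orderOf x ∣ 4 := orderOf_dvd_of_pow_eq_one h4
        exact hx1 (orderOf_eq_one_iff.mp (odd_dvd_four hodd this))
    · exfalso
      obtain ⟨j, hj⟩ := hod
      have : c = (c * c) ^ (j + 1) := by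
        rw [← pow_two, ← pow_mul]
        have : 2 * (j + 1) = orderOf c + 1 := by omega
        rw [this, pow_succ, pow_orderOf_eq_one, one_mul]
      have hcx : Commute c x := by
        rw [this]; exact hcc.pow_left _
      apply hxne
      have : c * x * c⁻¹ = x := by rw [hcx.eq, mul_inv_cancel_right]
      rw [this] at hc
      calc x * x = x * x⁻¹ := by rw [← hc]
        _ = 1 := mul_inv_cancel x
  -- (**) every element commutes with an involution
  have dstar : ∀ g : G, ∃ v ∈ V, v ≠ 1 ∧ g * v = v * g := by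
    intro g
    obtain ⟨a, b, hb, hN⟩ := Nat.exists_eq_two_pow_mul_odd (orderOf_pos g).ne'
    set x := g ^ (2 ^ a) with hx
    have hxb : x ^ b = 1 := by
      rw [hx, ← pow_mul, ← hN, pow_orderOf_eq_one]
    have hodd : Odd (orderOf x) := Odd.of_dvd_nat hb (orderOf_dvd_of_pow_eq_one hxb)
    obtain ⟨u, huV, hu1, hux⟩ := star x hodd
    have hgx : g * x = x * g := by
      rw [hx]; exact ((Commute.refl g).pow_right _).eq
    have hW : ∀ w : G, w ∈ V ⊓ Subgroup.centralizer {x} ↔ w ∈ V ∧ x * w = w * x := by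
      intro w
      rw [Subgroup.mem_inf, Subgroup.mem_centralizer_iff]
      simp
    have hWne : V ⊓ Subgroup.centralizer {x} ≠ ⊥ := by
      intro h
      have : u ∈ V ⊓ Subgroup.centralizer {x} := (hW u).mpr ⟨huV, hux.symm⟩
      rw [h, Subgroup.mem_bot] at this
      exact hu1 this
    obtain ⟨v, hv, hv1, hgv⟩ := exists_fixed a g (V ⊓ Subgroup.centralizer {x})
      (fun w hw => ((hW w).mp hw).2)
      (fun w hw => ((hVmem w).mp ((hW w).mp hw).1).2)
      (by
        intro w hw
        obtain ⟨hwV, hwx⟩ := (hW w).mp hw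
        refine (hW _).mpr ⟨hVconj w hwV g, ?_⟩
        calc x * (g * w * g⁻¹) = (x * g) * w * g⁻¹ := by group
          _ = g * (x * w) * g⁻¹ := by rw [← hgx]; group
          _ = g * (w * x) * g⁻¹ := by rw [hwx]
          _ = g * w * (x * g⁻¹) := by group
          _ = g * w * (g⁻¹ * x) := by
              have : x * g⁻¹ = g⁻¹ * x := by
                have h := hgx
                calc x * g⁻¹ = g⁻¹ * (g * x) * g⁻¹ := by group
                  _ = g⁻¹ * (x * g) * g⁻¹ := by rw [h]
                  _ = g⁻¹ * x := by group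
              rw [this]
          _ = g * w * g⁻¹ * x := by group)
      hWne
    exact ⟨v, ((hW v).mp hv).1, hv1, hgv⟩
  -- conclusion via the union of conjugates of C(s)
  have htop : Subgroup.centralizer {s} = ⊤ := by
    by_contra hne
    obtain ⟨g, hg⟩ := Cfsg.Agent.Lib.Helper14.exists_not_mem_conj _ hne
    obtain ⟨v, hvV, hv1, hgv⟩ := dstar g
    have hv2 : orderOf v = 2 := hord2 v ((hVmem v).mp hvV).2 hv1
    obtain ⟨c, hc⟩ := isConj_iff.mp (hone s v hs hv2)
    apply hg c
    rw [Subgroup.mem_centralizer_iff]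
    intro h hh
    rw [Set.mem_singleton_iff] at hh
    subst hh
    have hs' : h = c⁻¹ * v * c := by rw [← hc]; group
    rw [hs']
    calc c⁻¹ * v * c * (c⁻¹ * g * c) = c⁻¹ * (v * g) * c := by group
      _ = c⁻¹ * (g * v) * c := by rw [hgv]
      _ = c⁻¹ * g * c * (c⁻¹ * v * c) := by group
  obtain ⟨c, hc⟩ := isConj_iff.mp (hone s t hs ht)
  have hcs : c ∈ Subgroup.centralizer {s} := by rw [htop]; exact Subgroup.mem_top c
  rw [Subgroup.mem_centralizer_iff] at hcs
  have := hcs s rfl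
  rw [← hc, ← this, mul_inv_cancel_right]

/-- Involutions of `G ⧸ K` lift to involutions of `G` when `K` has odd order. -/
theorem exists_lift_invol [Finite G] (K : Subgroup G) [K.Normal] (hK : (Nat.card K).Coprime 2)
    (q : G ⧸ K) (hq : orderOf q = 2) : ∃ g : G, orderOf g = 2 ∧ (g : G ⧸ K) = q := by
  induction q using QuotientGroup.induction_on with
  | H g0 =>
    have hq2 : ((g0 : G ⧸ K)) ^ 2 = 1 := by
      have := pow_orderOf_eq_one (g0 : G ⧸ K)
      rwa [hq] at this
    have hg0K : g0 ^ 2 ∈ K := by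
      rw [← QuotientGroup.eq_one_iff, QuotientGroup.mk_pow]; exact hq2
    have hodd : Odd (Nat.card K) := Nat.coprime_two_right.mp hK
    obtain ⟨j, hj⟩ := hodd
    have h1 : (g0 ^ Nat.card K) ^ 2 = 1 := by
      rw [← pow_mul, mul_comm, pow_mul]
      have h2 : ((⟨g0 ^ 2, hg0K⟩ : K) : G) ^ Nat.card K = 1 := by
        rw [← Subgroup.coe_pow, pow_card_eq_one', Subgroup.coe_one]
      exact h2
    have h3 : ((g0 ^ Nat.card K : G) : G ⧸ K) = (g0 : G ⧸ K) := by
      rw [QuotientGroup.mk_pow, hj, pow_succ, pow_mul, hq2, one_pow, one_mul]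
    have h4 : g0 ^ Nat.card K ≠ 1 := by
      intro h
      rw [h, QuotientGroup.mk_one] at h3
      rw [← h3, orderOf_one] at hq
      omega
    exact ⟨g0 ^ Nat.card K, orderOf_eq_prime h1 h4, h3⟩

/-- General case: any two involutions of a Sylow 2-subgroup coincide. -/
theorem invol_unique_sylow [Finite G] [Group.IsSolvable G]
    (hamb : ∀ x : G, IsConj x x⁻¹)
    (hone : ∀ s t : G, orderOf s = 2 → orderOf t = 2 → IsConj s t)
    (S : Sylow 2 G) (s t : G) (hsS : s ∈ S) (htS : t ∈ S)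
    (hs : orderOf s = 2) (ht : orderOf t = 2) : s = t := by
  classical
  haveI : Fact (Nat.Prime 2) := ⟨Nat.prime_two⟩
  haveI hKn : (pPrimeCore 2 G).Normal := Cfsg.Agent.Lib.Helper2.pPrimeCore_normal 2
  have hKodd : (Nat.card (pPrimeCore 2 G)).Coprime 2 := Cfsg.Agent.Lib.Helper2.pPrimeCore_coprime 2
  have hambQ : ∀ q : G ⧸ pPrimeCore 2 G, IsConj q q⁻¹ := by
    intro q
    induction q using QuotientGroup.induction_on with
    | H g => exact (QuotientGroup.mk' (pPrimeCore 2 G)).map_isConj (hamb g)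
  have honeQ : ∀ q₁ q₂ : G ⧸ pPrimeCore 2 G, orderOf q₁ = 2 → orderOf q₂ = 2 → IsConj q₁ q₂ := by
    intro q₁ q₂ h₁ h₂
    obtain ⟨g₁, hg₁, rfl⟩ := exists_lift_invol _ hKodd q₁ h₁
    obtain ⟨g₂, hg₂, rfl⟩ := exists_lift_invol _ hKodd q₂ h₂
    exact (QuotientGroup.mk' (pPrimeCore 2 G)).map_isConj (hone g₁ g₂ hg₁ hg₂)
  have hOQ : pPrimeCore 2 (G ⧸ pPrimeCore 2 G) = ⊥ :=
    Cfsg.Agent.Lib.Helper20.pPrimeCore_quotient_eq_bot 2
  have hord : ∀ u : G, orderOf u = 2 → orderOf (u : G ⧸ pPrimeCore 2 G) = 2 := by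
    intro u hu
    apply orderOf_eq_prime
    · rw [← QuotientGroup.mk_pow]
      have := pow_orderOf_eq_one u
      rw [hu] at this
      rw [this, QuotientGroup.mk_one]
    · intro h
      rw [QuotientGroup.eq_one_iff] at h
      have h1 : orderOf u ∣ Nat.card (pPrimeCore 2 G) := Subgroup.orderOf_dvd_natCard _ h
      rw [hu] at h1
      have := Nat.Coprime.eq_one_of_dvd (Nat.coprime_comm.mp hKodd) h1
      omega
  have heq := invol_unique_core hOQ hambQ honeQ (s : G ⧸ pPrimeCore 2 G) (t : G ⧸ pPrimeCore 2 G)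
    (hord s hs) (hord t ht)
  have hK : s⁻¹ * t ∈ pPrimeCore 2 G := QuotientGroup.eq.mp heq
  have hS : s⁻¹ * t ∈ (S : Subgroup G) := (S : Subgroup G).mul_mem ((S : Subgroup G).inv_mem hsS) htS
  have h1 : orderOf (s⁻¹ * t) ∣ Nat.card (pPrimeCore 2 G) := Subgroup.orderOf_dvd_natCard _ hK
  obtain ⟨k, hk⟩ := S.isPGroup' ⟨s⁻¹ * t, hS⟩
  have h2 : orderOf (s⁻¹ * t) ∣ 2 ^ k := by
    apply orderOf_dvd_of_pow_eq_one
    have := congrArg Subtype.val hk
    simpa using this
  have h3 : orderOf (s⁻¹ * t) = 1 :=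
    Nat.eq_one_of_dvd_coprimes (Nat.Coprime.pow_right k hKodd) h1 h2
  rw [orderOf_eq_one_iff] at h3
  exact inv_mul_eq_one.mp h3

end Cfsg.Agent.Lib.Helper2.Ambiv
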