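import Mathlib
import Cfsg.Prelude
import Cfsg.Agent.Lib.Helper2.AmbivA
import Cfsg.Agent.Lib.Helper3.QuatSylow
import Cfsg.Agent.S0016

/-!
Solvable ambivalent groups with one class of involutions (helper2), part B:
Sylow 2-subgroup of order 2 or generalized quaternion; structure when it has order 2.
-/

set_option autoImplicit false

namespace Cfsg.Agent.Lib.Helper2.Ambiv

open Cfsg
open scoped commutatorElement

variable {G : Type*} [Group G]

theorem eq_zpowers_of_card_two {X : Type*} [Group X] [Finite X] (H : Subgroup X)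
    (h : Nat.card H = 2) : ∃ x : X, x ∈ H ∧ orderOf x = 2 ∧ H = Subgroup.zpowers x := by
  have hne : H ≠ ⊥ := by
    intro hb
    rw [hb, Subgroup.card_bot] at h
    omega
  obtain ⟨⟨x, hx⟩, hx1⟩ := Subgroup.ne_bot_iff_exists_ne_one.mp hne
  have hx1' : x ≠ 1 := fun e => hx1 (Subtype.ext e)
  have hdvd : orderOf x ∣ 2 := by rw [← h]; exact Subgroup.orderOf_dvd_natCard H hx
  have hord : orderOf x = 2 := by
    rcases (Nat.dvd_prime Nat.prime_two).mp hdvd with h1 | h2
    · exact absurd (orderOf_eq_one_iff.mp h1) hx1'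
    · exact h2
  refine ⟨x, hx, hord, ?_⟩
  symm
  apply Subgroup.eq_of_le_of_card_ge
  · rw [Subgroup.zpowers_le]; exact hx
  · rw [Nat.card_zpowers, hord, h]

/-- If `c` inverts `x` then `c * c` commutes with `x`. -/
theorem commute_sq_of_inverts {c x : G} (hc : c * x * c⁻¹ = x⁻¹) : Commute (c * c) x := by
  have h1 : c * x = x⁻¹ * c := mul_inv_eq_iff_eq_mul.mp hc
  have h2 : x * c = c * x⁻¹ := by
    have : x * (c * x) = c := by rw [h1]; group
    calc x * c = x * (c * x) * x⁻¹ := by group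
      _ = c * x⁻¹ := by rw [this]
  show c * c * x = x * (c * c)
  calc c * c * x = c * (c * x) := by group
    _ = c * (x⁻¹ * c) := by rw [h1]
    _ = (c * x⁻¹) * c := by group
    _ = (x * c) * c := by rw [h2]
    _ = x * (c * c) := by group

theorem commute_of_odd_of_sq {k y : G} (hk : Odd (orderOf k)) (hc : Commute (k * k) y) :
    Commute k y := by
  obtain ⟨j, hj⟩ := hk
  have : k = (k * k) ^ (j + 1) := by
    rw [← pow_two, ← pow_mul]
    have : 2 * (j + 1) = orderOf k + 1 := by omega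
    rw [this, pow_succ, pow_orderOf_eq_one, one_mul]
  rw [this]
  exact hc.pow_left _

theorem eq_one_of_odd_of_sq {x : G} (hodd : Odd (orderOf x)) (hxx : x * x = 1) : x = 1 := by
  have : orderOf x ∣ 2 := orderOf_dvd_of_pow_eq_one (by rw [pow_two]; exact hxx)
  exact orderOf_eq_one_iff.mp (odd_dvd_two hodd this)

/-- If the Sylow 2-subgroup of an ambivalent group of even order is cyclic, it has order 2. -/
theorem card_two_of_isCyclic [Finite G] (hamb : ∀ x : G, IsConj x x⁻¹) (heven : 2 ∣ Nat.card G)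
    (S : Sylow 2 G) (hc : IsCyclic (S : Subgroup G)) : Nat.card (S : Subgroup G) = 2 := by
  classical
  haveI : Fact (Nat.Prime 2) := ⟨Nat.prime_two⟩
  obtain ⟨K, hKn, hcompl, hKodd⟩ :=
    Cfsg.Agent.Lib.Helper3.exists_normal_two_complement_of_isCyclic S hc
  haveI := hKn
  have hScomm : ∀ a ∈ (S : Subgroup G), ∀ b ∈ (S : Subgroup G), a * b = b * a := by
    intro a ha b hb
    letI := IsCyclic.commGroup (α := (S : Subgroup G))
    have := mul_comm (⟨a, ha⟩ : (S : Subgroup G)) ⟨b, hb⟩
    exact congrArg Subtype.val this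
  have hsq : ∀ g : G, g ∈ (S : Subgroup G) → g * g = 1 := by
    intro g hg
    obtain ⟨c, hcg⟩ := isConj_iff.mp (hamb g)
    obtain ⟨⟨⟨k, hk⟩, ⟨s0, hs0⟩⟩, hks, -⟩ := hcompl.existsUnique c
    simp only at hks
    have hs0g : s0 * g * s0⁻¹ = g := by
      rw [hScomm s0 hs0 g hg, mul_inv_cancel_right]
    have hkg : k * g * k⁻¹ = g⁻¹ := by
      rw [← hcg, ← hks]
      calc k * g * k⁻¹ = k * (s0 * g * s0⁻¹) * k⁻¹ := by rw [hs0g]
        _ = k * s0 * g * (k * s0)⁻¹ := by group
    have hK : (g * g)⁻¹ ∈ K := by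
      have : (g * g)⁻¹ = k * (g * k⁻¹ * g⁻¹) := by
        calc (g * g)⁻¹ = g⁻¹ * g⁻¹ := by group
          _ = k * g * k⁻¹ * g⁻¹ := by rw [hkg]
          _ = k * (g * k⁻¹ * g⁻¹) := by group
      rw [this]
      exact K.mul_mem hk (hKn.conj_mem _ (K.inv_mem hk) g)
    have hK' : g * g ∈ K := by simpa using K.inv_mem hK
    have hS' : g * g ∈ (S : Subgroup G) := (S : Subgroup G).mul_mem hg hg
    have := hcompl.disjoint.le_bot ⟨hK', hS'⟩
    exact (Subgroup.mem_bot).mp this
  obtain ⟨g0, hg0⟩ := IsCyclic.exists_generator (α := (S : Subgroup G))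
  have hord : orderOf g0 = Nat.card (S : Subgroup G) := orderOf_eq_card_of_forall_mem_zpowers hg0
  have h2 : g0 ^ 2 = 1 := by
    apply Subtype.ext
    rw [Subgroup.coe_pow, pow_two, Subgroup.coe_one]
    exact hsq _ g0.2
  have hdvd : Nat.card (S : Subgroup G) ∣ 2 := by
    rw [← hord]; exact orderOf_dvd_of_pow_eq_one h2
  have hdvd2 : 2 ∣ Nat.card (S : Subgroup G) := S.dvd_card_of_dvd_card heven
  exact Nat.dvd_antisymm hdvd hdvd2

/-- First part of S4061. -/
theorem part_one [Finite G] [Group.IsSolvable G]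
    (hamb : ∀ x : G, IsConj x x⁻¹) (heven : 2 ∣ Nat.card G)
    (hone : ∀ s t : G, orderOf s = 2 → orderOf t = 2 → IsConj s t) (S : Sylow 2 G) :
    Nat.card (S : Subgroup G) = 2 ∨
      ∃ n : ℕ, Nonempty ((S : Subgroup G) ≃* QuaternionGroup (2 ^ (n + 1))) := by
  haveI : Fact (Nat.Prime 2) := ⟨Nat.prime_two⟩
  have huniq : ∀ H K : Subgroup ↥(S : Subgroup G), Nat.card H = 2 → Nat.card K = 2 → H = K := by
    intro H K hH hK
    obtain ⟨x, hxH, hx, rfl⟩ := eq_zpowers_of_card_two H hH
    obtain ⟨y, hyK, hy, rfl⟩ := eq_zpowers_of_card_two K hK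
    have : (x : G) = (y : G) := invol_unique_sylow hamb hone S x y x.2 y.2
      (by rw [Subgroup.orderOf_coe]; exact hx) (by rw [Subgroup.orderOf_coe]; exact hy)
    rw [Subtype.ext this]
  rcases Cfsg.Agent.S0016.result 2 S.isPGroup' huniq with hc | ⟨-, n, ⟨e⟩⟩
  · exact Or.inl (card_two_of_isCyclic hamb heven S hc)
  · cases n with
    | zero =>
      exfalso
      have e' : (S : Subgroup G) ≃* QuaternionGroup 1 := e
      have hc : IsCyclic (S : Subgroup G) :=
        (MulEquiv.isCyclic e').mpr QuaternionGroup.quaternionGroup_one_isCyclic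
      have h2 := card_two_of_isCyclic hamb heven S hc
      have h4 : Nat.card (S : Subgroup G) = 4 := by
        rw [Nat.card_congr e'.toEquiv, Nat.card_eq_fintype_card, QuaternionGroup.card]
      omega
    | succ k => exact Or.inr ⟨k, ⟨e⟩⟩

/-- Second part of S4061. -/
theorem part_two [Finite G] (hamb : ∀ x : G, IsConj x x⁻¹) (S : Sylow 2 G)
    (hS2 : Nat.card (S : Subgroup G) = 2) :
    (S : Subgroup G).IsComplement' (Cfsg.oddCore G) ∧ Cfsg.oddCore G = commutator G ∧
      ∀ t : G, t ∈ S → t ≠ 1 → ∀ x : G, x ∈ Cfsg.oddCore G → t * x * t⁻¹ = x⁻¹ := by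
  classical
  haveI : Fact (Nat.Prime 2) := ⟨Nat.prime_two⟩
  have hcyc : IsCyclic (S : Subgroup G) := isCyclic_of_prime_card hS2
  obtain ⟨K, hKn, hcompl, hKodd⟩ :=
    Cfsg.Agent.Lib.Helper3.exists_normal_two_complement_of_isCyclic S hcyc
  haveI := hKn
  have hKcop : (Nat.card K).Coprime 2 :=
    Nat.coprime_comm.mp ((Nat.Prime.coprime_iff_not_dvd Nat.prime_two).mpr hKodd)
  have hKoddN : Odd (Nat.card K) := Nat.coprime_two_right.mp hKcop
  have hcore : Cfsg.oddCore G = K := by
    apply le_antisymm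
    · intro x hx
      have hcop := Cfsg.Agent.Lib.Helper2.pPrimeCore_coprime (G := G) 2
      have h1 : orderOf x ∣ Nat.card (pPrimeCore 2 G) := Subgroup.orderOf_dvd_natCard _ hx
      have hodd : Odd (orderOf x) := Odd.of_dvd_nat (Nat.coprime_two_right.mp hcop) h1
      exact Cfsg.Agent.Lib.Helper3.mem_of_odd_orderOf_of_isComplement' S K hcompl x hodd
    · exact Cfsg.Agent.Lib.Helper2.le_pPrimeCore hKn hKcop
  have hoddK : ∀ x ∈ K, Odd (orderOf x) := fun x hx =>
    Odd.of_dvd_nat hKoddN (Subgroup.orderOf_dvd_natCard _ hx)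
  -- inversion
  have hinv : ∀ t : G, t ∈ S → t ≠ 1 → ∀ x : G, x ∈ K → t * x * t⁻¹ = x⁻¹ := by
    intro t htS ht1
    have htord : orderOf t = 2 := by
      have hdvd : orderOf t ∣ 2 := by rw [← hS2]; exact Subgroup.orderOf_dvd_natCard _ htS
      rcases (Nat.dvd_prime Nat.prime_two).mp hdvd with h1 | h2
      · exact absurd (orderOf_eq_one_iff.mp h1) ht1
      · exact h2
    have htt : t * t = 1 := by
      have := pow_orderOf_eq_one t
      rwa [htord, pow_two] at this
    have htinv : t⁻¹ = t := inv_eq_of_mul_eq_one_right htt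
    have hSt : Subgroup.zpowers t = (S : Subgroup G) := by
      apply Subgroup.eq_of_le_of_card_ge
      · rw [Subgroup.zpowers_le]; exact htS
      · rw [Nat.card_zpowers, htord, hS2]
    -- C_K(t) = 1
    have hfpf : ∀ y ∈ K, t * y = y * t → y = 1 := by
      intro y hyK hty
      obtain ⟨h, hh⟩ := isConj_iff.mp (hamb (t * y))
      obtain ⟨j, hj⟩ := hoddK y hyK
      have hpow : (t * y) ^ (orderOf y + 1) = y := by
        have hc : Commute t y := hty
        rw [hc.mul_pow]
        have h1 : t ^ (orderOf y + 1) = 1 := by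
          have : orderOf y + 1 = 2 * (j + 1) := by omega
          rw [this, pow_mul, pow_two, htt, one_pow]
        rw [h1, one_mul, pow_succ, pow_orderOf_eq_one, one_mul]
      have hy : h * y * h⁻¹ = y⁻¹ := by
        have : (h * (t * y) * h⁻¹) ^ (orderOf y + 1) = ((t * y)⁻¹) ^ (orderOf y + 1) := by
          rw [hh]
        rw [conj_pow, hpow, inv_pow, hpow] at this
        exact this
      obtain ⟨⟨⟨k, hk⟩, ⟨s0, hs0⟩⟩, hks, -⟩ := hcompl.existsUnique h
      simp only at hks
      have hs0y : s0 * y * s0⁻¹ = y := by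
        have hmem : s0 ∈ Subgroup.zpowers t := by rw [hSt]; exact hs0
        obtain ⟨i, hi⟩ := Subgroup.mem_zpowers_iff.mp hmem
        have hc : Commute s0 y := by
          rw [← hi]
          exact (show Commute t y from hty).zpow_left i
        rw [hc.eq, mul_inv_cancel_right]
      have hky : k * y * k⁻¹ = y⁻¹ := by
        rw [← hy, ← hks]
        calc k * y * k⁻¹ = k * (s0 * y * s0⁻¹) * k⁻¹ := by rw [hs0y]
          _ = k * s0 * y * (k * s0)⁻¹ := by group
      have hc : Commute k y :=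
        commute_of_odd_of_sq (hoddK k hk) (commute_sq_of_inverts hky)
      have hyy : y = y⁻¹ := by
        rw [← hky, hc.eq, mul_inv_cancel_right]
      apply eq_one_of_odd_of_sq (hoddK y hyK)
      calc y * y = y * y⁻¹ := by rw [← hyy]
        _ = 1 := mul_inv_cancel y
    -- the map k ↦ k⁻¹ * t k t⁻¹ is injective on K, hence surjective
    let φ : K → K := fun k => ⟨(k : G)⁻¹ * (t * k * t⁻¹),
      K.mul_mem (K.inv_mem k.2) (hKn.conj_mem _ k.2 t)⟩
    have hφinj : Function.Injective φ := by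
      intro k l hkl
      have e : (k : G)⁻¹ * (t * k * t⁻¹) = (l : G)⁻¹ * (t * l * t⁻¹) := congrArg Subtype.val hkl
      have h1 : (l : G) * (k : G)⁻¹ = t * ((l : G) * (k : G)⁻¹) * t⁻¹ := by
        have : (l : G) * ((k : G)⁻¹ * (t * k * t⁻¹)) = t * l * t⁻¹ := by rw [e]; group
        calc (l : G) * (k : G)⁻¹
            = (l : G) * ((k : G)⁻¹ * (t * k * t⁻¹)) * (t * (k : G)⁻¹ * t⁻¹) := by group
          _ = t * l * t⁻¹ * (t * (k : G)⁻¹ * t⁻¹) := by rw [this]
          _ = t * ((l : G) * (k : G)⁻¹) * t⁻¹ := by group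
      have h2 : t * ((l : G) * (k : G)⁻¹) = (l : G) * (k : G)⁻¹ * t :=
        (mul_inv_eq_iff_eq_mul.mp h1.symm)
      have h3 := hfpf _ (K.mul_mem l.2 (K.inv_mem k.2)) h2
      apply Subtype.ext
      exact (mul_inv_eq_one.mp h3).symm
    have hφsurj : Function.Surjective φ := Finite.injective_iff_surjective.mp hφinj
    intro x hx
    obtain ⟨k, hk⟩ := hφsurj ⟨x, hx⟩
    have hxk : x = (k : G)⁻¹ * (t * k * t⁻¹) := (congrArg Subtype.val hk).symm
    rw [hxk, htinv]
    calc t * ((k : G)⁻¹ * (t * k * t)) * t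
        = t * (k : G)⁻¹ * (t * k * (t * t)) := by group
      _ = t * (k : G)⁻¹ * (t * k) := by rw [htt, mul_one]
      _ = t⁻¹ * (k : G)⁻¹ * t⁻¹ * k := by rw [htinv]; group
      _ = ((k : G)⁻¹ * (t * k * t))⁻¹ := by group
  refine ⟨by rw [hcore]; exact hcompl.symm, ?_, ?_⟩
  · rw [hcore]
    apply le_antisymm
    · intro x hx
      obtain ⟨t, htS, htord, -⟩ := eq_zpowers_of_card_two (S : Subgroup G) hS2
      have ht1 : t ≠ 1 := by
        intro h
        rw [h, orderOf_one] at htord
        omega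
      have h1 := hinv t htS ht1 x hx
      have hcm : ⁅t, x⁆ ∈ commutator G := by
        rw [commutator_def]
        exact Subgroup.commutator_mem_commutator (Subgroup.mem_top t) (Subgroup.mem_top x)
      have h2 : ⁅t, x⁆ = (x * x)⁻¹ := by
        rw [commutatorElement_def, h1, mul_inv_rev]
      rw [h2] at hcm
      have h3 : x * x ∈ commutator G := by simpa using (commutator G).inv_mem hcm
      obtain ⟨j, hj⟩ := hoddK x hx
      have : x = (x * x) ^ (j + 1) := by
        rw [← pow_two, ← pow_mul]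
        have : 2 * (j + 1) = orderOf x + 1 := by omega
        rw [this, pow_succ, pow_orderOf_eq_one, one_mul]
      rw [this]
      exact (commutator G).pow_mem h3 _
    · have hidx : Nat.card (G ⧸ K) = 2 := by
        rw [← Subgroup.index_eq_card, hcompl.symm.index_eq_card, hS2]
      haveI : IsCyclic (G ⧸ K) := isCyclic_of_prime_card hidx
      letI := IsCyclic.commGroup (α := G ⧸ K)
      have := Abelianization.commutator_subset_ker (QuotientGroup.mk' K)
      rwa [QuotientGroup.ker_mk'] at this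
  · intro t htS ht1 x hx
    rw [hcore] at hx
    exact hinv t htS ht1 x hx

end Cfsg.Agent.Lib.Helper2.Ambiv
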