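import Mathlib

/-!
Arithmetic core of the Brauer--Glauberman proof of the Brauer--Suzuki theorem for `Q8`.
-/

namespace Cfsg.Agent.Lib.Helper2.BSQ8

theorem z4_odd : ∀ K : ZMod 4, 2 * K + 1 = 1 ∨ 2 * K + 1 = 3 := by decide

theorem z4_even : ∀ K : ZMod 4, 2 * K = 0 ∨ 2 * K = 2 := by decide

theorem z4_check_lt : ∀ D W U : ZMod 4, (W = 0 ∨ W = 2) → (U = 1 ∨ U = 3) →
    (D * W - 3 * U) ^ 2 ≠ U ^ 2 * 3 + W ^ 2 * D := by decide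

theorem z4_check_eq : ∀ D U V : ZMod 4, (D = 1 ∨ D = 3) → (U = 1 ∨ U = 3) → (V = 1 ∨ V = 3) →
    (D * V - D * U) ^ 2 ≠ U ^ 2 * D + V ^ 2 * D := by decide

theorem four_zmod : (4 : ZMod 4) = 0 := by decide

theorem core_lt (d2 d3 m2 m3 n3 u v : ℤ) (a c : ℕ) (hu : Odd u)
    (hm2 : m2 = 2 ^ a * u) (hm3 : m3 = 2 ^ a * (2 ^ (c + 1) * v))
    (hd3 : d3 = 4 * n3 + 3 + 2 * m3)
    (hM : (d2 * m3 - d3 * m2) ^ 2 = m2 ^ 2 * d3 + m3 ^ 2 * d2) : False := by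
  have h2a : ((2 : ℤ) ^ a) ^ 2 ≠ 0 := pow_ne_zero _ (pow_ne_zero _ (by norm_num))
  have hbr : (d2 * (2 ^ (c + 1) * v) - d3 * u) ^ 2 - (u ^ 2 * d3 + (2 ^ (c + 1) * v) ^ 2 * d2) = 0 := by
    have : ((2 : ℤ) ^ a) ^ 2 * ((d2 * (2 ^ (c + 1) * v) - d3 * u) ^ 2 -
        (u ^ 2 * d3 + (2 ^ (c + 1) * v) ^ 2 * d2)) = 0 := by
      rw [hm2, hm3] at hM
      linear_combination hM
    exact (mul_eq_zero.mp this).resolve_left h2a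
  obtain ⟨k, hk⟩ := hu
  have h4 := congrArg (Int.cast : ℤ → ZMod 4) hbr
  have hd3c : ((d3 : ℤ) : ZMod 4) = 3 := by
    rw [hd3, hm3, pow_succ]
    push_cast
    have : (4 : ZMod 4) = 0 := four_zmod
    linear_combination ((n3 : ZMod 4) + (2 : ZMod 4) ^ a * (2 : ZMod 4) ^ c * (v : ZMod 4)) * this
  have hW : (((2 : ℤ) ^ (c + 1) * v : ℤ) : ZMod 4) = 0 ∨ (((2 : ℤ) ^ (c + 1) * v : ℤ) : ZMod 4) = 2 := by
    have : (((2 : ℤ) ^ (c + 1) * v : ℤ) : ZMod 4) = 2 * ((2 : ZMod 4) ^ c * (v : ZMod 4)) := by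
      rw [pow_succ]; push_cast; ring
    rw [this]
    exact z4_even _
  have hU : ((u : ℤ) : ZMod 4) = 1 ∨ ((u : ℤ) : ZMod 4) = 3 := by
    rw [hk]; push_cast; exact z4_odd _
  have hne := z4_check_lt ((d2 : ℤ) : ZMod 4) (((2 : ℤ) ^ (c + 1) * v : ℤ) : ZMod 4) ((u : ℤ) : ZMod 4) hW hU
  apply hne
  have h5 : (((d2 * (2 ^ (c + 1) * v) - d3 * u) ^ 2 - (u ^ 2 * d3 + (2 ^ (c + 1) * v) ^ 2 * d2) : ℤ) : ZMod 4)
      = ((d2 : ℤ) : ZMod 4) * (((2 : ℤ) ^ (c + 1) * v : ℤ) : ZMod 4) ^ 0 * 0 +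
        ((((d2 : ℤ) : ZMod 4) * (((2 : ℤ) ^ (c + 1) * v : ℤ) : ZMod 4) - ((d3 : ℤ) : ZMod 4) * ((u : ℤ) : ZMod 4)) ^ 2 -
        (((u : ℤ) : ZMod 4) ^ 2 * ((d3 : ℤ) : ZMod 4) + (((2 : ℤ) ^ (c + 1) * v : ℤ) : ZMod 4) ^ 2 * ((d2 : ℤ) : ZMod 4))) := by
    push_cast; ring
  rw [h5, hd3c] at h4
  have h6 : (0 : ZMod 4) = ((0 : ℤ) : ZMod 4) := by simp
  rw [← h6] at h4
  linear_combination h4

theorem core_eq (d2 d3 m2 m3 n2 n3 u v : ℤ) (a : ℕ) (hu : Odd u) (hv : Odd v)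
    (hm2 : m2 = 2 ^ a * u) (hm3 : m3 = 2 ^ a * v)
    (hd2 : d2 = 4 * n2 + 3 + 2 * m2) (hd3 : d3 = 4 * n3 + 3 + 2 * m3)
    (hM : (d2 * m3 - d3 * m2) ^ 2 = m2 ^ 2 * d3 + m3 ^ 2 * d2) : False := by
  have h2a : ((2 : ℤ) ^ a) ^ 2 ≠ 0 := pow_ne_zero _ (pow_ne_zero _ (by norm_num))
  have hbr : (d2 * v - d3 * u) ^ 2 - (u ^ 2 * d3 + v ^ 2 * d2) = 0 := by
    have : ((2 : ℤ) ^ a) ^ 2 * ((d2 * v - d3 * u) ^ 2 - (u ^ 2 * d3 + v ^ 2 * d2)) = 0 := by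
      rw [hm2, hm3] at hM
      linear_combination hM
    exact (mul_eq_zero.mp this).resolve_left h2a
  obtain ⟨k, hk⟩ := hu
  obtain ⟨l, hl⟩ := hv
  -- d3 = d2 + 4 * r
  have hd32 : d3 = d2 + 4 * (n3 - n2 + 2 ^ a * (l - k)) := by
    rw [hd2, hd3, hm2, hm3, hk, hl]; ring
  have hd2o : d2 = 2 * (2 * n2 + 1 + m2) + 1 := by rw [hd2]; ring
  have h4 := congrArg (Int.cast : ℤ → ZMod 4) hbr
  have hd3c : ((d3 : ℤ) : ZMod 4) = ((d2 : ℤ) : ZMod 4) := by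
    rw [hd32]
    push_cast
    have : (4 : ZMod 4) = 0 := four_zmod
    linear_combination ((n3 : ZMod 4) - (n2 : ZMod 4) + (2 : ZMod 4) ^ a * ((l : ZMod 4) - (k : ZMod 4))) * this
  have hD : ((d2 : ℤ) : ZMod 4) = 1 ∨ ((d2 : ℤ) : ZMod 4) = 3 := by
    rw [hd2o]; push_cast; exact z4_odd _
  have hU : ((u : ℤ) : ZMod 4) = 1 ∨ ((u : ℤ) : ZMod 4) = 3 := by
    rw [hk]; push_cast; exact z4_odd _
  have hV : ((v : ℤ) : ZMod 4) = 1 ∨ ((v : ℤ) : ZMod 4) = 3 := by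
    rw [hl]; push_cast; exact z4_odd _
  have hne := z4_check_eq ((d2 : ℤ) : ZMod 4) ((u : ℤ) : ZMod 4) ((v : ℤ) : ZMod 4) hD hU hV
  apply hne
  have h5 : (((d2 * v - d3 * u) ^ 2 - (u ^ 2 * d3 + v ^ 2 * d2) : ℤ) : ZMod 4)
      = ((((d2 : ℤ) : ZMod 4) * ((v : ℤ) : ZMod 4) - ((d3 : ℤ) : ZMod 4) * ((u : ℤ) : ZMod 4)) ^ 2 -
        (((u : ℤ) : ZMod 4) ^ 2 * ((d3 : ℤ) : ZMod 4) + ((v : ℤ) : ZMod 4) ^ 2 * ((d2 : ℤ) : ZMod 4))) := by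
    push_cast; ring
  rw [h5, hd3c] at h4
  have h6 : (0 : ZMod 4) = ((0 : ℤ) : ZMod 4) := by simp
  rw [← h6] at h4
  linear_combination h4

/-- decomposition of a positive integer as `2^a * odd` -/
theorem exists_two_pow_mul_odd (m : ℤ) (hm : 0 < m) : ∃ (a : ℕ) (u : ℤ), Odd u ∧ m = 2 ^ a * u := by
  have h0 : m.toNat ≠ 0 := by omega
  obtain ⟨k, w, hw, hkw⟩ := Nat.exists_eq_two_pow_mul_odd h0
  refine ⟨k, (w : ℤ), ?_, ?_⟩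
  · exact_mod_cast hw
  · have : (m.toNat : ℤ) = m := Int.toNat_of_nonneg hm.le
    rw [← this, hkw]; push_cast; ring

theorem core (d2 d3 m2 m3 n2 n3 : ℤ) (h2 : 0 < m2) (h3 : 0 < m3)
    (hd2 : d2 = 4 * n2 + 3 + 2 * m2) (hd3 : d3 = 4 * n3 + 3 + 2 * m3)
    (hM : (d2 * m3 - d3 * m2) ^ 2 = m2 ^ 2 * d3 + m3 ^ 2 * d2) : False := by
  obtain ⟨a, u, hu, hm2⟩ := exists_two_pow_mul_odd m2 h2
  obtain ⟨b, v, hv, hm3⟩ := exists_two_pow_mul_odd m3 h3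
  rcases lt_trichotomy a b with hab | hab | hab
  · obtain ⟨c, rfl⟩ : ∃ c, b = a + (c + 1) := ⟨b - a - 1, by omega⟩
    refine core_lt d2 d3 m2 m3 n3 u v a c hu hm2 ?_ hd3 hM
    rw [hm3, pow_add]; ring
  · subst hab
    exact core_eq d2 d3 m2 m3 n2 n3 u v a hu hv hm2 hm3 hd2 hd3 hM
  · obtain ⟨c, rfl⟩ : ∃ c, a = b + (c + 1) := ⟨a - b - 1, by omega⟩
    refine core_lt d3 d2 m3 m2 n2 v u b c hv hm3 ?_ hd2 ?_
    · rw [hm2, pow_add]; ring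
    · linear_combination hM

/-- The arithmetic lemma: the three column equations together with the congruences coming from
the restriction to `Q8` force one of the two "negative" characters to have the involution in its
kernel. -/
theorem arith_main (d1 d2 d3 x1 x2 x3 n2 n3 m2 m3 : ℤ)
    (hx2 : x2 ≤ d2) (hx3 : x3 ≤ d3)
    (e1 : 1 + d1 = d2 + d3) (e2 : 1 + x1 = x2 + x3)
    (e3 : (d1 + x1 ^ 2) * d2 * d3 = (x2 ^ 2 * d3 + x3 ^ 2 * d2) * d1)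
    (c2 : d2 + x2 - 6 = 8 * n2) (c3 : d3 + x3 - 6 = 8 * n3)
    (b2 : d2 - x2 = 4 * m2) (b3 : d3 - x3 = 4 * m3) :
    x2 = d2 ∨ x3 = d3 := by
  by_contra hcon
  push Not at hcon
  obtain ⟨hne2, hne3⟩ := hcon
  have hm2 : 0 < m2 := by
    rcases lt_or_eq_of_le hx2 with h | h
    · omega
    · exact absurd h hne2
  have hm3 : 0 < m3 := by
    rcases lt_or_eq_of_le hx3 with h | h
    · omega
    · exact absurd h hne3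
  have hd2 : d2 = 4 * n2 + 3 + 2 * m2 := by omega
  have hd3 : d3 = 4 * n3 + 3 + 2 * m3 := by omega
  have hx2' : x2 = d2 - 4 * m2 := by omega
  have hx3' : x3 = d3 - 4 * m3 := by omega
  have hd1 : d1 = d2 + d3 - 1 := by omega
  have hx1 : x1 = x2 + x3 - 1 := by omega
  have hM4 : 16 * ((d2 * m3 - d3 * m2) ^ 2 - (m2 ^ 2 * d3 + m3 ^ 2 * d2)) = 0 := by
    rw [hx1, hd1, hx2', hx3'] at e3
    linear_combination (-1 : ℤ) * e3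
  have hM : (d2 * m3 - d3 * m2) ^ 2 = m2 ^ 2 * d3 + m3 ^ 2 * d2 := by
    have := (mul_eq_zero.mp hM4).resolve_left (by norm_num)
    linarith
  exact core d2 d3 m2 m3 n2 n3 hm2 hm3 hd2 hd3 hM

end Cfsg.Agent.Lib.Helper2.BSQ8
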