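import Mathlib

set_option autoImplicit false

namespace Cfsg.Agent.Lib.Helper2.W162

open Subgroup

section Abstract
variable {G : Type*} [Group G]

theorem mem_normalizer_of_conj_mem [Finite G] (U : Subgroup G) (g : G)
    (hg : ∀ u ∈ U, g * u * g⁻¹ ∈ U) : g ∈ normalizer (U : Set G) := by
  have hpow : ∀ n : ℕ, ∀ u ∈ U, g ^ n * u * (g ^ n)⁻¹ ∈ U := by
    intro n
    induction n with
    | zero => intro u hu; simpa using hu
    | succ n ih =>
      intro u hu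
      have h1 := hg _ (ih u hu)
      have e : g ^ (n + 1) * u * (g ^ (n + 1))⁻¹ = g * (g ^ n * u * (g ^ n)⁻¹) * g⁻¹ := by
        rw [pow_succ', mul_inv_rev]; simp only [mul_assoc]
      rw [e]; exact h1
  rw [Subgroup.mem_normalizer_iff]
  intro u
  refine ⟨hg u, fun hu => ?_⟩
  obtain ⟨m, hm⟩ : ∃ m : ℕ, g ^ m * g = 1 := by
    refine ⟨orderOf g - 1, ?_⟩
    rw [← pow_succ, Nat.sub_add_cancel (orderOf_pos g), pow_orderOf_eq_one]
  have h1 := hpow m _ hu
  have e : g ^ m * (g * u * g⁻¹) * (g ^ m)⁻¹ = u := by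
    calc g ^ m * (g * u * g⁻¹) * (g ^ m)⁻¹ = (g ^ m * g) * u * (g ^ m * g)⁻¹ := by
          rw [mul_inv_rev]; simp only [mul_assoc]
      _ = u := by rw [hm]; simp
  rwa [e] at h1

theorem card_arith_aux : ∀ u : Fin 28, ∀ v : Fin 28, 3 ∣ v.val → v.val ∣ u.val → u.val ∣ 27 →
    3 ≠ v.val → v.val ≠ u.val → u.val = 27 := by decide

theorem card_arith {v u : ℕ} (d1 : 3 ∣ v) (d2 : v ∣ u) (d3 : u ∣ 27) (n1 : 3 ≠ v) (n2 : v ≠ u) :
    u = 27 := by
  have hu : u ≤ 27 := Nat.le_of_dvd (by norm_num) d3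
  have hu0 : 0 < u := Nat.pos_of_dvd_of_pos d3 (by norm_num)
  have hv : v ≤ u := Nat.le_of_dvd hu0 d2
  exact card_arith_aux ⟨u, by omega⟩ ⟨v, by omega⟩ d1 d2 d3 n1 n2

/-- elements of `J` inverted by `t` -/
def Jminus (J : Subgroup G) (t : G) (hcomm : ∀ x ∈ J, ∀ y ∈ J, x * y = y * x) : Subgroup G where
  carrier := {w | w ∈ J ∧ MulAut.conj t w = w⁻¹}
  one_mem' := ⟨J.one_mem, by simp⟩
  mul_mem' := by
    rintro x y ⟨hx, hx'⟩ ⟨hy, hy'⟩
    refine ⟨J.mul_mem hx hy, ?_⟩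
    rw [map_mul, hx', hy', mul_inv_rev]
    exact hcomm _ (J.inv_mem hx) _ (J.inv_mem hy)
  inv_mem' := by
    rintro x ⟨hx, hx'⟩
    exact ⟨J.inv_mem hx, by rw [map_inv, hx']⟩

theorem mem_Jminus {J : Subgroup G} {t : G} {hcomm : ∀ x ∈ J, ∀ y ∈ J, x * y = y * x} {w : G} :
    w ∈ Jminus J t hcomm ↔ w ∈ J ∧ MulAut.conj t w = w⁻¹ := Iff.rfl

/-- The abstract hypotheses. -/
structure Hyp (S J Z : Subgroup G) (t : G) : Prop where
  fin : Finite G
  cardG : Nat.card G = 162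
  cardS : Nat.card S = 81
  cardJ : Nat.card J = 27
  cardZ : Nat.card Z = 3
  Jnormal : J.Normal
  Snormal : S.Normal
  Jcomm : ∀ x ∈ J, ∀ y ∈ J, x * y = y * x
  Jexp : ∀ x ∈ J, x ^ 3 = 1
  JleS : J ≤ S
  Zdef : ∀ z, z ∈ Z ↔ z ∈ S ∧ ∀ x ∈ S, x * z = z * x
  t2 : t ^ 2 = 1
  tZ : ∀ z ∈ Z, t * z = z * t
  tS : ∃ x ∈ S, t * x ≠ x * t
  tnS : t ∉ S
  center : ∀ U : Subgroup G, U ≤ S → S ≤ normalizer (U : Set G) → U ≠ ⊥ →
    ∃ z ∈ U, z ∈ Z ∧ z ≠ 1

namespace Hyp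

variable {S J Z : Subgroup G} {t : G} (h : Hyp S J Z t)
include h

theorem pow81 {x : G} (hx : x ∈ S) : x ^ 81 = 1 := by
  have := h.fin
  have h1 : orderOf x ∣ Nat.card S := Subgroup.orderOf_dvd_natCard S hx
  rw [h.cardS] at h1
  exact orderOf_dvd_iff_pow_eq_one.mp h1

theorem tt : t * t = 1 := by
  have := h.t2
  rwa [pow_two] at this

theorem tau_tau (x : G) : MulAut.conj t (MulAut.conj t x) = x := by
  simp only [MulAut.conj_apply]
  calc t * (t * x * t⁻¹) * t⁻¹ = (t * t) * x * (t * t)⁻¹ := by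
        rw [mul_inv_rev]; simp only [mul_assoc]
    _ = x := by rw [h.tt]; simp

theorem max {K : Subgroup G} (hJK : J ≤ K) (hKS : K ≤ S) (hne : ¬ K ≤ J) : K = S := by
  have := h.fin
  have h1 : Nat.card J ∣ Nat.card K := Subgroup.card_dvd_of_le hJK
  have h2 : Nat.card K ∣ Nat.card S := Subgroup.card_dvd_of_le hKS
  rw [h.cardJ] at h1
  rw [h.cardS] at h2
  obtain ⟨m, hm⟩ := h1
  have hle : 27 * m ≤ 81 := by rw [← hm]; exact Nat.le_of_dvd (by norm_num) h2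
  have hpos : 0 < 27 * m := by rw [← hm]; exact Nat.card_pos
  have hm3 : m ≤ 3 := by omega
  have hm0 : 0 < m := by omega
  rw [hm] at h2
  interval_cases m
  · exfalso
    apply hne
    have : J = K := Subgroup.eq_of_le_of_card_ge hJK (by rw [hm, h.cardJ])
    rw [this]
  · exfalso
    omega
  · exact Subgroup.eq_of_le_of_card_ge hKS (by rw [hm, h.cardS])

theorem mem_Z_of_comm {j s : G} (hj : j ∈ J) (hs : s ∈ S) (hsJ : s ∉ J) (hc : s * j = j * s) :
    j ∈ Z := by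
  rw [h.Zdef]
  refine ⟨h.JleS hj, ?_⟩
  have hK : centralizer ({j} : Set G) ⊓ S = S := by
    apply h.max
    · intro x hx
      exact ⟨mem_centralizer_singleton_iff.mpr (h.Jcomm x hx j hj), h.JleS hx⟩
    · exact inf_le_right
    · intro hle
      exact hsJ (hle ⟨mem_centralizer_singleton_iff.mpr hc, hs⟩)
  intro x hx
  have h1 : x ∈ centralizer ({j} : Set G) ⊓ S := by rw [hK]; exact hx
  exact mem_centralizer_singleton_iff.mp h1.1

theorem Z_le_S : Z ≤ S := fun z hz => ((h.Zdef z).mp hz).1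

theorem Z_le_J : Z ≤ J := by
  have := h.fin
  intro z hz
  by_contra hzJ
  have hzS := ((h.Zdef z).mp hz).1
  have hzc := ((h.Zdef z).mp hz).2
  have hle : J ≤ Z := fun j hj =>
    h.mem_Z_of_comm hj hzS hzJ (hzc j (h.JleS hj)).symm
  have h1 := Subgroup.card_le_of_le hle
  rw [h.cardJ, h.cardZ] at h1
  omega

theorem cube_mem_J {x : G} (hx : x ∈ S) : x ^ 3 ∈ J := by
  have := h.fin
  haveI := h.Jnormal
  have hidx : J.index = 6 := by
    have h1 := Subgroup.card_mul_index J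
    rw [h.cardJ, h.cardG] at h1
    omega
  have h6 : x ^ 6 ∈ J := by
    have h1 := Subgroup.pow_index_mem J x
    rwa [hidx] at h1
  have h81 := h.pow81 hx
  have e : x ^ 3 = (x ^ 6) ^ 14 * (x ^ 81)⁻¹ := by
    rw [← pow_mul, eq_mul_inv_iff_mul_eq, ← pow_add]
  rw [e, h81, inv_one, mul_one]
  exact pow_mem h6 14

theorem exists_S_not_J : ∃ x ∈ S, x ∉ J := by
  have := h.fin
  by_contra hcon
  push Not at hcon
  have hle : S ≤ J := fun x hx => hcon x hx
  have h1 := Subgroup.card_le_of_le hle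
  rw [h.cardS, h.cardJ] at h1
  omega

theorem inverted_of_comm_form (x : G) :
    MulAut.conj t (x⁻¹ * MulAut.conj t x) = (x⁻¹ * MulAut.conj t x)⁻¹ := by
  rw [map_mul, map_inv, h.tau_tau, mul_inv_rev, inv_inv]

theorem normalized {U : Subgroup G} (hUJ : U ≤ J) {s : G} (hsS : s ∈ S) (hsJ : s ∉ J)
    (hs : ∀ u ∈ U, s * u * s⁻¹ ∈ U) : S ≤ normalizer (U : Set G) := by
  have := h.fin
  have hK : normalizer (U : Set G) ⊓ S = S := by
    apply h.max
    · refine le_inf ?_ h.JleS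
      rw [le_normalizer_iff]
      intro j hj u hu
      rw [h.Jcomm j hj u (hUJ hu), mul_inv_cancel_right]
      exact hu
    · exact inf_le_right
    · intro hle
      exact hsJ (hle ⟨mem_normalizer_of_conj_mem U s hs, hsS⟩)
  intro x hx
  have h1 : x ∈ normalizer (U : Set G) ⊓ S := by rw [hK]; exact hx
  exact h1.1

theorem Z_le_of_mem {z : G} (hzZ : z ∈ Z) (hz1 : z ≠ 1) {U : Subgroup G} (hzU : z ∈ U) :
    Z ≤ U := by
  have := h.fin
  have h3 : z ^ 3 = 1 := h.Jexp z (h.Z_le_J hzZ)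
  haveI : Fact (Nat.Prime 3) := ⟨Nat.prime_three⟩
  have ho : orderOf z = 3 := orderOf_eq_prime h3 hz1
  have hle : zpowers z ≤ Z := zpowers_le.mpr hzZ
  have hcard : Nat.card (zpowers z) = 3 := by rw [Nat.card_zpowers, ho]
  have heq : zpowers z = Z := Subgroup.eq_of_le_of_card_ge hle (by rw [hcard, h.cardZ])
  rw [← heq]
  exact zpowers_le.mpr hzU

theorem tau_mem_S {x : G} (hx : x ∈ S) : MulAut.conj t x ∈ S := by
  rw [MulAut.conj_apply]; exact h.Snormal.conj_mem x hx t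

theorem tau_mem_J {x : G} (hx : x ∈ J) : MulAut.conj t x ∈ J := by
  rw [MulAut.conj_apply]; exact h.Jnormal.conj_mem x hx t

theorem tau_Z {z : G} (hz : z ∈ Z) : MulAut.conj t z = z := by
  rw [MulAut.conj_apply, h.tZ z hz, mul_inv_cancel_right]

theorem comm_of_tau_fix {x : G} (hx : MulAut.conj t x = x) : x * t = t * x := by
  rw [MulAut.conj_apply, mul_inv_eq_iff_eq_mul] at hx
  exact hx.symm

theorem exists_s : ∃ s ∈ S, s ∉ J ∧ MulAut.conj t s = s⁻¹ ∧ s ^ 3 = 1 := by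
  have := h.fin
  have claim : ∃ s₀ ∈ S, s₀⁻¹ * MulAut.conj t s₀ ∉ J := by
    by_contra hcon
    push Not at hcon
    obtain ⟨s₀, hs₀S, hs₀J⟩ := h.exists_S_not_J
    obtain ⟨j₀, hj₀⟩ : ∃ j₀, j₀ = s₀⁻¹ * MulAut.conj t s₀ := ⟨_, rfl⟩
    have hj₀J : j₀ ∈ J := by rw [hj₀]; exact hcon s₀ hs₀S
    have hτj₀ : MulAut.conj t j₀ = j₀⁻¹ := by rw [hj₀]; exact h.inverted_of_comm_form s₀
    have hτs₀ : MulAut.conj t s₀ = s₀ * j₀ := by rw [hj₀, mul_inv_cancel_left]
    have hj₀3 : j₀ ^ 3 = 1 := h.Jexp j₀ hj₀J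
    have hj₀sq : j₀ * j₀ = j₀⁻¹ := by
      have h1 : j₀ * j₀ * j₀ = 1 := by rwa [pow_succ, pow_two] at hj₀3
      exact eq_inv_of_mul_eq_one_left h1
    obtain ⟨s₁, hs₁⟩ : ∃ s₁, s₁ = s₀ * j₀⁻¹ := ⟨_, rfl⟩
    have hs₁S : s₁ ∈ S := by
      rw [hs₁]; exact S.mul_mem hs₀S (S.inv_mem (h.JleS hj₀J))
    have hs₁J : s₁ ∉ J := by
      intro hmem
      apply hs₀J
      have e : s₀ = s₁ * j₀ := by rw [hs₁, inv_mul_cancel_right]
      rw [e]; exact J.mul_mem hmem hj₀J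
    have hτs₁ : MulAut.conj t s₁ = s₁ := by
      rw [hs₁, map_mul, map_inv, hτs₀, hτj₀, inv_inv, mul_assoc, hj₀sq]
    have hJm_le : Jminus J t h.Jcomm ≤ J := fun w hw => hw.1
    have hs₁norm : ∀ u ∈ Jminus J t h.Jcomm, s₁ * u * s₁⁻¹ ∈ Jminus J t h.Jcomm := by
      rintro u ⟨hu, hu'⟩
      refine ⟨h.Jnormal.conj_mem u hu s₁, ?_⟩
      simp only [map_mul, map_inv, hτs₁, hu', mul_inv_rev, inv_inv, mul_assoc]
    have hnorm : S ≤ normalizer (Jminus J t h.Jcomm : Set G) :=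
      h.normalized hJm_le hs₁S hs₁J hs₁norm
    have hJm_bot : Jminus J t h.Jcomm = ⊥ := by
      by_contra hne
      obtain ⟨z, hzJm, hzZ, hz1⟩ := h.center _ (hJm_le.trans h.JleS) hnorm hne
      have e1 : MulAut.conj t z = z⁻¹ := hzJm.2
      have e2 : MulAut.conj t z = z := h.tau_Z hzZ
      have e3 : z = z⁻¹ := e2.symm.trans e1
      have e4 : z * z = 1 := by
        calc z * z = z * z⁻¹ := by rw [← e3]
          _ = 1 := mul_inv_cancel z
      have e5 : z ^ 3 = 1 := h.Jexp z hzJm.1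
      apply hz1
      rw [pow_succ, pow_two, e4, one_mul] at e5
      exact e5
    have hτJ_fix : ∀ w ∈ J, MulAut.conj t w = w := by
      intro w hw
      have hmem : w⁻¹ * MulAut.conj t w ∈ Jminus J t h.Jcomm :=
        ⟨J.mul_mem (J.inv_mem hw) (h.tau_mem_J hw), h.inverted_of_comm_form w⟩
      rw [hJm_bot, Subgroup.mem_bot] at hmem
      exact (inv_mul_eq_one.mp hmem).symm
    have hK : centralizer ({t} : Set G) ⊓ S = S := by
      apply h.max
      · intro j hj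
        exact ⟨mem_centralizer_singleton_iff.mpr (h.comm_of_tau_fix (hτJ_fix j hj)), h.JleS hj⟩
      · exact inf_le_right
      · intro hle
        apply hs₁J
        apply hle
        exact ⟨mem_centralizer_singleton_iff.mpr (h.comm_of_tau_fix hτs₁), hs₁S⟩
    obtain ⟨x, hxS, hx⟩ := h.tS
    apply hx
    have h1 : x ∈ centralizer ({t} : Set G) ⊓ S := by rw [hK]; exact hxS
    exact (mem_centralizer_singleton_iff.mp h1.1).symm
  obtain ⟨s₀, hs₀S, hs₀⟩ := claim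
  obtain ⟨s, hs⟩ : ∃ s, s = s₀⁻¹ * MulAut.conj t s₀ := ⟨_, rfl⟩
  have hsS : s ∈ S := by
    rw [hs]; exact S.mul_mem (S.inv_mem hs₀S) (h.tau_mem_S hs₀S)
  have hsJ : s ∉ J := by rw [hs]; exact hs₀
  have hτs : MulAut.conj t s = s⁻¹ := by rw [hs]; exact h.inverted_of_comm_form s₀
  refine ⟨s, hsS, hsJ, hτs, ?_⟩
  have h3J : s ^ 3 ∈ J := h.cube_mem_J hsS
  have h3Z : s ^ 3 ∈ Z := h.mem_Z_of_comm h3J hsS hsJ (pow_mul_comm' s 3).symm
  have e1 : MulAut.conj t (s ^ 3) = s ^ 3 := h.tau_Z h3Z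
  have e2 : MulAut.conj t (s ^ 3) = (s ^ 3)⁻¹ := by rw [map_pow, hτs, inv_pow]
  have e3 : s ^ 3 = (s ^ 3)⁻¹ := e1.symm.trans e2
  have e4 : s ^ 6 = 1 := by
    have h1 : s ^ 3 * s ^ 3 = 1 := by
      calc s ^ 3 * s ^ 3 = s ^ 3 * (s ^ 3)⁻¹ := by rw [← e3]
        _ = 1 := mul_inv_cancel _
    rw [← pow_add] at h1
    exact h1
  have e5 := h.pow81 hsS
  have e6 : s ^ 3 = s ^ 81 * ((s ^ 6) ^ 13)⁻¹ := by
    rw [← pow_mul, eq_mul_inv_iff_mul_eq, ← pow_add]
  rw [e6, e5, e4]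
  simp

theorem exists_a {s : G} (hsS : s ∈ S) (hsJ : s ∉ J) (hτs : MulAut.conj t s = s⁻¹)
    (hs3 : s ^ 3 = 1) : ∃ a ∈ J, MulAut.conj t a = a ∧ a ∉ Z := by
  have := h.fin
  by_contra hcon
  push Not at hcon
  have N1 : ∀ j ∈ J, j * MulAut.conj t j ∈ Z := by
    intro j hj
    apply hcon _ (J.mul_mem hj (h.tau_mem_J hj))
    rw [map_mul, h.tau_tau]
    exact h.Jcomm _ (h.tau_mem_J hj) _ hj
  have hs3' : s * s * s = 1 := by rwa [pow_succ, pow_two] at hs3
  have hs_inv : s⁻¹ = s * s := (eq_inv_of_mul_eq_one_left hs3').symm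
  have hs2 : s⁻¹ * s⁻¹ = s := by rw [← mul_inv_rev, ← hs_inv, inv_inv]
  have C1 : ∀ n ∈ J, n * (s * n * s⁻¹)⁻¹ ∈ Z := by
    intro n hn
    obtain ⟨m, hm⟩ : ∃ m, m = s⁻¹ * n * s := ⟨_, rfl⟩
    have hmJ : m ∈ J := by
      rw [hm]
      have h1 := h.Jnormal.conj_mem n hn s⁻¹
      rwa [inv_inv] at h1
    have e1 : s * m * s⁻¹ = n := by rw [hm]; group
    have e2 : s⁻¹ * m * s = s * n * s⁻¹ := by
      rw [hm]
      calc s⁻¹ * (s⁻¹ * n * s) * s = (s⁻¹ * s⁻¹) * n * (s * s) := by simp only [mul_assoc]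
        _ = s * n * s⁻¹ := by rw [hs2, ← hs_inv]
    have hmZ : m * MulAut.conj t m ∈ Z := N1 m hmJ
    have hcomm : s * (m * MulAut.conj t m) = (m * MulAut.conj t m) * s :=
      ((h.Zdef _).mp hmZ).2 s hsS
    have e3 : MulAut.conj t n = s⁻¹ * MulAut.conj t m * s := by
      rw [← e1, map_mul, map_mul, map_inv, hτs, inv_inv]
    have hB : (s * n * s⁻¹) * MulAut.conj t n ∈ Z := by
      have e4 : (s * n * s⁻¹) * MulAut.conj t n = m * MulAut.conj t m := by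
        rw [e3, ← e2]
        calc s⁻¹ * m * s * (s⁻¹ * MulAut.conj t m * s)
            = s⁻¹ * ((m * MulAut.conj t m) * s) := by group
          _ = s⁻¹ * (s * (m * MulAut.conj t m)) := by rw [hcomm]
          _ = m * MulAut.conj t m := by group
      rw [e4]; exact hmZ
    have hA : n * MulAut.conj t n ∈ Z := N1 n hn
    have e5 : n * (s * n * s⁻¹)⁻¹
        = (n * MulAut.conj t n) * ((s * n * s⁻¹) * MulAut.conj t n)⁻¹ := by group
    rw [e5]; exact Z.mul_mem hA (Z.inv_mem hB)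
  have C2 : ∀ n ∈ J, (s * n * s⁻¹) * n⁻¹ ∈ Z := by
    intro n hn
    have h1 := Z.inv_mem (C1 n hn)
    rwa [mul_inv_rev, inv_inv] at h1
  let f : J →* Z := MonoidHom.mk' (fun k => ⟨(s * k.1 * s⁻¹) * k.1⁻¹, C2 k.1 k.2⟩) (by
    intro k k'
    apply Subtype.ext
    show (s * (k.1 * k'.1) * s⁻¹) * (k.1 * k'.1)⁻¹
      = ((s * k.1 * s⁻¹) * k.1⁻¹) * ((s * k'.1 * s⁻¹) * k'.1⁻¹)
    have hz := C2 k'.1 k'.2
    have hc : k.1⁻¹ * ((s * k'.1 * s⁻¹) * k'.1⁻¹) = ((s * k'.1 * s⁻¹) * k'.1⁻¹) * k.1⁻¹ :=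
      ((h.Zdef _).mp hz).2 _ (S.inv_mem (h.JleS k.2))
    calc (s * (k.1 * k'.1) * s⁻¹) * (k.1 * k'.1)⁻¹
        = (s * k.1 * s⁻¹) * (((s * k'.1 * s⁻¹) * k'.1⁻¹) * k.1⁻¹) := by group
      _ = (s * k.1 * s⁻¹) * (k.1⁻¹ * ((s * k'.1 * s⁻¹) * k'.1⁻¹)) := by rw [hc]
      _ = ((s * k.1 * s⁻¹) * k.1⁻¹) * ((s * k'.1 * s⁻¹) * k'.1⁻¹) := by group)
  have hker : ∀ k : J, k ∈ f.ker → k.1 ∈ Z := by
    intro k hk
    rw [MonoidHom.mem_ker] at hk
    have h1 : (s * k.1 * s⁻¹) * k.1⁻¹ = 1 := congrArg Subtype.val hk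
    have h2 : s * k.1 * s⁻¹ = k.1 := mul_inv_eq_one.mp h1
    have h3 : s * k.1 = k.1 * s := mul_inv_eq_iff_eq_mul.mp h2
    exact h.mem_Z_of_comm k.2 hsS hsJ h3
  have hcard : Nat.card f.ker * Nat.card f.range = Nat.card J := by
    have h1 := Subgroup.card_mul_index f.ker
    rwa [Subgroup.index_ker] at h1
  have hr : Nat.card f.range ≤ 3 := by
    have h1 := Subgroup.card_le_card_group f.range
    rwa [h.cardZ] at h1
  have hk : Nat.card f.ker ≤ 3 := by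
    have h1 : Nat.card f.ker ≤ Nat.card Z :=
      Nat.card_le_card_of_injective (fun k : f.ker => (⟨k.1.1, hker k.1 k.2⟩ : Z)) (by
        intro k k' hkk
        have h2 := congrArg Subtype.val hkk
        exact Subtype.ext (Subtype.ext h2))
    rwa [h.cardZ] at h1
  have h9 : Nat.card f.ker * Nat.card f.range ≤ 3 * 3 := Nat.mul_le_mul hk hr
  rw [hcard, h.cardJ] at h9
  omega

theorem gen {s a : G} (hsS : s ∈ S) (hsJ : s ∉ J) (hτs : MulAut.conj t s = s⁻¹)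
    (hs3 : s ^ 3 = 1) (haJ : a ∈ J) (hτa : MulAut.conj t a = a) (haZ : a ∉ Z) :
    closure ({a, s, t} : Set G) = ⊤ := by
  have := h.fin
  obtain ⟨b, hb⟩ : ∃ b, b = s * a * s⁻¹ := ⟨_, rfl⟩
  obtain ⟨c, hc⟩ : ∃ c, c = s * b * s⁻¹ := ⟨_, rfl⟩
  have hs3' : s * s * s = 1 := by rwa [pow_succ, pow_two] at hs3
  have hs_inv : s⁻¹ = s * s := (eq_inv_of_mul_eq_one_left hs3').symm
  have hs2 : s⁻¹ * s⁻¹ = s := by rw [← mul_inv_rev, ← hs_inv, inv_inv]
  have hbJ : b ∈ J := by rw [hb]; exact h.Jnormal.conj_mem a haJ s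
  have hcJ : c ∈ J := by rw [hc]; exact h.Jnormal.conj_mem b hbJ s
  have hca : s * c * s⁻¹ = a := by
    rw [hc, hb]
    calc s * (s * (s * a * s⁻¹) * s⁻¹) * s⁻¹ = (s * s * s) * a * (s * s * s)⁻¹ := by
          rw [mul_inv_rev, mul_inv_rev]; simp only [mul_assoc]
      _ = a := by rw [hs3']; simp
  have hτb : MulAut.conj t b = c := by
    have e : s⁻¹ * a * s = c := by
      rw [hc, hb]
      symm
      calc s * (s * a * s⁻¹) * s⁻¹ = (s * s) * a * (s⁻¹ * s⁻¹) := by simp only [mul_assoc]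
        _ = s⁻¹ * a * s := by rw [← hs_inv, hs2]
    rw [hb, map_mul, map_mul, map_inv, hτs, hτa, inv_inv]
    exact e
  -- U
  obtain ⟨U, hU⟩ : ∃ U : Subgroup G, U = closure ({a, b, c} : Set G) := ⟨_, rfl⟩
  have haU : a ∈ U := by rw [hU]; exact subset_closure (by simp)
  have hbU : b ∈ U := by rw [hU]; exact subset_closure (by simp)
  have hcU : c ∈ U := by rw [hU]; exact subset_closure (by simp)
  have hUJ : U ≤ J := by
    rw [hU, closure_le]
    intro x hx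
    simp only [Set.mem_insert_iff, Set.mem_singleton_iff] at hx
    rcases hx with h1 | h1 | h1
    · rw [h1]; exact haJ
    · rw [h1]; exact hbJ
    · rw [h1]; exact hcJ
  have hsU : ∀ u ∈ U, s * u * s⁻¹ ∈ U := by
    intro u hu
    rw [hU] at hu
    induction hu using Subgroup.closure_induction with
    | mem x hx =>
      simp only [Set.mem_insert_iff, Set.mem_singleton_iff] at hx
      rcases hx with h1 | h1 | h1
      · rw [h1, ← hb]; exact hbU
      · rw [h1, ← hc]; exact hcU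
      · rw [h1, hca]; exact haU
    | one => simpa using U.one_mem
    | mul x y _ _ hx hy =>
      have e : s * (x * y) * s⁻¹ = (s * x * s⁻¹) * (s * y * s⁻¹) := by group
      rw [e]; exact U.mul_mem hx hy
    | inv x _ hx =>
      have e : s * x⁻¹ * s⁻¹ = (s * x * s⁻¹)⁻¹ := by group
      rw [e]; exact U.inv_mem hx
  have hnormU : S ≤ normalizer (U : Set G) := h.normalized hUJ hsS hsJ hsU
  have hUne : U ≠ ⊥ := by
    intro hbot
    have h1 : a ∈ (⊥ : Subgroup G) := by rw [← hbot]; exact haU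
    rw [Subgroup.mem_bot] at h1
    apply haZ
    rw [h1]; exact Z.one_mem
  obtain ⟨z, hzU, hzZ, hz1⟩ := h.center U (hUJ.trans h.JleS) hnormU hUne
  have hZU : Z ≤ U := h.Z_le_of_mem hzZ hz1 hzU
  obtain ⟨V, hV⟩ : ∃ V : Subgroup G, V = Z ⊔ zpowers a := ⟨_, rfl⟩
  have hVU : V ≤ U := by rw [hV]; exact sup_le hZU (zpowers_le.mpr haU)
  have hVt : V ≤ centralizer ({t} : Set G) := by
    rw [hV]
    apply sup_le
    · intro z hz
      exact mem_centralizer_singleton_iff.mpr (h.tZ z hz).symm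
    · rw [zpowers_le]
      exact mem_centralizer_singleton_iff.mpr (h.comm_of_tau_fix hτa)
  have hbV : b ∉ V := by
    intro hbV
    have h1 := mem_centralizer_singleton_iff.mp (hVt hbV)
    have h2 : MulAut.conj t b = b := by
      rw [MulAut.conj_apply, ← h1, mul_inv_cancel_right]
    have h3 : c = b := hτb.symm.trans h2
    have h4 : s * b = b * s := by
      have h5 : s * b * s⁻¹ = b := by rw [← hc]; exact h3
      exact mul_inv_eq_iff_eq_mul.mp h5
    have hbZ : b ∈ Z := h.mem_Z_of_comm hbJ hsS hsJ h4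
    have h6 : s * b = s * a := by
      rw [h4, hb, inv_mul_cancel_right]
    have h7 : b = a := mul_left_cancel h6
    apply haZ
    rw [← h7]; exact hbZ
  have hVneU : V ≠ U := by
    intro e
    apply hbV
    rw [e]; exact hbU
  have hZV : Z ≤ V := by rw [hV]; exact le_sup_left
  have haV : a ∈ V := by
    rw [hV]; exact (le_sup_right : zpowers a ≤ Z ⊔ zpowers a) (mem_zpowers a)
  have hZneV : Z ≠ V := by
    intro e
    apply haZ
    rw [e]; exact haV
  have d1 : Nat.card Z ∣ Nat.card V := Subgroup.card_dvd_of_le hZV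
  have d2 : Nat.card V ∣ Nat.card U := Subgroup.card_dvd_of_le hVU
  have d3 : Nat.card U ∣ Nat.card J := Subgroup.card_dvd_of_le hUJ
  have n1 : Nat.card Z ≠ Nat.card V := fun e =>
    hZneV (Subgroup.eq_of_le_of_card_ge hZV e.symm.le)
  have n2 : Nat.card V ≠ Nat.card U := fun e =>
    hVneU (Subgroup.eq_of_le_of_card_ge hVU e.symm.le)
  rw [h.cardZ] at d1 n1
  rw [h.cardJ] at d3
  have hU27 : Nat.card U = 27 := card_arith d1 d2 d3 n1 n2
  have hUJeq : U = J := Subgroup.eq_of_le_of_card_ge hUJ (by rw [hU27, h.cardJ])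
  -- K
  obtain ⟨K, hK⟩ : ∃ K : Subgroup G, K = closure ({a, s, t} : Set G) := ⟨_, rfl⟩
  have haK : a ∈ K := by rw [hK]; exact subset_closure (by simp)
  have hsK : s ∈ K := by rw [hK]; exact subset_closure (by simp)
  have htK : t ∈ K := by rw [hK]; exact subset_closure (by simp)
  have hbK : b ∈ K := by rw [hb]; exact K.mul_mem (K.mul_mem hsK haK) (K.inv_mem hsK)
  have hcK : c ∈ K := by rw [hc]; exact K.mul_mem (K.mul_mem hsK hbK) (K.inv_mem hsK)
  have hJK : J ≤ K := by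
    rw [← hUJeq, hU, closure_le]
    intro x hx
    simp only [Set.mem_insert_iff, Set.mem_singleton_iff] at hx
    rcases hx with h1 | h1 | h1
    · rw [h1]; exact haK
    · rw [h1]; exact hbK
    · rw [h1]; exact hcK
  have hSK : S ≤ K := by
    have h1 : K ⊓ S = S :=
      h.max (le_inf hJK h.JleS) inf_le_right (fun hle => hsJ (hle ⟨hsK, hsS⟩))
    intro x hx
    have h2 : x ∈ K ⊓ S := by rw [h1]; exact hx
    exact h2.1
  have e1 : Nat.card S ∣ Nat.card K := Subgroup.card_dvd_of_le hSK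
  have e2 : Nat.card K ∣ Nat.card G := Subgroup.card_subgroup_dvd_card K
  have e3 : Nat.card K ≠ Nat.card S := by
    intro e
    have h1 : S = K := Subgroup.eq_of_le_of_card_ge hSK e.le
    apply h.tnS
    rw [h1]; exact htK
  rw [h.cardS] at e1 e3
  rw [h.cardG] at e2
  have hK162 : Nat.card K = 162 := by
    obtain ⟨m, hm⟩ := e1
    have hle : Nat.card K ≤ 162 := Nat.le_of_dvd (by norm_num) e2
    have hpos : 0 < Nat.card K := Nat.card_pos
    omega
  have hKtop : K = ⊤ := (Subgroup.card_eq_iff_eq_top K).mp (by rw [hK162, h.cardG])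
  rw [← hK]; exact hKtop

end Hyp

end Abstract

end Cfsg.Agent.Lib.Helper2.W162
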