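import Mathlib
import Cfsg.Agent.S0950
import Cfsg.Agent.Lib.Helper3.QuatSylow
import Cfsg.Agent.Lib.Helper2.W162c

/-!
Group-theoretic preparation for the `Q8` case of the Brauer--Suzuki theorem (helper2).
-/

set_option autoImplicit false

namespace Cfsg.Agent.Lib.Helper2.BSQ8

open QuaternionGroup

/-! ### facts about `QuaternionGroup 2` -/

theorem q8_invol : ∀ g : QuaternionGroup 2, g * g = 1 → g = 1 ∨ g = a 2 := by decide
theorem q8_sq : ∀ g : QuaternionGroup 2, g ≠ 1 → g ≠ a 2 → g * g = a 2 := by decide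
theorem q8_central : ∀ g : QuaternionGroup 2, a 2 * g = g * a 2 := by decide
theorem q8_a2_sq : (a 2 : QuaternionGroup 2) * a 2 = 1 := by decide
theorem q8_a2_ne : (a 2 : QuaternionGroup 2) ≠ 1 := by decide
theorem q8_a1_sq : (a 1 : QuaternionGroup 2) * a 1 = a 2 := by decide
theorem q8_conj_inv : ∀ g : QuaternionGroup 2, ∃ h : QuaternionGroup 2, h * g * h⁻¹ = g⁻¹ := by
  decide
theorem q8_centralizer : ∀ g h : QuaternionGroup 2, g * g = a 2 → h * g = g * h →
    h = 1 ∨ h = g ∨ h = g * g ∨ h = g * g * g := by decide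

section Transport

variable {G : Type*} [Group G] {P : Subgroup G} (f : P ≃* QuaternionGroup 2)

/-- the involution of a copy of `Q8` -/
noncomputable def invo : G := ((f.symm (a 2) : P) : G)

theorem invo_mem : invo f ∈ P := (f.symm (a 2)).2

theorem invo_sq : invo f * invo f = 1 := by
  have : (f.symm (a 2) : P) * f.symm (a 2) = 1 := by
    rw [← map_mul, q8_a2_sq, map_one]
  have h := congrArg (Subtype.val : P → G) this
  simpa [invo] using h

theorem invo_ne : invo f ≠ 1 := by
  intro h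
  have : (f.symm (a 2) : P) = 1 := Subtype.ext (by simpa [invo] using h)
  have h2 : f (f.symm (a 2)) = f 1 := by rw [this]
  rw [MulEquiv.apply_symm_apply, map_one] at h2
  exact q8_a2_ne h2

theorem invol_unique {x : G} (hx : x ∈ P) (h2 : x * x = 1) (h1 : x ≠ 1) : x = invo f := by
  have hx' : f ⟨x, hx⟩ * f ⟨x, hx⟩ = 1 := by
    rw [← map_mul]
    have : (⟨x, hx⟩ : P) * ⟨x, hx⟩ = 1 := Subtype.ext (by simpa using h2)
    rw [this, map_one]
  rcases q8_invol _ hx' with h | h
  · exfalso; apply h1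
    have : (⟨x, hx⟩ : P) = 1 := f.injective (by rw [h, map_one])
    simpa using congrArg (Subtype.val : P → G) this
  · have : (⟨x, hx⟩ : P) = f.symm (a 2) := by rw [← h, MulEquiv.symm_apply_apply]
    simpa [invo] using congrArg (Subtype.val : P → G) this

theorem invo_central {x : G} (hx : x ∈ P) : invo f * x = x * invo f := by
  have h := q8_central (f ⟨x, hx⟩)
  have h' : f (f.symm (a 2) * ⟨x, hx⟩) = f (⟨x, hx⟩ * f.symm (a 2)) := by
    rw [map_mul, map_mul, MulEquiv.apply_symm_apply]; exact h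
  have := congrArg (Subtype.val : P → G) (f.injective h')
  simpa [invo] using this

theorem sq_eq_invo {x : G} (hx : x ∈ P) (h1 : x ≠ 1) (h2 : x ≠ invo f) : x * x = invo f := by
  have hx1 : f ⟨x, hx⟩ ≠ 1 := by
    intro h
    apply h1
    have : (⟨x, hx⟩ : P) = 1 := f.injective (by rw [h, map_one])
    simpa using congrArg (Subtype.val : P → G) this
  have hx2 : f ⟨x, hx⟩ ≠ a 2 := by
    intro h
    apply h2
    have : (⟨x, hx⟩ : P) = f.symm (a 2) := by rw [← h, MulEquiv.symm_apply_apply]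
    simpa [invo] using congrArg (Subtype.val : P → G) this
  have h := q8_sq _ hx1 hx2
  have h' : (⟨x, hx⟩ : P) * ⟨x, hx⟩ = f.symm (a 2) := by
    apply f.injective
    rw [map_mul, MulEquiv.apply_symm_apply]; exact h
  simpa [invo] using congrArg (Subtype.val : P → G) h'

include f in
theorem exists_conj_inv {x : G} (hx : x ∈ P) : ∃ h ∈ P, h * x * h⁻¹ = x⁻¹ := by
  obtain ⟨k, hk⟩ := q8_conj_inv (f ⟨x, hx⟩)
  refine ⟨(f.symm k : P), (f.symm k).2, ?_⟩
  have h' : f.symm k * ⟨x, hx⟩ * (f.symm k)⁻¹ = (⟨x, hx⟩ : P)⁻¹ := by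
    apply f.injective
    rw [map_mul, map_mul, map_inv, map_inv, MulEquiv.apply_symm_apply]; exact hk
  simpa using congrArg (Subtype.val : P → G) h'

theorem centralizer_cases {x h : G} (hx : x ∈ P) (hh : h ∈ P) (hsq : x * x = invo f)
    (hc : h * x = x * h) : h = 1 ∨ h = x ∨ h = x * x ∨ h = x * x * x := by
  have h1 : f ⟨x, hx⟩ * f ⟨x, hx⟩ = a 2 := by
    rw [← map_mul]
    have : (⟨x, hx⟩ : P) * ⟨x, hx⟩ = f.symm (a 2) := Subtype.ext (by simpa [invo] using hsq)
    rw [this, MulEquiv.apply_symm_apply]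
  have h2 : f ⟨h, hh⟩ * f ⟨x, hx⟩ = f ⟨x, hx⟩ * f ⟨h, hh⟩ := by
    rw [← map_mul, ← map_mul]
    congr 1
    exact Subtype.ext (by simpa using hc)
  rcases q8_centralizer _ _ h1 h2 with h3 | h3 | h3 | h3
  · left
    have : (⟨h, hh⟩ : P) = 1 := f.injective (by rw [h3, map_one])
    simpa using congrArg (Subtype.val : P → G) this
  · right; left
    have : (⟨h, hh⟩ : P) = ⟨x, hx⟩ := f.injective h3
    simpa using congrArg (Subtype.val : P → G) this
  · right; right; left
    have : (⟨h, hh⟩ : P) = ⟨x, hx⟩ * ⟨x, hx⟩ := f.injective (by rw [h3, map_mul])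
    simpa using congrArg (Subtype.val : P → G) this
  · right; right; right
    have : (⟨h, hh⟩ : P) = ⟨x, hx⟩ * ⟨x, hx⟩ * ⟨x, hx⟩ :=
      f.injective (by rw [h3, map_mul, map_mul])
    simpa using congrArg (Subtype.val : P → G) this

end Transport

section Sylow

variable {G : Type*} [Group G] [Finite G] (S : Sylow 2 G)
  (e : (S : Subgroup G) ≃* QuaternionGroup 2)

/-- every Sylow 2-subgroup is a copy of `Q8` -/
noncomputable def sylowIso (P : Sylow 2 G) : (P : Subgroup G) ≃* QuaternionGroup 2 :=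
  haveI : Fact (Nat.Prime 2) := ⟨Nat.prime_two⟩
  (Sylow.equiv P S).trans e

/-- the element of order four we work with -/
noncomputable def yel : G := ((e.symm (a 1) : (S : Subgroup G)) : G)

theorem yel_mem : yel S e ∈ (S : Subgroup G) := (e.symm (a 1)).2

theorem yel_sq : yel S e * yel S e = invo e := by
  have : (e.symm (a 1) : (S : Subgroup G)) * e.symm (a 1) = e.symm (a 2) := by
    rw [← map_mul, q8_a1_sq]
  simpa [yel, invo] using congrArg (fun z : ↥(S : Subgroup G) => (z : G)) this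

theorem yel_ne_one : yel S e ≠ 1 := by
  intro h
  have := yel_sq S e
  rw [h, one_mul] at this
  exact invo_ne e this.symm

/-- a 2-subgroup lies in a Sylow 2-subgroup, which is a copy of `Q8` -/
theorem exists_sylow_ge {R : Subgroup G} (hR : IsPGroup 2 R) :
    ∃ P : Sylow 2 G, R ≤ (P : Subgroup G) := by
  haveI : Fact (Nat.Prime 2) := ⟨Nat.prime_two⟩
  exact hR.exists_le_sylow

theorem isPGroup_zpowers_of_pow {x : G} (k : ℕ) (hx : x ^ (2 ^ k) = 1) :
    IsPGroup 2 (Subgroup.zpowers x) := by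
  intro g
  obtain ⟨j, hj⟩ := Subgroup.mem_zpowers_iff.mp g.2
  refine ⟨k, Subtype.ext ?_⟩
  rw [Subgroup.coe_pow, ← hj, Subgroup.coe_one, ← zpow_natCast, ← zpow_mul, mul_comm, zpow_mul,
    zpow_natCast, hx, one_zpow]

include S e in
/-- in a group with `Q8` Sylow 2-subgroups, an element `u` whose square is an involution is not
inverted by any involution -/
theorem not_inverted {u s : G} (hs2 : s * s = 1) (hu2 : u * u ≠ 1)
    (hu4 : u ^ (2 ^ 2) = 1) (hinv : s * u * s⁻¹ = u⁻¹) : False := by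
  have hs1 : s ≠ 1 := by
    rintro rfl
    apply hu2
    have : u = u⁻¹ := by simpa using hinv
    calc u * u = u * u⁻¹ := by rw [← this]
      _ = 1 := mul_inv_cancel u
  have hsP : IsPGroup 2 (Subgroup.zpowers s) :=
    isPGroup_zpowers_of_pow 1 (by rw [pow_one, pow_two]; exact hs2)
  have huP : IsPGroup 2 (Subgroup.zpowers u) := isPGroup_zpowers_of_pow 2 hu4
  have hnorm : Subgroup.zpowers s ≤ Subgroup.normalizer ((Subgroup.zpowers u : Subgroup G) : Set G) := by
    rw [Subgroup.zpowers_le]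
    apply Cfsg.Agent.Lib.Helper2.W162.mem_normalizer_of_conj_mem
    intro k hk
    obtain ⟨j, rfl⟩ := Subgroup.mem_zpowers_iff.mp hk
    have : s * u ^ j * s⁻¹ = (u⁻¹) ^ j := by
      rw [← hinv]
      exact (conj_zpow (a := s) (b := u) (i := j)).symm
    rw [this]
    exact Subgroup.zpow_mem _ (Subgroup.inv_mem _ (Subgroup.mem_zpowers u)) j
  have hT := IsPGroup.to_sup_of_normal_right' hsP huP hnorm
  obtain ⟨P, hP⟩ := exists_sylow_ge hT
  have hsmem : s ∈ (P : Subgroup G) := hP (Subgroup.mem_sup_left (Subgroup.mem_zpowers s))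
  have humem : u ∈ (P : Subgroup G) := hP (Subgroup.mem_sup_right (Subgroup.mem_zpowers u))
  have hs_eq := invol_unique (sylowIso S e P) hsmem hs2 hs1
  have hc := invo_central (sylowIso S e P) humem
  rw [← hs_eq] at hc
  have : u = u⁻¹ := by
    rw [← hinv, hc, mul_inv_cancel_right]
  apply hu2
  calc u * u = u * u⁻¹ := by rw [← this]
    _ = 1 := mul_inv_cancel u

theorem orderOf_eq_four {x : G} (h2 : x * x ≠ 1) (h4 : x ^ (2 ^ 2) = 1) : orderOf x = 4 := by
  haveI : Fact (Nat.Prime 2) := ⟨Nat.prime_two⟩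
  have := orderOf_eq_prime_pow (p := 2) (n := 1) (x := x) (by rw [pow_one, pow_two]; exact h2) h4
  simpa using this

theorem pow_four_of_sq {x z : G} (h : x * x = z) (hz : z * z = 1) : x ^ (2 ^ 2) = 1 := by
  have : x ^ (2 ^ 2) = (x * x) * (x * x) := by
    norm_num [pow_succ, mul_assoc]
  rw [this, h, hz]

theorem yel_pow_four : yel S e ^ (2 ^ 2) = 1 := pow_four_of_sq (yel_sq S e) (invo_sq e)

theorem orderOf_yel : orderOf (yel S e) = 4 :=
  orderOf_eq_four (by rw [yel_sq]; exact invo_ne e) (yel_pow_four S e)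

/-- fusion of the elements of order four, from S0950 -/
theorem fusion (hnc : ∀ N : Subgroup G, N.Normal → ¬ Subgroup.IsComplement' N (S : Subgroup G))
    {s : G} (hs : s ∈ (S : Subgroup G)) (h1 : s ≠ 1) (h2 : s ≠ invo e) :
    ∃ g : G, g * yel S e * g⁻¹ = s := by
  have hs2 : s * s = invo e := sq_eq_invo e hs h1 h2
  have hy2 := yel_sq S e
  have ht2 := invo_sq e
  have ht1 := invo_ne e
  have hs4 : s ^ (2 ^ 2) = 1 := pow_four_of_sq hs2 ht2
  have hos : orderOf s = 4 := orderOf_eq_four (by rw [hs2]; exact ht1) hs4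
  have hoy : orderOf (yel S e) = 4 := orderOf_yel S e
  have hcA : Nat.card (Subgroup.zpowers (yel S e)) = 4 := by rw [Nat.card_zpowers, hoy]
  have hcB : Nat.card (Subgroup.zpowers s) = 4 := by rw [Nat.card_zpowers, hos]
  obtain ⟨n, hn, hB⟩ := Cfsg.Agent.S0950.result S e hnc (Subgroup.zpowers (yel S e))
    (Subgroup.zpowers s) (Subgroup.zpowers_le.mpr (yel_mem S e)) (Subgroup.zpowers_le.mpr hs) hcA hcB
  have hmem : n * yel S e * n⁻¹ ∈ Subgroup.zpowers s := by
    rw [hB]
    exact ⟨yel S e, Subgroup.mem_zpowers _, by simp [MulAut.conj_apply]⟩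
  have hhS : n * yel S e * n⁻¹ ∈ (S : Subgroup G) := (Subgroup.zpowers_le.mpr hs) hmem
  have hcomm : (n * yel S e * n⁻¹) * s = s * (n * yel S e * n⁻¹) := by
    obtain ⟨j, hj⟩ := Subgroup.mem_zpowers_iff.mp hmem
    rw [← hj]
    exact (Commute.zpow_left (Commute.refl s) j).eq
  rcases centralizer_cases e hs hhS hs2 hcomm with h3 | h3 | h3 | h3
  · exfalso
    apply yel_ne_one S e
    have : yel S e = n⁻¹ * (n * yel S e * n⁻¹) * n := by group
    rw [this, h3]; group
  · exact ⟨n, h3⟩
  · exfalso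
    have hhh : (n * yel S e * n⁻¹) * (n * yel S e * n⁻¹) = n * (yel S e * yel S e) * n⁻¹ := by
      group
    rw [h3, hs2, ht2, hy2] at hhh
    apply ht1
    have : invo e = n⁻¹ * (n * invo e * n⁻¹) * n := by group
    rw [this, ← hhh]; group
  · obtain ⟨k, hk, hk2⟩ := exists_conj_inv e hs
    have hsinv : s * s * s = s⁻¹ := by
      rw [eq_inv_iff_mul_eq_one, hs2, mul_assoc, hs2, ht2]
    refine ⟨k⁻¹ * n, ?_⟩
    have : k⁻¹ * n * yel S e * (k⁻¹ * n)⁻¹ = k⁻¹ * (n * yel S e * n⁻¹) * k := by group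
    rw [this, h3, hsinv, ← hk2]; group

/-- a 2-subgroup of the centralizer of `y` lies in `⟨y⟩` -/
theorem two_subgroup_centralizer_le {R : Subgroup G} (hR : IsPGroup 2 R)
    (hRc : R ≤ Subgroup.centralizer ({yel S e} : Set G)) :
    R ≤ Subgroup.zpowers (yel S e) := by
  have hy4 := yel_pow_four S e
  have hyP : IsPGroup 2 (Subgroup.zpowers (yel S e)) := isPGroup_zpowers_of_pow 2 hy4
  have hcomm : ∀ r ∈ R, r * yel S e = yel S e * r := by
    intro r hr
    exact ((Subgroup.mem_centralizer_iff.mp (hRc hr)) (yel S e) rfl).symm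
  have hnorm : R ≤ Subgroup.normalizer ((Subgroup.zpowers (yel S e) : Subgroup G) : Set G) := by
    rw [Subgroup.le_normalizer_iff]
    intro r hr k hk
    obtain ⟨j, rfl⟩ := Subgroup.mem_zpowers_iff.mp hk
    have hcj : Commute r (yel S e ^ j) := Commute.zpow_right (hcomm r hr) j
    have : r * yel S e ^ j * r⁻¹ = yel S e ^ j := by
      rw [hcj.eq, mul_inv_cancel_right]
    rw [this]
    exact Subgroup.zpow_mem _ (Subgroup.mem_zpowers _) j
  have hT := IsPGroup.to_sup_of_normal_right' hR hyP hnorm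
  obtain ⟨P, hP⟩ := exists_sylow_ge hT
  have hyP' : yel S e ∈ (P : Subgroup G) :=
    hP (Subgroup.mem_sup_right (Subgroup.mem_zpowers _))
  have hyy : yel S e * yel S e = invo (sylowIso S e P) := by
    apply sq_eq_invo (sylowIso S e P) hyP' (yel_ne_one S e)
    intro h
    have h5 := invo_sq (sylowIso S e P)
    rw [← h, yel_sq] at h5
    exact invo_ne e h5
  intro r hr
  have hrP : r ∈ (P : Subgroup G) := hP (Subgroup.mem_sup_left hr)
  rcases centralizer_cases (sylowIso S e P) hyP' hrP hyy (hcomm r hr) with h | h | h | h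
  · rw [h]; exact one_mem _
  · rw [h]; exact Subgroup.mem_zpowers _
  · rw [h]; exact mul_mem (Subgroup.mem_zpowers _) (Subgroup.mem_zpowers _)
  · rw [h]
    exact mul_mem (mul_mem (Subgroup.mem_zpowers _) (Subgroup.mem_zpowers _))
      (Subgroup.mem_zpowers _)

/-- the centralizer of `y` has a normal subgroup of odd order and index at most four -/
theorem exists_centralizer_complement :
    ∃ K : Subgroup (Subgroup.centralizer ({yel S e} : Set G)),
      K.Normal ∧ (Nat.card K).Coprime 2 ∧ K.index ≤ 4 := by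
  haveI : Fact (Nat.Prime 2) := ⟨Nat.prime_two⟩
  let Q : Sylow 2 (Subgroup.centralizer ({yel S e} : Set G)) := default
  have hR : IsPGroup 2 ((Q : Subgroup (Subgroup.centralizer ({yel S e} : Set G))).map
      (Subgroup.centralizer ({yel S e} : Set G)).subtype) := Q.isPGroup'.map _
  have hle := two_subgroup_centralizer_le S e hR (Subgroup.map_subtype_le _)
  have hcyc1 : IsCyclic ((Q : Subgroup (Subgroup.centralizer ({yel S e} : Set G))).map
      (Subgroup.centralizer ({yel S e} : Set G)).subtype) := Subgroup.isCyclic_of_le hle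
  have eqv := (Q : Subgroup (Subgroup.centralizer ({yel S e} : Set G))).equivMapOfInjective
      (Subgroup.centralizer ({yel S e} : Set G)).subtype
      (Subgroup.subtype_injective _)
  have hcyc : IsCyclic (Q : Subgroup (Subgroup.centralizer ({yel S e} : Set G))) :=
    (MulEquiv.isCyclic eqv).mpr hcyc1
  obtain ⟨K, hKn, hKc, hKodd⟩ :=
    Cfsg.Agent.Lib.Helper3.exists_normal_two_complement_of_isCyclic Q hcyc
  refine ⟨K, hKn, ?_, ?_⟩
  · exact (Nat.coprime_comm.mp ((Nat.Prime.coprime_iff_not_dvd Nat.prime_two).mpr hKodd))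
  · rw [hKc.symm.index_eq_card, Nat.card_congr eqv.toEquiv]
    calc Nat.card _ ≤ Nat.card (Subgroup.zpowers (yel S e)) := Subgroup.card_le_of_le hle
      _ = orderOf (yel S e) := Nat.card_zpowers _
      _ ≤ 4 := by rw [orderOf_yel]

end Sylow

end Cfsg.Agent.Lib.Helper2.BSQ8
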