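import Mathlib
import Cfsg.Agent.Lib.Helper24.LinBridge
import Cfsg.Agent.Lib.Helper26.Fourier
import Cfsg.Agent.Lib.Helper26.IndChar
import Cfsg.Agent.Lib.Helper26.CharInt
import Cfsg.Agent.Lib.Helper4.Blichfeldt
import Cfsg.Agent.Lib.Helper3.QuatSylow

/-!
Character-theoretic computations on `Q8` and on a cyclic group of order four (helper2),
for the `Q8` case of the Brauer--Suzuki theorem.
-/

set_option autoImplicit false

namespace Cfsg.Agent.Lib.Helper2.BSQ8

open Cfsg QuaternionGroup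
open Cfsg.Agent.Lib.Helper26 Cfsg.Agent.Lib.Helper3
open scoped ComplexConjugate

/-- second sign character of `Q8` -/
def lam2fun : QuaternionGroup 2 → ℤˣ
  | a i => (-1) ^ i.val
  | xa i => (-1) ^ i.val

theorem lam2_mul : ∀ g h : QuaternionGroup 2, lam2fun (g * h) = lam2fun g * lam2fun h := by
  decide

/-- second sign character of `Q8`, as a homomorphism -/
def lam2 : QuaternionGroup 2 →* ℤˣ := MonoidHom.mk' lam2fun lam2_mul

/-- integer-valued version of `θ = (1 + λ₁)(1 - λ₂)` on `Q8` -/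
def thetaZ (q : QuaternionGroup 2) : ℤ :=
  (1 + ((quatSign 2 q : ℤˣ) : ℤ)) * (1 - ((lam2 q : ℤˣ) : ℤ))

theorem thetaZ_val : ∀ q : QuaternionGroup 2, thetaZ q = if q = a 1 ∨ q = a 3 then 4 else 0 := by
  decide

theorem thetaZ_inv : ∀ q : QuaternionGroup 2, thetaZ q⁻¹ = thetaZ q := by decide

theorem thetaZ_zero : ∀ q : QuaternionGroup 2, q ≠ a 1 ∧ q ≠ a 3 → thetaZ q = 0 := by decide

theorem a3_eq : (a 3 : QuaternionGroup 2) = (a 1)⁻¹ := by decide

theorem card_q8 : Fintype.card (QuaternionGroup 2) = 8 := by decide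

theorem sum_q8_theta (H : QuaternionGroup 2 → ℂ) :
    ∑ q : QuaternionGroup 2, H q * ((thetaZ q : ℤ) : ℂ) = 4 * H (a 1) + 4 * H (a 3) := by
  rw [Finset.sum_eq_add (a 1) (a 3) (by decide)]
  · have h1 : thetaZ (a 1) = 4 := by decide
    have h3 : thetaZ (a 3) = 4 := by decide
    rw [h1, h3]; push_cast; ring
  · intro c _ hc
    rw [thetaZ_zero c hc]; simp
  · intro h; exact absurd (Finset.mem_univ _) h
  · intro h; exact absurd (Finset.mem_univ _) h

theorem sum_q8_three (X T Y : ℂ) :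
    ∑ q : QuaternionGroup 2, (if q = 1 then X else if q = a 2 then T else Y) =
      X + T + 6 * Y := by
  have hne : (1 : QuaternionGroup 2) ≠ a 2 := by decide
  have h : ∀ q : QuaternionGroup 2, (if q = 1 then X else if q = a 2 then T else Y) =
      Y + (if q = 1 then X - Y else 0) + (if q = a 2 then T - Y else 0) := by
    intro q
    by_cases h1 : q = 1
    · subst h1; rw [if_pos rfl, if_pos rfl, if_neg hne]; ring
    · by_cases h2 : q = a 2
      · rw [if_neg h1, if_pos h2, if_neg h1, if_pos h2]; ring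
      · rw [if_neg h1, if_neg h2, if_neg h1, if_neg h2]; ring
  rw [Finset.sum_congr rfl (fun q _ => h q), Finset.sum_add_distrib, Finset.sum_add_distrib,
    Finset.sum_const, Finset.sum_ite_eq' Finset.univ (1 : QuaternionGroup 2),
    Finset.sum_ite_eq' Finset.univ (a 2 : QuaternionGroup 2), if_pos (Finset.mem_univ _),
    if_pos (Finset.mem_univ _), Finset.card_univ, card_q8]
  simp only [nsmul_eq_mul]
  push_cast
  ring

/-- the coercion `ℤˣ →* ℂˣ` -/
noncomputable def toC : ℤˣ →* ℂˣ := Units.map (Int.castRingHom ℂ).toMonoidHom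

theorem toC_val (u : ℤˣ) : ((toC u : ℂˣ) : ℂ) = ((u : ℤ) : ℂ) := rfl

section OnS

variable {G : Type*} [Group G] {S : Subgroup G} (e : S ≃* QuaternionGroup 2)

/-- first sign character on the copy `S` of `Q8` -/
noncomputable def L1 : S →* ℂˣ := toC.comp ((quatSign 2).comp e.toMonoidHom)

/-- second sign character on the copy `S` of `Q8` -/
noncomputable def L2 : S →* ℂˣ := toC.comp (lam2.comp e.toMonoidHom)

/-- the generalized character `θ` of `S` vanishing off the two generators of `⟨y⟩` -/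
noncomputable def theta : S → ℂ := fun s => ((thetaZ (e s) : ℤ) : ℂ)

theorem theta_eq : theta e = ((1 : S → ℂ) + fun s => ((L1 e s : ℂˣ) : ℂ)) *
    ((1 : S → ℂ) - fun s => ((L2 e s : ℂˣ) : ℂ)) := by
  funext s
  simp only [theta, thetaZ, L1, L2, Pi.mul_apply, Pi.add_apply, Pi.sub_apply, Pi.one_apply,
    MonoidHom.comp_apply, toC_val, MulEquiv.coe_toMonoidHom]
  push_cast
  ring

theorem theta_genChar [Fintype S] : IsGeneralizedCharacter S (theta e) := by
  rw [theta_eq]
  apply Cfsg.Agent.Lib.Helper4.isGeneralizedCharacter_mul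
  · exact isGeneralizedCharacter_add Cfsg.Agent.Lib.Helper4.isGeneralizedCharacter_one
      (isGeneralizedCharacter_of_isCharacter (Cfsg.Agent.Lib.Helper24.isCharacter_of_hom (L1 e)))
  · exact isGeneralizedCharacter_sub Cfsg.Agent.Lib.Helper4.isGeneralizedCharacter_one
      (isGeneralizedCharacter_of_isCharacter (Cfsg.Agent.Lib.Helper24.isCharacter_of_hom (L2 e)))

theorem theta_inv (s : S) : theta e s⁻¹ = theta e s := by
  simp only [theta, map_inv, thetaZ_inv]

theorem theta_conj (s : S) : conj (theta e s) = theta e s := by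
  simp only [theta, map_intCast]

theorem sum_S_eq [Fintype S] (F : S → ℂ) :
    ∑ s : S, F s = ∑ q : QuaternionGroup 2, F (e.symm q) :=
  Fintype.sum_equiv e.toEquiv F (fun q => F (e.symm q)) (fun s => by simp)

/-- sums against `θ` -/
theorem sum_mul_theta [Fintype S] (F : S → ℂ) :
    ∑ s : S, F s * theta e s = 4 * F (e.symm (a 1)) + 4 * F (e.symm (a 1))⁻¹ := by
  rw [sum_S_eq e]
  have : ∀ q : QuaternionGroup 2, F (e.symm q) * theta e (e.symm q) =
      (fun q => F (e.symm q)) q * ((thetaZ q : ℤ) : ℂ) := by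
    intro q
    simp only [theta, MulEquiv.apply_symm_apply]
  rw [Finset.sum_congr rfl (fun q _ => this q), sum_q8_theta]
  rw [a3_eq, map_inv]

/-- sums of functions taking three values on `S` -/
theorem sum_three [Fintype S] (F : S → ℂ) (X T Y : ℂ) (h1 : F 1 = X)
    (ht : F (e.symm (a 2)) = T)
    (hy : ∀ s : S, s ≠ 1 → s ≠ e.symm (a 2) → F s = Y) :
    ∑ s : S, F s = X + T + 6 * Y := by
  rw [sum_S_eq e, ← sum_q8_three]
  refine Finset.sum_congr rfl (fun q _ => ?_)
  by_cases hq1 : q = 1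
  · rw [if_pos hq1, hq1, map_one, h1]
  · rw [if_neg hq1]
    by_cases hq2 : q = a 2
    · rw [if_pos hq2, hq2, ht]
    · rw [if_neg hq2]
      apply hy
      · intro h
        apply hq1
        have := congrArg e h
        rwa [MulEquiv.apply_symm_apply, map_one] at this
      · intro h
        apply hq2
        have := congrArg e h
        rwa [MulEquiv.apply_symm_apply, MulEquiv.apply_symm_apply] at this

include e in
theorem card_S [Fintype S] : (Nat.card S : ℂ) = 8 := by
  rw [Nat.card_congr e.toEquiv, Nat.card_eq_fintype_card, card_q8]; norm_num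

end OnS

section Inner

variable {G : Type*} [Group G] {S : Subgroup G} (e : S ≃* QuaternionGroup 2)

theorem isCharacter_one_fun {K : Type*} [Group K] : IsCharacter K (fun _ => (1 : ℂ)) := by
  have := Cfsg.Agent.Lib.Helper24.isCharacter_of_hom (1 : K →* ℂˣ)
  simpa using this

/-- the multiplicity of the trivial character in the restriction to `S` -/
theorem exists_nat_sum_eq [Fintype S] {χ : G → ℂ} (hχ : IsCharacter G χ) (Y : ℂ)
    (hY : ∀ s : S, s ≠ 1 → s ≠ e.symm (a 2) → χ (s : G) = Y) :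
    ∃ n : ℕ, χ 1 + χ ((e.symm (a 2) : S) : G) + 6 * Y = 8 * (n : ℂ) := by
  obtain ⟨n, hn⟩ := classInner_isCharacter_nat (isCharacter_restrict S hχ)
    (isCharacter_one_fun (K := S))
  refine ⟨n, ?_⟩
  unfold classInner at hn
  have hsum : ∑ s : S, (χ ∘ S.subtype) s * conj ((fun _ : S => (1 : ℂ)) s) =
      χ 1 + χ ((e.symm (a 2) : S) : G) + 6 * Y := by
    apply sum_three e
    · simp
    · simp
    · intro s h1 h2
      simp [hY s h1 h2]
  rw [hsum, card_S e] at hn
  have h8 : (8 : ℂ) ≠ 0 := by norm_num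
  field_simp at hn
  linear_combination hn

/-- the inner product of the restriction to `S` with `θ` -/
theorem inner_theta [Fintype S] {χ : G → ℂ} (hχ : IsCharacter G χ)
    (hinv : χ (((e.symm (a 1) : S) : G)⁻¹) = χ ((e.symm (a 1) : S) : G)) :
    ((Nat.card S : ℂ)⁻¹ * ∑ᶠ s : S, χ (s : G) * theta e s⁻¹ = χ ((e.symm (a 1) : S) : G)) ∧
      ∃ k : ℤ, χ ((e.symm (a 1) : S) : G) = k := by
  have hsum : ∑ s : S, χ (s : G) * theta e s = 8 * χ ((e.symm (a 1) : S) : G) := by
    rw [sum_mul_theta e (fun s => χ (s : G))]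
    simp only [Subgroup.coe_inv]
    rw [hinv]; ring
  have h8 : (8 : ℂ) ≠ 0 := by norm_num
  constructor
  · rw [finsum_eq_sum_of_fintype, card_S e]
    simp only [theta_inv]
    rw [hsum]
    field_simp
  · obtain ⟨k, hk⟩ := classInner_generalized_int
      (isGeneralizedCharacter_of_isCharacter (isCharacter_restrict S hχ)) (theta_genChar e)
    refine ⟨k, ?_⟩
    unfold classInner at hk
    have : ∑ s : S, (χ ∘ S.subtype) s * conj (theta e s) = 8 * χ ((e.symm (a 1) : S) : G) := by
      rw [← hsum]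
      refine Finset.sum_congr rfl (fun s _ => ?_)
      rw [theta_conj]; rfl
    rw [this, card_S e] at hk
    rw [← hk]
    field_simp

/-- the multiplicity of the trivial character in `θ` is one -/
theorem inner_one_theta [Fintype S] :
    (Nat.card S : ℂ)⁻¹ * ∑ᶠ s : S, theta e s = 1 := by
  rw [finsum_eq_sum_of_fintype, card_S e]
  have := sum_mul_theta e (fun _ => (1 : ℂ))
  simp only [one_mul] at this
  rw [this]
  norm_num

theorem theta_support (s : S) (h : theta e s ≠ 0) :
    s = e.symm (a 1) ∨ s = (e.symm (a 1))⁻¹ := by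
  by_contra hcon
  push Not at hcon
  apply h
  have : thetaZ (e s) = 0 := by
    apply thetaZ_zero
    constructor
    · intro h1
      apply hcon.1
      rw [← h1, MulEquiv.symm_apply_apply]
    · intro h3
      apply hcon.2
      rw [← map_inv, ← a3_eq, ← h3, MulEquiv.symm_apply_apply]
  simp [theta, this]

end Inner

section Cyclic4

variable {G : Type*} [Group G] [Finite G]

theorem sum_zpowers_four {y : G} (hy : orderOf y = 4) [Fintype (Subgroup.zpowers y)]
    (F : Subgroup.zpowers y → ℂ) :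
    ∑ h : Subgroup.zpowers y, F h = F 1 + F ⟨y, Subgroup.mem_zpowers y⟩ +
      F (⟨y, Subgroup.mem_zpowers y⟩ ^ 2) + F (⟨y, Subgroup.mem_zpowers y⟩ ^ 3) := by
  have hfin : IsOfFinOrder y := isOfFinOrder_of_finite y
  let E : Fin 4 ≃ Subgroup.zpowers y := (finCongr hy.symm).trans (finEquivZPowers hfin)
  have hE : ∀ i : Fin 4, E i = ⟨y, Subgroup.mem_zpowers y⟩ ^ (i : ℕ) := by
    intro i
    apply Subtype.ext
    simp [E, finEquivZPowers_apply]
  rw [← Fintype.sum_equiv E (fun i => F (E i)) F (fun _ => rfl), Fin.sum_univ_four]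
  rw [hE 0, hE 1, hE 2, hE 3]
  simp

/-- the multiplicity of a faithful linear character of `⟨y⟩`: `χ(1) - χ(y²)` is divisible by 4 -/
theorem exists_nat_sub_eq {χ : G → ℂ} (hχ : IsCharacter G χ) {y : G} (hy : orderOf y = 4)
    (hinv : χ (y ^ 3) = χ y) : ∃ m : ℕ, χ 1 - χ (y ^ 2) = 4 * (m : ℂ) := by
  classical
  haveI : Fintype (Subgroup.zpowers y) := Fintype.ofFinite _
  obtain ⟨y', hy''⟩ : ∃ y' : Subgroup.zpowers y, (⟨y, Subgroup.mem_zpowers y⟩ : Subgroup.zpowers y) = y' :=
    ⟨_, rfl⟩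
  have hy' : (y' : G) = y := by rw [← hy'']
  have hcomm : ∀ u v : Subgroup.zpowers y, u * v = v * u := by
    intro u v
    obtain ⟨i, hi⟩ := Subgroup.mem_zpowers_iff.mp u.2
    obtain ⟨j, hj⟩ := Subgroup.mem_zpowers_iff.mp v.2
    apply Subtype.ext
    rw [Subgroup.coe_mul, Subgroup.coe_mul, ← hi, ← hj, ← zpow_add, ← zpow_add, add_comm]
  have hy4 : y ^ 4 = 1 := by rw [← hy]; exact pow_orderOf_eq_one y
  have hy2 : y ^ 2 ≠ 1 := by
    intro h
    have := orderOf_dvd_of_pow_eq_one h
    rw [hy] at this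
    norm_num at this
  have ht' : y' ^ 2 ∉ (⊥ : Subgroup (Subgroup.zpowers y)) := by
    rw [Subgroup.mem_bot]
    intro h
    apply hy2
    have := congrArg (Subtype.val : Subgroup.zpowers y → G) h
    simpa [hy'] using this
  obtain ⟨φ, -, hφ⟩ := exists_char_trivial_on_ne_one hcomm ⊥ ht'
  have hφ2 : φ (y' ^ 2) * φ (y' ^ 2) = 1 := by
    rw [← map_mul, ← pow_add]
    have : y' ^ (2 + 2) = 1 := by
      apply Subtype.ext
      simp [hy', hy4]
    rw [this, map_one]
  have hφm : ((φ (y' ^ 2) : ℂˣ) : ℂ) = -1 := by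
    have h1 : ((φ (y' ^ 2) : ℂˣ) : ℂ) * ((φ (y' ^ 2) : ℂˣ) : ℂ) = 1 := by
      rw [← Units.val_mul, hφ2, Units.val_one]
    rcases mul_self_eq_one_iff.mp h1 with h | h
    · exfalso; apply hφ; exact Units.ext h
    · exact h
  obtain ⟨m, hm⟩ := classInner_isCharacter_nat (isCharacter_restrict (Subgroup.zpowers y) hχ)
    (Cfsg.Agent.Lib.Helper24.isCharacter_of_hom φ)
  refine ⟨m, ?_⟩
  unfold classInner at hm
  rw [sum_zpowers_four hy, hy''] at hm
  have hc : (Nat.card (Subgroup.zpowers y) : ℂ) = 4 := by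
    rw [Nat.card_zpowers, hy]; norm_num
  rw [hc] at hm
  have hφ3 : φ (y' ^ 3) = φ y' * φ (y' ^ 2) := by
    rw [← map_mul, ← pow_succ']
  have e1 : (χ ∘ (Subgroup.zpowers y).subtype) 1 = χ 1 := by simp
  have e2 : (χ ∘ (Subgroup.zpowers y).subtype) y' = χ y := by simp [hy']
  have e3 : (χ ∘ (Subgroup.zpowers y).subtype) (y' ^ 2) = χ (y ^ 2) := by simp [hy']
  have e4 : (χ ∘ (Subgroup.zpowers y).subtype) (y' ^ 3) = χ (y ^ 3) := by simp [hy']
  rw [e1, e2, e3, e4, hinv] at hm
  simp only [map_one, Units.val_one, hφ3, Units.val_mul, hφm, map_mul, map_neg] at hm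
  have h4 : (4 : ℂ) ≠ 0 := by norm_num
  field_simp at hm
  linear_combination hm

end Cyclic4

end Cfsg.Agent.Lib.Helper2.BSQ8
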