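import Mathlib

/-!
A combinatorial lemma on integer weights with bounded square sum (helper2), used for the
`Q8` case of the Brauer--Suzuki theorem.
-/

set_option autoImplicit false

namespace Cfsg.Agent.Lib.Helper2.BSQ8

open scoped Classical

theorem signs_lemma {ι : Type*} [Fintype ι] (B : Set ι) (A : ι → ℤ)
    (hsum : ∑ i, (if i ∈ B then (A i) ^ 2 else 0) ≤ 4)
    (hpos : 2 ≤ (Finset.univ.filter (fun i => i ∈ B ∧ 0 < A i)).card)
    (hneg : 2 ≤ (Finset.univ.filter (fun i => i ∈ B ∧ A i < 0)).card) :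
    ∃ i1 i2 j1 j2 : ι, i1 ≠ i2 ∧ j1 ≠ j2 ∧ i1 ∈ B ∧ i2 ∈ B ∧ j1 ∈ B ∧ j2 ∈ B ∧
      A i1 = 1 ∧ A i2 = 1 ∧ A j1 = -1 ∧ A j2 = -1 ∧
      ∀ i ∈ B, i ≠ i1 → i ≠ i2 → i ≠ j1 → i ≠ j2 → A i = 0 := by
  set P := Finset.univ.filter (fun i => i ∈ B ∧ 0 < A i) with hP
  set N := Finset.univ.filter (fun i => i ∈ B ∧ A i < 0) with hN
  have hdisj : Disjoint P N := by
    rw [Finset.disjoint_left]
    intro i hi hi'
    have h1 := (Finset.mem_filter.mp hi).2.2
    have h2 := (Finset.mem_filter.mp hi').2.2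
    omega
  have hsumPN : ∑ i ∈ P ∪ N, (A i) ^ 2 ≤ ∑ i, (if i ∈ B then (A i) ^ 2 else 0) := by
    calc ∑ i ∈ P ∪ N, (A i) ^ 2 = ∑ i ∈ P ∪ N, (if i ∈ B then (A i) ^ 2 else 0) := by
          refine Finset.sum_congr rfl (fun i hi => ?_)
          have : i ∈ B := by
            rcases Finset.mem_union.mp hi with h | h
            · exact (Finset.mem_filter.mp h).2.1
            · exact (Finset.mem_filter.mp h).2.1
          rw [if_pos this]
      _ ≤ ∑ i, (if i ∈ B then (A i) ^ 2 else 0) := by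
          apply Finset.sum_le_sum_of_subset_of_nonneg (Finset.subset_univ _)
          intro i _ _
          split_ifs
          · positivity
          · exact le_refl _
  rw [Finset.sum_union hdisj] at hsumPN
  have hP1 : ∀ i ∈ P, 1 ≤ (A i) ^ 2 := by
    intro i hi
    have := (Finset.mem_filter.mp hi).2.2
    nlinarith
  have hN1 : ∀ i ∈ N, 1 ≤ (A i) ^ 2 := by
    intro i hi
    have := (Finset.mem_filter.mp hi).2.2
    nlinarith
  have hPc : (P.card : ℤ) ≤ ∑ i ∈ P, (A i) ^ 2 := by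
    calc (P.card : ℤ) = ∑ i ∈ P, (1 : ℤ) := by simp
      _ ≤ _ := Finset.sum_le_sum hP1
  have hNc : (N.card : ℤ) ≤ ∑ i ∈ N, (A i) ^ 2 := by
    calc (N.card : ℤ) = ∑ i ∈ N, (1 : ℤ) := by simp
      _ ≤ _ := Finset.sum_le_sum hN1
  have hpos' : (2 : ℤ) ≤ P.card := by exact_mod_cast hpos
  have hneg' : (2 : ℤ) ≤ N.card := by exact_mod_cast hneg
  have hP2 : P.card = 2 := by omega
  have hN2 : N.card = 2 := by omega
  have hPs : ∑ i ∈ P, ((A i) ^ 2 - 1) = 0 := by
    rw [Finset.sum_sub_distrib]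
    simp only [Finset.sum_const, smul_eq_mul, mul_one, nsmul_eq_mul]
    omega
  have hNs : ∑ i ∈ N, ((A i) ^ 2 - 1) = 0 := by
    rw [Finset.sum_sub_distrib]
    simp only [Finset.sum_const, smul_eq_mul, mul_one, nsmul_eq_mul]
    omega
  have hP_one : ∀ i ∈ P, A i = 1 := by
    intro i hi
    have h0 := (Finset.sum_eq_zero_iff_of_nonneg
      (fun j hj => by have := hP1 j hj; omega)).mp hPs i hi
    have hpos := (Finset.mem_filter.mp hi).2.2
    by_contra hne
    have : 2 ≤ A i := by omega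
    nlinarith
  have hN_one : ∀ i ∈ N, A i = -1 := by
    intro i hi
    have h0 := (Finset.sum_eq_zero_iff_of_nonneg
      (fun j hj => by have := hN1 j hj; omega)).mp hNs i hi
    have hneg := (Finset.mem_filter.mp hi).2.2
    by_contra hne
    have : A i ≤ -2 := by omega
    nlinarith
  obtain ⟨i1, i2, hi12, hPeq⟩ := Finset.card_eq_two.mp hP2
  obtain ⟨j1, j2, hj12, hNeq⟩ := Finset.card_eq_two.mp hN2
  have hi1 : i1 ∈ P := by rw [hPeq]; simp
  have hi2 : i2 ∈ P := by rw [hPeq]; simp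
  have hj1 : j1 ∈ N := by rw [hNeq]; simp
  have hj2 : j2 ∈ N := by rw [hNeq]; simp
  refine ⟨i1, i2, j1, j2, hi12, hj12, (Finset.mem_filter.mp hi1).2.1, (Finset.mem_filter.mp hi2).2.1,
    (Finset.mem_filter.mp hj1).2.1, (Finset.mem_filter.mp hj2).2.1, hP_one i1 hi1, hP_one i2 hi2,
    hN_one j1 hj1, hN_one j2 hj2, ?_⟩
  intro i hiB h1 h2 h3 h4
  have hnP : i ∉ P := by
    rw [hPeq]; simp [h1, h2]
  have hnN : i ∉ N := by
    rw [hNeq]; simp [h3, h4]
  have h5 : ¬ (0 < A i) := fun h => hnP (Finset.mem_filter.mpr ⟨Finset.mem_univ _, hiB, h⟩)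
  have h6 : ¬ (A i < 0) := fun h => hnN (Finset.mem_filter.mpr ⟨Finset.mem_univ _, hiB, h⟩)
  omega

theorem signed_sum {ι : Type*} [Fintype ι] (B : Set ι) (A : ι → ℤ) (i1 i2 j1 j2 : ι)
    (hi12 : i1 ≠ i2) (hj12 : j1 ≠ j2) (hi1 : i1 ∈ B) (hi2 : i2 ∈ B) (hj1 : j1 ∈ B) (hj2 : j2 ∈ B)
    (a1 : A i1 = 1) (a2 : A i2 = 1) (b1 : A j1 = -1) (b2 : A j2 = -1)
    (hzero : ∀ i ∈ B, i ≠ i1 → i ≠ i2 → i ≠ j1 → i ≠ j2 → A i = 0) (g : ι → ℂ) :
    ∑ i, (if i ∈ B then (A i : ℂ) * g i else 0) = g i1 + g i2 - g j1 - g j2 := by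
  have h11 : i1 ≠ j1 := by intro h; rw [h, b1] at a1; omega
  have h12 : i1 ≠ j2 := by intro h; rw [h, b2] at a1; omega
  have h21 : i2 ≠ j1 := by intro h; rw [h, b1] at a2; omega
  have h22 : i2 ≠ j2 := by intro h; rw [h, b2] at a2; omega
  have hpt : ∀ i, (if i ∈ B then (A i : ℂ) * g i else 0) =
      (if i = i1 then g i1 else 0) + (if i = i2 then g i2 else 0) -
        (if i = j1 then g j1 else 0) - (if i = j2 then g j2 else 0) := by
    intro i
    by_cases c1 : i = i1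
    · subst c1
      rw [if_pos hi1, a1, if_pos rfl, if_neg hi12, if_neg h11, if_neg h12]; push_cast; ring
    by_cases c2 : i = i2
    · subst c2
      rw [if_pos hi2, a2, if_neg c1, if_pos rfl, if_neg h21, if_neg h22]; push_cast; ring
    by_cases c3 : i = j1
    · subst c3
      rw [if_pos hj1, b1, if_neg c1, if_neg c2, if_pos rfl, if_neg hj12]; push_cast; ring
    by_cases c4 : i = j2
    · subst c4
      rw [if_pos hj2, b2, if_neg c1, if_neg c2, if_neg c3, if_pos rfl]; push_cast; ring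
    rw [if_neg c1, if_neg c2, if_neg c3, if_neg c4]
    by_cases hB : i ∈ B
    · rw [if_pos hB, hzero i hB c1 c2 c3 c4]; push_cast; ring
    · rw [if_neg hB]; ring
  rw [Finset.sum_congr rfl (fun i _ => hpt i), Finset.sum_sub_distrib, Finset.sum_sub_distrib,
    Finset.sum_add_distrib, Finset.sum_ite_eq' Finset.univ i1, Finset.sum_ite_eq' Finset.univ i2,
    Finset.sum_ite_eq' Finset.univ j1, Finset.sum_ite_eq' Finset.univ j2]
  simp

end Cfsg.Agent.Lib.Helper2.BSQ8
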