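import Mathlib
import Cfsg.Agent.S4722
import Cfsg.Agent.S0944
import Cfsg.Agent.Lib.Helper28.PrimeCoreD
import Cfsg.Agent.Lib.Helper28.SectionG
import Cfsg.Agent.Lib.Helper28.SectionH
import Cfsg.Agent.Lib.Helper28.PModExists
import Cfsg.Agent.Lib.Helper2.BSQ8a
import Cfsg.Agent.Lib.Helper2.BSQ8b
import Cfsg.Agent.Lib.Helper2.BSQ8c
import Cfsg.Agent.Lib.Helper2.BSQ8d

/-!
The character-theoretic core of the `Q8` case of the Brauer--Suzuki theorem (helper2):
a group with Sylow 2-subgroup `Q8` and without normal 2-complement has a proper normal subgroup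
containing the involution.  (Brauer's column method, via S4722.)
-/

set_option autoImplicit false
set_option maxHeartbeats 1000000

namespace Cfsg.Agent.Lib.Helper2.BSQ8

open Cfsg QuaternionGroup
open Cfsg.Agent.Lib.Helper28 Cfsg.Agent.Lib.Helper26
open scoped ComplexConjugate Classical

section Bound

variable {G : Type*} [Group G] [Fintype G] (S : Sylow 2 G)
  (e : (S : Subgroup G) ≃* QuaternionGroup 2)

/-- the column of the principal block at `y` has norm at most four -/
theorem column_bound (M : Ideal AlgInt) (hM : IsPModular 2 M) [Fintype (IrrCharacter G)]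
    (A : IrrCharacter G → ℤ) (hA : ∀ χ : IrrCharacter G, (χ : G → ℂ) (yel S e) = (A χ : ℂ)) :
    ∑ χ : IrrCharacter G, (if χ ∈ principalBlock M G then (A χ) ^ 2 else 0) ≤ 4 := by
  haveI : Fact (Nat.Prime 2) := ⟨Nat.prime_two⟩
  haveI : Fintype (Subgroup.centralizer ({yel S e} : Set G)) := Fintype.ofFinite _
  haveI : Fintype (IrrCharacter (Subgroup.centralizer ({yel S e} : Set G))) := Fintype.ofFinite _
  have hcol := principal_column_norm hM (yel S e) ⟨2, by rw [orderOf_yel]; norm_num⟩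
  obtain ⟨K, hKn, hKc, hKi⟩ := exists_centralizer_complement S e
  haveI := hKn
  haveI : Fintype ((Subgroup.centralizer ({yel S e} : Set G)) ⧸ K) := Fintype.ofFinite _
  have hq := lambda_quot hM K hKc (1 : Subgroup.centralizer ({yel S e} : Set G))
  have hle := lambda_le_card_centralizer (M := M)
    ((QuotientGroup.mk (1 : Subgroup.centralizer ({yel S e} : Set G))) :
      (Subgroup.centralizer ({yel S e} : Set G)) ⧸ K)
  have hcard : (Nat.card ↥(Subgroup.centralizer
      ({(QuotientGroup.mk (1 : Subgroup.centralizer ({yel S e} : Set G)) :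
        (Subgroup.centralizer ({yel S e} : Set G)) ⧸ K)} : Set _)) : ℝ) ≤ 4 := by
    have h1 := Subgroup.card_le_card_group (Subgroup.centralizer
      ({(QuotientGroup.mk (1 : Subgroup.centralizer ({yel S e} : Set G)) :
        (Subgroup.centralizer ({yel S e} : Set G)) ⧸ K)} : Set _))
    have h2 : Nat.card ((Subgroup.centralizer ({yel S e} : Set G)) ⧸ K) = K.index :=
      (Subgroup.index_eq_card K).symm
    have h3 : Nat.card ↥(Subgroup.centralizer
      ({(QuotientGroup.mk (1 : Subgroup.centralizer ({yel S e} : Set G)) :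
        (Subgroup.centralizer ({yel S e} : Set G)) ⧸ K)} : Set _)) ≤ 4 := by omega
    exact_mod_cast h3
  have hR : ∑ᶠ ψ ∈ principalBlock M (Subgroup.centralizer ({yel S e} : Set G)),
      Complex.normSq ((ψ : Subgroup.centralizer ({yel S e} : Set G) → ℂ) 1) ≤ 4 := by
    rw [hq]; exact le_trans hle hcard
  -- convert the two sides of `hcol`
  have hL : ((∑ χ : IrrCharacter G, (if χ ∈ principalBlock M G then (A χ) ^ 2 else 0) : ℤ) : ℂ) =
      ∑ χ : IrrCharacter G, (if χ ∈ principalBlock M G then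
        (χ : G → ℂ) (yel S e) * conj ((χ : G → ℂ) (yel S e)) else 0) := by
    push_cast
    refine Finset.sum_congr rfl (fun χ _ => ?_)
    by_cases h : χ ∈ principalBlock M G
    · rw [if_pos h, if_pos h, hA χ, map_intCast]; ring
    · rw [if_neg h, if_neg h]
  have hRR : ((∑ᶠ ψ ∈ principalBlock M (Subgroup.centralizer ({yel S e} : Set G)),
      Complex.normSq ((ψ : Subgroup.centralizer ({yel S e} : Set G) → ℂ) 1) : ℝ) : ℂ) =
      ∑ ψ : IrrCharacter (Subgroup.centralizer ({yel S e} : Set G)),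
        (if ψ ∈ principalBlock M (Subgroup.centralizer ({yel S e} : Set G)) then
          (ψ : Subgroup.centralizer ({yel S e} : Set G) → ℂ) 1 *
            conj ((ψ : Subgroup.centralizer ({yel S e} : Set G) → ℂ) 1) else 0) := by
    rw [finsum_mem_eq_sum_ite']
    push_cast
    refine Finset.sum_congr rfl (fun ψ _ => ?_)
    by_cases h : ψ ∈ principalBlock M (Subgroup.centralizer ({yel S e} : Set G))
    · rw [if_pos h, if_pos h, Complex.mul_conj]
    · rw [if_neg h, if_neg h]; simp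
  have hZR : ((∑ χ : IrrCharacter G, (if χ ∈ principalBlock M G then (A χ) ^ 2 else 0) : ℤ) : ℝ) =
      ∑ᶠ ψ ∈ principalBlock M (Subgroup.centralizer ({yel S e} : Set G)),
        Complex.normSq ((ψ : Subgroup.centralizer ({yel S e} : Set G) → ℂ) 1) := by
    apply Complex.ofReal_injective
    rw [hRR, ← hcol, ← hL]
    norm_cast
  have : ((∑ χ : IrrCharacter G, (if χ ∈ principalBlock M G then (A χ) ^ 2 else 0) : ℤ) : ℝ) ≤ 4 := by
    rw [hZR]; exact hR
  exact_mod_cast this

end Bound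

section Core

variable {G : Type*} [Group G] [Finite G] (S : Sylow 2 G)
  (e : (S : Subgroup G) ≃* QuaternionGroup 2)

/-- data attached to a character of the principal block: degree, value at the involution,
and the two congruences -/
theorem char_data (χ : IrrCharacter G)
    (hfus : ∀ s : (S : Subgroup G), s ≠ 1 → s ≠ e.symm (a 2) →
      (χ : G → ℂ) (s : G) = (χ : G → ℂ) (yel S e))
    (hyinv : (χ : G → ℂ) (yel S e)⁻¹ = (χ : G → ℂ) (yel S e))
    (k : ℤ) (hk : (χ : G → ℂ) (yel S e) = k) :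
    ∃ (d x n m : ℤ), 0 < d ∧ 0 ≤ m ∧ (χ : G → ℂ) 1 = d ∧ (χ : G → ℂ) (invo e) = x ∧
      d + x + 6 * k = 8 * n ∧ d - x = 4 * m := by
  haveI : Fintype G := Fintype.ofFinite G
  haveI : Fintype (S : Subgroup G) := Fintype.ofFinite _
  have hchar : IsCharacter G (χ : G → ℂ) := isCharacter_of_isIrrCharacter χ.2
  have ht1 : invo e ≠ 1 := invo_ne e
  have htt : invo e * invo e = 1 := invo_sq e
  have hot : orderOf (invo e) = 2 := orderOf_eq_prime (by rw [pow_two]; exact htt) ht1
  have hoy : orderOf (yel S e) = 4 := orderOf_yel S e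
  have hy4 : yel S e ^ 4 = 1 := by rw [← hoy]; exact pow_orderOf_eq_one _
  obtain ⟨hd0, hd, -⟩ := irr_degree_nat χ.2
  obtain ⟨x, hx, -⟩ := Cfsg.Agent.S0944.result χ (invo e) hot
  obtain ⟨n, hn⟩ := exists_nat_sum_eq e hchar ((χ : G → ℂ) (yel S e)) hfus
  have hy3 : yel S e ^ 3 = (yel S e)⁻¹ := by
    rw [eq_inv_iff_mul_eq_one, ← pow_succ]; exact hy4
  have hy2 : yel S e ^ 2 = invo e := by rw [pow_two]; exact yel_sq S e
  obtain ⟨m, hm⟩ := exists_nat_sub_eq hchar hoy (by rw [hy3]; exact hyinv)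
  rw [hy2] at hm
  refine ⟨(charDegree (χ : G → ℂ) : ℤ), x, (n : ℤ), (m : ℤ), ?_, ?_, ?_, hx, ?_, ?_⟩
  · exact_mod_cast Nat.pos_of_ne_zero hd0
  · exact_mod_cast Nat.zero_le m
  · rw [hd]; norm_cast
  · have h1 : (χ : G → ℂ) ((e.symm (a 2) : (S : Subgroup G)) : G) = (χ : G → ℂ) (invo e) := rfl
    rw [h1, hd, hx, hk] at hn
    exact_mod_cast hn
  · rw [hd, hx] at hm
    exact_mod_cast hm

theorem q8_core (hnc : ∀ N : Subgroup G, N.Normal → ¬ Subgroup.IsComplement' N (S : Subgroup G)) :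
    ∃ K : Subgroup G, K.Normal ∧ K ≠ ⊤ ∧ invo e ∈ K := by
  haveI : Fact (Nat.Prime 2) := ⟨Nat.prime_two⟩
  haveI : Fintype G := Fintype.ofFinite G
  haveI : Fintype (S : Subgroup G) := Fintype.ofFinite _
  haveI : Fintype (IrrCharacter G) := Fintype.ofFinite _
  obtain ⟨M, hM⟩ := exists_isPModular' Nat.prime_two
  have hMtop : M ≠ ⊤ := hM.2.1.ne_top
  have hyS : yel S e ∈ (S : Subgroup G) := yel_mem S e
  have hyy : yel S e * yel S e = invo e := yel_sq S e
  have ht1 : invo e ≠ 1 := invo_ne e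
  have htt : invo e * invo e = 1 := invo_sq e
  have hot : orderOf (invo e) = 2 := orderOf_eq_prime (by rw [pow_two]; exact htt) ht1
  have hy4 : yel S e ^ (2 ^ 2) = 1 := yel_pow_four S e
  have hcf : ∀ χ : IrrCharacter G, ∀ g h : G, (χ : G → ℂ) (h * g * h⁻¹) = (χ : G → ℂ) g :=
    fun χ => Cfsg.Agent.Lib.Helper4.isClassFunction_of_isIrrCharacter χ.2
  have hchar : ∀ χ : IrrCharacter G, IsCharacter G (χ : G → ℂ) :=
    fun χ => isCharacter_of_isIrrCharacter χ.2
  have hfus : ∀ χ : IrrCharacter G, ∀ s : (S : Subgroup G), s ≠ 1 → s ≠ e.symm (a 2) →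
      (χ : G → ℂ) (s : G) = (χ : G → ℂ) (yel S e) := by
    intro χ s h1 h2
    obtain ⟨g, hg⟩ := fusion S e hnc s.2 (fun h => h1 (Subtype.ext h))
      (fun h => h2 (Subtype.ext h))
    rw [← hg, hcf]
  have hyinv : ∀ χ : IrrCharacter G, (χ : G → ℂ) (yel S e)⁻¹ = (χ : G → ℂ) (yel S e) := by
    intro χ
    obtain ⟨k, hk, hk2⟩ := exists_conj_inv e hyS
    rw [← hk2, hcf]
  have hA : ∀ χ : IrrCharacter G, (Nat.card (S : Subgroup G) : ℂ)⁻¹ *
      ∑ᶠ s : (S : Subgroup G), (χ : G → ℂ) (s : G) * theta e s⁻¹ = (χ : G → ℂ) (yel S e) :=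
    fun χ => (inner_theta e (hchar χ) (hyinv χ)).1
  have hAint : ∀ χ : IrrCharacter G, ∃ k : ℤ, (χ : G → ℂ) (yel S e) = k :=
    fun χ => (inner_theta e (hchar χ) (hyinv χ)).2
  choose A hAeq using hAint
  have hUP : ({yel S e, (yel S e)⁻¹} : Set G) ⊆ ((S : Subgroup G) : Set G) := by
    rintro u (rfl | rfl)
    · exact hyS
    · exact inv_mem hyS
  have hinv : ∀ u ∈ ({yel S e, (yel S e)⁻¹} : Set G), ∀ g : G,
      (g * invo e * g⁻¹) * u * (g * invo e * g⁻¹)⁻¹ ≠ u⁻¹ := by
    intro u hu g h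
    have hs2 : (g * invo e * g⁻¹) * (g * invo e * g⁻¹) = 1 := by
      have : (g * invo e * g⁻¹) * (g * invo e * g⁻¹) = g * (invo e * invo e) * g⁻¹ := by group
      rw [this, htt]; group
    rcases hu with rfl | rfl
    · exact not_inverted S e hs2 (by rw [hyy]; exact ht1) hy4 h
    · refine not_inverted S e hs2 ?_ ?_ h
      · rw [← mul_inv_rev, hyy]; exact inv_ne_one.mpr ht1
      · rw [inv_pow, hy4, inv_one]
  have hθU : ∀ s : (S : Subgroup G), (s : G) ∉ ({yel S e, (yel S e)⁻¹} : Set G) →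
      theta e s = 0 := by
    intro s hs
    by_contra h
    rcases theta_support e s h with h1 | h1
    · apply hs; left; rw [h1]; rfl
    · apply hs; right; rw [h1]; rfl
  have h4722 := Cfsg.Agent.S4722.result M hM (S : Subgroup G) S.isPGroup' _ hUP (invo e) hot hinv
    (theta e) (theta_genChar e) hθU
  simp only [hA] at h4722
  obtain ⟨h1, h2, h3, h4⟩ := h4722
  rcases h4 (by rw [inner_one_theta e]; exact one_ne_zero) with
    ⟨hpos, hneg⟩ | ⟨K, hKn, hKtop, -, htK⟩
  swap
  · exact ⟨K, hKn, hKtop, htK⟩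
  have hbound := column_bound S e M hM A hAeq
  have hre : ∀ χ : IrrCharacter G, ((χ : G → ℂ) (yel S e)).re = (A χ : ℝ) := by
    intro χ; rw [hAeq χ]; simp
  have hposF : 2 ≤ (Finset.univ.filter
      (fun χ : IrrCharacter G => χ ∈ principalBlock M G ∧ 0 < A χ)).card := by
    have : (Finset.univ.filter (fun χ : IrrCharacter G => χ ∈ principalBlock M G ∧ 0 < A χ)) =
        (Finset.univ.filter (fun χ : IrrCharacter G =>
          χ ∈ principalBlock M G ∧ 0 < ((χ : G → ℂ) (yel S e)).re)) := by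
      apply Finset.filter_congr
      intro χ _
      rw [hre χ]; simp
    rw [this, ← Fintype.card_subtype, ← Nat.card_eq_fintype_card]; exact hpos
  have hnegF : 2 ≤ (Finset.univ.filter
      (fun χ : IrrCharacter G => χ ∈ principalBlock M G ∧ A χ < 0)).card := by
    have : (Finset.univ.filter (fun χ : IrrCharacter G => χ ∈ principalBlock M G ∧ A χ < 0)) =
        (Finset.univ.filter (fun χ : IrrCharacter G =>
          χ ∈ principalBlock M G ∧ ((χ : G → ℂ) (yel S e)).re < 0)) := by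
      apply Finset.filter_congr
      intro χ _
      rw [hre χ]; simp
    rw [this, ← Fintype.card_subtype, ← Nat.card_eq_fintype_card]; exact hneg
  obtain ⟨i1, i2, j1, j2, hi12, hj12, hi1, hi2, hj1, hj2, a1, a2, b1, b2, hzero⟩ :=
    signs_lemma (principalBlock M G) A hbound hposF hnegF
  have htrivB : trivIrr G ∈ principalBlock M G := trivIrr_mem_principalBlock hMtop
  have htrivA : A (trivIrr G) = 1 := by
    have := hAeq (trivIrr G)
    have h1 : ((trivIrr G : IrrCharacter G) : G → ℂ) (yel S e) = 1 := rfl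
    rw [h1] at this
    exact_mod_cast this.symm
  have hsum : ∀ g : IrrCharacter G → ℂ,
      ∑ᶠ χ ∈ principalBlock M G, (χ : G → ℂ) (yel S e) * g χ = g i1 + g i2 - g j1 - g j2 := by
    intro g
    rw [finsum_mem_eq_sum_ite',
      ← signed_sum (principalBlock M G) A i1 i2 j1 j2 hi12 hj12 hi1 hi2 hj1 hj2 a1 a2 b1 b2 hzero g]
    refine Finset.sum_congr rfl (fun χ _ => ?_)
    rw [hAeq χ]
  have htriv : trivIrr G = i1 ∨ trivIrr G = i2 := by
    by_contra hcon
    push Not at hcon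
    have hj1' : trivIrr G ≠ j1 := by intro h; rw [h, b1] at htrivA; omega
    have hj2' : trivIrr G ≠ j2 := by intro h; rw [h, b2] at htrivA; omega
    have := hzero _ htrivB hcon.1 hcon.2 hj1' hj2'
    omega
  obtain ⟨c, hcA, hE⟩ : ∃ c : IrrCharacter G, A c = 1 ∧ ∀ g : IrrCharacter G → ℂ,
      ∑ᶠ χ ∈ principalBlock M G, (χ : G → ℂ) (yel S e) * g χ =
        g (trivIrr G) + g c - g j1 - g j2 := by
    rcases htriv with h | h
    · exact ⟨i2, a2, fun g => by rw [hsum g, h]⟩
    · exact ⟨i1, a1, fun g => by rw [hsum g, h]; ring⟩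
  -- the three equations
  have E1 := hE (fun χ => (χ : G → ℂ) 1)
  rw [h2] at E1
  have E2 := hE (fun χ => (χ : G → ℂ) (invo e))
  rw [h3] at E2
  have h1' : ∑ᶠ χ ∈ principalBlock M G, (χ : G → ℂ) (yel S e) *
      ((χ : G → ℂ) (invo e) ^ 2 / (χ : G → ℂ) 1) = 0 := by
    simpa only [mul_div_assoc] using h1
  have E3 := hE (fun χ => (χ : G → ℂ) (invo e) ^ 2 / (χ : G → ℂ) 1)
  rw [h1'] at E3
  have tv : ∀ x : G, ((trivIrr G : IrrCharacter G) : G → ℂ) x = 1 := fun _ => rfl
  simp only [tv] at E1 E2 E3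
  -- integer data
  obtain ⟨d1, x1, n1, m1, hd1, hm1, hd1e, hx1e, c1, bb1⟩ :=
    char_data S e c (hfus c) (hyinv c) (A c) (hAeq c)
  obtain ⟨d2, x2, n2, m2, hd2, hm2, hd2e, hx2e, c2, bb2⟩ :=
    char_data S e j1 (hfus j1) (hyinv j1) (A j1) (hAeq j1)
  obtain ⟨d3, x3, n3, m3, hd3, hm3, hd3e, hx3e, c3, bb3⟩ :=
    char_data S e j2 (hfus j2) (hyinv j2) (A j2) (hAeq j2)
  rw [hd1e, hd2e, hd3e] at E1
  rw [hx1e, hx2e, hx3e] at E2
  rw [hd1e, hd2e, hd3e, hx1e, hx2e, hx3e] at E3
  have e1 : 1 + d1 = d2 + d3 := by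
    have : ((1 + d1 : ℤ) : ℂ) = ((d2 + d3 : ℤ) : ℂ) := by push_cast; linear_combination -E1
    exact_mod_cast this
  have e2 : 1 + x1 = x2 + x3 := by
    have : ((1 + x1 : ℤ) : ℂ) = ((x2 + x3 : ℤ) : ℂ) := by push_cast; linear_combination -E2
    exact_mod_cast this
  have e3 : (d1 + x1 ^ 2) * d2 * d3 = (x2 ^ 2 * d3 + x3 ^ 2 * d2) * d1 := by
    have hd1c : (d1 : ℂ) ≠ 0 := by exact_mod_cast hd1.ne'
    have hd2c : (d2 : ℂ) ≠ 0 := by exact_mod_cast hd2.ne'
    have hd3c : (d3 : ℂ) ≠ 0 := by exact_mod_cast hd3.ne'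
    have : (((d1 + x1 ^ 2) * d2 * d3 : ℤ) : ℂ) = (((x2 ^ 2 * d3 + x3 ^ 2 * d2) * d1 : ℤ) : ℂ) := by
      push_cast
      field_simp at E3
      linear_combination -E3
    exact_mod_cast this
  rw [b1] at c2
  rw [b2] at c3
  have hx2le : x2 ≤ d2 := by omega
  have hx3le : x3 ≤ d3 := by omega
  have key := arith_main d1 d2 d3 x1 x2 x3 n2 n3 m2 m3 hx2le hx3le e1 e2 e3
    (by omega) (by omega) bb2 bb3
  -- the kernel of one of the two negative characters contains the involution
  have hker : ∀ j : IrrCharacter G, A j = -1 → (j : G → ℂ) (invo e) = (j : G → ℂ) 1 →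
      ∃ K : Subgroup G, K.Normal ∧ K ≠ ⊤ ∧ invo e ∈ K := by
    intro j hj hjt
    obtain ⟨K, hKn, hK⟩ := exists_kernel_subgroup j
    refine ⟨K, hKn, ?_, (hK _).mpr hjt⟩
    intro htop
    have hconst : ∀ g : G, (j : G → ℂ) g = (j : G → ℂ) 1 := by
      intro g
      exact (hK g).mp (by rw [htop]; exact Subgroup.mem_top g)
    have h1 := irr_eq_one_of_const j hconst
    have h2 := hAeq j
    rw [h1, hj] at h2
    norm_num at h2
  rcases key with h | h
  · exact hker j1 b1 (by rw [hx2e, hd2e, h])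
  · exact hker j2 b2 (by rw [hx3e, hd3e, h])

end Core

end Cfsg.Agent.Lib.Helper2.BSQ8
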