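import Mathlib
import Cfsg.Agent.Lib.Helper2.BSQ8e
import Cfsg.Agent.Lib.Helper2.Cores
import Cfsg.Agent.Lib.Helper20.Cores

/-!
The `Q8` case of the Brauer--Suzuki theorem (helper2): induction frame around `q8_core`.
Main result: `center_card_q8`.
-/

set_option autoImplicit false

namespace Cfsg.Agent.Lib.Helper2.BSQ8

universe u

open Cfsg QuaternionGroup

theorem q8_center_cases : ∀ q : QuaternionGroup 2, (∀ r : QuaternionGroup 2, q * r = r * q) →
    q = 1 ∨ q = a 2 := by decide

section

variable {G : Type u} [Group G] [Finite G]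

/-- the type of Sylow 2-subgroups occurring in the induction: cyclic or `Q8` -/
def SylType (S : Sylow 2 G) : Prop :=
  IsCyclic (S : Subgroup G) ∨ Nonempty ((S : Subgroup G) ≃* QuaternionGroup 2)

theorem sylType_all (S : Sylow 2 G) (hS : SylType S) (P : Sylow 2 G) : SylType P := by
  haveI : Fact (Nat.Prime 2) := ⟨Nat.prime_two⟩
  unfold SylType at hS ⊢
  rcases hS with h | h
  · left; exact (MulEquiv.isCyclic (Sylow.equiv P S)).mpr h
  · obtain ⟨e⟩ := h
    right; exact ⟨(Sylow.equiv P S).trans e⟩

theorem cyclic_invol_unique {C : Type*} [Group C] [Finite C] [IsCyclic C] {x y : C}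
    (hx : x * x = 1) (hy : y * y = 1) (hx1 : x ≠ 1) (hy1 : y ≠ 1) : x = y := by
  classical
  haveI := Fintype.ofFinite C
  by_contra hne
  have h := IsCyclic.card_pow_eq_one_le (α := C) (n := 2) (by norm_num)
  have hsub : ({1, x, y} : Finset C) ⊆ Finset.univ.filter (fun a => a ^ 2 = 1) := by
    intro a ha
    simp only [Finset.mem_insert, Finset.mem_singleton] at ha
    rcases ha with rfl | rfl | rfl <;> simp [pow_two, hx, hy]
  have hc : ({1, x, y} : Finset C).card = 3 := by
    rw [Finset.card_insert_of_notMem, Finset.card_insert_of_notMem, Finset.card_singleton]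
    · simpa using hne
    · simp only [Finset.mem_insert, Finset.mem_singleton, not_or]
      exact ⟨hx1.symm, hy1.symm⟩
  have := Finset.card_le_card hsub
  omega

theorem invol_unique_of_type (P : Sylow 2 G) (hP : SylType P) {x y : G}
    (hxP : x ∈ (P : Subgroup G)) (hyP : y ∈ (P : Subgroup G)) (hx : x * x = 1) (hy : y * y = 1)
    (hx1 : x ≠ 1) (hy1 : y ≠ 1) : x = y := by
  unfold SylType at hP
  rcases hP with h | h
  swap
  · obtain ⟨f⟩ := h
    rw [invol_unique f hxP hx hx1, invol_unique f hyP hy hy1]
  · haveI := h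
    have := cyclic_invol_unique (C := (P : Subgroup G)) (x := ⟨x, hxP⟩) (y := ⟨y, hyP⟩)
      (Subtype.ext (by simpa using hx)) (Subtype.ext (by simpa using hy))
      (fun h => hx1 (by simpa using congrArg Subtype.val h))
      (fun h => hy1 (by simpa using congrArg Subtype.val h))
    exact congrArg Subtype.val this

theorem comm_invol_eq (S : Sylow 2 G) (hS : SylType S) {x y : G} (hx : x * x = 1)
    (hy : y * y = 1) (hx1 : x ≠ 1) (hy1 : y ≠ 1) (hc : x * y = y * x) : x = y := by
  have hxP : IsPGroup 2 (Subgroup.zpowers x) :=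
    isPGroup_zpowers_of_pow 1 (by rw [pow_one, pow_two]; exact hx)
  have hyP : IsPGroup 2 (Subgroup.zpowers y) :=
    isPGroup_zpowers_of_pow 1 (by rw [pow_one, pow_two]; exact hy)
  have hnorm : Subgroup.zpowers x ≤
      Subgroup.normalizer ((Subgroup.zpowers y : Subgroup G) : Set G) := by
    rw [Subgroup.zpowers_le]
    apply Cfsg.Agent.Lib.Helper2.W162.mem_normalizer_of_conj_mem
    intro k hk
    obtain ⟨j, rfl⟩ := Subgroup.mem_zpowers_iff.mp hk
    have hcj : Commute x (y ^ j) := Commute.zpow_right hc j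
    rw [hcj.eq, mul_inv_cancel_right]
    exact Subgroup.zpow_mem _ (Subgroup.mem_zpowers y) j
  have hT := IsPGroup.to_sup_of_normal_right' hxP hyP hnorm
  obtain ⟨P, hP⟩ := exists_sylow_ge hT
  exact invol_unique_of_type P (sylType_all S hS P)
    (hP (Subgroup.mem_sup_left (Subgroup.mem_zpowers x)))
    (hP (Subgroup.mem_sup_right (Subgroup.mem_zpowers y))) hx hy hx1 hy1

theorem cyclic_of_lt {P : Subgroup G} (f : P ≃* QuaternionGroup 2) {R : Subgroup G}
    (hRP : R ≤ P) (hne : R ≠ P) : IsCyclic R := by
  have hcardP : Nat.card P = 8 := by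
    rw [Nat.card_congr f.toEquiv, Nat.card_eq_fintype_card, card_q8]
  by_cases h : ∃ g ∈ R, g ≠ 1 ∧ g ≠ invo f
  · obtain ⟨g, hgR, hg1, hg2⟩ := h
    have hgP := hRP hgR
    have hsq := sq_eq_invo f hgP hg1 hg2
    have ho : orderOf g = 4 :=
      orderOf_eq_four (by rw [hsq]; exact invo_ne f) (pow_four_of_sq hsq (invo_sq f))
    have hle : Subgroup.zpowers g ≤ R := Subgroup.zpowers_le.mpr hgR
    haveI : Finite R := Finite.of_injective (Subgroup.inclusion hRP) (Subgroup.inclusion_injective hRP)
    have hdvd : Nat.card R ∣ Nat.card P := Subgroup.card_dvd_of_le hRP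
    have hlt : Nat.card R ≠ 8 := by
      intro h8
      apply hne
      exact Subgroup.eq_of_le_of_card_ge hRP (by rw [hcardP, h8])
    have h4 : Nat.card (Subgroup.zpowers g) = 4 := by rw [Nat.card_zpowers, ho]
    have hge : 4 ≤ Nat.card R := by rw [← h4]; exact Subgroup.card_le_of_le hle
    have hR4 : Nat.card R = 4 := by
      rw [hcardP] at hdvd
      have hle8 : Nat.card R ≤ 8 := Nat.le_of_dvd (by norm_num) hdvd
      generalize Nat.card R = c at *
      interval_cases c <;> simp_all
    have heq : Subgroup.zpowers g = R := Subgroup.eq_of_le_of_card_ge hle (by rw [h4, hR4])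
    rw [← heq]
    infer_instance
  · push Not at h
    have hle : R ≤ Subgroup.zpowers (invo f) := by
      intro g hg
      by_cases hg1 : g = 1
      · rw [hg1]; exact one_mem _
      · rw [h g hg hg1]; exact Subgroup.mem_zpowers _
    exact Subgroup.isCyclic_of_le hle

theorem hO_sub (hO : ∀ N : Subgroup G, N.Normal → Odd (Nat.card N) → N = ⊥) (K : Subgroup G)
    [K.Normal] : ∀ N : Subgroup K, N.Normal → Odd (Nat.card N) → N = ⊥ := by
  intro N hN hodd
  haveI hchar : (pPrimeCore 2 ↥K).Characteristic :=
    Cfsg.Agent.Lib.Helper20.pPrimeCore_characteristic 2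
  have hCn : ((pPrimeCore 2 ↥K).map K.subtype).Normal :=
    ConjAct.normal_of_characteristic_of_normal
  have hCc : (Nat.card (pPrimeCore 2 ↥K)).Coprime 2 := Cfsg.Agent.Lib.Helper2.pPrimeCore_coprime 2
  have hodd' : Odd (Nat.card ((pPrimeCore 2 ↥K).map K.subtype)) := by
    rw [Subgroup.card_map_of_injective K.subtype_injective]
    exact Nat.coprime_two_right.mp hCc
  have hbot := hO _ hCn hodd'
  have hcore : pPrimeCore 2 ↥K = ⊥ :=
    (Subgroup.map_eq_bot_iff_of_injective _ K.subtype_injective).mp hbot
  have hle : N ≤ pPrimeCore 2 ↥K :=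
    Cfsg.Agent.Lib.Helper2.le_pPrimeCore hN (Nat.coprime_two_right.mpr hodd)
  rw [hcore] at hle
  exact le_bot_iff.mp hle

end

theorem invol_central_aux (n : ℕ) : ∀ (G : Type u) [Group G] [Finite G], Nat.card G = n →
    ∀ (S : Sylow 2 G), SylType S →
    (∀ N : Subgroup G, N.Normal → Odd (Nat.card N) → N = ⊥) →
    ∀ t : G, t ∈ (S : Subgroup G) → t * t = 1 → t ∈ Subgroup.center G := by
  induction n using Nat.strong_induction_on with
  | _ n ih =>
    intro G _ _ hn S hS hO t htS htt
    haveI : Fact (Nat.Prime 2) := ⟨Nat.prime_two⟩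
    by_cases ht1 : t = 1
    · rw [ht1]; exact one_mem _
    by_cases hcomp : ∃ N : Subgroup G, N.Normal ∧ Subgroup.IsComplement' N (S : Subgroup G)
    · obtain ⟨N, hNn, hNc⟩ := hcomp
      have hidx : (S : Subgroup G).index = Nat.card N := hNc.index_eq_card
      have hodd : Odd (Nat.card N) := by
        rw [← hidx]
        exact Nat.odd_iff.mpr (Nat.two_dvd_ne_zero.mp (Sylow.not_dvd_index S))
      have hN : N = ⊥ := hO N hNn hodd
      have hStop : (S : Subgroup G) = ⊤ := by
        have h1 := hNc.card_mul_card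
        rw [hN, Subgroup.card_bot, one_mul] at h1
        exact Subgroup.eq_top_of_card_eq _ h1
      rw [Subgroup.mem_center_iff]
      intro g
      have hgS : g ∈ (S : Subgroup G) := by rw [hStop]; exact Subgroup.mem_top g
      unfold SylType at hS
      rcases hS with hcyc | hq
      swap
      · obtain ⟨e⟩ := hq
        have hte : t = invo e := invol_unique e htS htt ht1
        rw [hte]
        exact (invo_central e hgS).symm
      · haveI := hcyc
        obtain ⟨c, hc⟩ := IsCyclic.exists_generator (α := (S : Subgroup G))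
        obtain ⟨i, hi⟩ := Subgroup.mem_zpowers_iff.mp (hc ⟨g, hgS⟩)
        obtain ⟨j, hj⟩ := Subgroup.mem_zpowers_iff.mp (hc ⟨t, htS⟩)
        have : (⟨g, hgS⟩ : (S : Subgroup G)) * ⟨t, htS⟩ = ⟨t, htS⟩ * ⟨g, hgS⟩ := by
          rw [← hi, ← hj, ← zpow_add, ← zpow_add, add_comm]
        simpa using congrArg Subtype.val this
    · push Not at hcomp
      have hnotcyc : ¬ IsCyclic (S : Subgroup G) := by
        intro hcyc
        obtain ⟨K, hKn, hKc, -⟩ :=
          Cfsg.Agent.Lib.Helper3.exists_normal_two_complement_of_isCyclic S hcyc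
        exact hcomp K hKn hKc
      unfold SylType at hS
      obtain ⟨e⟩ := hS.resolve_left hnotcyc
      have hte : t = invo e := invol_unique e htS htt ht1
      obtain ⟨K, hKn, hKtop, htK⟩ := q8_core S e hcomp
      rw [← hte] at htK
      haveI := hKn
      have hcardK : Nat.card K < n := by
        rw [← hn]
        exact Cfsg.Agent.Lib.Helper20.card_lt_of_lt_top (lt_top_iff_ne_top.mpr hKtop)
      have htK2 : IsPGroup 2 (Subgroup.zpowers (⟨t, htK⟩ : K)) :=
        isPGroup_zpowers_of_pow 1 (by
          rw [pow_one, pow_two]; exact Subtype.ext (by simpa using htt))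
      obtain ⟨Q, hQ⟩ := htK2.exists_le_sylow
      have htQ : (⟨t, htK⟩ : K) ∈ (Q : Subgroup K) := hQ (Subgroup.mem_zpowers _)
      have hQtype : SylType Q := by
        have hR : IsPGroup 2 ((Q : Subgroup K).map K.subtype) := Q.isPGroup'.map _
        obtain ⟨P, hP⟩ := exists_sylow_ge hR
        have eqv := (Q : Subgroup K).equivMapOfInjective K.subtype K.subtype_injective
        by_cases hRP : (Q : Subgroup K).map K.subtype = (P : Subgroup G)
        · right
          exact ⟨eqv.trans ((MulEquiv.subgroupCongr hRP).trans (sylowIso S e P))⟩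
        · left
          have := cyclic_of_lt (sylowIso S e P) hP hRP
          exact (MulEquiv.isCyclic eqv).mpr this
      have hcen := ih (Nat.card K) hcardK K rfl Q hQtype (hO_sub hO K) ⟨t, htK⟩ htQ
        (Subtype.ext (by simpa using htt))
      rw [Subgroup.mem_center_iff]
      intro g
      have ht'K : g * t * g⁻¹ ∈ K := hKn.conj_mem t htK g
      have hcomm : t * (g * t * g⁻¹) = (g * t * g⁻¹) * t := by
        have h1 := (Subgroup.mem_center_iff.mp hcen) ⟨g * t * g⁻¹, ht'K⟩
        have h2 := congrArg Subtype.val h1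
        simpa using h2.symm
      have ht'2 : (g * t * g⁻¹) * (g * t * g⁻¹) = 1 := by
        have : (g * t * g⁻¹) * (g * t * g⁻¹) = g * (t * t) * g⁻¹ := by group
        rw [this, htt]; group
      have ht'1 : g * t * g⁻¹ ≠ 1 := fun h => ht1 (conj_eq_one_iff.mp h)
      have heq := comm_invol_eq S (Or.inr ⟨e⟩) htt ht'2 ht1 ht'1 hcomm
      calc g * t = (g * t * g⁻¹) * g := by group
        _ = t * g := by rw [← heq]

/-- **Brauer--Suzuki for `Q8`**: a finite group with Sylow 2-subgroup `Q8` and no nontrivial
normal subgroup of odd order has centre of order two. -/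
theorem center_card_q8 {G : Type u} [Group G] [Finite G] (S : Sylow 2 G)
    (e : (S : Subgroup G) ≃* QuaternionGroup 2)
    (hO : ∀ N : Subgroup G, N.Normal → Odd (Nat.card N) → N = ⊥) :
    Nat.card (Subgroup.center G) = 2 := by
  have htc : invo e ∈ Subgroup.center G :=
    invol_central_aux _ G rfl S (Or.inr ⟨e⟩) hO (invo e) (invo_mem e) (invo_sq e)
  have hnormal : ∀ w : G, w ∈ Subgroup.center G → (Subgroup.zpowers w).Normal := by
    intro w hw
    constructor
    intro x hx g
    have hxc : x ∈ Subgroup.center G := (Subgroup.zpowers_le.mpr hw) hx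
    have h1 := (Subgroup.mem_center_iff.mp hxc) g
    have : g * x * g⁻¹ = x := by rw [h1]; group
    rw [this]; exact hx
  have hcen : Subgroup.center G = Subgroup.zpowers (invo e) := by
    apply le_antisymm
    · intro z hz
      obtain ⟨k, m, hm, hkm⟩ := Nat.exists_eq_two_pow_mul_odd (orderOf_pos z).ne'
      have hw_ord : orderOf (z ^ (2 ^ k)) = m := by
        rw [orderOf_pow_of_dvd (pow_ne_zero _ two_ne_zero) (Dvd.intro _ hkm.symm), hkm,
          Nat.mul_div_cancel_left _ (pow_pos (by norm_num) k)]
      have hwc : z ^ (2 ^ k) ∈ Subgroup.center G := Subgroup.pow_mem _ hz _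
      have hWodd : Odd (Nat.card (Subgroup.zpowers (z ^ (2 ^ k)))) := by
        rw [Nat.card_zpowers, hw_ord]; exact hm
      have hW := hO _ (hnormal _ hwc) hWodd
      have hw1 : z ^ (2 ^ k) = 1 := Subgroup.zpowers_eq_bot.mp hW
      have hzP : IsPGroup 2 (Subgroup.zpowers z) := isPGroup_zpowers_of_pow k hw1
      have hzS : z ∈ (S : Subgroup G) :=
        ((Cfsg.Agent.Lib.Helper2.le_pCore (hnormal z hz) hzP).trans
          (Cfsg.Agent.Lib.Helper2.pCore_le_sylow 2 S)) (Subgroup.mem_zpowers z)
      have hcases : e ⟨z, hzS⟩ = 1 ∨ e ⟨z, hzS⟩ = a 2 := by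
        apply q8_center_cases
        intro r
        obtain ⟨s, rfl⟩ := e.surjective r
        rw [← map_mul, ← map_mul]
        congr 1
        apply Subtype.ext
        simpa using ((Subgroup.mem_center_iff.mp hz) (s : G)).symm
      rcases hcases with h | h
      · have : (⟨z, hzS⟩ : (S : Subgroup G)) = 1 := e.injective (by rw [h, map_one])
        have hz1 : z = 1 := by simpa using congrArg Subtype.val this
        rw [hz1]; exact one_mem _
      · have : (⟨z, hzS⟩ : (S : Subgroup G)) = e.symm (a 2) := by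
          rw [← h, MulEquiv.symm_apply_apply]
        have hz1 : z = invo e := by simpa [invo] using congrArg Subtype.val this
        rw [hz1]; exact Subgroup.mem_zpowers _
    · exact Subgroup.zpowers_le.mpr htc
  rw [hcen, Nat.card_zpowers]
  exact orderOf_eq_prime (by rw [pow_two]; exact invo_sq e) (invo_ne e)

end Cfsg.Agent.Lib.Helper2.BSQ8
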