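import Mathlib

/-!
# Groups in which the centralizer of every involution is an elementary abelian 2-group (helper2)

Basic structure: the Sylow 2-subgroups are elementary abelian, pairwise disjoint and are the
centralizers of their involutions; counting involutions that swap two Sylow 2-subgroups.
-/

set_option autoImplicit false
set_option maxHeartbeats 1000000

namespace Cfsg.Agent.Lib.Helper2.CIT

/-- every element centralizing an involution squares to one -/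
def Hyp (G : Type*) [Group G] : Prop :=
  ∀ t : G, orderOf t = 2 → ∀ c ∈ Subgroup.centralizer ({t} : Set G), c ^ 2 = 1

section Basic
variable {G : Type*} [Group G]

theorem pgroup_of_sq {H : Subgroup G} (h : ∀ x ∈ H, x ^ 2 = 1) : IsPGroup 2 H := by
  intro x
  refine ⟨1, ?_⟩
  apply Subtype.ext
  have := h x.1 x.2
  simpa using this

theorem zpowers_pgroup {t : G} (h2 : t ^ 2 = 1) : IsPGroup 2 (Subgroup.zpowers t) := by
  apply pgroup_of_sq
  intro x hx
  obtain ⟨k, rfl⟩ := Subgroup.mem_zpowers_iff.1 hx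
  rw [pow_two, ← zpow_add, ← two_mul, zpow_mul, zpow_two, ← pow_two, h2, one_zpow]

theorem inv_eq_self_of_sq {x : G} (hx : x ^ 2 = 1) : x⁻¹ = x :=
  inv_eq_of_mul_eq_one_left (by rw [← pow_two]; exact hx)

theorem comm_of_sq {x y : G} (hx : x ^ 2 = 1) (hy : y ^ 2 = 1) (hxy : (x * y) ^ 2 = 1) :
    x * y = y * x := by
  have h3 := inv_eq_self_of_sq hxy
  rw [mul_inv_rev, inv_eq_self_of_sq hx, inv_eq_self_of_sq hy] at h3
  exact h3.symm

theorem sq_of_orderOf {t : G} (ht : orderOf t = 2) : t ^ 2 = 1 := by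
  rw [← ht]; exact pow_orderOf_eq_one t

theorem ne_one_of_orderOf {t : G} (ht : orderOf t = 2) : t ≠ 1 := by
  rintro rfl
  rw [orderOf_one] at ht
  omega

end Basic

section Syl
variable {G : Type*} [Group G] [Finite G]

theorem conj_mem_of_fix (Q : Sylow 2 G) {d s : G} (hd : d • Q = Q)
    (hs : s ∈ (Q : Subgroup G)) : d * s * d⁻¹ ∈ (Q : Subgroup G) := by
  have h : d * s * d⁻¹ ∈ ((d • Q : Sylow 2 G) : Subgroup G) := by
    rw [Sylow.coe_subgroup_smul]
    exact Subgroup.smul_mem_pointwise_smul _ (MulAut.conj d) (Q : Subgroup G) hs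
  rwa [hd] at h

theorem fix_of_mem (P : Sylow 2 G) {x : G} (hx : x ∈ (P : Subgroup G)) : x • P = P := by
  rw [Sylow.smul_eq_iff_mem_normalizer]
  exact Subgroup.le_normalizer hx

theorem mem_of_fix (P : Sylow 2 G) {t : G} (h2 : t ^ 2 = 1) (hN : t • P = P) :
    t ∈ (P : Subgroup G) := by
  have hpg := zpowers_pgroup h2
  have hfix : P ∈ MulAction.fixedPoints (↥(Subgroup.zpowers t)) (Sylow 2 G) := by
    rintro ⟨g, hg⟩
    have h1 : Subgroup.zpowers t ≤ MulAction.stabilizer G P :=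
      Subgroup.zpowers_le.2 (MulAction.mem_stabilizer_iff.2 hN)
    exact MulAction.mem_stabilizer_iff.1 (h1 hg)
  have hle := (IsPGroup.sylow_mem_fixedPoints_iff hpg).1 hfix
  exact hle (Subgroup.mem_zpowers t)

theorem exists_sylow {t : G} (h2 : t ^ 2 = 1) : ∃ P : Sylow 2 G, t ∈ (P : Subgroup G) := by
  obtain ⟨P, hP⟩ := (zpowers_pgroup h2).exists_le_sylow
  exact ⟨P, hP (Subgroup.mem_zpowers t)⟩

theorem inv_fix {X : Type*} [MulAction G X] {d : G} {a : X} (h : d • a = a) : d⁻¹ • a = a := by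
  rw [inv_smul_eq_iff, h]

theorem mul_fix {X : Type*} [MulAction G X] {d e : G} {a : X} (hd : d • a = a) (he : e • a = a) :
    (d * e) • a = a := by
  rw [mul_smul, he, hd]

theorem exists_central_invol (P : Sylow 2 G) (hP : 2 ≤ Nat.card (P : Subgroup G)) :
    ∃ z ∈ (P : Subgroup G), orderOf z = 2 ∧ ∀ x ∈ (P : Subgroup G), x * z = z * x := by
  haveI : Nontrivial (P : Subgroup G) := by
    rw [← Finite.one_lt_card_iff_nontrivial]; omega
  haveI : Nontrivial (Subgroup.center (P : Subgroup G)) := P.isPGroup'.center_nontrivial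
  have h2 : 2 ∣ Nat.card (Subgroup.center (P : Subgroup G)) := by
    have hp : IsPGroup 2 (Subgroup.center (P : Subgroup G)) := P.isPGroup'.to_subgroup _
    obtain ⟨n, hn⟩ := IsPGroup.iff_card.1 hp
    have hn0 : n ≠ 0 := by
      rintro rfl
      have : 1 < Nat.card (Subgroup.center (P : Subgroup G)) := Finite.one_lt_card
      omega
    rw [hn]; exact dvd_pow_self 2 hn0
  obtain ⟨z, hz⟩ := exists_prime_orderOf_dvd_card' 2 h2
  refine ⟨((z : (P : Subgroup G)) : G), (z : (P : Subgroup G)).2, ?_, ?_⟩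
  · rw [Subgroup.orderOf_coe, Subgroup.orderOf_coe]; exact hz
  · intro x hx
    have := Subgroup.mem_center_iff.1 z.2 ⟨x, hx⟩
    exact congrArg Subtype.val this

theorem sq_eq_one (hC : Hyp G) (hq : ∀ P : Sylow 2 G, 4 ≤ Nat.card (P : Subgroup G))
    (P : Sylow 2 G) {x : G} (hx : x ∈ (P : Subgroup G)) : x ^ 2 = 1 := by
  obtain ⟨z, hz, hz2, hzc⟩ := exists_central_invol P (by have := hq P; omega)
  have hle : (P : Subgroup G) ≤ Subgroup.centralizer {z} := by
    intro y hy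
    rw [Subgroup.mem_centralizer_singleton_iff]
    exact hzc y hy
  exact hC z hz2 x (hle hx)

theorem comm (hC : Hyp G) (hq : ∀ P : Sylow 2 G, 4 ≤ Nat.card (P : Subgroup G))
    (P : Sylow 2 G) {x y : G} (hx : x ∈ (P : Subgroup G)) (hy : y ∈ (P : Subgroup G)) :
    x * y = y * x :=
  comm_of_sq (sq_eq_one hC hq P hx) (sq_eq_one hC hq P hy)
    (sq_eq_one hC hq P (Subgroup.mul_mem _ hx hy))

theorem cent_eq (hC : Hyp G) (hq : ∀ P : Sylow 2 G, 4 ≤ Nat.card (P : Subgroup G))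
    (P : Sylow 2 G) {t : G} (ht : t ∈ (P : Subgroup G)) (ht1 : t ≠ 1) :
    Subgroup.centralizer ({t} : Set G) = (P : Subgroup G) := by
  have ht2 : orderOf t = 2 := orderOf_eq_prime (sq_eq_one hC hq P ht) ht1
  apply P.is_maximal' (pgroup_of_sq (hC t ht2))
  intro y hy
  rw [Subgroup.mem_centralizer_singleton_iff]
  exact comm hC hq P hy ht

theorem mem_of_comm (hC : Hyp G) (hq : ∀ P : Sylow 2 G, 4 ≤ Nat.card (P : Subgroup G))
    (P : Sylow 2 G) {t y : G} (ht : t ∈ (P : Subgroup G)) (ht1 : t ≠ 1) (hy : y * t = t * y) :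
    y ∈ (P : Subgroup G) := by
  rw [← cent_eq hC hq P ht ht1, Subgroup.mem_centralizer_singleton_iff]
  exact hy

theorem ti (hC : Hyp G) (hq : ∀ P : Sylow 2 G, 4 ≤ Nat.card (P : Subgroup G))
    {P Q : Sylow 2 G} (hPQ : P ≠ Q) {t : G} (hP : t ∈ (P : Subgroup G))
    (hQ : t ∈ (Q : Subgroup G)) : t = 1 := by
  by_contra h1
  apply hPQ
  apply Sylow.ext
  rw [← cent_eq hC hq P hP h1, cent_eq hC hq Q hQ h1]

theorem eq_one_of_fix_two (hC : Hyp G) (hq : ∀ P : Sylow 2 G, 4 ≤ Nat.card (P : Subgroup G))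
    {P Q : Sylow 2 G} (hPQ : P ≠ Q) {d : G} (h2 : d ^ 2 = 1) (hP : d • P = P) (hQ : d • Q = Q) :
    d = 1 :=
  ti hC hq hPQ (mem_of_fix P h2 hP) (mem_of_fix Q h2 hQ)

theorem exists_ne_one (hq : ∀ P : Sylow 2 G, 4 ≤ Nat.card (P : Subgroup G)) (P : Sylow 2 G) :
    ∃ s ∈ (P : Subgroup G), s ≠ 1 := by
  haveI : Nontrivial (P : Subgroup G) := by
    rw [← Finite.one_lt_card_iff_nontrivial]; have := hq P; omega
  obtain ⟨s, hs⟩ := exists_ne (1 : (P : Subgroup G))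
  exact ⟨s.1, s.2, fun h => hs (Subtype.ext h)⟩

theorem card_nonid (H : Subgroup G) :
    Nat.card {x : G // x ∈ H ∧ x ≠ 1} = Nat.card H - 1 := by
  classical
  have e : {x : G // x ∈ H ∧ x ≠ 1} ≃ {y : H // y ≠ 1} :=
    { toFun := fun x => ⟨⟨x.1, x.2.1⟩, fun h => x.2.2 (congrArg Subtype.val h)⟩
      invFun := fun y => ⟨y.1.1, y.1.2, fun h => y.2 (Subtype.ext h)⟩
      left_inv := fun x => rfl
      right_inv := fun y => rfl }
  rw [Nat.card_congr e]
  have e2 := Nat.card_congr (Equiv.optionSubtypeNe (1 : H))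
  rw [Finite.card_option] at e2
  omega

theorem card_sylow_eq (P Q : Sylow 2 G) :
    Nat.card (P : Subgroup G) = Nat.card (Q : Subgroup G) := by
  rw [Sylow.card_eq_multiplicity, Sylow.card_eq_multiplicity]

/-- conjugation of a fixed nontrivial element of `P` by the two-point stabilizer -/
def conjMap {P Q : Sylow 2 G} {s : G} (hs : s ∈ (P : Subgroup G)) (hs1 : s ≠ 1) :
    {d : G // d • P = P ∧ d • Q = Q} → {x : G // x ∈ (P : Subgroup G) ∧ x ≠ 1} :=
  fun d => ⟨d.1 * s * d.1⁻¹, conj_mem_of_fix P d.2.1 hs, fun h => hs1 (conj_eq_one_iff.1 h)⟩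

theorem conjMap_injective (hC : Hyp G) (hq : ∀ P : Sylow 2 G, 4 ≤ Nat.card (P : Subgroup G))
    {P Q : Sylow 2 G} (hPQ : P ≠ Q) {s : G} (hs : s ∈ (P : Subgroup G)) (hs1 : s ≠ 1) :
    Function.Injective (conjMap (Q := Q) hs hs1) := by
  intro d e hde
  have h1 : d.1 * s * d.1⁻¹ = e.1 * s * e.1⁻¹ :=
    congrArg (fun t : {x : G // x ∈ (P : Subgroup G) ∧ x ≠ 1} => (t : G)) hde
  have hc : (e.1⁻¹ * d.1) * s = s * (e.1⁻¹ * d.1) := by
    calc (e.1⁻¹ * d.1) * s = e.1⁻¹ * (d.1 * s * d.1⁻¹) * d.1 := by group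
      _ = e.1⁻¹ * (e.1 * s * e.1⁻¹) * d.1 := by rw [h1]
      _ = s * (e.1⁻¹ * d.1) := by group
  have hcP : e.1⁻¹ * d.1 ∈ (P : Subgroup G) := mem_of_comm hC hq P hs hs1 hc
  have hfixQ : (e.1⁻¹ * d.1) • Q = Q := mul_fix (inv_fix e.2.2) d.2.2
  have h1' : e.1⁻¹ * d.1 = 1 :=
    ti hC hq hPQ hcP (mem_of_fix Q (sq_eq_one hC hq P hcP) hfixQ)
  apply Subtype.ext
  exact (inv_mul_eq_one.1 h1').symm

theorem card_fix_le (hC : Hyp G) (hq : ∀ P : Sylow 2 G, 4 ≤ Nat.card (P : Subgroup G))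
    {P Q : Sylow 2 G} (hPQ : P ≠ Q) :
    Nat.card {d : G // d • P = P ∧ d • Q = Q} ≤ Nat.card (P : Subgroup G) - 1 := by
  obtain ⟨s, hs, hs1⟩ := exists_ne_one hq P
  rw [← card_nonid]
  exact Nat.card_le_card_of_injective _ (conjMap_injective hC hq hPQ hs hs1)

theorem swap_back {P Q : Sylow 2 G} {t : G} (ht : orderOf t = 2) (h : t • P = Q) : t • Q = P := by
  calc t • Q = t • (t • P) := by rw [h]
    _ = (t ^ 2) • P := by rw [pow_two, mul_smul]
    _ = P := by rw [sq_of_orderOf ht, one_smul]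

/-- `t ↦ t₀ * t` from the involutions swapping `P` and `Q` to the two-point stabilizer -/
def swapMap {P Q : Sylow 2 G} (t₀ : G) (h₀ : orderOf t₀ = 2) (h₀' : t₀ • P = Q) :
    {t : G // orderOf t = 2 ∧ t • P = Q} → {d : G // d • P = P ∧ d • Q = Q} :=
  fun t => ⟨t₀ * t.1, by rw [mul_smul, t.2.2, swap_back h₀ h₀'],
    by rw [mul_smul, swap_back t.2.1 t.2.2, h₀']⟩

theorem swapMap_injective {P Q : Sylow 2 G} (t₀ : G) (h₀ : orderOf t₀ = 2) (h₀' : t₀ • P = Q) :
    Function.Injective (swapMap t₀ h₀ h₀') := by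
  intro t u htu
  have h1 : t₀ * t.1 = t₀ * u.1 :=
    congrArg (fun x : {d : G // d • P = P ∧ d • Q = Q} => (x : G)) htu
  exact Subtype.ext (mul_left_cancel h1)

theorem card_swap_le_fix {P Q : Sylow 2 G} :
    Nat.card {t : G // orderOf t = 2 ∧ t • P = Q} ≤ Nat.card {d : G // d • P = P ∧ d • Q = Q} := by
  by_cases hne : Nonempty {t : G // orderOf t = 2 ∧ t • P = Q}
  · obtain ⟨t₀⟩ := hne
    exact Nat.card_le_card_of_injective _ (swapMap_injective t₀.1 t₀.2.1 t₀.2.2)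
  · rw [not_nonempty_iff] at hne
    rw [Nat.card_of_isEmpty]; exact Nat.zero_le _

theorem card_swap_le (hC : Hyp G) (hq : ∀ P : Sylow 2 G, 4 ≤ Nat.card (P : Subgroup G))
    {P Q : Sylow 2 G} (hPQ : P ≠ Q) :
    Nat.card {t : G // orderOf t = 2 ∧ t • P = Q} ≤ Nat.card (P : Subgroup G) - 1 :=
  card_swap_le_fix.trans (card_fix_le hC hq hPQ)

/-- the involutions outside `P` -/
abbrev Inv (P : Sylow 2 G) : Type _ := {t : G // orderOf t = 2 ∧ t • P ≠ P}

/-- involutions outside `P`, sorted by the Sylow subgroup containing them -/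
def phi₁ (hC : Hyp G) (hq : ∀ P : Sylow 2 G, 4 ≤ Nat.card (P : Subgroup G)) (P : Sylow 2 G) :
    (Σ Q : {Q : Sylow 2 G // Q ≠ P}, {x : G // x ∈ (Q.1 : Subgroup G) ∧ x ≠ 1}) → Inv P :=
  fun z => ⟨z.2.1, orderOf_eq_prime (sq_eq_one hC hq z.1.1 z.2.2.1) z.2.2.2, fun h =>
    z.2.2.2 (ti hC hq z.1.2 z.2.2.1 (mem_of_fix P (sq_eq_one hC hq z.1.1 z.2.2.1) h))⟩

theorem phi₁_bijective (hC : Hyp G) (hq : ∀ P : Sylow 2 G, 4 ≤ Nat.card (P : Subgroup G))
    (P : Sylow 2 G) : Function.Bijective (phi₁ hC hq P) := by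
  constructor
  · rintro ⟨Q, x⟩ ⟨Q', x'⟩ h
    have hval : x.1 = x'.1 := congrArg (fun t : Inv P => (t : G)) h
    have hQ : Q = Q' := by
      by_contra hne
      have hne' : Q.1 ≠ Q'.1 := fun h => hne (Subtype.ext h)
      have hx' : x.1 ∈ (Q'.1 : Subgroup G) := by rw [hval]; exact x'.2.1
      exact x.2.2 (ti hC hq hne' x.2.1 hx')
    subst hQ
    have : x = x' := Subtype.ext hval
    rw [this]
  · rintro ⟨t, ht2, htP⟩
    obtain ⟨Q, hQ⟩ := exists_sylow (sq_of_orderOf ht2)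
    have hQP : Q ≠ P := by
      rintro rfl
      exact htP (fix_of_mem Q hQ)
    exact ⟨⟨⟨Q, hQP⟩, ⟨t, hQ, ne_one_of_orderOf ht2⟩⟩, rfl⟩

/-- involutions outside `P`, sorted by the image of `P` -/
def phi₂ (P : Sylow 2 G) :
    (Σ Q : {Q : Sylow 2 G // Q ≠ P}, {t : G // orderOf t = 2 ∧ t • P = Q.1}) → Inv P :=
  fun z => ⟨z.2.1, z.2.2.1, by rw [z.2.2.2]; exact z.1.2⟩

theorem phi₂_bijective (P : Sylow 2 G) : Function.Bijective (phi₂ P) := by
  constructor
  · rintro ⟨Q, x⟩ ⟨Q', x'⟩ h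
    have hval : x.1 = x'.1 := congrArg (fun t : Inv P => (t : G)) h
    have hQ : Q = Q' := by
      apply Subtype.ext
      rw [← x.2.2, ← x'.2.2, hval]
    subst hQ
    have : x = x' := Subtype.ext hval
    rw [this]
  · rintro ⟨t, ht2, htP⟩
    exact ⟨⟨⟨t • P, htP⟩, ⟨t, ht2, rfl⟩⟩, rfl⟩

/-- for `Q ≠ P` exactly `|P| - 1` involutions map `P` to `Q` -/
theorem card_swap (hC : Hyp G) (hq : ∀ P : Sylow 2 G, 4 ≤ Nat.card (P : Subgroup G))
    {P Q : Sylow 2 G} (hPQ : Q ≠ P) :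
    Nat.card {t : G // orderOf t = 2 ∧ t • P = Q} = Nat.card (P : Subgroup G) - 1 := by
  classical
  haveI : Fintype {Q : Sylow 2 G // Q ≠ P} := Fintype.ofFinite _
  have h1 : Nat.card (Inv P) = ∑ Q : {Q : Sylow 2 G // Q ≠ P}, (Nat.card (P : Subgroup G) - 1) := by
    rw [← Nat.card_congr (Equiv.ofBijective _ (phi₁_bijective hC hq P)), Nat.card_sigma]
    apply Finset.sum_congr rfl
    intro Q _
    rw [card_nonid, card_sylow_eq Q.1 P]
  have h2 : Nat.card (Inv P) = ∑ Q : {Q : Sylow 2 G // Q ≠ P},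
      Nat.card {t : G // orderOf t = 2 ∧ t • P = Q.1} := by
    rw [← Nat.card_congr (Equiv.ofBijective _ (phi₂_bijective P)), Nat.card_sigma]
  have h3 := (Finset.sum_eq_sum_iff_of_le (s := Finset.univ)
    (f := fun Q : {Q : Sylow 2 G // Q ≠ P} => Nat.card {t : G // orderOf t = 2 ∧ t • P = Q.1})
    (g := fun _ => Nat.card (P : Subgroup G) - 1)
    (fun Q _ => card_swap_le hC hq (Ne.symm Q.2))).1 (by rw [← h1, ← h2])
  exact h3 ⟨Q, hPQ⟩ (Finset.mem_univ _)

end Syl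

end Cfsg.Agent.Lib.Helper2.CIT
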