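import Mathlib
import Cfsg.Agent.Lib.Helper2.CITa

/-!
# Groups in which involution centralizers are elementary abelian 2-groups, part 2 (helper2)

The action on the Sylow 2-subgroups is sharply triply transitive.
-/

set_option autoImplicit false
set_option maxHeartbeats 1000000

namespace Cfsg.Agent.Lib.Helper2.CIT

section Syl
variable {G : Type*} [Group G] [Finite G]

theorem card_fix (hC : Hyp G) (hq : ∀ P : Sylow 2 G, 4 ≤ Nat.card (P : Subgroup G))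
    {P Q : Sylow 2 G} (hPQ : P ≠ Q) :
    Nat.card {d : G // d • P = P ∧ d • Q = Q} = Nat.card (P : Subgroup G) - 1 := by
  apply le_antisymm (card_fix_le hC hq hPQ)
  rw [← card_swap hC hq (Ne.symm hPQ)]
  exact card_swap_le_fix

/-- an involution swapping `P` and `Q` that inverts the two-point stabilizer -/
theorem exists_swap (hC : Hyp G) (hq : ∀ P : Sylow 2 G, 4 ≤ Nat.card (P : Subgroup G))
    {P Q : Sylow 2 G} (hPQ : P ≠ Q) :
    ∃ t₀ : G, orderOf t₀ = 2 ∧ t₀ • P = Q ∧ t₀ • Q = P ∧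
      ∀ d : G, d • P = P → d • Q = Q → t₀ * d * t₀⁻¹ = d⁻¹ := by
  have hcard := card_swap hC hq (Ne.symm hPQ)
  have hpos : 0 < Nat.card {t : G // orderOf t = 2 ∧ t • P = Q} := by
    rw [hcard]; have := hq P; omega
  obtain ⟨t₀⟩ := (Nat.card_pos_iff.1 hpos).1
  have hbij : Function.Bijective (swapMap t₀.1 t₀.2.1 t₀.2.2) :=
    (swapMap_injective t₀.1 t₀.2.1 t₀.2.2).bijective_of_nat_card_le
      (by rw [card_fix hC hq hPQ, hcard])
  refine ⟨t₀.1, t₀.2.1, t₀.2.2, swap_back t₀.2.1 t₀.2.2, ?_⟩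
  intro d hdP hdQ
  obtain ⟨t, ht⟩ := hbij.2 ⟨d, hdP, hdQ⟩
  have h1 : t₀.1 * t.1 = d :=
    congrArg (fun x : {d : G // d • P = P ∧ d • Q = Q} => (x : G)) ht
  have ht2 : t.1 ^ 2 = 1 := sq_of_orderOf t.2.1
  have ht0 : t₀.1⁻¹ = t₀.1 := inv_eq_self_of_sq (sq_of_orderOf t₀.2.1)
  rw [← h1, mul_inv_rev, inv_eq_self_of_sq ht2, ht0]
  rw [← mul_assoc, ← pow_two, sq_of_orderOf t₀.2.1, one_mul]

theorem exists_conj (hC : Hyp G) (hq : ∀ P : Sylow 2 G, 4 ≤ Nat.card (P : Subgroup G))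
    {P Q : Sylow 2 G} (hPQ : P ≠ Q) {s s' : G} (hs : s ∈ (P : Subgroup G)) (hs1 : s ≠ 1)
    (hs' : s' ∈ (P : Subgroup G)) (hs'1 : s' ≠ 1) :
    ∃ d : G, d • P = P ∧ d • Q = Q ∧ d * s * d⁻¹ = s' := by
  have hbij : Function.Bijective (conjMap (Q := Q) hs hs1) :=
    (conjMap_injective hC hq hPQ hs hs1).bijective_of_nat_card_le
      (by rw [card_fix hC hq hPQ, card_nonid])
  obtain ⟨d, hd⟩ := hbij.2 ⟨s', hs', hs'1⟩
  exact ⟨d.1, d.2.1, d.2.2,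
    congrArg (fun t : {x : G // x ∈ (P : Subgroup G) ∧ x ≠ 1} => (t : G)) hd⟩

theorem exists_decomp (hC : Hyp G) (hq : ∀ P : Sylow 2 G, 4 ≤ Nat.card (P : Subgroup G))
    {P Q : Sylow 2 G} (hPQ : P ≠ Q) {y : G} (hy : y • P = P) :
    ∃ d p : G, d • P = P ∧ d • Q = Q ∧ p ∈ (P : Subgroup G) ∧ y = d * p := by
  obtain ⟨s, hs, hs1⟩ := exists_ne_one hq P
  obtain ⟨d, hdP, hdQ, hd⟩ := exists_conj hC hq hPQ hs hs1 (conj_mem_of_fix P hy hs)
    (fun h => hs1 (conj_eq_one_iff.1 h))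
  refine ⟨d, d⁻¹ * y, hdP, hdQ, ?_, by group⟩
  apply mem_of_comm hC hq P hs hs1
  calc (d⁻¹ * y) * s = d⁻¹ * (y * s * y⁻¹) * y := by group
    _ = d⁻¹ * (d * s * d⁻¹) * y := by rw [hd]
    _ = s * (d⁻¹ * y) := by group

theorem fix_comm (hC : Hyp G) (hq : ∀ P : Sylow 2 G, 4 ≤ Nat.card (P : Subgroup G))
    {P Q : Sylow 2 G} (hPQ : P ≠ Q) {d e : G} (hdP : d • P = P) (hdQ : d • Q = Q)
    (heP : e • P = P) (heQ : e • Q = Q) : d * e = e * d := by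
  obtain ⟨t, -, -, -, ht⟩ := exists_swap hC hq hPQ
  have h1 := ht d hdP hdQ
  have h2 := ht e heP heQ
  have h3 := ht (d * e) (mul_fix hdP heP) (mul_fix hdQ heQ)
  have h4 : t * (d * e) * t⁻¹ = (t * d * t⁻¹) * (t * e * t⁻¹) := by group
  rw [h4, h1, h2, mul_inv_rev] at h3
  have h5 : (d⁻¹ * e⁻¹)⁻¹ = (e⁻¹ * d⁻¹)⁻¹ := by rw [h3]
  simp only [mul_inv_rev, inv_inv] at h5
  exact h5.symm

/-- only the identity fixes three Sylow 2-subgroups -/
theorem eq_one_of_three_fixed (hC : Hyp G)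
    (hq : ∀ P : Sylow 2 G, 4 ≤ Nat.card (P : Subgroup G)) {a b c : Sylow 2 G} (hab : a ≠ b)
    (hac : a ≠ c) (hbc : b ≠ c) {k : G} (ha : k • a = a) (hb : k • b = b) (hc : k • c = c) :
    k = 1 := by
  obtain ⟨t, ht2, htab, htba, ht⟩ := exists_swap hC hq hab
  obtain ⟨s, hs2, hsac, hsca, hs⟩ := exists_swap hC hq hac
  obtain ⟨r, hr2, hrbc, hrcb, hr⟩ := exists_swap hC hq hbc
  have h1 := ht k ha hb
  have h2 := hs k ha hc
  have h3 := hr k hb hc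
  have hyb : (r * s * t) • b = b := by rw [mul_smul, mul_smul, htba, hsac, hrcb]
  have hyk : (r * s * t) * k * (r * s * t)⁻¹ = k⁻¹ := by
    have h2' : s * k⁻¹ * s⁻¹ = k := by
      calc s * k⁻¹ * s⁻¹ = (s * k * s⁻¹)⁻¹ := by group
        _ = k⁻¹⁻¹ := by rw [h2]
        _ = k := inv_inv k
    calc (r * s * t) * k * (r * s * t)⁻¹ = r * (s * (t * k * t⁻¹) * s⁻¹) * r⁻¹ := by group
      _ = r * (s * k⁻¹ * s⁻¹) * r⁻¹ := by rw [h1]
      _ = r * k * r⁻¹ := by rw [h2']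
      _ = k⁻¹ := h3
  obtain ⟨d, p, hdb, hda, hp, hy⟩ := exists_decomp hC hq (Ne.symm hab) hyb
  have hdk : d * k = k * d := fix_comm hC hq (Ne.symm hab) hdb hda hb ha
  have hpk : p * k * p⁻¹ = k⁻¹ := by
    have h : d * (p * k * p⁻¹) * d⁻¹ = k⁻¹ := by
      rw [← hyk, hy]; group
    have hdk' : d⁻¹ * k⁻¹ * d = k⁻¹ := by
      have h' : k⁻¹ * d = d * k⁻¹ := by
        calc k⁻¹ * d = k⁻¹ * (d * k) * k⁻¹ := by group
          _ = k⁻¹ * (k * d) * k⁻¹ := by rw [hdk]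
          _ = d * k⁻¹ := by group
      calc d⁻¹ * k⁻¹ * d = d⁻¹ * (k⁻¹ * d) := by group
        _ = d⁻¹ * (d * k⁻¹) := by rw [h']
        _ = k⁻¹ := by group
    calc p * k * p⁻¹ = d⁻¹ * (d * (p * k * p⁻¹) * d⁻¹) * d := by group
      _ = d⁻¹ * k⁻¹ * d := by rw [h]
      _ = k⁻¹ := hdk'
  have hmem : k⁻¹ * k⁻¹ ∈ (b : Subgroup G) := by
    have h5 : p * (k * p⁻¹ * k⁻¹) ∈ (b : Subgroup G) :=
      Subgroup.mul_mem _ hp (conj_mem_of_fix b hb (Subgroup.inv_mem _ hp))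
    have h6 : p * (k * p⁻¹ * k⁻¹) = k⁻¹ * k⁻¹ := by
      calc p * (k * p⁻¹ * k⁻¹) = (p * k * p⁻¹) * k⁻¹ := by group
        _ = k⁻¹ * k⁻¹ := by rw [hpk]
    rwa [h6] at h5
  have hfa : (k⁻¹ * k⁻¹) • a = a := mul_fix (inv_fix ha) (inv_fix ha)
  have hsq : k⁻¹ * k⁻¹ = 1 :=
    ti hC hq hab (mem_of_fix a (sq_eq_one hC hq b hmem) hfa) hmem
  have hk2 : k ^ 2 = 1 := by
    have h : (k⁻¹ * k⁻¹)⁻¹ = 1 := by rw [hsq, inv_one]
    rw [mul_inv_rev, inv_inv] at h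
    rw [pow_two]; exact h
  exact eq_one_of_fix_two hC hq hab hk2 ha hb

/-- an element `d * p` of the normalizer of `T` outside `T` is conjugate under `T` to `d` -/
theorem exists_conj_eq (hC : Hyp G) (hq : ∀ P : Sylow 2 G, 4 ≤ Nat.card (P : Subgroup G))
    {T Q : Sylow 2 G} (hTQ : T ≠ Q) {d p : G} (hdT : d • T = T) (hdQ : d • Q = Q) (hd1 : d ≠ 1)
    (hp : p ∈ (T : Subgroup G)) : ∃ x ∈ (T : Subgroup G), x⁻¹ * (d * p) * x = d := by
  let ψ : ↥(T : Subgroup G) → ↥(T : Subgroup G) := fun x =>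
    ⟨(d⁻¹ * x.1 * d) * x.1⁻¹, Subgroup.mul_mem _ (by
        have := conj_mem_of_fix T (inv_fix hdT) x.2
        rwa [inv_inv] at this) (Subgroup.inv_mem _ x.2)⟩
  have hinj : Function.Injective ψ := by
    intro x x' h
    have h1 : (d⁻¹ * x.1 * d) * x.1⁻¹ = (d⁻¹ * x'.1 * d) * x'.1⁻¹ := congrArg Subtype.val h
    have hz : d * (x'.1⁻¹ * x.1) = (x'.1⁻¹ * x.1) * d := by
      have h2 : d⁻¹ * (x'.1⁻¹ * x.1) * d = x'.1⁻¹ * x.1 := by
        calc d⁻¹ * (x'.1⁻¹ * x.1) * d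
            = (d⁻¹ * x'.1 * d)⁻¹ * ((d⁻¹ * x.1 * d) * x.1⁻¹) * x.1 := by group
          _ = (d⁻¹ * x'.1 * d)⁻¹ * ((d⁻¹ * x'.1 * d) * x'.1⁻¹) * x.1 := by rw [h1]
          _ = x'.1⁻¹ * x.1 := by group
      calc d * (x'.1⁻¹ * x.1) = d * (d⁻¹ * (x'.1⁻¹ * x.1) * d) := by rw [h2]
        _ = (x'.1⁻¹ * x.1) * d := by group
    have hzT : x'.1⁻¹ * x.1 ∈ (T : Subgroup G) :=
      Subgroup.mul_mem _ (Subgroup.inv_mem _ x'.2) x.2
    by_contra hne
    have hz1 : x'.1⁻¹ * x.1 ≠ 1 := by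
      intro h0
      apply hne
      apply Subtype.ext
      exact (inv_mul_eq_one.1 h0).symm
    have hdmem : d ∈ (T : Subgroup G) := mem_of_comm hC hq T hzT hz1 hz
    exact hd1 (eq_one_of_fix_two hC hq hTQ (sq_eq_one hC hq T hdmem) hdT hdQ)
  obtain ⟨x, hx⟩ := (Finite.injective_iff_surjective.1 hinj) ⟨p, hp⟩
  have h1 : (d⁻¹ * x.1 * d) * x.1⁻¹ = p := congrArg Subtype.val hx
  refine ⟨x.1, x.2, ?_⟩
  rw [← h1]; group

/-- a Sylow 2-subgroup is transitive on the others -/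
theorem exists_mem_smul_eq (hC : Hyp G) (hq : ∀ P : Sylow 2 G, 4 ≤ Nat.card (P : Subgroup G))
    {T Q R : Sylow 2 G} (hQ : Q ≠ T) (hR : R ≠ T) : ∃ x ∈ (T : Subgroup G), x • Q = R := by
  by_cases hQR : Q = R
  · exact ⟨1, Subgroup.one_mem _, by rw [one_smul, hQR]⟩
  have hcard := card_fix hC hq (Ne.symm hR)
  haveI : Nontrivial {d : G // d • T = T ∧ d • R = R} := by
    rw [← Finite.one_lt_card_iff_nontrivial, hcard]; have := hq T; omega
  obtain ⟨k', hk'⟩ :=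
    exists_ne (⟨1, one_smul _ _, one_smul _ _⟩ : {d : G // d • T = T ∧ d • R = R})
  have hk'1 : k'.1 ≠ 1 := fun h => hk' (Subtype.ext h)
  obtain ⟨d, p, hdT, hdQ, hp, hk'dp⟩ := exists_decomp hC hq (Ne.symm hQ) k'.2.1
  have hd1 : d ≠ 1 := by
    intro hd
    have hk'p : k'.1 = p := by rw [hk'dp, hd, one_mul]
    have hk'T : k'.1 ∈ (T : Subgroup G) := by rw [hk'p]; exact hp
    exact hk'1 (eq_one_of_fix_two hC hq (Ne.symm hR) (sq_eq_one hC hq T hk'T) k'.2.1 k'.2.2)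
  obtain ⟨x, hx, hxd⟩ := exists_conj_eq hC hq (Ne.symm hQ) hdT hdQ hd1 hp
  have hfix : d • (x⁻¹ • R) = x⁻¹ • R := by
    calc d • (x⁻¹ • R) = (x⁻¹ * (d * p) * x) • (x⁻¹ • R) := by rw [hxd]
      _ = x⁻¹ • ((d * p) • R) := by simp only [mul_smul, smul_inv_smul]
      _ = x⁻¹ • R := by rw [← hk'dp, k'.2.2]
  have hTR' : T ≠ x⁻¹ • R := by
    intro h
    apply hR
    have h' : x • T = R := by rw [h, smul_inv_smul]
    rw [← h', fix_of_mem T hx]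
  have hQR' : Q = x⁻¹ • R := by
    by_contra hne
    exact hd1 (eq_one_of_three_fixed hC hq (Ne.symm hQ) hTR' hne hdT hdQ hfix)
  exact ⟨x, hx, by rw [hQR', smul_inv_smul]⟩

/-- the two-point stabilizer is transitive on the remaining points -/
theorem exists_fix_smul_eq (hC : Hyp G) (hq : ∀ P : Sylow 2 G, 4 ≤ Nat.card (P : Subgroup G))
    {T Q R R' : Sylow 2 G} (hQ : Q ≠ T) (hRT : R ≠ T) (hRQ : R ≠ Q) (hR'T : R' ≠ T)
    (hR'Q : R' ≠ Q) : ∃ d : G, d • T = T ∧ d • Q = Q ∧ d • R = R' := by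
  obtain ⟨x, hx, hxR⟩ := exists_mem_smul_eq hC hq hQ hRT
  obtain ⟨x', hx', hxR'⟩ := exists_mem_smul_eq hC hq hQ hR'T
  have hx1 : x ≠ 1 := by
    rintro rfl; rw [one_smul] at hxR; exact hRQ hxR.symm
  have hx'1 : x' ≠ 1 := by
    rintro rfl; rw [one_smul] at hxR'; exact hR'Q hxR'.symm
  obtain ⟨d, hdT, hdQ, hd⟩ := exists_conj hC hq (Ne.symm hQ) hx hx1 hx' hx'1
  refine ⟨d, hdT, hdQ, ?_⟩
  calc d • R = d • (x • Q) := by rw [hxR]
    _ = (d * x * d⁻¹) • (d • Q) := by simp only [mul_smul, inv_smul_smul]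
    _ = R' := by rw [hd, hdQ, hxR']

theorem exists_smul_three (hC : Hyp G) (hq : ∀ P : Sylow 2 G, 4 ≤ Nat.card (P : Subgroup G))
    {a b c a' b' c' : Sylow 2 G} (hab : a ≠ b) (hac : a ≠ c) (hbc : b ≠ c) (hab' : a' ≠ b')
    (hac' : a' ≠ c') (hbc' : b' ≠ c') : ∃ g : G, g • a = a' ∧ g • b = b' ∧ g • c = c' := by
  obtain ⟨g₁, hg₁⟩ := MulAction.exists_smul_eq G a a'
  have hb₁ : g₁ • b ≠ a' := by
    rw [← hg₁]; intro h; exact hab (smul_left_cancel g₁ h).symm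
  have hc₁ : g₁ • c ≠ a' := by
    rw [← hg₁]; intro h; exact hac (smul_left_cancel g₁ h).symm
  have hbc₁ : g₁ • b ≠ g₁ • c := fun h => hbc (smul_left_cancel g₁ h)
  obtain ⟨x, hx, hxb⟩ := exists_mem_smul_eq hC hq hb₁ (Ne.symm hab')
  have hxa : x • a' = a' := fix_of_mem a' hx
  have hc₂a : x • g₁ • c ≠ a' := by
    intro h; apply hc₁; rw [← hxa] at h; exact smul_left_cancel x h
  have hc₂b : x • g₁ • c ≠ b' := by
    intro h; apply hbc₁; rw [← hxb] at h; exact (smul_left_cancel x h).symm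
  obtain ⟨d, hda, hdb, hdc⟩ :=
    exists_fix_smul_eq hC hq (Ne.symm hab') hc₂a hc₂b (Ne.symm hac') (Ne.symm hbc')
  refine ⟨d * x * g₁, ?_, ?_, ?_⟩
  · rw [mul_smul, mul_smul, hg₁, hxa, hda]
  · rw [mul_smul, mul_smul, hxb, hdb]
  · rw [mul_smul, mul_smul, hdc]

theorem three_pretransitive (hC : Hyp G)
    (hq : ∀ P : Sylow 2 G, 4 ≤ Nat.card (P : Subgroup G)) :
    MulAction.IsMultiplyPretransitive G (Sylow 2 G) 3 := by
  constructor
  intro x y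
  obtain ⟨g, h0, h1, h2⟩ := exists_smul_three hC hq (a := x 0) (b := x 1) (c := x 2)
    (a' := y 0) (b' := y 1) (c' := y 2) (x.injective.ne (by decide))
    (x.injective.ne (by decide)) (x.injective.ne (by decide)) (y.injective.ne (by decide))
    (y.injective.ne (by decide)) (y.injective.ne (by decide))
  refine ⟨g, ?_⟩
  apply Function.Embedding.ext
  intro i
  rw [Function.Embedding.smul_apply]
  fin_cases i
  · exact h0
  · exact h1
  · exact h2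

theorem stabilizer_emb_eq_bot (hC : Hyp G)
    (hq : ∀ P : Sylow 2 G, 4 ≤ Nat.card (P : Subgroup G)) (x : Fin 3 ↪ Sylow 2 G) :
    MulAction.stabilizer G x = ⊥ := by
  rw [Subgroup.eq_bot_iff_forall]
  intro g hg
  have hgx : ∀ i, g • x i = x i := by
    intro i
    have := DFunLike.congr_fun (MulAction.mem_stabilizer_iff.mp hg) i
    exact this
  exact eq_one_of_three_fixed hC hq (x.injective.ne (by decide))
    (x.injective.ne (by decide)) (x.injective.ne (by decide)) (hgx 0) (hgx 1) (hgx 2)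

theorem card_sylow (hC : Hyp G) (hq : ∀ P : Sylow 2 G, 4 ≤ Nat.card (P : Subgroup G))
    (T : Sylow 2 G) (hT : ∃ Q : Sylow 2 G, Q ≠ T) :
    Nat.card (Sylow 2 G) = Nat.card (T : Subgroup G) + 1 := by
  classical
  obtain ⟨Q₀, hQ₀⟩ := hT
  let f : ↥(T : Subgroup G) → {Q : Sylow 2 G // Q ≠ T} := fun x => ⟨x.1 • Q₀, fun h => hQ₀ (by
      rw [← inv_fix (fix_of_mem T x.2), eq_inv_smul_iff]; exact h)⟩
  have hinj : Function.Injective f := by
    intro x y hxy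
    have h1 : x.1 • Q₀ = y.1 • Q₀ :=
      congrArg (fun z : {Q : Sylow 2 G // Q ≠ T} => (z : Sylow 2 G)) hxy
    have h2 : (y.1⁻¹ * x.1) • Q₀ = Q₀ := by rw [mul_smul, h1, inv_smul_smul]
    have hm : y.1⁻¹ * x.1 ∈ (T : Subgroup G) :=
      Subgroup.mul_mem _ (Subgroup.inv_mem _ y.2) x.2
    have h3 := eq_one_of_fix_two hC hq (Ne.symm hQ₀) (sq_eq_one hC hq T hm) (fix_of_mem T hm) h2
    apply Subtype.ext
    exact (inv_mul_eq_one.1 h3).symm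
  have hsurj : Function.Surjective f := by
    rintro ⟨R, hR⟩
    obtain ⟨x, hx, hxR⟩ := exists_mem_smul_eq hC hq hQ₀ hR
    exact ⟨⟨x, hx⟩, Subtype.ext hxR⟩
  have hc : Nat.card (T : Subgroup G) = Nat.card {Q : Sylow 2 G // Q ≠ T} :=
    Nat.card_congr (Equiv.ofBijective f ⟨hinj, hsurj⟩)
  have e := Nat.card_congr (Equiv.optionSubtypeNe T)
  rw [Finite.card_option] at e
  omega

end Syl

end Cfsg.Agent.Lib.Helper2.CIT
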