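import Mathlib
import Cfsg.Agent.Lib.Helper2.CITb
import Cfsg.Agent.Lib.Helper2.Order504c
import Cfsg.Agent.Lib.Helper16.Sharp3

/-!
# Groups in which involution centralizers are elementary abelian 2-groups, part 3 (helper2)

Such a group with a noncyclic nonnormal Sylow 2-subgroup `T` is `PSL(2, F)` with `|F| = |T|`
(Burnside; the identification is `Cfsg.Agent.Lib.Helper16.Sharp3.main`).
-/

set_option autoImplicit false
set_option maxHeartbeats 1000000

namespace Cfsg.Agent.Lib.Helper2.CIT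

theorem two_eq_zero_of_card {F : Type*} [Field F] [Fintype F] {k : ℕ} (hk : k ≠ 0)
    (hF : Fintype.card F = 2 ^ k) : (2 : F) = 0 := by
  have h8 : ((Fintype.card F : ℕ) : F) = 0 := Nat.cast_card_eq_zero F
  rw [hF] at h8
  have h3 : (2 : F) ^ k = 0 := by
    have e : ((2 ^ k : ℕ) : F) = (2 : F) ^ k := by norm_num
    rw [← e]
    exact h8
  exact (pow_eq_zero_iff hk).1 h3

theorem main {G : Type*} [Group G] [Finite G] (T : Sylow 2 G)
    (hnc : ¬ IsCyclic (T : Subgroup G)) (hnn : ¬ (T : Subgroup G).Normal) (hC : Hyp G) :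
    ∃ (F : Type) (_ : Field F) (_ : Fintype F), Fintype.card F = Nat.card (T : Subgroup G) ∧
      Nonempty (G ≃* Matrix.ProjectiveSpecialLinearGroup (Fin 2) F) := by
  classical
  haveI : Fintype (Sylow 2 G) := Fintype.ofFinite _
  obtain ⟨k, hk⟩ : ∃ k, Nat.card (T : Subgroup G) = 2 ^ k := ⟨_, Sylow.card_eq_multiplicity T⟩
  have hk2 : 2 ≤ k := by
    by_contra hlt
    apply hnc
    have hk01 : k = 0 ∨ k = 1 := by omega
    rcases hk01 with rfl | rfl
    · rw [pow_zero] at hk
      haveI : Subsingleton (T : Subgroup G) := (Nat.card_eq_one_iff_unique.1 hk).1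
      exact isCyclic_of_subsingleton
    · rw [pow_one] at hk
      exact isCyclic_of_prime_card hk
  have h4 : 4 ≤ Nat.card (T : Subgroup G) := by
    rw [hk]
    calc 4 = 2 ^ 2 := by norm_num
      _ ≤ 2 ^ k := Nat.pow_le_pow_right (by norm_num) hk2
  have hq : ∀ P : Sylow 2 G, 4 ≤ Nat.card (P : Subgroup G) := by
    intro P
    rw [card_sylow_eq P T]
    exact h4
  have hT : ∃ Q : Sylow 2 G, Q ≠ T := by
    by_contra hall
    push Not at hall
    apply hnn
    rw [← Subgroup.normalizer_eq_top_iff, eq_top_iff]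
    intro g _
    have hg : g • T = T := hall (g • T)
    exact Sylow.smul_eq_iff_mem_normalizer.1 hg
  have hcard : Fintype.card (Sylow 2 G) = 2 ^ k + 1 := by
    rw [← Nat.card_eq_fintype_card, card_sylow hC hq T hT, hk]
  have hkpos : 0 < 2 ^ k := by positivity
  have heven : Even (2 ^ k) := by
    rw [Nat.even_pow]
    exact ⟨even_two, by omega⟩
  obtain ⟨F, iF, iFt, hc, ⟨e1⟩⟩ := Cfsg.Agent.Lib.Helper16.Sharp3.main (Γ := G)
    (α := Sylow 2 G) (three_pretransitive hC hq) (stabilizer_emb_eq_bot hC hq)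
    (by rw [hcard]; exact heven.add_one)
    (by rw [hcard]
        have : 4 ≤ 2 ^ k := by
          calc 4 = 2 ^ 2 := by norm_num
            _ ≤ 2 ^ k := Nat.pow_le_pow_right (by norm_num) hk2
        omega)
  have hcF : Fintype.card F = 2 ^ k := by
    rw [hcard] at hc
    omega
  have h2 : (2 : F) = 0 := two_eq_zero_of_card (by omega) hcF
  obtain ⟨e2⟩ := Cfsg.Agent.Lib.Helper16.Sharp3.sl_equiv_pgl (F := F) h2
  let e4 : Matrix.ProjectiveSpecialLinearGroup (Fin 2) F ≃*
      Matrix.SpecialLinearGroup (Fin 2) F :=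
    (QuotientGroup.quotientMulEquivOfEq
      (Cfsg.Agent.Lib.Helper2.O504.center_sl_eq_bot h2)).trans QuotientGroup.quotientBot
  exact ⟨F, iF, iFt, by rw [hcF, hk], ⟨e1.trans (e2.symm.trans e4.symm)⟩⟩

end Cfsg.Agent.Lib.Helper2.CIT
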