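import Mathlib
import Cfsg.Prelude.Def_SolvableStructure
import Cfsg.Agent.Lib.Helper2.SchurZassenhaus2
import Cfsg.Agent.Lib.Helper2.NilpotentBasic
import Cfsg.Agent.Lib.Helper13.SZConjB
import Cfsg.Agent.S0553

/-!
Carter subgroups of finite solvable groups: conjugacy and existence (helper2).
-/

set_option autoImplicit false

namespace Cfsg.Agent.Lib.Helper2

open Cfsg
open Cfsg.Agent.Lib.Helper13
open scoped Pointwise

universe u

section basic
variable {G : Type*} [Group G]

theorem normalizer_cj (g : G) (H : Subgroup G) :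
    Subgroup.normalizer ((MulAut.conj g • H : Subgroup G) : Set G) =
      MulAut.conj g • Subgroup.normalizer (H : Set G) := by
  ext x
  rw [← cj_eq_self_iff_mem_normalizer, mem_cj, ← cj_eq_self_iff_mem_normalizer]
  constructor
  · intro h
    calc MulAut.conj (g⁻¹ * x * g) • H
        = MulAut.conj g⁻¹ • (MulAut.conj x • (MulAut.conj g • H)) := by rw [cj_mul, cj_mul]
      _ = MulAut.conj g⁻¹ • (MulAut.conj g • H) := by rw [h]
      _ = H := by rw [← cj_mul, inv_mul_cancel, cj_one]
  · intro h
    calc MulAut.conj x • MulAut.conj g • H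
        = MulAut.conj g • (MulAut.conj (g⁻¹ * x * g) • H) := by
          rw [← cj_mul, ← cj_mul]; congr 2; group
      _ = MulAut.conj g • H := by rw [h]

theorem isCarter_cj {C : Subgroup G} (hC : IsCarterSubgroup C) (g : G) :
    IsCarterSubgroup (MulAut.conj g • C) := by
  obtain ⟨hnil, hnorm⟩ := hC
  refine ⟨?_, ?_⟩
  · exact Group.nilpotent_of_mulEquiv (Subgroup.equivSMul (MulAut.conj g) C)
  · rw [normalizer_cj, hnorm]

theorem isCarter_subgroupOf {C M : Subgroup G} (hC : IsCarterSubgroup C) (hCM : C ≤ M) :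
    IsCarterSubgroup (C.subgroupOf M) := by
  obtain ⟨hnil, hnorm⟩ := hC
  refine ⟨?_, ?_⟩
  · exact Group.nilpotent_of_mulEquiv (Subgroup.subgroupOfEquivOfLe hCM).symm
  · rw [← Subgroup.subgroupOf_normalizer_eq hCM, hnorm]

/-- A self-normalizing subgroup of a nilpotent subgroup is the whole subgroup. -/
theorem eq_of_le_of_isNilpotent {A B : Subgroup G} (hA : Group.IsNilpotent A) (hBA : B ≤ A)
    (hB : Subgroup.normalizer (B : Set G) = B) : B = A := by
  have h1 : Subgroup.normalizer ((B.subgroupOf A : Subgroup A) : Set A) = B.subgroupOf A := by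
    rw [← Subgroup.subgroupOf_normalizer_eq hBA, hB]
  have h2 := (normalizerCondition_iff_only_full_group_self_normalizing.mp
    Group.normalizerCondition_of_isNilpotent) _ h1
  exact le_antisymm hBA (Subgroup.subgroupOf_eq_top.mp h2)

theorem cj_of_subgroupOf_cj (M C C' : Subgroup G) (hC : C ≤ M) (hC' : C' ≤ M) (m : M)
    (h : MulAut.conj m • C.subgroupOf M = C'.subgroupOf M) :
    MulAut.conj (m : G) • C = C' := by
  have h1 := congrArg (Subgroup.map M.subtype) h
  rw [map_cj, Subgroup.map_subgroupOf_eq_of_le hC, Subgroup.map_subgroupOf_eq_of_le hC'] at h1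
  exact h1

theorem cj_sup_normal (g : G) (C N : Subgroup G) [N.Normal] :
    MulAut.conj g • (C ⊔ N) = MulAut.conj g • C ⊔ N := by
  rw [Subgroup.smul_sup, cj_normal g N]

end basic

section quotient
variable {G : Type u} [Group G] [Finite G]

/-- The image of a Carter subgroup in a quotient is a Carter subgroup, provided Carter subgroups of
the proper subgroup `C ⊔ N` are conjugate. -/
theorem isCarter_map_of_conj (N : Subgroup G) [N.Normal] (C : Subgroup G)
    (hC : IsCarterSubgroup C)
    (hconj : C ⊔ N ≠ ⊤ → ∀ x ∈ Subgroup.normalizer ((C ⊔ N : Subgroup G) : Set G),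
      ∃ m ∈ C ⊔ N, MulAut.conj m • C = MulAut.conj x • C) :
    IsCarterSubgroup (C.map (QuotientGroup.mk' N)) := by
  obtain ⟨hnil, hnorm⟩ := hC
  have hsurj : Function.Surjective (QuotientGroup.mk' N) := QuotientGroup.mk'_surjective N
  have hmapsup : (C ⊔ N).map (QuotientGroup.mk' N) = C.map (QuotientGroup.mk' N) := by
    rw [Subgroup.map_sup, QuotientGroup.map_mk'_self, sup_bot_eq]
  refine ⟨?_, ?_⟩
  · exact Group.nilpotent_of_surjective _ (MonoidHom.subgroupMap_surjective (QuotientGroup.mk' N) C)
  · apply le_antisymm _ Subgroup.le_normalizer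
    intro xbar hx
    obtain ⟨x, rfl⟩ := hsurj xbar
    have h2 := cj_eq_self_iff_mem_normalizer.mpr hx
    rw [← map_cj] at h2
    have h3 := congrArg (Subgroup.comap (QuotientGroup.mk' N)) h2
    rw [Subgroup.comap_map_eq, Subgroup.comap_map_eq, QuotientGroup.ker_mk', ← cj_sup_normal] at h3
    have hxn : x ∈ Subgroup.normalizer ((C ⊔ N : Subgroup G) : Set G) :=
      cj_eq_self_iff_mem_normalizer.mp h3
    by_cases htop : C ⊔ N = ⊤
    · rw [← hmapsup, htop, Subgroup.map_top_of_surjective _ hsurj]
      exact Subgroup.mem_top _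
    · obtain ⟨m, hm, hmx⟩ := hconj htop x hxn
      have h5 : m⁻¹ * x ∈ C := by
        rw [← hnorm, ← cj_eq_self_iff_mem_normalizer, cj_mul, ← hmx, ← cj_mul, inv_mul_cancel,
          cj_one]
      have h6 : x ∈ C ⊔ N := by
        have : x = m * (m⁻¹ * x) := by group
        rw [this]
        exact Subgroup.mul_mem _ hm (Subgroup.mem_sup_left h5)
      rw [← hmapsup]
      exact Subgroup.mem_map_of_mem _ h6

end quotient

end Cfsg.Agent.Lib.Helper2
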