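import Mathlib
import Cfsg.Prelude.Def_SolvableStructure
import Cfsg.Agent.Lib.Helper2.Carter
import Cfsg.Agent.Lib.Helper2.HallNormal
import Cfsg.Agent.Lib.Helper2.SchurZassenhaus
import Cfsg.Agent.Lib.Helper2.SylowCount
import Cfsg.Agent.Lib.Helper13.Hall2
import Cfsg.Agent.S0045
import Cfsg.Agent.S0543
import Cfsg.Agent.S0544
import Cfsg.Agent.S0545
import Cfsg.Agent.S0547
import Cfsg.Agent.S0568

/-!
Carter subgroups and system normalizers (helper2).
-/

set_option autoImplicit false

namespace Cfsg.Agent.Lib.Helper2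

open Cfsg
open Cfsg.Agent.Lib.Helper13
open scoped Pointwise

universe u

/-- The image of a Carter subgroup of a finite solvable group in a quotient is a Carter
subgroup. -/
theorem isCarter_map {G : Type u} [Group G] [Finite G] [Group.IsSolvable G]
    (N : Subgroup G) [N.Normal] (C : Subgroup G) (hC : IsCarterSubgroup C) :
    IsCarterSubgroup (C.map (QuotientGroup.mk' N)) := by
  apply isCarter_map_of_conj N C hC
  intro _ x hx
  have hCM : C ≤ C ⊔ N := le_sup_left
  have hC'M : MulAut.conj x • C ≤ C ⊔ N := by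
    intro y hy
    rw [mem_cj] at hy
    have h1 : x⁻¹ * y * x ∈ C ⊔ N := hCM hy
    have h2 := (Subgroup.mem_normalizer_iff.mp hx (x⁻¹ * y * x)).mp h1
    have e : x * (x⁻¹ * y * x) * x⁻¹ = y := by group
    rwa [e] at h2
  have hc1 := isCarter_subgroupOf hC hCM
  have hc2 := isCarter_subgroupOf (isCarter_cj hC x) hC'M
  obtain ⟨m, hm⟩ := (Cfsg.Agent.S0045.result (G := ↥(C ⊔ N))).2 _ _ hc1.1 hc1.2 hc2.1 hc2.2
  exact ⟨(m : G), m.2, cj_of_subgroupOf_cj _ _ _ hCM hC'M m hm⟩

/-- A Hall subgroup of a finite nilpotent group is normal. -/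
theorem hall_normal_of_nilpotent {Q : Type*} [Group Q] [Finite Q] [Group.IsNilpotent Q]
    (H : Subgroup Q) (h : (Nat.card H).Coprime H.index) : H.Normal := by
  rw [← Subgroup.normalizer_eq_top_iff]
  apply (normalizerCondition_iff_only_full_group_self_normalizing.mp
    Group.normalizerCondition_of_isNilpotent)
  apply le_antisymm _ Subgroup.le_normalizer
  intro x hx
  set L := Subgroup.normalizer (H : Set Q) with hL
  have hHL : H ≤ L := Subgroup.le_normalizer
  have hH'L : MulAut.conj x • H ≤ L := by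
    intro y hy
    rw [mem_cj] at hy
    have h1 : x⁻¹ * y * x ∈ L := hHL hy
    have h2 := (Subgroup.mem_normalizer_iff.mp hx (x⁻¹ * y * x)).mp h1
    have e : x * (x⁻¹ * y * x) * x⁻¹ = y := by group
    rwa [e] at h2
  haveI hn : (H.subgroupOf L).Normal := Subgroup.normal_in_normalizer
  have hcop : (Nat.card ((MulAut.conj x • H).subgroupOf L)).Coprime (H.subgroupOf L).index := by
    rw [Nat.card_congr (Subgroup.subgroupOfEquivOfLe hH'L).toEquiv, card_cj]
    exact Nat.Coprime.coprime_dvd_right (Subgroup.relIndex_dvd_index_of_le hHL) h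
  have hle := le_of_coprime_index_of_normal (H.subgroupOf L) ((MulAut.conj x • H).subgroupOf L) hcop
  have hle' : MulAut.conj x • H ≤ H := by
    intro y hy
    have := hle (show (⟨y, hH'L hy⟩ : L) ∈ (MulAut.conj x • H).subgroupOf L from
      Subgroup.mem_subgroupOf.mpr hy)
    exact Subgroup.mem_subgroupOf.mp this
  have heq : MulAut.conj x • H = H :=
    Subgroup.eq_of_le_of_card_ge hle' (by rw [card_cj])
  exact cj_eq_self_iff_mem_normalizer.mp heq

section relindex
variable {G : Type*} [Group G]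

theorem relIndex_sup_normal_of_le (X C N : Subgroup G) [N.Normal] (h : N ≤ X) :
    X.relIndex (C ⊔ N) = X.relIndex C := by
  obtain ⟨X', rfl⟩ : ∃ X' : Subgroup (G ⧸ N), X = X'.comap (QuotientGroup.mk' N) :=
    ⟨X.map (QuotientGroup.mk' N), by
      rw [Subgroup.comap_map_eq, QuotientGroup.ker_mk', sup_eq_left.mpr h]⟩
  rw [Subgroup.relIndex_comap, Subgroup.relIndex_comap, Subgroup.map_sup,
    QuotientGroup.map_mk'_self, sup_bot_eq]

theorem relIndex_sup_sup_dvd (H C N : Subgroup G) [N.Normal] :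
    (H ⊔ N).relIndex (C ⊔ N) ∣ H.relIndex C := by
  rw [relIndex_sup_normal_of_le (H ⊔ N) C N le_sup_right]
  exact Subgroup.relIndex_dvd_of_le_left C le_sup_left

theorem index_eq_pow_factorization [Finite G] (p : ℕ) (hp : p.Prime)
    (H : Subgroup G) (hc : (Nat.card H).Coprime p) (k : ℕ) (hk : H.index = p ^ k) :
    H.index = p ^ (Nat.card G).factorization p := by
  have e := Subgroup.card_mul_index H
  rw [hk] at e
  have h1 : (Nat.card G).factorization p = k := by
    rw [← e, Nat.factorization_mul Nat.card_pos.ne' (pow_pos hp.pos k).ne', Nat.factorization_pow,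
      Finsupp.add_apply, Finsupp.smul_apply, hp.factorization_self,
      Nat.factorization_eq_zero_of_not_dvd ((Nat.Prime.coprime_iff_not_dvd hp).mp hc.symm)]
    simp
  rw [h1, hk]

theorem coprime_card_of_isComplementSystem [Finite G] (K : Nat.Primes → Subgroup G)
    (hK : IsComplementSystem K) (p : Nat.Primes) : (Nat.card (K p)).Coprime (p : ℕ) := by
  rw [Cfsg.Agent.S0543.card_of_isComplementSystem K hK p]
  exact (Nat.coprime_ordCompl p.2 Nat.card_pos.ne').symm

theorem isComplementSystem_subgroupOf [Finite G] (K : Nat.Primes → Subgroup G)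
    (hK : IsComplementSystem K) (M : Subgroup G)
    (h : ∀ p : Nat.Primes, ∃ k, (K p).relIndex M = (p : ℕ) ^ k) :
    IsComplementSystem (fun p => (K p).subgroupOf M) := by
  intro p
  obtain ⟨k, hk⟩ := h p
  show ((K p).subgroupOf M).index = _
  apply index_eq_pow_factorization p p.2 _ _ k hk
  have h1 : Nat.card ((K p).subgroupOf M) ∣ Nat.card (K p) := by
    rw [← Subgroup.inf_subgroupOf_right,
      Nat.card_congr (Subgroup.subgroupOfEquivOfLe (inf_le_right : K p ⊓ M ≤ M)).toEquiv]
    exact Subgroup.card_dvd_of_le inf_le_left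
  exact Nat.Coprime.coprime_dvd_left h1 (coprime_card_of_isComplementSystem K hK p)

/-- If `X ≤ C` is normal with nilpotent quotient and `C` is self-normalizing, then `C = ⊤`. -/
theorem eq_top_of_selfNormalizing_of_nilpotent_quotient (X C : Subgroup G) [X.Normal]
    (hXC : X ≤ C) (hnil : Group.IsNilpotent (G ⧸ X))
    (hC : Subgroup.normalizer (C : Set G) = C) : C = ⊤ := by
  have hsurj := QuotientGroup.mk'_surjective X
  have h1 : Subgroup.normalizer ((C.map (QuotientGroup.mk' X) : Subgroup (G ⧸ X)) : Set (G ⧸ X)) =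
      C.map (QuotientGroup.mk' X) := by
    apply Subgroup.comap_injective hsurj
    rw [Subgroup.comap_normalizer_eq_of_surjective _ hsurj, Subgroup.comap_map_eq,
      QuotientGroup.ker_mk', sup_eq_left.mpr hXC, hC]
  have h2 := (normalizerCondition_iff_only_full_group_self_normalizing.mp
    Group.normalizerCondition_of_isNilpotent) _ h1
  have h3 := congrArg (Subgroup.comap (QuotientGroup.mk' X)) h2
  rwa [Subgroup.comap_map_eq, QuotientGroup.ker_mk', sup_eq_left.mpr hXC, Subgroup.comap_top] at h3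

end relindex


theorem sn_le_carter_aux (n : ℕ) : ∀ (G : Type u) [Group G] [Finite G] [Group.IsSolvable G],
    Nat.card G = n → ∀ C : Subgroup G, IsCarterSubgroup C →
    ∀ K : Nat.Primes → Subgroup G, IsComplementSystem K →
      (∀ p : Nat.Primes, ∃ k, (K p).relIndex C = (p : ℕ) ^ k) → systemNormalizer K ≤ C := by
  induction n using Nat.strong_induction_on with
  | _ n ih =>
  intro G _ _ _ hn C hC K hK hred
  rcases subsingleton_or_nontrivial G with hsub | hnt
  · intro x _
    rw [Subsingleton.elim x 1]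
    exact one_mem _
  obtain ⟨N, hNn, hNne, hmin⟩ := Cfsg.Agent.S0553.exists_minimal_normal G
  haveI := hNn
  obtain ⟨q, d, hq, hd, hexp, hcardN⟩ := Cfsg.Agent.S0547.minNormal_elemAb N hNne hmin
  have hcomm := Cfsg.Agent.S0547.minNormal_comm N hNne hmin
  haveI : Fact q.Prime := ⟨hq⟩
  have hNq : IsPGroup q N := IsPGroup.of_card hcardN
  -- quotient
  obtain ⟨hKbar, hsn⟩ := Cfsg.Agent.S0545.result K hK N
  have hCbar := isCarter_map N C hC
  have hredbar : ∀ p : Nat.Primes, ∃ k, ((K p).map (QuotientGroup.mk' N)).relIndex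
      (C.map (QuotientGroup.mk' N)) = (p : ℕ) ^ k := by
    intro p
    obtain ⟨k, hk⟩ := hred p
    have h1 : ((K p).map (QuotientGroup.mk' N)).relIndex (C.map (QuotientGroup.mk' N)) ∣
        (K p).relIndex C := by
      rw [Subgroup.relIndex_map_map, QuotientGroup.ker_mk']
      exact relIndex_sup_sup_dvd (K p) C N
    rw [hk] at h1
    obtain ⟨j, _, hj⟩ := (Nat.dvd_prime_pow p.2).mp h1
    exact ⟨j, hj⟩
  have hlt : Nat.card (G ⧸ N) < n := hn ▸ card_quotient_lt_of_ne_bot N hNne
  have h1 := ih _ hlt (G ⧸ N) rfl _ hCbar _ hKbar hredbar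
  rw [hsn] at h1
  have hDM : systemNormalizer K ≤ C ⊔ N := by
    have := Subgroup.comap_mono (f := QuotientGroup.mk' N) h1
    rw [Subgroup.comap_map_eq, Subgroup.comap_map_eq, QuotientGroup.ker_mk'] at this
    exact le_sup_left.trans this
  have hredM : ∀ p : Nat.Primes, ∃ k, (K p).relIndex (C ⊔ N) = (p : ℕ) ^ k := by
    intro p
    obtain ⟨k, hk⟩ := hred p
    by_cases hpq : (p : ℕ) = q
    · have h2 : (K p).relIndex (C ⊔ N) ∣ (K p ⊓ C).relIndex (C ⊔ N) :=
        Subgroup.relIndex_dvd_of_le_left _ inf_le_left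
      have h3 : (K p ⊓ C).relIndex (C ⊔ N) = (K p ⊓ C).relIndex C * C.relIndex (C ⊔ N) :=
        (Subgroup.relIndex_mul_relIndex _ _ _ inf_le_right le_sup_left).symm
      rw [Subgroup.inf_relIndex_right, hk, relIndex_sup_of_normal] at h3
      have h4 : C.relIndex N ∣ q ^ d := hcardN ▸ Subgroup.relIndex_dvd_card C N
      obtain ⟨j, _, hj⟩ := (Nat.dvd_prime_pow hq).mp h4
      rw [h3, hj, hpq, ← pow_add] at h2
      obtain ⟨i, _, hi⟩ := (Nat.dvd_prime_pow hq).mp h2
      exact ⟨i, by rw [hi, hpq]⟩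
    · have hNle : N ≤ K p := by
        apply normal_pgroup_le_of_not_dvd_index N (K p) hNq
        rw [hK p]
        intro hdvd
        exact hpq ((Nat.prime_dvd_prime_iff_eq hq p.2).mp (hq.dvd_of_dvd_pow hdvd)).symm
      exact ⟨k, by rw [relIndex_sup_normal_of_le _ _ _ hNle, hk]⟩
  by_cases htop : C ⊔ N = ⊤
  · -- core case
    by_cases hNC : N ≤ C
    · have : C = ⊤ := by rw [← htop]; exact (sup_eq_left.mpr hNC).symm
      rw [this]; exact le_top
    have hCt : C ≠ ⊤ := fun h => hNC (h ▸ le_top)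
    have hCN : C ⊓ N = ⊥ := Cfsg.Agent.S0045.inf_eq_bot_of hcomm hmin htop hCt
    obtain ⟨k, hk⟩ := hred ⟨q, hq⟩
    have hQidx := hK ⟨q, hq⟩
    have hcop : (Nat.card (K ⟨q, hq⟩)).Coprime q := coprime_card_of_isComplementSystem K hK ⟨q, hq⟩
    have hnorm : systemNormalizer K ≤ Subgroup.normalizer ((K ⟨q, hq⟩ : Subgroup G) : Set G) := by
      unfold systemNormalizer
      exact iInf_le _ _
    generalize K ⟨q, hq⟩ = Q at hk hQidx hcop hnorm
    simp only at hk hQidx
    have hQC : Q ≤ C := by
      have hCi : C.index ∣ q ^ d := by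
        have h2 : C.relIndex (C ⊔ N) = C.relIndex N := relIndex_sup_of_normal C N
        rw [htop, Subgroup.relIndex_top_right] at h2
        rw [h2, ← hcardN]; exact Subgroup.relIndex_dvd_card C N
      have h2 : (Q ⊓ C).index = (Q ⊓ C).relIndex C * C.index :=
        (Subgroup.relIndex_mul_index inf_le_right).symm
      rw [Subgroup.inf_relIndex_right, hk] at h2
      have h3 : (Q ⊓ C).index ∣ q ^ (k + d) := by
        rw [h2, pow_add]; exact mul_dvd_mul_left _ hCi
      have h4 : (Q ⊓ C).relIndex Q ∣ (Q ⊓ C).index := Subgroup.relIndex_dvd_index_of_le inf_le_left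
      have h5 : (Q ⊓ C).relIndex Q ∣ Nat.card Q := Subgroup.relIndex_dvd_card _ _
      have h6 : (Q ⊓ C).relIndex Q = 1 := by
        have h7 := Nat.Coprime.pow_right (k + d) (Nat.Coprime.coprime_dvd_left h5 hcop)
        exact Nat.Coprime.eq_one_of_dvd h7 (h4.trans h3)
      exact (Subgroup.relIndex_eq_one.mp h6).trans inf_le_right
    have hQn : ∀ c ∈ C, ∀ x ∈ Q, c * x * c⁻¹ ∈ Q := by
      haveI := hC.1
      have hn : (Q.subgroupOf C).Normal := by
        apply hall_normal_of_nilpotent
        rw [Nat.card_congr (Subgroup.subgroupOfEquivOfLe hQC).toEquiv]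
        show (Nat.card Q).Coprime (Q.relIndex C)
        rw [hk]; exact Nat.Coprime.pow_right k hcop
      intro c hc x hx
      have := hn.conj_mem ⟨x, hQC hx⟩ (Subgroup.mem_subgroupOf.mpr hx) ⟨c, hc⟩
      exact Subgroup.mem_subgroupOf.mp this
    have hWn : (N ⊓ Subgroup.centralizer (Q : Set G)).Normal := by
      apply Cfsg.Agent.S0045.normal_of_sup_eq_top htop
      · intro c hc x hx
        obtain ⟨hx1, hx2⟩ := Subgroup.mem_inf.mp hx
        refine Subgroup.mem_inf.mpr ⟨hNn.conj_mem x hx1 c, ?_⟩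
        rw [Subgroup.mem_centralizer_iff]
        intro y hy
        have h8 : c⁻¹ * y * c⁻¹⁻¹ ∈ Q := hQn c⁻¹ (C.inv_mem hc) y hy
        have h9 := (Subgroup.mem_centralizer_iff.mp hx2) _ h8
        calc y * (c * x * c⁻¹) = c * ((c⁻¹ * y * c⁻¹⁻¹) * x) * c⁻¹ := by group
          _ = c * (x * (c⁻¹ * y * c⁻¹⁻¹)) * c⁻¹ := by rw [h9]
          _ = c * x * c⁻¹ * y := by group
      · intro b hb x hx
        have : b * x * b⁻¹ = x := by
          rw [hcomm b hb x (Subgroup.mem_inf.mp hx).1]; group
        rw [this]; exact hx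
    rcases hmin _ hWn inf_le_left with hW | hW
    · intro x hx
      have hxt : x ∈ C ⊔ N := by rw [htop]; exact Subgroup.mem_top x
      obtain ⟨c, hc, m, hm, rfl⟩ := Subgroup.mem_sup_of_normal_right.mp hxt
      have hxn := Subgroup.mem_normalizer_iff.mp (hnorm hx)
      have hmW : m ∈ N ⊓ Subgroup.centralizer (Q : Set G) := by
        refine Subgroup.mem_inf.mpr ⟨hm, ?_⟩
        rw [Subgroup.mem_centralizer_iff]
        intro y hy
        -- m * y * m⁻¹ ∈ Q
        have h8 : m * y * m⁻¹ ∈ Q := by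
          have h9 := (hxn y).mp hy
          have h10 := hQn c⁻¹ (C.inv_mem hc) _ h9
          have e : c⁻¹ * (c * m * y * (c * m)⁻¹) * c⁻¹⁻¹ = m * y * m⁻¹ := by group
          rwa [e] at h10
        have h11 : m * y * m⁻¹ * y⁻¹ ∈ C ⊓ N := by
          refine Subgroup.mem_inf.mpr ⟨hQC (Q.mul_mem h8 (Q.inv_mem hy)), ?_⟩
          have e : m * y * m⁻¹ * y⁻¹ = m * (y * m⁻¹ * y⁻¹) := by group
          rw [e]
          exact N.mul_mem hm (hNn.conj_mem _ (N.inv_mem hm) y)
        rw [hCN, Subgroup.mem_bot] at h11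
        calc y * m = (m * y * m⁻¹ * y⁻¹)⁻¹ * (m * y) := by group
          _ = m * y := by rw [h11]; group
      rw [hW, Subgroup.mem_bot] at hmW
      rw [hmW, mul_one]; exact hc
    · exfalso
      have hNcent : N ≤ Subgroup.centralizer (Q : Set G) := by
        rw [← hW]; exact inf_le_right
      haveI hQnorm : Q.Normal := by
        apply Cfsg.Agent.S0045.normal_of_sup_eq_top htop hQn
        intro b hb x hx
        have h8 := (Subgroup.mem_centralizer_iff.mp (hNcent hb)) x hx
        have : b * x * b⁻¹ = x := by rw [← h8]; group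
        rw [this]; exact hx
      have hpg : IsPGroup q (G ⧸ Q) := by
        apply IsPGroup.of_card (n := (Nat.card G).factorization q)
        rw [← hQidx]; rfl
      exact hCt (eq_top_of_selfNormalizing_of_nilpotent_quotient Q C hQC hpg.isNilpotent hC.2)
  · -- proper subgroup case
    have hltM : Nat.card ↥(C ⊔ N) < n := hn ▸ card_lt_of_ne_top (C ⊔ N) htop
    have hCM : C ≤ C ⊔ N := le_sup_left
    have hK' := isComplementSystem_subgroupOf K hK (C ⊔ N) hredM
    have hC' := isCarter_subgroupOf hC hCM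
    have hred' : ∀ p : Nat.Primes, ∃ k, ((K p).subgroupOf (C ⊔ N)).relIndex
        (C.subgroupOf (C ⊔ N)) = (p : ℕ) ^ k := by
      intro p
      obtain ⟨k, hk⟩ := hred p
      exact ⟨k, by rw [Subgroup.relIndex_subgroupOf hCM, hk]⟩
    have h5 := ih _ hltM ↥(C ⊔ N) rfl _ hC' _ hK' hred'
    intro x hx
    have hxM := hDM hx
    have h6 : (⟨x, hxM⟩ : ↥(C ⊔ N)) ∈ systemNormalizer (fun p => (K p).subgroupOf (C ⊔ N)) := by
      unfold systemNormalizer
      rw [Subgroup.mem_iInf]
      intro p
      rw [Subgroup.mem_normalizer_iff]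
      intro h
      have h7 : x ∈ Subgroup.normalizer (K p : Set G) := by
        unfold systemNormalizer at hx
        exact (Subgroup.mem_iInf.mp hx) p
      rw [Subgroup.mem_subgroupOf, Subgroup.mem_subgroupOf]
      exact Subgroup.mem_normalizer_iff.mp h7 h
    exact Subgroup.mem_subgroupOf.mp (h5 h6)


theorem exists_reducing_system {G : Type u} [Group G] [Finite G] [Group.IsSolvable G]
    (C : Subgroup G) :
    ∃ K : Nat.Primes → Subgroup G, IsComplementSystem K ∧
      ∀ p : Nat.Primes, ∃ k, (K p).relIndex C = (p : ℕ) ^ k := by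
  have h : ∀ p : Nat.Primes, ∃ Kp : Subgroup G,
      Kp.index = (p : ℕ) ^ (Nat.card G).factorization p ∧
        ∃ k, Kp.relIndex C = (p : ℕ) ^ k := by
    intro p
    obtain ⟨K0, hK0c, hK0i⟩ := hall_exists_card (G := G) (ordCompl[(p : ℕ)] (Nat.card G))
      ((p : ℕ) ^ (Nat.card G).factorization p)
      (by rw [mul_comm]; exact (Nat.ordProj_mul_ordCompl_eq_self _ _).symm)
      (Nat.Coprime.pow_right _ (Nat.coprime_ordCompl p.2 Nat.card_pos.ne').symm)
    obtain ⟨H', hH'c, hH'i⟩ := hall_exists_card (G := ↥C) (ordCompl[(p : ℕ)] (Nat.card C))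
      ((p : ℕ) ^ (Nat.card C).factorization p)
      (by rw [mul_comm]; exact (Nat.ordProj_mul_ordCompl_eq_self _ _).symm)
      (Nat.Coprime.pow_right _ (Nat.coprime_ordCompl p.2 Nat.card_pos.ne').symm)
    have hHc : Nat.card (H'.map C.subtype) = ordCompl[(p : ℕ)] (Nat.card C) := by
      rw [← hH'c]
      exact (Nat.card_congr (Subgroup.equivMapOfInjective H' C.subtype
        (Subgroup.subtype_injective C)).toEquiv).symm
    have hcop0 : (Nat.card K0).Coprime K0.index := by
      rw [hK0c, hK0i]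
      exact Nat.Coprime.pow_right _ (Nat.coprime_ordCompl p.2 Nat.card_pos.ne').symm
    have hcop1 : (Nat.card (H'.map C.subtype)).Coprime K0.index := by
      rw [hHc, hK0i]
      exact Nat.Coprime.pow_right _ (Nat.coprime_ordCompl p.2 Nat.card_pos.ne').symm
    obtain ⟨g, hg⟩ := hall_dominance K0 (H'.map C.subtype) hcop0 hcop1
    refine ⟨MulAut.conj g • K0, by rw [index_cj, hK0i], ?_⟩
    have h1 : (MulAut.conj g • K0).relIndex C ∣ (H'.map C.subtype).relIndex C :=
      Subgroup.relIndex_dvd_of_le_left C hg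
    have h2 : (H'.map C.subtype).relIndex C = H'.index := by
      unfold Subgroup.relIndex Subgroup.subgroupOf
      rw [Subgroup.comap_map_eq_self_of_injective (Subgroup.subtype_injective C)]
    rw [h2, hH'i] at h1
    obtain ⟨j, _, hj⟩ := (Nat.dvd_prime_pow p.2).mp h1
    exact ⟨j, hj⟩
  choose K hK1 hK2 using h
  exact ⟨K, hK1, hK2⟩

theorem systemNormalizer_cj_le {G : Type*} [Group G] (K : Nat.Primes → Subgroup G) (g : G) :
    systemNormalizer (fun p => MulAut.conj g • K p) ≤ MulAut.conj g • systemNormalizer K := by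
  intro x hx
  rw [mem_cj]
  unfold systemNormalizer at hx ⊢
  rw [Subgroup.mem_iInf] at hx ⊢
  intro p
  have h1 := hx p
  simp only at h1
  rw [normalizer_cj, mem_cj] at h1
  exact h1

theorem le_systemNormalizer_cj {G : Type*} [Group G] (K : Nat.Primes → Subgroup G) (g : G) :
    MulAut.conj g • systemNormalizer K ≤ systemNormalizer (fun p => MulAut.conj g • K p) := by
  intro x hx
  rw [mem_cj] at hx
  unfold systemNormalizer at hx ⊢
  rw [Subgroup.mem_iInf] at hx ⊢
  intro p
  have h1 := hx p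
  show x ∈ Subgroup.normalizer ((MulAut.conj g • K p : Subgroup G) : Set G)
  rw [normalizer_cj, mem_cj]
  exact h1

/-- Every Carter subgroup of a finite solvable group contains a system normalizer. -/
theorem exists_sn_le_carter {G : Type u} [Group G] [Finite G] [Group.IsSolvable G]
    (C : Subgroup G) (hC : IsCarterSubgroup C) :
    ∃ K : Nat.Primes → Subgroup G, IsComplementSystem K ∧ systemNormalizer K ≤ C := by
  obtain ⟨K, hK, hred⟩ := exists_reducing_system C
  exact ⟨K, hK, sn_le_carter_aux _ G rfl C hC K hK hred⟩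

/-- Every system normalizer of a finite solvable group lies in a Carter subgroup. -/
theorem exists_carter_ge_sn {G : Type u} [Group G] [Finite G] [Group.IsSolvable G]
    (K : Nat.Primes → Subgroup G) (hK : IsComplementSystem K) :
    ∃ C : Subgroup G, IsCarterSubgroup C ∧ systemNormalizer K ≤ C := by
  obtain ⟨C0, hC0⟩ := (Cfsg.Agent.S0045.result (G := G)).1
  have hC0' : IsCarterSubgroup C0 := hC0
  obtain ⟨K0, hK0, hle⟩ := exists_sn_le_carter C0 hC0'
  obtain ⟨g, hg⟩ := Cfsg.Agent.S0543.result K0 K hK0 hK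
  refine ⟨MulAut.conj g • C0, isCarter_cj hC0' g, ?_⟩
  have e : K = fun p => MulAut.conj g • K0 p := funext fun p => (hg p).symm
  rw [e]
  refine (systemNormalizer_cj_le K0 g).trans ?_
  intro x hx
  rw [mem_cj] at hx ⊢
  exact hle hx


theorem sn_eq_top_of_nilpotent {Q : Type*} [Group Q] [Finite Q] [Group.IsNilpotent Q]
    (K : Nat.Primes → Subgroup Q) (hK : IsComplementSystem K) : systemNormalizer K = ⊤ := by
  unfold systemNormalizer
  rw [iInf_eq_top]
  intro p
  haveI := hall_normal_of_nilpotent (K p) (Cfsg.Agent.S0543.coprime_of_isComplementSystem K hK p)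
  exact Subgroup.normalizer_eq_top (K p)

theorem sn_sup_eq_top {G : Type u} [Group G] [Finite G] [Group.IsSolvable G] (F : Subgroup G)
    [F.Normal] (hGF : Group.IsNilpotent (G ⧸ F)) (K : Nat.Primes → Subgroup G)
    (hK : IsComplementSystem K) : systemNormalizer K ⊔ F = ⊤ := by
  obtain ⟨hKbar, hsn⟩ := Cfsg.Agent.S0545.result K hK F
  have h1 := sn_eq_top_of_nilpotent _ hKbar
  rw [hsn] at h1
  have h2 := congrArg (Subgroup.comap (QuotientGroup.mk' F)) h1
  rwa [Subgroup.comap_map_eq, QuotientGroup.ker_mk', Subgroup.comap_top] at h2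

/-- In a finite group with a nilpotent normal subgroup `F` with nilpotent quotient, system
normalizers are self-normalizing. -/
theorem sn_selfNormalizing_aux (n : ℕ) : ∀ (G : Type u) [Group G] [Finite G] [Group.IsSolvable G],
    Nat.card G = n → ∀ (F : Subgroup G) [F.Normal], Group.IsNilpotent F →
    Group.IsNilpotent (G ⧸ F) →
    ∀ K : Nat.Primes → Subgroup G, IsComplementSystem K →
      Subgroup.normalizer ((systemNormalizer K : Subgroup G) : Set G) ≤ systemNormalizer K := by
  induction n using Nat.strong_induction_on with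
  | _ n ih =>
  intro G _ _ _ hn F _ hF hGF K hK
  have hDF := sn_sup_eq_top F hGF K hK
  by_cases hFbot : F = ⊥
  · rw [hFbot, sup_bot_eq] at hDF
    rw [hDF]; exact le_top
  obtain ⟨N, hN⟩ := exists_minimal_of_wellFoundedLT
    (fun N : Subgroup G => N.Normal ∧ N ≠ ⊥ ∧ N ≤ F) ⟨F, inferInstance, hFbot, le_rfl⟩
  have hNn : N.Normal := hN.prop.1
  have hNne : N ≠ ⊥ := hN.prop.2.1
  have hNF : N ≤ F := hN.prop.2.2
  haveI := hNn
  have hmin : ∀ M : Subgroup G, M.Normal → M ≤ N → M = ⊥ ∨ M = N := by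
    intro M hM hMN
    by_cases hb : M = ⊥
    · exact Or.inl hb
    · exact Or.inr (le_antisymm hMN (hN.le_of_le ⟨hM, hb, hMN.trans hNF⟩ hMN))
  have hNcent : N ≤ Subgroup.centralizer (F : Set G) := by
    have hne' : N.subgroupOf F ≠ ⊥ := by
      intro h
      apply hNne
      rw [Subgroup.subgroupOf_eq_bot] at h
      exact h.eq_bot_of_le hNF
    have h1 := normal_inf_center_ne_bot (N.subgroupOf F) hne'
    obtain ⟨⟨z, hz⟩, hz1⟩ := (Subgroup.ne_bot_iff_exists_ne_one).mp h1
    obtain ⟨hzN, hzc⟩ := Subgroup.mem_inf.mp hz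
    have hzG : (z : G) ∈ N ⊓ Subgroup.centralizer (F : Set G) := by
      refine Subgroup.mem_inf.mpr ⟨Subgroup.mem_subgroupOf.mp hzN, ?_⟩
      rw [Subgroup.mem_centralizer_iff]
      intro y hy
      have := (Subgroup.mem_center_iff.mp hzc) ⟨y, hy⟩
      exact congrArg Subtype.val this
    have hZne : N ⊓ Subgroup.centralizer (F : Set G) ≠ ⊥ := by
      intro h
      rw [h, Subgroup.mem_bot] at hzG
      exact hz1 (Subtype.ext (Subtype.ext hzG))
    rcases hmin (N ⊓ Subgroup.centralizer (F : Set G)) inferInstance inf_le_left with h | h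
    · exact absurd h hZne
    · rw [← h]; exact inf_le_right
  obtain ⟨hKbar, hsn⟩ := Cfsg.Agent.S0545.result K hK N
  have hlt : Nat.card (G ⧸ N) < n := hn ▸ card_quotient_lt_of_ne_bot N hNne
  have hFbar : Group.IsNilpotent (F.map (QuotientGroup.mk' N)) :=
    Group.nilpotent_of_surjective _ (MonoidHom.subgroupMap_surjective (QuotientGroup.mk' N) F)
  have hGFbar : Group.IsNilpotent ((G ⧸ N) ⧸ F.map (QuotientGroup.mk' N)) :=
    Group.nilpotent_of_mulEquiv (QuotientGroup.quotientQuotientEquivQuotient N F hNF).symm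
  have h1 := ih _ hlt (G ⧸ N) rfl (F.map (QuotientGroup.mk' N)) hFbar hGFbar _ hKbar
  rw [hsn] at h1
  intro x hx
  have hxbar : QuotientGroup.mk' N x ∈ Subgroup.normalizer
      (((systemNormalizer K).map (QuotientGroup.mk' N) : Subgroup (G ⧸ N)) : Set (G ⧸ N)) :=
    Subgroup.le_normalizer_map _ (Subgroup.mem_map_of_mem _ hx)
  have h2 := h1 hxbar
  have h3 : x ∈ systemNormalizer K ⊔ N := by
    have : x ∈ ((systemNormalizer K).map (QuotientGroup.mk' N)).comap (QuotientGroup.mk' N) := h2
    rwa [Subgroup.comap_map_eq, QuotientGroup.ker_mk'] at this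
  obtain ⟨d, hd, m, hm, rfl⟩ := Subgroup.mem_sup_of_normal_right.mp h3
  have hmn : m ∈ Subgroup.normalizer ((systemNormalizer K : Subgroup G) : Set G) := by
    have : m = d⁻¹ * (d * m) := by group
    rw [this]
    exact Subgroup.mul_mem _ (Subgroup.inv_mem _ (Subgroup.le_normalizer hd)) hx
  suffices hmD : m ∈ systemNormalizer K from Subgroup.mul_mem _ hd hmD
  by_cases hcen : N ≤ Subgroup.center G
  · have hmc := hcen hm
    unfold systemNormalizer
    rw [Subgroup.mem_iInf]
    intro p
    exact Subgroup.center_le_normalizer _ hmc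
  · have hND : N ⊓ systemNormalizer K = ⊥ := Cfsg.Agent.S0568.lemmaE K hK N hNne hmin hcen
    have hmD : ∀ y ∈ systemNormalizer K, y * m = m * y := by
      intro y hy
      have h4 : m * y * m⁻¹ ∈ systemNormalizer K := (Subgroup.mem_normalizer_iff.mp hmn y).mp hy
      have h5 : m * y * m⁻¹ * y⁻¹ ∈ N ⊓ systemNormalizer K := by
        refine Subgroup.mem_inf.mpr ⟨?_, Subgroup.mul_mem _ h4 (Subgroup.inv_mem _ hy)⟩
        have e : m * y * m⁻¹ * y⁻¹ = m * (y * m⁻¹ * y⁻¹) := by group
        rw [e]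
        exact N.mul_mem hm (hNn.conj_mem _ (N.inv_mem hm) y)
      rw [hND, Subgroup.mem_bot] at h5
      calc y * m = (m * y * m⁻¹ * y⁻¹)⁻¹ * (m * y) := by group
        _ = m * y := by rw [h5]; group
    have hmF : ∀ y ∈ F, y * m = m * y := fun y hy =>
      (Subgroup.mem_centralizer_iff.mp (hNcent hm)) y hy
    have hmZ : m ∈ Subgroup.center G := by
      rw [Subgroup.mem_center_iff]
      intro g
      have hg : g ∈ systemNormalizer K ⊔ F := by rw [hDF]; exact Subgroup.mem_top g
      obtain ⟨a, ha, b, hb, rfl⟩ := Subgroup.mem_sup_of_normal_right.mp hg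
      calc a * b * m = a * (b * m) := by group
        _ = a * (m * b) := by rw [hmF b hb]
        _ = (a * m) * b := by group
        _ = (m * a) * b := by rw [hmD a ha]
        _ = m * (a * b) := by group
    rcases hmin (N ⊓ Subgroup.center G) inferInstance inf_le_left with h | h
    · have : m ∈ N ⊓ Subgroup.center G := Subgroup.mem_inf.mpr ⟨hm, hmZ⟩
      rw [h, Subgroup.mem_bot] at this
      rw [this]; exact one_mem _
    · exact absurd (h ▸ inf_le_right) hcen

end Cfsg.Agent.Lib.Helper2
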