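import Mathlib
import Cfsg.Agent.Lib.Helper2.SchurZassenhaus

/-!
Wielandt's theorem on three solvable subgroups with coprime indices (helper2).
-/

set_option autoImplicit false

namespace Cfsg.Agent.Lib.Helper2

universe u

/-- If `G = H₁ H`, `r ∤ |G : H|`, and `N` is an `r`-subgroup normalized by `H₁`,
then the normal closure of `N` lies in `H`. -/
theorem normalClosure_le_of_factorization {G : Type u} [Group G] [Finite G] (H₁ H : Subgroup G)
    (hprod : ∀ g : G, ∃ x ∈ H₁, ∃ y ∈ H, g = x * y) (r : ℕ) [Fact r.Prime]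
    (hr : ¬ r ∣ H.index) (N : Subgroup G) (hN : IsPGroup r N)
    (hNH₁ : H₁ ≤ Subgroup.normalizer (N : Set G)) :
    Subgroup.normalClosure (N : Set G) ≤ H := by
  -- N fixes a coset of H
  have hcard : ¬ r ∣ Nat.card (G ⧸ H) := by
    rw [← Subgroup.index_eq_card]; exact hr
  obtain ⟨q, hq⟩ := hN.nonempty_fixed_point_of_prime_not_dvd_card (G ⧸ H) hcard
  obtain ⟨g, rfl⟩ := QuotientGroup.mk_surjective q
  have hg : ∀ n ∈ N, g⁻¹ * n * g ∈ H := by
    intro n hn
    have h1 := hq ⟨n, hn⟩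
    have h2 : ((n * g : G) : G ⧸ H) = (g : G ⧸ H) := h1
    have h3 := QuotientGroup.eq.mp h2
    have h4 : g⁻¹ * n * g = ((n * g)⁻¹ * g)⁻¹ := by group
    rw [h4]
    exact H.inv_mem h3
  -- N ≤ H
  obtain ⟨x, hx, y, hy, hgxy⟩ := hprod g
  have hNH : N ≤ H := by
    intro n' hn'
    have hxn : x * n' * x⁻¹ ∈ N := (Subgroup.mem_normalizer_iff.mp (hNH₁ hx) n').mp hn'
    have h1 := hg _ hxn
    rw [hgxy] at h1
    have h2 : n' = y * ((x * y)⁻¹ * (x * n' * x⁻¹) * (x * y)) * y⁻¹ := by group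
    rw [h2]
    exact H.mul_mem (H.mul_mem hy h1) (H.inv_mem hy)
  -- conjugates of N lie in H
  rw [Subgroup.normalClosure, Subgroup.closure_le]
  intro a ha
  rw [Group.mem_conjugatesOfSet_iff] at ha
  obtain ⟨b, hb, hba⟩ := ha
  rw [isConj_iff] at hba
  obtain ⟨c, rfl⟩ := hba
  obtain ⟨x', hx', y', hy', hc⟩ := hprod c⁻¹
  have hxb : x' * b * x'⁻¹ ∈ N := (Subgroup.mem_normalizer_iff.mp (hNH₁ hx') b).mp hb
  have hc' : c = y'⁻¹ * x'⁻¹ := by
    rw [← inv_inv c, hc]; group
  have h3 : c * b * c⁻¹ = y'⁻¹ * (x'⁻¹ * b * x'⁻¹⁻¹) * y' := by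
    rw [hc']; group
  have hxb' : x'⁻¹ * b * x'⁻¹⁻¹ ∈ N :=
    (Subgroup.mem_normalizer_iff.mp (hNH₁ (H₁.inv_mem hx')) b).mp hb
  rw [SetLike.mem_coe, h3]
  exact H.mul_mem (H.mul_mem (H.inv_mem hy') (hNH hxb')) hy'

theorem wielandt_aux (n : ℕ) : ∀ (G : Type u) [Group G] [Finite G], Nat.card G = n →
    ∀ (H₁ H₂ H₃ : Subgroup G), Group.IsSolvable H₁ → Group.IsSolvable H₂ → Group.IsSolvable H₃ →
    (∀ g : G, ∃ x ∈ H₁, ∃ y ∈ H₂, g = x * y) → (∀ g : G, ∃ x ∈ H₁, ∃ y ∈ H₃, g = x * y) →
    H₂.index.Coprime H₃.index → Group.IsSolvable G := by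
  induction n using Nat.strong_induction_on with
  | _ n ih =>
    intro G _ _ hn H₁ H₂ H₃ h₁ h₂ h₃ h12 h13 hcop
    by_cases hbot : H₁ = ⊥
    · -- G = H₂
      have htop : H₂ = ⊤ := by
        rw [eq_top_iff]
        intro g _
        obtain ⟨x, hx, y, hy, rfl⟩ := h12 g
        rw [hbot, Subgroup.mem_bot] at hx
        rw [hx, one_mul]
        exact hy
      have hsurj : Function.Surjective H₂.subtype := by
        intro g
        exact ⟨⟨g, htop ▸ Subgroup.mem_top g⟩, rfl⟩
      exact Group.isSolvable_of_surjective hsurj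
    · have hnt : Nontrivial H₁ := (Subgroup.nontrivial_iff_ne_bot H₁).mpr hbot
      obtain ⟨r, hr, hcore⟩ := exists_pCore_ne_bot_of_solvable H₁
      have hrF : Fact r.Prime := ⟨hr⟩
      have hcoreN : (Cfsg.pCore r H₁).Normal := pCore_normal r
      have hNne : (Cfsg.pCore r H₁).map H₁.subtype ≠ ⊥ := by
        rw [ne_eq, Subgroup.map_eq_bot_iff_of_injective _ H₁.subtype_injective]
        exact hcore
      have hNp : IsPGroup r ((Cfsg.pCore r H₁).map H₁.subtype) := (pCore_isPGroup r).map _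
      have hNnorm : H₁ ≤ Subgroup.normalizer
          (((Cfsg.pCore r H₁).map H₁.subtype : Subgroup G) : Set G) := by
        have h1 := Subgroup.le_normalizer_map (H := Cfsg.pCore r H₁) H₁.subtype
        rw [Subgroup.normalizer_eq_top_iff.mpr hcoreN, ← MonoidHom.range_eq_map,
          Subgroup.range_subtype] at h1
        exact h1
      -- the solvable normal subgroup M
      have hM : ∃ M : Subgroup G, M.Normal ∧ M ≠ ⊥ ∧ Group.IsSolvable M := by
        have hMne : Subgroup.normalClosure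
            ((((Cfsg.pCore r H₁).map H₁.subtype : Subgroup G)) : Set G) ≠ ⊥ := by
          intro h
          apply hNne
          rw [eq_bot_iff, ← h]
          exact Subgroup.le_normalClosure
        by_cases hr2 : r ∣ H₂.index
        · have hr3 : ¬ r ∣ H₃.index := by
            intro hr3
            have := Nat.dvd_gcd hr2 hr3
            rw [hcop] at this
            exact hr.one_lt.ne' (Nat.dvd_one.mp this)
          have hle := normalClosure_le_of_factorization H₁ H₃ h13 r hr3 _ hNp hNnorm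
          exact ⟨_, Subgroup.normalClosure_normal, hMne,
            Group.isSolvable_of_isSolvable_injective (Subgroup.inclusion_injective hle)⟩
        · have hle := normalClosure_le_of_factorization H₁ H₂ h12 r hr2 _ hNp hNnorm
          exact ⟨_, Subgroup.normalClosure_normal, hMne,
            Group.isSolvable_of_isSolvable_injective (Subgroup.inclusion_injective hle)⟩
      obtain ⟨M, hMn, hMne, hMs⟩ := hM
      have hπs : Function.Surjective (QuotientGroup.mk' M) := QuotientGroup.mk'_surjective M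
      have hcard : Nat.card (G ⧸ M) < n := hn ▸ card_quotient_lt_of_ne_bot M hMne
      have hmapS : ∀ H : Subgroup G, Group.IsSolvable H →
          Group.IsSolvable (H.map (QuotientGroup.mk' M)) := by
        intro H hH
        exact Group.isSolvable_of_surjective (f := (QuotientGroup.mk' M).subgroupMap H)
          ((QuotientGroup.mk' M).subgroupMap_surjective H)
      have hmapP : ∀ H H' : Subgroup G, (∀ g : G, ∃ x ∈ H, ∃ y ∈ H', g = x * y) →
          ∀ g : G ⧸ M, ∃ x ∈ H.map (QuotientGroup.mk' M), ∃ y ∈ H'.map (QuotientGroup.mk' M),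
            g = x * y := by
        intro H H' hHH' g
        obtain ⟨g, rfl⟩ := hπs g
        obtain ⟨x, hx, y, hy, rfl⟩ := hHH' g
        exact ⟨_, Subgroup.mem_map_of_mem _ hx, _, Subgroup.mem_map_of_mem _ hy, map_mul _ _ _⟩
      have hQ : Group.IsSolvable (G ⧸ M) :=
        ih _ hcard (G ⧸ M) rfl (H₁.map (QuotientGroup.mk' M)) (H₂.map (QuotientGroup.mk' M))
          (H₃.map (QuotientGroup.mk' M)) (hmapS _ h₁) (hmapS _ h₂) (hmapS _ h₃)
          (hmapP _ _ h12) (hmapP _ _ h13)
          (Nat.Coprime.coprime_dvd_left (Subgroup.index_map_dvd H₂ hπs)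
            (Nat.Coprime.coprime_dvd_right (Subgroup.index_map_dvd H₃ hπs) hcop))
      exact Group.isSolvable_of_ker_le_range M.subtype (QuotientGroup.mk' M)
        (by rw [QuotientGroup.ker_mk', Subgroup.range_subtype])

/-- **Wielandt**: a finite group which factorizes as `H₁ H₂ = H₁ H₃` with all three subgroups
solvable and the indices of `H₂`, `H₃` coprime, is solvable. -/
theorem wielandt_three_solvable {G : Type u} [Group G] [Finite G] (H₁ H₂ H₃ : Subgroup G)
    (h₁ : Group.IsSolvable H₁) (h₂ : Group.IsSolvable H₂) (h₃ : Group.IsSolvable H₃)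
    (h12 : ∀ g : G, ∃ x ∈ H₁, ∃ y ∈ H₂, g = x * y) (h13 : ∀ g : G, ∃ x ∈ H₁, ∃ y ∈ H₃, g = x * y)
    (hcop : H₂.index.Coprime H₃.index) : Group.IsSolvable G :=
  wielandt_aux _ G rfl H₁ H₂ H₃ h₁ h₂ h₃ h12 h13 hcop

end Cfsg.Agent.Lib.Helper2
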