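import Mathlib
import Cfsg.Agent.Lib.Helper2.Wielandt
import Cfsg.Agent.Lib.Helper4.BurnsidePQ

/-!
Subgroups of coprime index; the converse of Hall's theorem (helper2).
-/

set_option autoImplicit false

namespace Cfsg.Agent.Lib.Helper2

universe u

theorem index_inf_of_coprime {G : Type*} [Group G] [Finite G] (A B : Subgroup G)
    (h : A.index.Coprime B.index) : (A ⊓ B).index = A.index * B.index := by
  apply Nat.le_antisymm (Subgroup.index_inf_le)
  apply Nat.le_of_dvd (Nat.pos_of_ne_zero Subgroup.index_ne_zero_of_finite)
  exact Nat.Coprime.mul_dvd_of_dvd_of_dvd h (Subgroup.index_dvd_of_le inf_le_left)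
    (Subgroup.index_dvd_of_le inf_le_right)

theorem relIndex_eq_index_of_coprime {G : Type*} [Group G] [Finite G] (H K : Subgroup G)
    (h : H.index.Coprime K.index) : K.relIndex H = K.index := by
  have h1 : (H ⊓ K).index = H.index * K.index := index_inf_of_coprime H K h
  have h2 : (H ⊓ K).relIndex H * H.index = (H ⊓ K).index :=
    Subgroup.relIndex_mul_index inf_le_left
  rw [← Subgroup.inf_relIndex_left]
  have hpos : 0 < H.index := Nat.pos_of_ne_zero Subgroup.index_ne_zero_of_finite
  apply Nat.eq_of_mul_eq_mul_right hpos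
  rw [h2, h1, mul_comm]

/-- Subgroups of coprime index factorize the group. -/
theorem exists_mul_of_coprime_index {G : Type*} [Group G] [Finite G] (H K : Subgroup G)
    (h : H.index.Coprime K.index) (g : G) : ∃ x ∈ H, ∃ y ∈ K, g = x * y := by
  have h3 : K.relIndex H = K.index := relIndex_eq_index_of_coprime H K h
  have hstab : MulAction.stabilizer H ((1 : G) : G ⧸ K) = K.subgroupOf H := by
    ext a
    rw [MulAction.mem_stabilizer_iff, Subgroup.mem_subgroupOf]
    change (((a : G) * 1 : G) : G ⧸ K) = ((1 : G) : G ⧸ K) ↔ _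
    rw [QuotientGroup.eq]
    constructor
    · intro h1
      have h2 : (a : G) = (((a : G) * 1)⁻¹ * 1)⁻¹ := by group
      rw [h2]
      exact K.inv_mem h1
    · intro h1
      have h2 : ((a : G) * 1)⁻¹ * 1 = (a : G)⁻¹ := by group
      rw [h2]
      exact K.inv_mem h1
  have hcard : (MulAction.orbit H ((1 : G) : G ⧸ K)).ncard = K.index := by
    rw [← MulAction.index_stabilizer, hstab]
    exact h3
  have huniv : MulAction.orbit H ((1 : G) : G ⧸ K) = Set.univ := by
    apply Set.eq_of_subset_of_ncard_le (Set.subset_univ _) _ (Set.toFinite _)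
    rw [hcard, Set.ncard_univ, Subgroup.index_eq_card]
  have hg : ((g : G) : G ⧸ K) ∈ MulAction.orbit H ((1 : G) : G ⧸ K) := by
    rw [huniv]; exact Set.mem_univ _
  obtain ⟨a, ha⟩ := hg
  have ha' : (((a : G) * 1 : G) : G ⧸ K) = ((g : G) : G ⧸ K) := ha
  have h5 := QuotientGroup.eq.mp ha'
  refine ⟨(a : G), a.2, (a : G)⁻¹ * g, ?_, by group⟩
  have h6 : ((a : G) * 1)⁻¹ * g = (a : G)⁻¹ * g := by group
  rw [← h6]
  exact h5

theorem isSolvable_of_primeFactors_card_le_two {G : Type u} [Group G] [Finite G]
    (h : (Nat.card G).primeFactors.card ≤ 2) : Group.IsSolvable G := by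
  have hN0 : Nat.card G ≠ 0 := Nat.card_pos.ne'
  have hprod := Nat.prod_primeFactors_pow_factorization hN0
  rcases Nat.lt_or_ge (Nat.card G).primeFactors.card 2 with h2 | h2
  · rcases Nat.lt_or_ge (Nat.card G).primeFactors.card 1 with h1 | h1
    · have h0 : (Nat.card G).primeFactors = ∅ := Finset.card_eq_zero.mp (by omega)
      rw [h0, Finset.prod_empty] at hprod
      exact Cfsg.Agent.Lib.Helper4.isSolvable_of_card_pq 2 3 0 0 Nat.prime_two Nat.prime_three
        (by rw [hprod]; norm_num)
    · obtain ⟨p, hp⟩ := Finset.card_eq_one.mp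
        (by omega : (Nat.card G).primeFactors.card = 1)
      have hpp : p.Prime := by
        apply Nat.prime_of_mem_primeFactors (n := Nat.card G)
        rw [hp]; exact Finset.mem_singleton_self p
      rw [hp, Finset.prod_singleton] at hprod
      exact Cfsg.Agent.Lib.Helper4.isSolvable_of_card_pq p 2 ((Nat.card G).factorization p) 0 hpp
        Nat.prime_two (by rw [pow_zero, mul_one]; exact hprod)
  · obtain ⟨p, q, hpq, hs⟩ := Finset.card_eq_two.mp
      (by omega : (Nat.card G).primeFactors.card = 2)
    have hpp : p.Prime := by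
      apply Nat.prime_of_mem_primeFactors (n := Nat.card G)
      rw [hs]; exact Finset.mem_insert_self p _
    have hqq : q.Prime := by
      apply Nat.prime_of_mem_primeFactors (n := Nat.card G)
      rw [hs]; exact Finset.mem_insert_of_mem (Finset.mem_singleton_self q)
    rw [hs, Finset.prod_pair hpq] at hprod
    exact Cfsg.Agent.Lib.Helper4.isSolvable_of_card_pq p q _ _ hpp hqq hprod

theorem hall_converse_aux (n : ℕ) : ∀ (G : Type u) [Group G] [Finite G], Nat.card G = n →
    (∀ p : ℕ, p.Prime → ∃ H : Subgroup G, H.index = p ^ (Nat.card G).factorization p) →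
    Group.IsSolvable G := by
  induction n using Nat.strong_induction_on with
  | _ n ih =>
    intro G _ _ hn h
    have hN0 : Nat.card G ≠ 0 := Nat.card_pos.ne'
    by_cases hcard : (Nat.card G).primeFactors.card ≤ 2
    · exact isSolvable_of_primeFactors_card_le_two hcard
    · push Not at hcard
      obtain ⟨p₁, hp₁, p₂, hp₂, p₃, hp₃, h12, h13, h23⟩ := Finset.two_lt_card.mp hcard
      have hP₁ := Nat.prime_of_mem_primeFactors hp₁
      have hP₂ := Nat.prime_of_mem_primeFactors hp₂
      have hP₃ := Nat.prime_of_mem_primeFactors hp₃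
      have key : ∀ p, p ∈ (Nat.card G).primeFactors → ∀ H : Subgroup G,
          H.index = p ^ (Nat.card G).factorization p → Group.IsSolvable H := by
        intro p hp H hH
        have hpP := Nat.prime_of_mem_primeFactors hp
        have hvpos : 0 < (Nat.card G).factorization p :=
          hpP.factorization_pos_of_dvd hN0 (Nat.dvd_of_mem_primeFactors hp)
        have hidx1 : 1 < H.index := by
          rw [hH]; exact Nat.one_lt_pow hvpos.ne' hpP.one_lt
        have hHne : H ≠ ⊤ := by
          intro ht
          rw [ht, Subgroup.index_top] at hidx1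
          exact lt_irrefl _ hidx1
        have hcardlt : Nat.card H < n := hn ▸ card_lt_of_ne_top H hHne
        have hcardH : Nat.card G = Nat.card H * p ^ (Nat.card G).factorization p := by
          rw [← hH, Subgroup.card_mul_index]
        have hfact : ∀ q : ℕ, (Nat.card G).factorization q = (Nat.card H).factorization q +
            (Nat.card G).factorization p * (if p = q then 1 else 0) := by
          intro q
          conv_lhs => rw [hcardH]
          rw [Nat.factorization_mul Nat.card_pos.ne' (pow_ne_zero _ hpP.ne_zero),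
            Nat.factorization_pow, hpP.factorization, Finsupp.add_apply, Finsupp.smul_apply,
            Finsupp.single_apply, smul_eq_mul]
        apply ih _ hcardlt H rfl
        intro q hq
        by_cases hqp : q = p
        · subst hqp
          refine ⟨⊤, ?_⟩
          rw [Subgroup.index_top]
          have h1 := hfact q
          rw [if_pos rfl, mul_one] at h1
          have h2 : (Nat.card H).factorization q = 0 := by omega
          rw [h2, pow_zero]
        · obtain ⟨K, hK⟩ := h q hq
          refine ⟨K.subgroupOf H, ?_⟩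
          have hcop : H.index.Coprime K.index := by
            rw [hH, hK]
            exact Nat.Coprime.pow _ _ ((Nat.coprime_primes hpP hq).mpr (Ne.symm hqp))
          have h3 : K.relIndex H = K.index := relIndex_eq_index_of_coprime H K hcop
          change K.relIndex H = _
          rw [h3, hK]
          have h1 := hfact q
          rw [if_neg (Ne.symm hqp), mul_zero, add_zero] at h1
          rw [h1]
      obtain ⟨H₁, hH₁⟩ := h p₁ hP₁
      obtain ⟨H₂, hH₂⟩ := h p₂ hP₂
      obtain ⟨H₃, hH₃⟩ := h p₃ hP₃
      have hc12 : H₁.index.Coprime H₂.index := by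
        rw [hH₁, hH₂]; exact Nat.Coprime.pow _ _ ((Nat.coprime_primes hP₁ hP₂).mpr h12)
      have hc13 : H₁.index.Coprime H₃.index := by
        rw [hH₁, hH₃]; exact Nat.Coprime.pow _ _ ((Nat.coprime_primes hP₁ hP₃).mpr h13)
      have hc23 : H₂.index.Coprime H₃.index := by
        rw [hH₂, hH₃]; exact Nat.Coprime.pow _ _ ((Nat.coprime_primes hP₂ hP₃).mpr h23)
      exact wielandt_three_solvable H₁ H₂ H₃ (key p₁ hp₁ H₁ hH₁) (key p₂ hp₂ H₂ hH₂)
        (key p₃ hp₃ H₃ hH₃) (exists_mul_of_coprime_index H₁ H₂ hc12)
        (exists_mul_of_coprime_index H₁ H₃ hc13) hc23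

/-- **Converse of Hall's theorem**: a finite group with a `p`-complement for every prime `p`
is solvable. -/
theorem hall_converse {G : Type u} [Group G] [Finite G]
    (h : ∀ p : ℕ, p.Prime → ∃ H : Subgroup G, H.index = p ^ (Nat.card G).factorization p) :
    Group.IsSolvable G :=
  hall_converse_aux _ G rfl h

end Cfsg.Agent.Lib.Helper2
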