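import Mathlib
import Cfsg.Prelude.Def_Blocks
import Cfsg.Agent.Lib.Helper28.BlockWeakOrth
import Cfsg.Agent.Lib.Helper28.BlockDefectE
import Cfsg.Agent.Lib.Helper28.PModExists
import Cfsg.Agent.Lib.Helper28.BlockOsima
import Cfsg.Agent.Lib.Helper4.CharIntegral
import Cfsg.Agent.Lib.Helper4.BurnsideClass
import Cfsg.Agent.Lib.Helper4.BlockIdem
import Cfsg.Agent.Lib.Helper24.LinBridge
import Cfsg.Agent.Lib.Helper26.CharBasic

set_option autoImplicit false

/-!
# Kazarin's theorem: the character-theoretic core (helper2)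

If `G = ⟨x^G⟩`, the class of `x` has `p`-power size and `r ≠ p` is a prime, then the derived
subgroup of `G` has no element of order `r`.
-/

namespace Cfsg.Agent.Lib.Helper2.Kaz

open Cfsg Cfsg.Agent.Lib.Helper28
open scoped ComplexConjugate Classical

section Roots

variable {M : Ideal AlgInt}

/-- a root of unity of order prime to `r` that is congruent to `1` modulo `M` equals `1` -/
theorem root_eq_one {r : ℕ} (hM : IsPModular r M) {ζ : ℂ} {m : ℕ} (hm : m.Coprime r)
    (hm0 : 0 < m) (hζ : ζ ^ m = 1) (h1 : MemLocalIdeal M (ζ - 1)) : ζ = 1 := by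
  have hMp : M.IsPrime := hM.2.1.isPrime
  by_contra hne
  have hint : IsIntegral ℤ ζ := IsIntegral.of_pow hm0 (by rw [hζ]; exact isIntegral_one)
  have hpow : ∀ i : ℕ, MemLocalIdeal M (ζ ^ i - 1) := by
    intro i
    induction i with
    | zero =>
      rw [pow_zero, sub_self]
      exact memLocalIdeal_zero hM.2.1.ne_top
    | succ i ih =>
      have h2 : ζ ^ (i + 1) - 1 = ζ * (ζ ^ i - 1) + (ζ - 1) := by ring
      rw [h2]
      exact memLocalIdeal_add (memLocalIdeal_isIntegral_mul hint ih) h1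
  have hgeom : ∑ i ∈ Finset.range m, ζ ^ i = 0 := by
    have h := geom_sum_mul ζ m
    rw [hζ, sub_self] at h
    exact (mul_eq_zero.mp h).resolve_right (sub_ne_zero.mpr hne)
  have hsum : MemLocalIdeal M (∑ i ∈ Finset.range m, (ζ ^ i - 1)) :=
    memLocalIdeal_sum _ _ (fun i _ => hpow i)
  have h3 : (m : ℂ) = -(∑ i ∈ Finset.range m, (ζ ^ i - 1)) := by
    rw [Finset.sum_sub_distrib, hgeom]
    simp
  apply not_memLocalIdeal_natCast hM hm
  rw [h3]
  exact memLocalIdeal_neg hsum

end Roots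

section Scalar

variable {G : Type*} [Group G]

/-- an irreducible representation all of whose operators are scalars has degree one -/
theorem finrank_eq_one_of_scalar {V : Type*} [AddCommGroup V] [Module ℂ V]
    [FiniteDimensional ℂ V] (ρ : Representation ℂ G V) (hirr : ρ.IsIrreducible)
    (h : ∀ x, ∃ ω : ℂ, ρ x = ω • (LinearMap.id : V →ₗ[ℂ] V)) :
    Module.finrank ℂ V = 1 := by
  have := hirr
  have hnt : Nontrivial V := by
    by_contra hnt
    rw [not_nontrivial_iff_subsingleton] at hnt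
    have h1 : (⊥ : Subrepresentation ρ) = ⊤ := by
      apply Subrepresentation.toSubmodule_injective
      exact Subsingleton.elim _ _
    exact bot_ne_top h1
  obtain ⟨v, hv⟩ := exists_ne (0 : V)
  let σ : Subrepresentation ρ :=
    ⟨Submodule.span ℂ {v}, fun x w hw => by
      obtain ⟨ω, hω⟩ := h x
      rw [hω]
      simpa using Submodule.smul_mem _ ω hw⟩
  have hσ : σ = ⊤ := by
    rcases eq_bot_or_eq_top σ with h1 | h1
    · exfalso
      have h2 : Submodule.span ℂ {v} = ⊥ := congrArg Subrepresentation.toSubmodule h1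
      rw [Submodule.span_singleton_eq_bot] at h2
      exact hv h2
    · exact h1
  have hspan : Submodule.span ℂ {v} = ⊤ := congrArg Subrepresentation.toSubmodule hσ
  rw [← finrank_top ℂ V, ← hspan]
  exact finrank_span_singleton hv

/-- if `ρ x` is a scalar then so is `ρ g` for every `g` in the normal closure of `x` -/
theorem scalar_of_mem_normalClosure {V : Type*} [AddCommGroup V] [Module ℂ V]
    (ρ : Representation ℂ G V) (x : G) (hx : ∃ ω : ℂ, ρ x = ω • (LinearMap.id : V →ₗ[ℂ] V))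
    (g : G) (hg : g ∈ Subgroup.normalClosure ({x} : Set G)) :
    ∃ ω : ℂ, ρ g = ω • (LinearMap.id : V →ₗ[ℂ] V) := by
  obtain ⟨ω0, hω0⟩ := hx
  unfold Subgroup.normalClosure at hg
  induction hg using Subgroup.closure_induction with
  | mem c hc =>
    rw [Group.mem_conjugatesOfSet_iff] at hc
    obtain ⟨a, ha, hac⟩ := hc
    rw [Set.mem_singleton_iff] at ha
    subst ha
    obtain ⟨k, rfl⟩ := isConj_iff.mp hac
    refine ⟨ω0, ?_⟩
    rw [map_mul, map_mul, hω0]
    have h1 : ρ k * ρ k⁻¹ = 1 := by rw [← map_mul, mul_inv_cancel, map_one]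
    calc ρ k * ω0 • (LinearMap.id : V →ₗ[ℂ] V) * ρ k⁻¹
        = ω0 • (ρ k * ρ k⁻¹) := by
          ext v
          simp
      _ = ω0 • (LinearMap.id : V →ₗ[ℂ] V) := by rw [h1]; rfl
  | one =>
    exact ⟨1, by rw [map_one, one_smul]; rfl⟩
  | mul a b _ _ iha ihb =>
    obtain ⟨α, hα⟩ := iha
    obtain ⟨β, hβ⟩ := ihb
    refine ⟨α * β, ?_⟩
    rw [map_mul, hα, hβ]
    ext v
    simp [mul_smul, smul_comm α β v]
  | inv a _ iha =>
    obtain ⟨α, hα⟩ := iha
    have h1 : ρ a⁻¹ * ρ a = 1 := by rw [← map_mul, inv_mul_cancel, map_one]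
    rw [hα] at h1
    have h2 : α • ρ a⁻¹ = 1 := by
      rw [← h1]
      ext v
      simp
    by_cases hα0 : α = 0
    · rw [hα0, zero_smul] at h2
      refine ⟨0, ?_⟩
      rw [zero_smul]
      calc ρ a⁻¹ = ρ a⁻¹ * 1 := (mul_one _).symm
        _ = ρ a⁻¹ * 0 := by rw [h2]
        _ = 0 := mul_zero _
    · refine ⟨α⁻¹, ?_⟩
      have h3 : ρ a⁻¹ = α⁻¹ • (α • ρ a⁻¹) := by rw [smul_smul, inv_mul_cancel₀ hα0, one_smul]
      rw [h3, h2]
      rfl

/-- a homomorphism into `ℂˣ` gives an irreducible character -/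
theorem isIrrCharacter_hom (μ : G →* ℂˣ) : IsIrrCharacter G (fun g => ((μ g : ℂˣ) : ℂ)) :=
  ⟨1, Cfsg.Agent.Lib.Helper24.linRepH μ,
    Cfsg.Agent.Lib.Helper4.isIrreducible_of_finrank_eq_one _ (by simp),
    funext (Cfsg.Agent.Lib.Helper24.linRepH_character μ)⟩

/-- the irreducible character attached to a homomorphism into `ℂˣ` -/
noncomputable def linIrr (μ : G →* ℂˣ) : IrrCharacter G :=
  ⟨fun g => ((μ g : ℂˣ) : ℂ), isIrrCharacter_hom μ⟩

theorem linIrr_apply (μ : G →* ℂˣ) (g : G) : (linIrr μ : G → ℂ) g = ((μ g : ℂˣ) : ℂ) := rfl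

theorem linIrr_injective : Function.Injective (linIrr : (G →* ℂˣ) → IrrCharacter G) := by
  intro a b hab
  ext g
  have := congrArg (fun χ : IrrCharacter G => (χ : G → ℂ) g) hab
  exact this

end Scalar

end Cfsg.Agent.Lib.Helper2.Kaz
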