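import Mathlib
import Cfsg.Agent.Lib.Helper2.KazA

set_option autoImplicit false

/-!
# Kazarin's theorem: the character-theoretic core, main lemma (helper2)
-/

namespace Cfsg.Agent.Lib.Helper2.Kaz

open Cfsg Cfsg.Agent.Lib.Helper28
open scoped ComplexConjugate Classical

section Core

variable {G : Type*} [Group G] [Fintype G] {M : Ideal AlgInt}

/-- membership of a linear character in the principal block -/
theorem linIrr_mem_principalBlock_iff (μ : G →* ℂˣ) :
    linIrr μ ∈ principalBlock M G ↔
      ∀ g : G, MemLocalIdeal M (((Subgroup.centralizer ({g} : Set G)).index : ℂ) *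
        (((μ g : ℂˣ) : ℂ) - 1)) := by
  have key : ∀ g : G, centralChar (fun _ : G => (1 : ℂ)) g - centralChar (linIrr μ : G → ℂ) g =
      -(((Subgroup.centralizer ({g} : Set G)).index : ℂ) * (((μ g : ℂˣ) : ℂ) - 1)) := by
    intro g
    unfold centralChar
    rw [linIrr_apply, linIrr_apply, map_one]
    simp
    ring
  constructor
  · intro h g
    have h1 : MemLocalIdeal M (centralChar (fun _ : G => (1 : ℂ)) g -
        centralChar (linIrr μ : G → ℂ) g) := h g
    rw [key g] at h1
    have := memLocalIdeal_neg h1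
    rwa [neg_neg] at this
  · intro h g
    show MemLocalIdeal M (centralChar (fun _ : G => (1 : ℂ)) g -
        centralChar (linIrr μ : G → ℂ) g)
    rw [key g]
    exact memLocalIdeal_neg (h g)

/-- the linear characters in the principal block form a subgroup -/
noncomputable def linBlock (G : Type*) [Group G] [Fintype G] (M : Ideal AlgInt) [hMp : M.IsPrime] :
    Subgroup (G →* ℂˣ) where
  carrier := {μ | ∀ g : G, MemLocalIdeal M (((Subgroup.centralizer ({g} : Set G)).index : ℂ) *
        (((μ g : ℂˣ) : ℂ) - 1))}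
  one_mem' := by
    intro g
    simp only [MonoidHom.one_apply, Units.val_one, sub_self, mul_zero]
    exact memLocalIdeal_zero hMp.ne_top
  mul_mem' := by
    intro μ ν hμ hν g
    have hint : IsIntegral ℤ (((ν g : ℂˣ) : ℂ)) :=
      Cfsg.Agent.Lib.Helper4.isIntegral_of_isIrrCharacter (isIrrCharacter_hom ν) g
    have h2 : ((Subgroup.centralizer ({g} : Set G)).index : ℂ) * ((((μ * ν) g : ℂˣ) : ℂ) - 1) =
        ((ν g : ℂˣ) : ℂ) * (((Subgroup.centralizer ({g} : Set G)).index : ℂ) *
          (((μ g : ℂˣ) : ℂ) - 1))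
        + ((Subgroup.centralizer ({g} : Set G)).index : ℂ) * (((ν g : ℂˣ) : ℂ) - 1) := by
      rw [MonoidHom.mul_apply, Units.val_mul]
      ring
    show MemLocalIdeal M _
    rw [h2]
    exact memLocalIdeal_add (memLocalIdeal_isIntegral_mul hint (hμ g)) (hν g)
  inv_mem' := by
    intro μ hμ g
    have hint : IsIntegral ℤ (((μ⁻¹ g : ℂˣ) : ℂ)) :=
      Cfsg.Agent.Lib.Helper4.isIntegral_of_isIrrCharacter (isIrrCharacter_hom μ⁻¹) g
    have h3 : ((μ⁻¹ g : ℂˣ) : ℂ) * ((μ g : ℂˣ) : ℂ) = 1 := by
      rw [MonoidHom.inv_apply, ← Units.val_mul, inv_mul_cancel, Units.val_one]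
    have h2 : ((Subgroup.centralizer ({g} : Set G)).index : ℂ) * (((μ⁻¹ g : ℂˣ) : ℂ) - 1) =
        -(((μ⁻¹ g : ℂˣ) : ℂ) * (((Subgroup.centralizer ({g} : Set G)).index : ℂ) *
          (((μ g : ℂˣ) : ℂ) - 1))) := by
      linear_combination (((Subgroup.centralizer ({g} : Set G)).index : ℂ)) * h3
    show MemLocalIdeal M _
    rw [h2]
    exact memLocalIdeal_neg (memLocalIdeal_isIntegral_mul hint (hμ g))

theorem mem_linBlock [hMp : M.IsPrime] (μ : G →* ℂˣ) :
    μ ∈ linBlock G M ↔ ∀ g : G, MemLocalIdeal M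
      (((Subgroup.centralizer ({g} : Set G)).index : ℂ) * (((μ g : ℂˣ) : ℂ) - 1)) := Iff.rfl

/-- **Kazarin's lemma**: if `G` is generated by the conjugates of an element `x` whose class has
`p`-power size, then the derived subgroup of `G` has no element of prime order `r ≠ p`. -/
theorem kazarin_core {p r : ℕ} (hp : p.Prime) (hr : r.Prime) (hrp : r ≠ p) (x : G) (a : ℕ)
    (hidx : (Subgroup.centralizer ({x} : Set G)).index = p ^ a)
    (hgen : Subgroup.normalClosure ({x} : Set G) = ⊤)
    (y : G) (hy : y ∈ commutator G) (hyr : orderOf y = r) : False := by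
  obtain ⟨M, hM⟩ := exists_isPModular' hr
  haveI hMp : M.IsPrime := hM.2.1.isPrime
  have hMtop : M ≠ ⊤ := hM.2.1.ne_top
  haveI : Fintype (IrrCharacter G) := Fintype.ofFinite _
  have hcoppr : p.Coprime r := (Nat.coprime_primes hp hr).mpr hrp.symm
  have hcop : (p ^ a).Coprime r := Nat.Coprime.pow_left a hcoppr
  have hB : IsPBlock M (principalBlock M G) := isPBlock_principalBlock
  have hwo := weak_orthogonality_of_memLocalRing hM (principalBlock M G) (fun g => osima hB g) 1 y
    (by rw [orderOf_one]; exact fun h => hr.one_lt.ne' (Nat.dvd_one.mp h)) (by rw [hyr])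
  -- the set of linear characters in the block
  obtain ⟨A, hA⟩ : ∃ A : Finset (IrrCharacter G), A =
    Finset.univ.filter (fun χ => χ ∈ principalBlock M G ∧ (χ : G → ℂ) 1 = 1) := ⟨_, rfl⟩
  -- termwise analysis
  have hterm : ∀ χ : IrrCharacter G, ∃ γ : ℂ, IsIntegral ℤ γ ∧
      (if χ ∈ principalBlock M G then (χ : G → ℂ) 1 * conj ((χ : G → ℂ) y) else 0) =
        (if χ ∈ A then 1 else 0) + (p : ℂ) * γ := by
    intro χ
    by_cases hχB : χ ∈ principalBlock M G
    swap
    · refine ⟨0, isIntegral_zero, ?_⟩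
      have : χ ∉ A := by
        rw [hA, Finset.mem_filter]
        exact fun h => hχB h.2.1
      rw [if_neg hχB, if_neg this]
      simp
    rw [if_pos hχB]
    by_cases hχ1 : (χ : G → ℂ) 1 = 1
    · -- linear
      have hmemA : χ ∈ A := by
        rw [hA, Finset.mem_filter]
        exact ⟨Finset.mem_univ _, hχB, hχ1⟩
      obtain ⟨φ, hφ⟩ := Cfsg.Agent.Lib.Helper24.exists_hom_of_isCharacter
        (Cfsg.Agent.Lib.Helper26.isCharacter_of_isIrrCharacter χ.2) hχ1
      have hy1 : φ y = 1 := by
        have := Abelianization.commutator_subset_ker φ hy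
        exact MonoidHom.mem_ker.mp this
      refine ⟨0, isIntegral_zero, ?_⟩
      rw [if_pos hmemA, hχ1, hφ]
      simp [hy1]
    · -- not linear: p ∣ degree
      have hnotA : χ ∉ A := by
        rw [hA, Finset.mem_filter]
        exact fun h => hχ1 h.2.2
      rw [if_neg hnotA]
      obtain ⟨n, ρ, hirr, hρ⟩ := χ.2
      have hone : (χ : G → ℂ) 1 = (n : ℂ) := by
        rw [← hρ, Representation.char_one]
        simp
      have hfr : Module.finrank ℂ (Fin n → ℂ) = n := by simp
      have hpn : p ∣ n := by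
        by_contra hpn
        apply hχ1
        have hcop2 : Nat.Coprime (Module.finrank ℂ (Fin n → ℂ))
            (Subgroup.centralizer ({x} : Set G)).index := by
          rw [hfr, hidx]
          exact Nat.Coprime.pow_right a ((Nat.Prime.coprime_iff_not_dvd hp).mpr hpn).symm
        have hx0 : (χ : G → ℂ) x ≠ 0 := by
          intro h0
          have h1 : MemLocalIdeal M (centralChar (fun _ : G => (1 : ℂ)) x -
              centralChar (χ : G → ℂ) x) := hχB x
          unfold centralChar at h1
          rw [h0, hidx] at h1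
          simp only [mul_one, div_one, mul_zero, zero_div, sub_zero] at h1
          exact not_memLocalIdeal_natCast hM hcop h1
        rcases Cfsg.Agent.Lib.Helper4.character_eq_zero_or_norm_eq ρ hirr x hcop2 with h | h
        · exfalso
          apply hx0
          rw [← hρ]
          exact h
        · obtain ⟨ω, hω⟩ := (Cfsg.Agent.Lib.Helper4.norm_character_eq_finrank_iff ρ x).mp h
          have hall : ∀ g : G, ∃ ω : ℂ,
              ρ g = ω • (LinearMap.id : (Fin n → ℂ) →ₗ[ℂ] (Fin n → ℂ)) := by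
            intro g
            apply scalar_of_mem_normalClosure ρ x ⟨ω, hω⟩ g
            rw [hgen]
            exact Subgroup.mem_top g
          have h1 := finrank_eq_one_of_scalar ρ hirr hall
          rw [hfr] at h1
          rw [hone, h1]
          simp
      obtain ⟨m, rfl⟩ := hpn
      refine ⟨(m : ℂ) * conj ((χ : G → ℂ) y), ?_, ?_⟩
      · apply IsIntegral.mul (isIntegral_natCast m)
        rw [Cfsg.Agent.Lib.Helper26.isCharacter_conj_eq_inv
          (Cfsg.Agent.Lib.Helper26.isCharacter_of_isIrrCharacter χ.2) y]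
        exact Cfsg.Agent.Lib.Helper4.isIntegral_of_isIrrCharacter χ.2 y⁻¹
      · rw [hone]
        push_cast
        ring
  choose γ hγint hγeq using hterm
  have hsum : (A.card : ℂ) + (p : ℂ) * ∑ χ : IrrCharacter G, γ χ = 0 := by
    rw [← hwo]
    rw [Finset.sum_congr rfl (fun χ _ => hγeq χ), Finset.sum_add_distrib, ← Finset.mul_sum]
    congr 1
    rw [Finset.sum_boole]
    simp
  have hΓ : IsIntegral ℤ (∑ χ : IrrCharacter G, γ χ) := IsIntegral.sum _ (fun χ _ => hγint χ)
  have hdvd : p ∣ A.card := by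
    have hp0 : (p : ℂ) ≠ 0 := by exact_mod_cast hp.ne_zero
    have hint : IsIntegral ℤ ((A.card : ℂ) / (p : ℂ)) := by
      have : (A.card : ℂ) / (p : ℂ) = -(∑ χ : IrrCharacter G, γ χ) := by
        field_simp
        linear_combination hsum
      rw [this]
      exact hΓ.neg
    have hq : ((A.card : ℂ) / (p : ℂ)) = algebraMap ℚ ℂ ((A.card : ℚ) / (p : ℚ)) := by simp
    rw [hq, isIntegral_algebraMap_iff (algebraMap ℚ ℂ).injective] at hint
    obtain ⟨z, hz⟩ := IsIntegrallyClosed.isIntegral_iff.mp hint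
    have hpq : (p : ℚ) ≠ 0 := by exact_mod_cast hp.ne_zero
    have h4 : (A.card : ℚ) = (p : ℚ) * (z : ℚ) := by
      have : (algebraMap ℤ ℚ z) = (z : ℚ) := rfl
      rw [this] at hz
      rw [hz, mul_div_cancel₀ _ hpq]
    have h5 : (A.card : ℤ) = (p : ℤ) * z := by exact_mod_cast h4
    exact Int.natCast_dvd_natCast.mp ⟨z, h5⟩
  -- the group of linear characters in the block
  haveI : Finite (G →* ℂˣ) := Finite.of_injective linIrr linIrr_injective
  have hAQ : A.card = Nat.card (linBlock G M) := by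
    have h1 : (A : Set (IrrCharacter G)) =
        linIrr '' ((linBlock G M : Subgroup (G →* ℂˣ)) : Set (G →* ℂˣ)) := by
      ext χ
      rw [Finset.mem_coe, hA, Finset.mem_filter]
      constructor
      · rintro ⟨-, hχB, hχ1⟩
        obtain ⟨φ, hφ⟩ := Cfsg.Agent.Lib.Helper24.exists_hom_of_isCharacter
          (Cfsg.Agent.Lib.Helper26.isCharacter_of_isIrrCharacter χ.2) hχ1
        have hχφ : χ = linIrr φ := Subtype.ext hφ
        refine ⟨φ, ?_, hχφ.symm⟩
        rw [hχφ] at hχB
        exact (linIrr_mem_principalBlock_iff φ).mp hχB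
      · rintro ⟨φ, hφ, rfl⟩
        refine ⟨Finset.mem_univ _, (linIrr_mem_principalBlock_iff φ).mpr hφ, ?_⟩
        rw [linIrr_apply, map_one]
        simp
    rw [← Set.ncard_coe_finset, h1, Set.ncard_image_of_injective _ linIrr_injective]
    exact (Nat.card_coe_set_eq _).symm
  rw [hAQ] at hdvd
  haveI : Fact p.Prime := ⟨hp⟩
  obtain ⟨μ, hμ⟩ := exists_prime_orderOf_dvd_card' p hdvd
  have hμp : (μ : G →* ℂˣ) ^ p = 1 := by
    have h1 := pow_orderOf_eq_one μ
    rw [hμ] at h1
    have h2 := congrArg Subtype.val h1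
    simpa using h2
  have hμx : (μ : G →* ℂˣ) x = 1 := by
    have h1 : MemLocalIdeal M (((Subgroup.centralizer ({x} : Set G)).index : ℂ) *
        ((((μ : G →* ℂˣ) x : ℂˣ) : ℂ) - 1)) := μ.2 x
    rw [hidx] at h1
    have h2 : MemLocalIdeal M ((((μ : G →* ℂˣ) x : ℂˣ) : ℂ) - 1) := by
      have h3 := memLocalIdeal_mul_left (memLocalRing_inv_natCast hM hcop) h1
      have hpa : ((p ^ a : ℕ) : ℂ) ≠ 0 := by exact_mod_cast (pow_pos hp.pos a).ne'
      rwa [← mul_assoc, inv_mul_cancel₀ hpa, one_mul] at h3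
    have h4 : ((((μ : G →* ℂˣ) x : ℂˣ) : ℂ)) ^ p = 1 := by
      have h5 := DFunLike.congr_fun hμp x
      rw [MonoidHom.pow_apply, MonoidHom.one_apply] at h5
      have h6 := congrArg (Units.val) h5
      simpa using h6
    have h5 := root_eq_one hM hcoppr hp.pos h4 h2
    exact Units.ext h5
  have hker : Subgroup.normalClosure ({x} : Set G) ≤ MonoidHom.ker (μ : G →* ℂˣ) :=
    Subgroup.normalClosure_le_normal (by
      intro z hz
      rw [Set.mem_singleton_iff] at hz
      subst hz
      exact MonoidHom.mem_ker.mpr hμx)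
  rw [hgen] at hker
  have hμ1 : (μ : G →* ℂˣ) = 1 := by
    ext g
    have h1 := hker (Subgroup.mem_top g)
    rw [MonoidHom.mem_ker] at h1
    rw [h1]
    rfl
  have h1 : orderOf μ = 1 := by
    rw [orderOf_eq_one_iff]
    exact Subtype.ext hμ1
  rw [hμ] at h1
  exact hp.one_lt.ne' h1

end Core

end Cfsg.Agent.Lib.Helper2.Kaz
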