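import Mathlib
import Cfsg.Agent.Lib.Helper2.KazB
import Cfsg.Agent.Lib.Helper20.PRegClass
import Cfsg.Agent.Lib.Helper20.Signalizer

set_option autoImplicit false

/-!
# Kazarin's theorem (helper2)

An element whose conjugacy class has prime power size generates a solvable normal subgroup.
-/

namespace Cfsg.Agent.Lib.Helper2.Kaz

open Cfsg

universe u

/-- existence of a largest normal solvable subgroup -/
theorem exists_solvable_radical (N : Type*) [Group N] [Finite N] :
    ∃ R : Subgroup N, R.Normal ∧ Group.IsSolvable R ∧
      ∀ K : Subgroup N, K.Normal → Group.IsSolvable K → K ≤ R := by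
  obtain ⟨R, -, hR⟩ := Finite.exists_le_maximal
    (p := fun K : Subgroup N => K.Normal ∧ Group.IsSolvable K) (a := ⊥)
    ⟨inferInstance, inferInstance⟩
  refine ⟨R, hR.1.1, hR.1.2, ?_⟩
  intro K hKn hKs
  haveI := hR.1.1
  haveI := hKn
  have hn : K ≤ Subgroup.normalizer (R : Set N) := by
    rw [Subgroup.normalizer_eq_top]
    exact le_top
  have hsol := Cfsg.Agent.Lib.Helper20.isSolvable_sup_of_le_normalizer R K hn hR.1.2 hKs
  have hle : R ⊔ K ≤ R := hR.2 ⟨inferInstance, hsol⟩ le_sup_left
  exact le_trans le_sup_right hle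

/-- the centralizer index of a conjugate -/
theorem index_centralizer_of_isConj {G : Type*} [Group G] [Finite G] {x c : G} (h : IsConj x c) :
    (Subgroup.centralizer ({c} : Set G)).index = (Subgroup.centralizer ({x} : Set G)).index := by
  rw [← Cfsg.Agent.Lib.Helper20.PRC.ncard_carrier_eq_index c,
    ← Cfsg.Agent.Lib.Helper20.PRC.ncard_carrier_eq_index x,
    ConjClasses.mk_eq_mk_iff_isConj.mpr h]

/-- the centralizer index in a normal subgroup is again a `p`-power -/
theorem index_centralizer_normal {G : Type*} [Group G] [Finite G] {p : ℕ} (hp : p.Prime)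
    (N : Subgroup G) [N.Normal] (c : N)
    (h : ∃ a : ℕ, (Subgroup.centralizer ({(c : G)} : Set G)).index = p ^ a) :
    ∃ b : ℕ, (Subgroup.centralizer ({c} : Set N)).index = p ^ b := by
  obtain ⟨a, ha⟩ := h
  have hdvd := Cfsg.Agent.Lib.Helper20.PRC.relIndex_dvd_index_of_normal_right
    (Subgroup.centralizer ({(c : G)} : Set G)) N
  have heq : Subgroup.centralizer ({c} : Set N) =
      (Subgroup.centralizer ({(c : G)} : Set G)).subgroupOf N := by
    ext y
    simp only [Subgroup.mem_centralizer_iff, Set.mem_singleton_iff, forall_eq,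
      Subgroup.mem_subgroupOf]
    constructor
    · intro e
      have := congrArg (Subtype.val) e
      simpa using this
    · intro e
      apply Subtype.ext
      simpa using e
  rw [heq]
  rw [ha] at hdvd
  obtain ⟨j, -, hj⟩ := (Nat.dvd_prime_pow hp).mp hdvd
  exact ⟨j, hj⟩

/-- if `G` is generated by the class of `x` of `p`-power size, `G` is solvable -/
theorem solvable_of_normalClosure_eq_top {G : Type*} [Group G] [Finite G] {p : ℕ} (hp : p.Prime)
    (x : G) (hx : ∃ a : ℕ, (Subgroup.centralizer ({x} : Set G)).index = p ^ a)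
    (htop : Subgroup.normalClosure ({x} : Set G) = ⊤) : Group.IsSolvable G := by
  obtain ⟨a, ha⟩ := hx
  haveI : Fintype G := Fintype.ofFinite G
  haveI : Fact p.Prime := ⟨hp⟩
  have hpg : IsPGroup p (commutator G) := by
    rw [IsPGroup.iff_card]
    refine ⟨_, Nat.eq_prime_pow_of_unique_prime_dvd Nat.card_pos.ne' ?_⟩
    intro r hr hrd
    by_contra hrp
    haveI : Fact r.Prime := ⟨hr⟩
    obtain ⟨y, hy⟩ := exists_prime_orderOf_dvd_card' r hrd
    have hy' : orderOf (y : G) = r := by rw [Subgroup.orderOf_coe]; exact hy
    exact kazarin_core hp hr hrp x a ha htop (y : G) y.2 hy'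
  haveI : Group.IsNilpotent (commutator G) := hpg.isNilpotent
  haveI : Group.IsSolvable (commutator G) := inferInstance
  apply solvable_of_ker_le_range (commutator G).subtype (Abelianization.of : G →* Abelianization G)
  rw [Abelianization.ker_of, Subgroup.range_subtype]

theorem kazarin_aux (p : ℕ) (hp : p.Prime) (n : ℕ) :
    ∀ (G : Type u) [Group G] [Finite G], Nat.card G = n →
      ∀ x : G, (∃ a : ℕ, (Subgroup.centralizer ({x} : Set G)).index = p ^ a) →
        Group.IsSolvable ↥(Subgroup.normalClosure ({x} : Set G)) := by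
  induction n using Nat.strong_induction_on with
  | _ n ih =>
    intro G _ _ hn x hx
    by_cases htop : Subgroup.normalClosure ({x} : Set G) = ⊤
    · haveI := solvable_of_normalClosure_eq_top hp x hx htop
      infer_instance
    · obtain ⟨N, hN⟩ : ∃ N : Subgroup G, N = Subgroup.normalClosure ({x} : Set G) := ⟨_, rfl⟩
      rw [← hN]
      rw [← hN] at htop
      haveI hNn : N.Normal := by rw [hN]; exact Subgroup.normalClosure_normal
      have hxN : x ∈ N := by
        rw [hN]; exact Subgroup.subset_normalClosure (Set.mem_singleton _)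
      have hcard : Nat.card N < n := by
        rw [← hn]
        have h1 := Subgroup.card_mul_index N
        have h2 : N.index ≠ 1 := fun h => htop (Subgroup.index_eq_one.mp h)
        have h3 : N.index ≠ 0 := Subgroup.index_ne_zero_of_finite
        have h4 : 2 ≤ N.index := by omega
        have h5 : 0 < Nat.card N := Nat.card_pos
        nlinarith
      obtain ⟨R, hRn, hRs, hRmax⟩ := exists_solvable_radical N
      have hconj : ∀ c : G, ∀ hc : c ∈ N, IsConj x c → (⟨c, hc⟩ : N) ∈ R := by
        intro c hc hxc
        obtain ⟨a, ha⟩ := hx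
        have hcidx : ∃ b, (Subgroup.centralizer ({(⟨c, hc⟩ : N)} : Set N)).index = p ^ b := by
          apply index_centralizer_normal hp N ⟨c, hc⟩
          exact ⟨a, by rw [index_centralizer_of_isConj hxc]; exact ha⟩
        have hsol := ih (Nat.card N) hcard N rfl ⟨c, hc⟩ hcidx
        have hle := hRmax _ Subgroup.normalClosure_normal hsol
        exact hle (Subgroup.subset_normalClosure (Set.mem_singleton _))
      have hle : N ≤ R.map N.subtype := by
        conv_lhs => rw [hN]
        unfold Subgroup.normalClosure
        rw [Subgroup.closure_le]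
        intro c hc
        rw [Group.mem_conjugatesOfSet_iff] at hc
        obtain ⟨a, ha, hac⟩ := hc
        rw [Set.mem_singleton_iff] at ha
        subst ha
        have hcN : c ∈ N := by
          obtain ⟨k, rfl⟩ := isConj_iff.mp hac
          exact hNn.conj_mem a hxN k
        exact ⟨⟨c, hcN⟩, hconj c hcN hac, rfl⟩
      have hRtop : R = ⊤ := by
        rw [eq_top_iff]
        intro g _
        obtain ⟨g', hg'R, hgg'⟩ := hle g.2
        have : g' = g := Subtype.ext hgg'
        rw [← this]
        exact hg'R
      rw [hRtop] at hRs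
      exact Group.isSolvable_of_surjective (f := (⊤ : Subgroup N).subtype) (by
        intro g
        exact ⟨⟨g, Subgroup.mem_top g⟩, rfl⟩)

/-- **Kazarin's theorem** -/
theorem kazarin {G : Type u} [Group G] [Finite G] {p : ℕ} (hp : p.Prime) (x : G)
    (hx : ∃ a : ℕ, (Subgroup.centralizer ({x} : Set G)).index = p ^ a) :
    Group.IsSolvable ↥(Subgroup.normalClosure ({x} : Set G)) :=
  kazarin_aux p hp (Nat.card G) G rfl x hx

end Cfsg.Agent.Lib.Helper2.Kaz
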