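import Mathlib
import Cfsg.Agent.Lib.Helper2.KazC
import Cfsg.Agent.Lib.Helper2.Cores
import Cfsg.Agent.Lib.Helper20.Bender
import Cfsg.Agent.Lib.Helper23.ScnA

set_option autoImplicit false

/-!
# Consequence of Kazarin's theorem (helper2)

If the class of `x` has `p`-power size, then commutators of conjugates of `x` lie in `O_p(G)`.
-/

namespace Cfsg.Agent.Lib.Helper2.Kaz

open Cfsg

universe u

/-- a normal `p'`-subgroup is centralized by an element with `p`-power class size -/
theorem le_centralizer_of_coprime' {G : Type*} [Group G] [Finite G] {p : ℕ}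
    (x : G) (hx : ∃ a : ℕ, (Subgroup.centralizer ({x} : Set G)).index = p ^ a)
    (K : Subgroup G) [K.Normal] (hK : (Nat.card K).Coprime p) :
    K ≤ Subgroup.centralizer ({x} : Set G) := by
  obtain ⟨k, hk⟩ := hx
  have h1 : (Subgroup.centralizer ({x} : Set G)).relIndex K ∣
      (Subgroup.centralizer ({x} : Set G)).index :=
    Cfsg.Agent.Lib.Helper20.PRC.relIndex_dvd_index_of_normal_right _ K
  have h2 : (Subgroup.centralizer ({x} : Set G)).relIndex K ∣ Nat.card K :=
    Subgroup.relIndex_dvd_card _ _
  rw [hk] at h1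
  have h3 : (Subgroup.centralizer ({x} : Set G)).relIndex K = 1 := by
    have hc : (p ^ k).Coprime (Nat.card K) := Nat.Coprime.pow_left k hK.symm
    exact Nat.eq_one_of_dvd_coprimes hc h1 h2
  exact Subgroup.relIndex_eq_one.mp h3

/-- in a group with `O_p = 1`, the conjugates of an element with `p`-power class size commute -/
theorem normalClosure_comm_of_pCore_eq_bot {G : Type u} [Group G] [Finite G] {p : ℕ}
    [hp : Fact p.Prime] (hO : pCore p G = ⊥)
    (x : G) (hx : ∃ a : ℕ, (Subgroup.centralizer ({x} : Set G)).index = p ^ a)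
    (y z : G) (hy : y ∈ Subgroup.normalClosure ({x} : Set G))
    (hz : z ∈ Subgroup.normalClosure ({x} : Set G)) : y * z = z * y := by
  haveI hFn : (fittingSubgroup G).Normal := Cfsg.Agent.Lib.Helper2.fittingSubgroup_normal
  have hsol := kazarin hp.out x hx
  -- the Fitting subgroup is a p'-group
  have hFcop : (Nat.card (fittingSubgroup G)).Coprime p := by
    rw [Nat.coprime_comm, Nat.Prime.coprime_iff_not_dvd hp.out]
    intro hd
    obtain ⟨f, hf⟩ := exists_prime_orderOf_dvd_card' p hd
    have hf' : orderOf (f : G) = p ^ 1 := by rw [Subgroup.orderOf_coe, pow_one]; exact hf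
    have h1 := Cfsg.Agent.Lib.Helper23.ScnA.mem_pCore_of_mem_fitting (f : G) f.2 1 hf'
    rw [hO, Subgroup.mem_bot] at h1
    rw [h1, orderOf_one, pow_one] at hf'
    exact hp.out.one_lt.ne' hf'.symm
  have hFC : fittingSubgroup G ≤ Subgroup.centralizer ({x} : Set G) :=
    le_centralizer_of_coprime' x hx (fittingSubgroup G) hFcop
  have hCn : (Subgroup.centralizer (fittingSubgroup G : Set G)).Normal := inferInstance
  have hNC : Subgroup.normalClosure ({x} : Set G) ≤
      Subgroup.centralizer (fittingSubgroup G : Set G) := by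
    apply Subgroup.normalClosure_le_normal
    intro c hc
    rw [Set.mem_singleton_iff] at hc
    subst hc
    rw [SetLike.mem_coe, Subgroup.mem_centralizer_iff]
    intro f hf
    have := hFC hf
    rw [Subgroup.mem_centralizer_iff] at this
    exact (this c (Set.mem_singleton c)).symm
  have hNF : Subgroup.normalClosure ({x} : Set G) ≤ fittingSubgroup G :=
    Cfsg.Agent.Lib.Helper20.subnormal_solvable_le_fitting_of_le_centralizer _
      (Subgroup.normalClosure_normal (s := ({x} : Set G))).isSubnormal hsol hNC
  have h1 := hNC hy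
  rw [Subgroup.mem_centralizer_iff] at h1
  exact (h1 z (hNF hz)).symm

/-- commutators of conjugates of an element with `p`-power class size lie in `O_p(G)` -/
theorem comm_conj_mem_pCore {G : Type u} [Group G] [Finite G] (p : ℕ) [hp : Fact p.Prime]
    (x : G) (hx : ∃ a : ℕ, (Subgroup.centralizer ({x} : Set G)).index = p ^ a) (g h : G) :
    (g * x * g⁻¹) * (h * x * h⁻¹) * (g * x * g⁻¹)⁻¹ * (h * x * h⁻¹)⁻¹ ∈ pCore p G := by
  haveI hOn : (pCore p G).Normal := Cfsg.Agent.Lib.Helper2.pCore_normal p
  have hO := Cfsg.Agent.Lib.Helper20.PRC.pCore_quotient_eq_bot' (G := G) hp.out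
  -- the class size in the quotient
  have hxq : ∃ b : ℕ, (Subgroup.centralizer
      ({(QuotientGroup.mk' (pCore p G) x)} : Set (G ⧸ pCore p G))).index = p ^ b := by
    obtain ⟨a, ha⟩ := hx
    have h1 : (Subgroup.centralizer ({x} : Set G)).map (QuotientGroup.mk' (pCore p G)) ≤
        Subgroup.centralizer ({(QuotientGroup.mk' (pCore p G) x)} : Set (G ⧸ pCore p G)) := by
      have := Subgroup.map_centralizer_le_centralizer_image ({x} : Set G)
        (QuotientGroup.mk' (pCore p G))
      rwa [Set.image_singleton] at this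
    have h2 := Subgroup.index_dvd_of_le h1
    have h3 := Subgroup.index_map_dvd (Subgroup.centralizer ({x} : Set G))
      (QuotientGroup.mk'_surjective (pCore p G))
    have h4 := h2.trans h3
    rw [ha] at h4
    obtain ⟨j, -, hj⟩ := (Nat.dvd_prime_pow hp.out).mp h4
    exact ⟨j, hj⟩
  have hmem : ∀ k : G, QuotientGroup.mk' (pCore p G) (k * x * k⁻¹) ∈
      Subgroup.normalClosure ({(QuotientGroup.mk' (pCore p G) x)} : Set (G ⧸ pCore p G)) := by
    intro k
    rw [map_mul, map_mul, map_inv]
    exact (Subgroup.normalClosure_normal).conj_mem _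
      (Subgroup.subset_normalClosure (Set.mem_singleton _)) _
  have hcomm := normalClosure_comm_of_pCore_eq_bot hO _ hxq _ _ (hmem g) (hmem h)
  rw [← QuotientGroup.ker_mk' (pCore p G), MonoidHom.mem_ker]
  rw [map_mul, map_mul, map_mul, map_inv, map_inv, hcomm]
  group

end Cfsg.Agent.Lib.Helper2.Kaz
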