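import Mathlib
import Cfsg.Agent.Lib.Helper2.KazC

set_option autoImplicit false

/-!
# Subgroups of prime power index and solvability, via Kazarin's theorem (helper2)
-/

namespace Cfsg.Agent.Lib.Helper2.Kaz

open Cfsg

universe u

theorem solvable_of_quotient_normalClosure {G : Type u} [Group G] [Finite G] {q : ℕ}
    (hq : q.Prime) (x : G)
    (hx : ∃ a : ℕ, (Subgroup.centralizer ({x} : Set G)).index = q ^ a)
    (h : Group.IsSolvable (G ⧸ Subgroup.normalClosure ({x} : Set G))) : Group.IsSolvable G := by
  haveI := kazarin hq x hx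
  haveI := h
  apply solvable_of_ker_le_range (Subgroup.normalClosure ({x} : Set G)).subtype
    (QuotientGroup.mk' (Subgroup.normalClosure ({x} : Set G)))
  rw [QuotientGroup.ker_mk', Subgroup.range_subtype]

theorem isSolvable_of_card_prime_pow {G : Type*} [Group G] [Finite G] {p : ℕ} (hp : p.Prime)
    {n : ℕ} (h : Nat.card G = p ^ n) : Group.IsSolvable G := by
  haveI : Fact p.Prime := ⟨hp⟩
  haveI : Group.IsNilpotent G := (IsPGroup.of_card h).isNilpotent
  infer_instance

theorem card_quotient_lt {G : Type*} [Group G] [Finite G] (M : Subgroup G) [M.Normal]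
    (hM : M ≠ ⊥) : Nat.card (G ⧸ M) < Nat.card G := by
  have h1 := Subgroup.card_eq_card_quotient_mul_card_subgroup M
  have h2 : 1 < Nat.card M := (Subgroup.one_lt_card_iff_ne_bot M).mpr hM
  have h3 : 0 < Nat.card (G ⧸ M) := Nat.card_pos
  rw [h1]
  nlinarith

theorem normalClosure_ne_bot {G : Type*} [Group G] {x : G} (hx : x ≠ 1) :
    Subgroup.normalClosure ({x} : Set G) ≠ ⊥ := by
  intro h
  have h1 : x ∈ Subgroup.normalClosure ({x} : Set G) :=
    Subgroup.subset_normalClosure (Set.mem_singleton x)
  rw [h, Subgroup.mem_bot] at h1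
  exact hx h1

/-- a group with an abelian subgroup of prime power index is solvable -/
theorem solvable_of_abelian_prime_pow_index_aux (p : ℕ) (hp : p.Prime) (n : ℕ) :
    ∀ (G : Type u) [Group G] [Finite G], Nat.card G = n → ∀ (B : Subgroup G),
      (∀ x ∈ B, ∀ y ∈ B, x * y = y * x) → (∃ s : ℕ, B.index = p ^ s) → Group.IsSolvable G := by
  induction n using Nat.strong_induction_on with
  | _ n ih =>
    intro G _ _ hn B hab hs
    obtain ⟨s, hs⟩ := hs
    by_cases hB : B = ⊥
    · apply isSolvable_of_card_prime_pow hp (n := s)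
      rw [← hs, hB, Subgroup.index_bot]
    · obtain ⟨x, hxB, hx1⟩ : ∃ x ∈ B, x ≠ 1 := by
        by_contra h
        push_neg at h
        exact hB ((Subgroup.eq_bot_iff_forall B).mpr h)
      have hle : B ≤ Subgroup.centralizer ({x} : Set G) := by
        intro y hy
        rw [Subgroup.mem_centralizer_iff]
        intro z hz
        rw [Set.mem_singleton_iff] at hz
        subst hz
        exact hab z hxB y hy
      have hidx : ∃ a : ℕ, (Subgroup.centralizer ({x} : Set G)).index = p ^ a := by
        have h1 := Subgroup.index_dvd_of_le hle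
        rw [hs] at h1
        obtain ⟨j, -, hj⟩ := (Nat.dvd_prime_pow hp).mp h1
        exact ⟨j, hj⟩
      apply solvable_of_quotient_normalClosure hp x hidx
      have hM := normalClosure_ne_bot hx1
      have hlt : Nat.card (G ⧸ Subgroup.normalClosure ({x} : Set G)) < n :=
        hn ▸ card_quotient_lt _ hM
      refine ih _ hlt (G ⧸ Subgroup.normalClosure ({x} : Set G)) rfl
        (B.map (QuotientGroup.mk' (Subgroup.normalClosure ({x} : Set G)))) ?_ ?_
      · rintro _ ⟨a, ha, rfl⟩ _ ⟨b, hb, rfl⟩
        rw [← map_mul, ← map_mul, hab a ha b hb]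
      · have h1 := Subgroup.index_map_dvd B
          (QuotientGroup.mk'_surjective (Subgroup.normalClosure ({x} : Set G)))
        rw [hs] at h1
        obtain ⟨j, -, hj⟩ := (Nat.dvd_prime_pow hp).mp h1
        exact ⟨j, hj⟩

theorem solvable_of_abelian_prime_pow_index {G : Type u} [Group G] [Finite G] {p : ℕ}
    (hp : p.Prime) (B : Subgroup G) (hab : ∀ x ∈ B, ∀ y ∈ B, x * y = y * x)
    (hs : ∃ s : ℕ, B.index = p ^ s) : Group.IsSolvable G :=
  solvable_of_abelian_prime_pow_index_aux p hp (Nat.card G) G rfl B hab hs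

end Cfsg.Agent.Lib.Helper2.Kaz
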