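import Mathlib
import Cfsg.Agent.Lib.Helper2.KazE
import Cfsg.Agent.Lib.Helper20.PRegClass

set_option autoImplicit false

/-!
# A cyclic-by-(cyclic 2-group) subgroup of prime power index forces solvability (helper2)
-/

namespace Cfsg.Agent.Lib.Helper2.Kaz

open Cfsg

universe u

/-- unique involution in a cyclic group -/
theorem eq_of_orderOf_two_of_isCyclic {B : Type*} [Group B] [Finite B] [IsCyclic B] (z w : B)
    (hz : orderOf z = 2) (hw : orderOf w = 2) : z = w := by
  classical
  haveI : Fintype B := Fintype.ofFinite B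
  have hd : 2 ∣ Fintype.card B := by
    rw [← hz, ← Nat.card_eq_fintype_card]
    exact orderOf_dvd_natCard z
  have h1 := IsCyclic.card_orderOf_eq_totient (α := B) hd
  rw [Nat.totient_two] at h1
  obtain ⟨c, hc⟩ := Finset.card_eq_one.mp h1
  have hz' : z ∈ Finset.univ.filter (fun a : B => orderOf a = 2) := by simp [hz]
  have hw' : w ∈ Finset.univ.filter (fun a : B => orderOf a = 2) := by simp [hw]
  rw [hc, Finset.mem_singleton] at hz' hw'
  rw [hz', hw']

/-- the hypotheses pass to quotients -/
theorem solvable_quotient_of_ih {G : Type u} [Group G] [Finite G] {p : ℕ} (hp : p.Prime)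
    (M : Subgroup G) [M.Normal] (A : Subgroup G) (s : ℕ) (hA : A.index = p ^ s)
    (B : Subgroup A) [hBn : B.Normal] (hBc : IsCyclic B) (hABc : IsCyclic (A ⧸ B)) (r : ℕ)
    (hr : Nat.card (A ⧸ B) = 2 ^ r)
    (ihG : ∀ (A' : Subgroup (G ⧸ M)) (s' : ℕ), A'.index = p ^ s' →
      ∀ (B' : Subgroup A') [B'.Normal], IsCyclic B' → IsCyclic (A' ⧸ B') →
      ∀ r' : ℕ, Nat.card (A' ⧸ B') = 2 ^ r' → Group.IsSolvable (G ⧸ M)) :
    Group.IsSolvable (G ⧸ M) := by
  let π := QuotientGroup.mk' M
  let f' : ↥A →* ↥(A.map π) := π.subgroupMap A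
  have hsurj' : Function.Surjective f' := π.subgroupMap_surjective A
  haveI hBn' : (B.map f').Normal := Subgroup.Normal.map hBn f' hsurj'
  haveI : IsCyclic ↥B := hBc
  have hBc' : IsCyclic ↥(B.map f') :=
    isCyclic_of_surjective (f'.subgroupMap B) (f'.subgroupMap_surjective B)
  let φ : A ⧸ B →* ↥(A.map π) ⧸ (B.map f') :=
    QuotientGroup.map B (B.map f') f' (Subgroup.le_comap_map f' B)
  have hφ : Function.Surjective φ := by
    intro y
    obtain ⟨a', rfl⟩ := QuotientGroup.mk_surjective y
    obtain ⟨a, rfl⟩ := hsurj' a'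
    exact ⟨(a : A ⧸ B), QuotientGroup.map_mk _ _ _ _ a⟩
  haveI : IsCyclic (A ⧸ B) := hABc
  have hABc' : IsCyclic (↥(A.map π) ⧸ (B.map f')) := isCyclic_of_surjective φ hφ
  obtain ⟨j, hj⟩ : ∃ j, Nat.card (↥(A.map π) ⧸ (B.map f')) = 2 ^ j := by
    have h1 := Subgroup.card_dvd_of_surjective φ hφ
    rw [hr] at h1
    obtain ⟨j, -, hj⟩ := (Nat.dvd_prime_pow Nat.prime_two).mp h1
    exact ⟨j, hj⟩
  obtain ⟨s', hs'⟩ : ∃ s', (A.map π).index = p ^ s' := by
    have h1 := Subgroup.index_map_dvd A (QuotientGroup.mk'_surjective M)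
    rw [hA] at h1
    obtain ⟨i, -, hi⟩ := (Nat.dvd_prime_pow hp).mp h1
    exact ⟨i, hi⟩
  exact ihG (A.map π) s' hs' (B.map f') hBc' hABc' j hj

theorem cyclic_by_two_aux (p : ℕ) (hp : p.Prime) (n : ℕ) :
    ∀ (G : Type u) [Group G] [Finite G], Nat.card G = n → ∀ (A : Subgroup G) (s : ℕ),
      A.index = p ^ s → ∀ (B : Subgroup A) [B.Normal], IsCyclic B → IsCyclic (A ⧸ B) →
      ∀ r : ℕ, Nat.card (A ⧸ B) = 2 ^ r → Group.IsSolvable G := by
  induction n using Nat.strong_induction_on with
  | _ n ih =>
    intro G _ _ hn A s hA B hBn hBc hABc r hr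
    -- the key reduction step
    have step : ∀ (q : ℕ), q.Prime → ∀ x : G, x ≠ 1 →
        (∃ a : ℕ, (Subgroup.centralizer ({x} : Set G)).index = q ^ a) → Group.IsSolvable G := by
      intro q hq x hx1 hxq
      apply solvable_of_quotient_normalClosure hq x hxq
      have hM := normalClosure_ne_bot hx1
      have hlt : Nat.card (G ⧸ Subgroup.normalClosure ({x} : Set G)) < n :=
        hn ▸ card_quotient_lt _ hM
      exact solvable_quotient_of_ih hp _ A s hA B hBc hABc r hr
        (fun A' s' hA' B' _ hB' hAB' r' hr' => ih _ hlt _ rfl A' s' hA' B' hB' hAB' r' hr')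
    -- the image of B in G
    obtain ⟨Bt, hBt⟩ : ∃ Bt : Subgroup G, Bt = B.map A.subtype := ⟨_, rfl⟩
    have hBt_idx : Bt.index = 2 ^ r * p ^ s := by
      rw [hBt, Subgroup.index_map_subtype, hA, Subgroup.index_eq_card, hr]
    have hBcomm : ∀ x y : B, x * y = y * x :=
      fun x y => (IsCyclic.commGroup (α := ↥B)).mul_comm x y
    have hBt_comm : ∀ x ∈ Bt, ∀ y ∈ Bt, x * y = y * x := by
      rw [hBt]
      rintro _ ⟨a, ha, rfl⟩ _ ⟨b, hb, rfl⟩
      have h1 := hBcomm ⟨a, ha⟩ ⟨b, hb⟩
      have h2 := congrArg (fun z : B => ((z : A) : G)) h1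
      simpa using h2
    have hBt_cent : ∀ x ∈ Bt, Bt ≤ Subgroup.centralizer ({x} : Set G) := by
      intro x hx y hy
      rw [Subgroup.mem_centralizer_iff]
      intro z hz
      rw [Set.mem_singleton_iff] at hz
      subst hz
      exact hBt_comm z hx y hy
    by_cases h2 : p = 2
    · subst h2
      by_cases hB : B = ⊥
      · apply isSolvable_of_card_prime_pow Nat.prime_two (n := r + s)
        have h1 : Bt = ⊥ := by rw [hBt, hB, Subgroup.map_bot]
        rw [h1, Subgroup.index_bot] at hBt_idx
        rw [hBt_idx, pow_add]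
      · obtain ⟨x₀, hx₀B, hx₀1⟩ : ∃ x ∈ B, x ≠ 1 := by
          by_contra h
          push_neg at h
          exact hB ((Subgroup.eq_bot_iff_forall B).mpr h)
        have hxBt : ((x₀ : A) : G) ∈ Bt := by
          rw [hBt]
          exact ⟨x₀, hx₀B, rfl⟩
        have hx1 : ((x₀ : A) : G) ≠ 1 := by
          intro h
          apply hx₀1
          exact Subtype.ext h
        apply step 2 Nat.prime_two _ hx1
        have h1 := Subgroup.index_dvd_of_le (hBt_cent _ hxBt)
        rw [hBt_idx, ← pow_add] at h1
        obtain ⟨j, -, hj⟩ := (Nat.dvd_prime_pow Nat.prime_two).mp h1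
        exact ⟨j, hj⟩
    · -- p odd
      have hpodd : ¬ 2 ∣ p := fun h =>
        h2 ((Nat.prime_dvd_prime_iff_eq Nat.prime_two hp).mp h).symm
      by_cases hZ : ∃ z : A, z ∈ Subgroup.center A ∧ z ≠ 1
      · obtain ⟨z, hzc, hz1⟩ := hZ
        have hx1 : (z : G) ≠ 1 := fun h => hz1 (Subtype.ext h)
        apply step p hp (z : G) hx1
        have hle : A ≤ Subgroup.centralizer ({(z : G)} : Set G) := by
          intro a ha
          rw [Subgroup.mem_centralizer_iff]
          intro w hw
          rw [Set.mem_singleton_iff] at hw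
          subst hw
          have h3 := (Subgroup.mem_center_iff.mp hzc) ⟨a, ha⟩
          have h4 := congrArg Subtype.val h3
          simpa using h4.symm
        have h1 := Subgroup.index_dvd_of_le hle
        rw [hA] at h1
        obtain ⟨j, -, hj⟩ := (Nat.dvd_prime_pow hp).mp h1
        exact ⟨j, hj⟩
      · push_neg at hZ
        haveI : Fact (Nat.Prime 2) := ⟨Nat.prime_two⟩
        haveI : IsCyclic ↥B := hBc
        haveI : IsCyclic (A ⧸ B) := hABc
        -- |B| is odd
        have hBodd : ¬ 2 ∣ Nat.card B := by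
          intro hd
          obtain ⟨z₀, hz₀⟩ := exists_prime_orderOf_dvd_card' 2 hd
          have hz1 : (z₀ : A) ≠ 1 := by
            intro h
            have h3 : z₀ = 1 := Subtype.ext h
            rw [h3, orderOf_one] at hz₀
            norm_num at hz₀
          apply hz1
          apply hZ
          rw [Subgroup.mem_center_iff]
          intro a
          have hconj : a * (z₀ : A) * a⁻¹ ∈ B := hBn.conj_mem _ z₀.2 a
          have hs : SemiconjBy a (z₀ : A) (a * (z₀ : A) * a⁻¹) := by
            show a * (z₀ : A) = a * (z₀ : A) * a⁻¹ * a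
            group
          have hord : orderOf (⟨a * (z₀ : A) * a⁻¹, hconj⟩ : B) = 2 := by
            rw [← Subgroup.orderOf_coe]
            show orderOf (a * (z₀ : A) * a⁻¹) = 2
            rw [← hs.orderOf_eq, Subgroup.orderOf_coe]
            exact hz₀
          have heq := eq_of_orderOf_two_of_isCyclic _ _ hord hz₀
          have heq' : a * (z₀ : A) * a⁻¹ = (z₀ : A) := congrArg Subtype.val heq
          calc a * (z₀ : A) = a * (z₀ : A) * a⁻¹ * a := by group
            _ = (z₀ : A) * a := by rw [heq']
        by_cases hGeven : 2 ∣ Nat.card G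
        swap
        · -- r = 0
          have hr0 : r = 0 := by
            by_contra h
            apply hGeven
            have h1 : 2 ∣ Nat.card (A ⧸ B) := by rw [hr]; exact dvd_pow_self 2 h
            have h3 : Nat.card (A ⧸ B) ∣ Nat.card A := by
              rw [← Subgroup.index_eq_card]
              exact Subgroup.index_dvd_card B
            exact h1.trans (h3.trans (Subgroup.card_subgroup_dvd_card A))
          apply solvable_of_abelian_prime_pow_index hp Bt hBt_comm
          exact ⟨s, by rw [hBt_idx, hr0, pow_zero, one_mul]⟩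
        · -- a cyclic Sylow 2-subgroup
          obtain ⟨P₀⟩ : Nonempty (Sylow 2 A) := inferInstance
          have hcop : Nat.Coprime (Nat.card (P₀ : Subgroup A)) (Nat.card B) := by
            obtain ⟨k, hk⟩ := P₀.2.exists_card_eq
            rw [hk]
            exact Nat.Coprime.pow_left k ((Nat.Prime.coprime_iff_not_dvd Nat.prime_two).mpr hBodd)
          have hinf : (P₀ : Subgroup A) ⊓ B = ⊥ := Subgroup.inf_eq_bot_of_coprime hcop
          have hψ : Function.Injective
              ((QuotientGroup.mk' B).comp (P₀ : Subgroup A).subtype) := by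
            rw [injective_iff_map_eq_one]
            intro y hy
            rw [MonoidHom.comp_apply, QuotientGroup.mk'_apply, QuotientGroup.eq_one_iff] at hy
            have h3 : (y : A) ∈ (P₀ : Subgroup A) ⊓ B := ⟨y.2, hy⟩
            rw [hinf, Subgroup.mem_bot] at h3
            exact Subtype.ext h3
          have hP₀c : IsCyclic ↥(P₀ : Subgroup A) := isCyclic_of_injective _ hψ
          have hfac : (Nat.card G).factorization 2 = (Nat.card A).factorization 2 := by
            rw [← Subgroup.card_mul_index A, hA,
              Nat.factorization_mul Nat.card_pos.ne' (pow_ne_zero s hp.ne_zero)]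
            simp [Nat.factorization_pow, Nat.factorization_eq_zero_of_not_dvd hpodd]
          have hcardP : Nat.card ↥((P₀ : Subgroup A).map A.subtype) =
              2 ^ (Nat.card G).factorization 2 := by
            rw [Subgroup.card_map_of_injective A.subtype_injective, hfac]
            exact P₀.card_eq_multiplicity
          obtain ⟨P, hP⟩ : ∃ P : Sylow 2 G, (P : Subgroup G) = (P₀ : Subgroup A).map A.subtype :=
            ⟨Sylow.ofCard _ hcardP, Sylow.coe_ofCard _ hcardP⟩
          have hPc : IsCyclic ↥(P : Subgroup G) := by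
            rw [hP]
            exact isCyclic_of_surjective (A.subtype.subgroupMap (P₀ : Subgroup A))
              (A.subtype.subgroupMap_surjective _)
          have hmin : (Nat.card G).minFac = 2 := (Nat.minFac_eq_two_iff _).mpr hGeven
          have hNC := IsCyclic.normalizer_le_centralizer hmin hPc
          obtain ⟨K, hK⟩ : ∃ K : Subgroup G, K = (MonoidHom.transferSylow P hNC).ker := ⟨_, rfl⟩
          haveI hKn : K.Normal := by rw [hK]; exact MonoidHom.normal_ker _
          have hKodd : ¬ 2 ∣ Nat.card K := by
            rw [hK]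
            exact MonoidHom.not_dvd_card_ker_transferSylow P hNC
          -- K is solvable
          have hKsol : Group.IsSolvable ↥K := by
            apply solvable_of_abelian_prime_pow_index hp (Bt.subgroupOf K)
            · intro x hx y hy
              apply Subtype.ext
              exact hBt_comm _ (Subgroup.mem_subgroupOf.mp hx) _ (Subgroup.mem_subgroupOf.mp hy)
            · have h1 : Bt.relIndex K ∣ Bt.index :=
                Cfsg.Agent.Lib.Helper20.PRC.relIndex_dvd_index_of_normal_right Bt K
              have h3 : Bt.relIndex K ∣ Nat.card K := Subgroup.relIndex_dvd_card Bt K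
              rw [hBt_idx] at h1
              have hc : Nat.Coprime (Bt.relIndex K) (2 ^ r) := by
                apply Nat.Coprime.pow_right
                rw [Nat.coprime_comm, Nat.Prime.coprime_iff_not_dvd Nat.prime_two]
                exact fun h => hKodd (h.trans h3)
              have h4 : Bt.relIndex K ∣ p ^ s := (Nat.Coprime.dvd_mul_left hc).mp h1
              obtain ⟨j, -, hj⟩ := (Nat.dvd_prime_pow hp).mp h4
              exact ⟨j, hj⟩
          haveI : Group.IsSolvable ↥(P : Subgroup G) := by
            obtain ⟨k, hk⟩ := P.2.exists_card_eq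
            exact isSolvable_of_card_prime_pow Nat.prime_two hk
          apply solvable_of_ker_le_range K.subtype (MonoidHom.transferSylow P hNC)
          rw [Subgroup.range_subtype, hK]

/-- a group with a subgroup of prime power index that is cyclic-by-(cyclic 2-group) is solvable -/
theorem cyclic_by_two {G : Type u} [Group G] [Finite G] (A : Subgroup G) (p s : ℕ) (hp : p.Prime)
    (hA : A.index = p ^ s) (B : Subgroup A) [B.Normal] (hB : IsCyclic B)
    (hAB : IsCyclic (A ⧸ B)) (r : ℕ) (hr : Nat.card (A ⧸ B) = 2 ^ r) : Group.IsSolvable G :=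
  cyclic_by_two_aux p hp (Nat.card G) G rfl A s hA B hB hAB r hr

end Cfsg.Agent.Lib.Helper2.Kaz
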