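import Mathlib
import Cfsg.Prelude.Def_Blocks
import Cfsg.Agent.Lib.Helper4.PrincipalNormal
import Cfsg.Agent.Lib.Helper28.PrimeCoreC

set_option autoImplicit false

/-!
# Principal 2-blocks and normal subgroups of odd index (helper2)

For `N ⊴ G` of odd index, an element outside `N` is never conjugate to its inverse.  Hence the
class sum of the odd-order elements outside `N` splits into two halves interchanged by
inversion, and a character real on elements of odd order takes on it twice a local integer.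
-/

namespace Cfsg.Agent.Lib.Helper2.OddIdxBlock

open Cfsg Cfsg.Agent.Lib.Helper26 Cfsg.Agent.Lib.Helper28 Cfsg.Agent.Lib.Helper4
open scoped Classical

section A

/-- In a finite group of odd order, an element conjugate to its inverse is trivial. -/
theorem eq_one_of_conj_inv_of_odd {Q : Type*} [Group Q] [Finite Q] (hodd : Odd (Nat.card Q))
    (a b : Q) (h : a * b * a⁻¹ = b⁻¹) : b = 1 := by
  have h2 : (a * a) * b * (a * a)⁻¹ = b := by
    calc (a * a) * b * (a * a)⁻¹ = a * (a * b * a⁻¹) * a⁻¹ := by group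
      _ = a * b⁻¹ * a⁻¹ := by rw [h]
      _ = (a * b * a⁻¹)⁻¹ := by group
      _ = b := by rw [h, inv_inv]
  have hc2 : Commute (a * a) b := by
    show (a * a) * b = b * (a * a)
    calc (a * a) * b = ((a * a) * b * (a * a)⁻¹) * (a * a) := by group
      _ = b * (a * a) := by rw [h2]
  have hoa : Odd (orderOf a) := Odd.of_dvd_nat hodd (orderOf_dvd_natCard a)
  obtain ⟨j, hj⟩ := hoa
  have ha : (a * a) ^ (j + 1) = a := by
    have h3 : (a * a) ^ (j + 1) = a ^ (2 * j + 1) * a := by
      have e : 2 * j + 1 + 1 = 2 * (j + 1) := by ring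
      rw [← pow_two, ← pow_mul, ← pow_succ, e]
    rw [h3, ← hj, pow_orderOf_eq_one, one_mul]
  have hc : Commute a b := by
    rw [← ha]
    exact hc2.pow_left _
  have h3 : a * b * a⁻¹ = b := by
    rw [hc.eq, mul_inv_cancel_right]
  rw [h3] at h
  have hb2 : b ^ 2 = 1 := by
    rw [pow_two]
    calc b * b = b * b⁻¹ := by rw [← h]
      _ = 1 := mul_inv_cancel b
  have hd : orderOf b ∣ 2 := orderOf_dvd_of_pow_eq_one hb2
  have hob : Odd (orderOf b) := Odd.of_dvd_nat hodd (orderOf_dvd_natCard b)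
  obtain ⟨m, hm⟩ := hob
  have hle : orderOf b ≤ 2 := Nat.le_of_dvd (by norm_num) hd
  have h1 : orderOf b = 1 := by omega
  exact orderOf_eq_one_iff.mp h1

variable {G : Type*} [Group G]

theorem not_isConj_inv_of_not_mem [Finite G] (N : Subgroup G) [N.Normal] (hidx : Odd N.index)
    (g : G) (hg : g ∉ N) : ¬ IsConj g g⁻¹ := by
  intro h
  obtain ⟨c, hc⟩ := isConj_iff.mp h
  have hodd : Odd (Nat.card (G ⧸ N)) := by
    rw [← Subgroup.index_eq_card]
    exact hidx
  have h1 : (QuotientGroup.mk' N c) * (QuotientGroup.mk' N g) * (QuotientGroup.mk' N c)⁻¹ =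
      (QuotientGroup.mk' N g)⁻¹ := by
    rw [← map_inv, ← map_mul, ← map_mul, hc, map_inv]
  have h2 := eq_one_of_conj_inv_of_odd hodd _ _ h1
  exact hg ((QuotientGroup.eq_one_iff g).mp h2)

/-- indicator of the elements of odd order outside `N` -/
noncomputable def outFun (N : Subgroup G) (g : G) : ℂ :=
  if Odd (orderOf g) ∧ g ∉ N then 1 else 0

/-- indicator of "half" of the elements of odd order outside `N`: those whose class precedes
the class of the inverse in a fixed well-ordering of the classes -/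
noncomputable def halfFun (N : Subgroup G) (g : G) : ℂ :=
  if Odd (orderOf g) ∧ g ∉ N ∧ WellOrderingRel (ConjClasses.mk g) (ConjClasses.mk g⁻¹)
  then 1 else 0

theorem isClassFunction_halfFun (N : Subgroup G) [hN : N.Normal] :
    IsClassFunction G (halfFun N) := by
  intro g k
  have h1 : orderOf (k * g * k⁻¹) = orderOf g := (MulAut.conj k).orderOf_eq g
  have h2 : (k * g * k⁻¹ ∈ N) = (g ∈ N) := by
    apply propext
    constructor
    · intro hm
      have := hN.conj_mem _ hm k⁻¹
      have e : k⁻¹ * (k * g * k⁻¹) * k⁻¹⁻¹ = g := by group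
      rwa [e] at this
    · intro hm
      exact hN.conj_mem _ hm k
  have h3 : ConjClasses.mk (k * g * k⁻¹) = ConjClasses.mk g :=
    (ConjClasses.mk_eq_mk_iff_isConj.mpr (isConj_iff.mpr ⟨k, rfl⟩)).symm
  have h4 : ConjClasses.mk (k * g * k⁻¹)⁻¹ = ConjClasses.mk g⁻¹ := by
    refine (ConjClasses.mk_eq_mk_iff_isConj.mpr (isConj_iff.mpr ⟨k, ?_⟩)).symm
    group
  unfold halfFun
  rw [h1, h2, h3, h4]

theorem halfFun_add_inv [Finite G] (N : Subgroup G) [N.Normal] (hidx : Odd N.index) (g : G) :
    halfFun N g + halfFun N g⁻¹ = outFun N g := by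
  unfold halfFun outFun
  rw [orderOf_inv, inv_inv]
  have hmem : (g⁻¹ ∈ N) = (g ∈ N) := propext inv_mem_iff
  rw [hmem]
  by_cases h : Odd (orderOf g) ∧ g ∉ N
  · have hne : ConjClasses.mk g ≠ ConjClasses.mk g⁻¹ := by
      intro he
      exact not_isConj_inv_of_not_mem N hidx g h.2 (ConjClasses.mk_eq_mk_iff_isConj.mp he)
    rcases trichotomous_of WellOrderingRel (ConjClasses.mk g) (ConjClasses.mk g⁻¹)
      with h1 | h1 | h1
    · have h2 : ¬ WellOrderingRel (ConjClasses.mk g⁻¹) (ConjClasses.mk g) :=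
        asymm_of WellOrderingRel h1
      rw [if_pos ⟨h.1, h.2, h1⟩, if_neg (fun hh => h2 hh.2.2), if_pos h, add_zero]
    · exact absurd h1 hne
    · have h2 : ¬ WellOrderingRel (ConjClasses.mk g) (ConjClasses.mk g⁻¹) :=
        asymm_of WellOrderingRel h1
      rw [if_neg (fun hh => h2 hh.2.2), if_pos ⟨h.1, h.2, h1⟩, if_pos h, zero_add]
  · rw [if_neg (fun hh => h ⟨hh.1, hh.2.1⟩), if_neg (fun hh => h ⟨hh.1, hh.2.1⟩), if_neg h,
      add_zero]

theorem pRegInd_eq [Fintype G] (N : Subgroup G) [N.Normal] :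
    pRegInd G 2 = extZero N (pRegInd N 2) + outFun N := by
  funext g
  rw [Pi.add_apply]
  by_cases hg : g ∈ N
  · have h1 : extZero N (pRegInd N 2) g = pRegInd N 2 ⟨g, hg⟩ := extZero_mem N _ ⟨g, hg⟩
    have h2 : outFun N g = 0 := by
      unfold outFun
      rw [if_neg (fun hh => hh.2 hg)]
    rw [h1, h2, add_zero]
    unfold pRegInd
    rw [Subgroup.orderOf_mk]
  · rw [extZero_not_mem N _ hg, zero_add]
    unfold pRegInd outFun
    by_cases h2 : 2 ∣ orderOf g
    · rw [if_pos h2, if_neg]
      intro hh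
      exact (Nat.not_even_iff_odd.mpr hh.1) (even_iff_two_dvd.mpr h2)
    · rw [if_neg h2, if_pos]
      exact ⟨Nat.not_even_iff_odd.mp (fun he => h2 (even_iff_two_dvd.mp he)), hg⟩

theorem omegaF_outFun [Fintype G] (N : Subgroup G) [N.Normal] (hidx : Odd N.index) (χ : G → ℂ)
    (hχ : ∀ g : G, Odd (orderOf g) → χ g⁻¹ = χ g) :
    omegaF χ (outFun N) = 2 * omegaF χ (halfFun N) := by
  unfold omegaF
  have h1 : ∑ g : G, outFun N g * χ g =
      ∑ g : G, halfFun N g * χ g + ∑ g : G, halfFun N g⁻¹ * χ g := by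
    rw [← Finset.sum_add_distrib]
    refine Finset.sum_congr rfl fun g _ => ?_
    rw [← halfFun_add_inv N hidx g, add_mul]
  have h2 : ∑ g : G, halfFun N g⁻¹ * χ g = ∑ g : G, halfFun N g * χ g := by
    have h3 : ∀ g : G, halfFun N g⁻¹ * χ g = halfFun N g⁻¹ * χ g⁻¹ := by
      intro g
      by_cases ho : Odd (orderOf g)
      · rw [hχ g ho]
      · have h4 : halfFun N g⁻¹ = 0 := by
          unfold halfFun
          rw [if_neg]
          intro hh
          rw [orderOf_inv] at hh
          exact ho hh.1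
        rw [h4, zero_mul, zero_mul]
    rw [Finset.sum_congr rfl (fun g _ => h3 g)]
    exact Equiv.sum_comp (Equiv.inv G) (fun g => halfFun N g * χ g)
  rw [h1, h2]
  ring

theorem mem_principalBlock_iff_of_odd_index [Fintype G] {M : Ideal AlgInt}
    (hM : IsPModular 2 M) (N : Subgroup G) [hN : N.Normal] [instN : Fintype N]
    (hidx : Odd N.index) (χ : IrrCharacter G) (θ : IrrCharacter N)
    (hχ : ∀ g : G, Odd (orderOf g) → (χ : G → ℂ) g⁻¹ = (χ : G → ℂ) g)
    (hover : classInner (fun n : N => (χ : G → ℂ) n) (θ : N → ℂ) ≠ 0) :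
    χ ∈ principalBlock M G ↔ θ ∈ principalBlock M N := by
  have hinst : instN = Subgroup.instFintypeSubtypeMemOfDecidablePred N := Subsingleton.elim _ _
  subst hinst
  have : Fact (Nat.Prime 2) := ⟨Nat.prime_two⟩
  have : M.IsPrime := hM.2.1.isPrime
  have hMtop : M ≠ ⊤ := hM.2.1.ne_top
  have hγ : ∀ (g : G) (n : N),
      pRegInd N 2 ⟨g * n * g⁻¹, hN.conj_mem n n.2 g⟩ = pRegInd N 2 n := by
    intro g n
    unfold pRegInd
    have e1 : orderOf (g * (n : G) * g⁻¹) = orderOf (n : G) := (MulAut.conj g).orderOf_eq _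
    rw [Subgroup.orderOf_mk, e1, Subgroup.orderOf_coe]
  have h1 : omegaF (χ : G → ℂ) (extZero N (pRegInd N 2)) =
      omegaF (θ : N → ℂ) (pRegInd N 2) :=
    omegaF_extZero_of_constituent N χ.2 θ.2 hover (pRegInd N 2) hγ
  have h2 : omegaF (χ : G → ℂ) (pRegInd G 2) =
      omegaF (θ : N → ℂ) (pRegInd N 2) + 2 * omegaF (χ : G → ℂ) (halfFun N) := by
    rw [pRegInd_eq N, omegaF_add, h1, omegaF_outFun N hidx _ hχ]
  have h3 : MemLocalIdeal M (2 * omegaF (χ : G → ℂ) (halfFun N)) := by
    have h4 : MemLocalRing M (omegaF (χ : G → ℂ) (halfFun N)) :=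
      omegaF_memLocalRing χ.2 (halfFun N) (isClassFunction_halfFun N) (fun g => by
        unfold halfFun
        split_ifs
        · exact memLocalRing_one hMtop
        · exact memLocalRing_zero hMtop)
    have h5 : MemLocalIdeal M (2 : ℂ) := by
      have h6 := memLocalIdeal_natCast_p hM
      rwa [Nat.cast_ofNat] at h6
    exact memLocalIdeal_mul_right h5 h4
  constructor
  · intro h
    apply mem_principalBlock_of_omegaF hM
    intro hcon
    apply omegaF_pRegInd_of_mem_principalBlock hM χ h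
    rw [h2]
    exact memLocalIdeal_add hcon h3
  · intro h
    apply mem_principalBlock_of_omegaF hM
    intro hcon
    apply omegaF_pRegInd_of_mem_principalBlock hM θ h
    have h7 : omegaF (θ : N → ℂ) (pRegInd N 2) =
        omegaF (χ : G → ℂ) (pRegInd G 2) - 2 * omegaF (χ : G → ℂ) (halfFun N) := by
      rw [h2]; ring
    rw [h7]
    exact memLocalIdeal_sub hcon h3

end A

end Cfsg.Agent.Lib.Helper2.OddIdxBlock
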