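import Mathlib
import Cfsg.Agent.Lib.Helper2.Order168g

/-!
Simple groups of order 168: maximal subgroups (helper2).
-/

set_option autoImplicit false
set_option maxHeartbeats 800000
open scoped Pointwise

namespace Cfsg.Agent.Lib.Helper2.Order168

section General
variable {G : Type*} [Group G]

theorem isKleinFour_map {H : Type*} [Group H] {U : Subgroup G} (hU : IsKleinFour ↥U) (f : G →* H)
    (hf : Function.Injective f) : IsKleinFour ↥(U.map f) := by
  haveI := hU
  have e := Subgroup.equivMapOfInjective U f hf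
  constructor
  · rw [← Nat.card_congr e.toEquiv]; exact IsKleinFour.card_four
  · rw [← Monoid.exponent_eq_of_mulEquiv e]; exact IsKleinFour.exponent_two

theorem normalizer_map_conj (U : Subgroup G) (g : G) :
    Subgroup.normalizer ((U.map (MulAut.conj g).toMonoidHom : Subgroup G) : Set G) =
      (Subgroup.normalizer (U : Set G)).map (MulAut.conj g).toMonoidHom :=
  (Subgroup.map_equiv_normalizer_eq U (MulAut.conj g)).symm

theorem map_conj_map_conj_inv (V : Subgroup G) (g : G) :
    (V.map (MulAut.conj g⁻¹).toMonoidHom).map (MulAut.conj g).toMonoidHom = V := by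
  ext y
  constructor
  · rintro ⟨w, ⟨v, hv, rfl⟩, rfl⟩
    have e : (MulAut.conj g).toMonoidHom ((MulAut.conj g⁻¹).toMonoidHom v) = v := by
      simp only [MulEquiv.coe_toMonoidHom, MulAut.conj_apply]
      group
    rw [e]; exact hv
  · intro hy
    refine ⟨g⁻¹ * y * g, ⟨y, hy, by simp⟩, ?_⟩
    simp only [MulEquiv.coe_toMonoidHom, MulAut.conj_apply]
    group

theorem map_conj_eq_of_mem_normalizer' (V : Subgroup G) {g : G}
    (hg : g ∈ Subgroup.normalizer (V : Set G)) : V.map (MulAut.conj g).toMonoidHom = V := by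
  ext x
  have hn := Subgroup.mem_normalizer_iff.mp hg
  constructor
  · rintro ⟨v, hv, rfl⟩
    have := (hn v).mp hv
    simpa using this
  · intro hx
    refine ⟨g⁻¹ * x * g, ?_, by simp [mul_assoc]⟩
    have := (hn (g⁻¹ * x * g)).mpr (by
      have e : g * (g⁻¹ * x * g) * g⁻¹ = x := by group
      rw [e]; exact hx)
    exact this

/-- a subgroup with a unique Sylow `p`-subgroup of order `p` normalizes a cyclic group of order `p` -/
theorem le_normalizer_zpowers_of_card_sylow_eq_one [Finite G] {p m : ℕ} [Fact p.Prime]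
    (M : Subgroup G) (hMp : Nat.card M = p ^ 1 * m) (hm : ¬ p ∣ m)
    (h1 : Nat.card (Sylow p ↥M) = 1) :
    ∃ t : G, t ∈ M ∧ orderOf t = p ∧
      M ≤ Subgroup.normalizer ((Subgroup.zpowers t : Subgroup G) : Set G) := by
  obtain ⟨P⟩ : Nonempty (Sylow p ↥M) := inferInstance
  have hP : Nat.card (P : Subgroup ↥M) = p := by
    have := sylow_card (p := p) (n := 1) (m := m) hMp hm P
    simpa using this
  have hnorm : (P : Subgroup ↥M).Normal := by
    rw [Sylow.card_eq_index_normalizer P, Subgroup.index_eq_one] at h1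
    exact Subgroup.normalizer_eq_top_iff.mp h1
  obtain ⟨t₀, ht₀P, htM⟩ : ∃ t₀ : ↥M, t₀ ∈ (P : Subgroup ↥M) ∧ orderOf t₀ = p := by
    obtain ⟨t', ht'⟩ := exists_prime_orderOf_dvd_card' (G := ↥(P : Subgroup ↥M)) p (by rw [hP])
    exact ⟨(t' : ↥M), t'.2, by rw [Subgroup.orderOf_coe]; exact ht'⟩
  have htp : orderOf (t₀ : G) = p := by rw [Subgroup.orderOf_coe]; exact htM
  have hPz : (P : Subgroup ↥M) = Subgroup.zpowers t₀ := by
    symm
    apply Subgroup.eq_of_le_of_card_ge
    · rw [Subgroup.zpowers_le]; exact ht₀P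
    · rw [hP, Nat.card_zpowers, htM]
  refine ⟨(t₀ : G), t₀.2, htp, ?_⟩
  apply le_normalizer_of_forall_conj
  intro m hm w hw
  obtain ⟨i, rfl⟩ := Subgroup.mem_zpowers_iff.mp hw
  have h1 : (⟨m, hm⟩ : ↥M) * t₀ * (⟨m, hm⟩ : ↥M)⁻¹ ∈ (P : Subgroup ↥M) :=
    hnorm.conj_mem _ ht₀P _
  rw [hPz] at h1
  obtain ⟨j, hj⟩ := Subgroup.mem_zpowers_iff.mp h1
  have h2 : m * (t₀ : G) * m⁻¹ = (t₀ : G) ^ j := by
    have := congrArg Subtype.val hj
    simpa using this.symm
  rw [← conj_zpow, h2, ← zpow_mul]
  exact Subgroup.zpow_mem_zpowers _ _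

/-- normalizers of cyclic Sylow subgroups of prime order are conjugate -/
theorem normalizer_zpowers_conj [Finite G] {p m : ℕ} [Fact p.Prime] (hG : Nat.card G = p ^ 1 * m)
    (hm : ¬ p ∣ m) {s s' : G} (hs : orderOf s = p) (hs' : orderOf s' = p) :
    ∃ g : G, Subgroup.normalizer ((Subgroup.zpowers s' : Subgroup G) : Set G) =
      (Subgroup.normalizer ((Subgroup.zpowers s : Subgroup G) : Set G)).map
        (MulAut.conj g).toMonoidHom := by
  obtain ⟨P₀, hP₀⟩ := exists_sylow_eq_zpowers hG hm hs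
  obtain ⟨P, hP⟩ := exists_sylow_eq_zpowers hG hm hs'
  obtain ⟨g, hg⟩ := MulAction.exists_smul_eq G P₀ P
  have hmem : g * s * g⁻¹ ∈ Subgroup.zpowers s' := by
    rw [← hP, ← hg, Sylow.coe_subgroup_smul]
    exact Subgroup.smul_mem_pointwise_smul _ (MulAut.conj g) (P₀ : Subgroup G)
      (by rw [hP₀]; exact Subgroup.mem_zpowers s)
  have hz : Subgroup.zpowers (g * s * g⁻¹) = Subgroup.zpowers s' := by
    apply Subgroup.eq_of_le_of_card_ge
    · rw [Subgroup.zpowers_le]; exact hmem
    · rw [Nat.card_zpowers, Nat.card_zpowers, orderOf_conj_mul, hs, hs']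
  refine ⟨g, ?_⟩
  have h1 := Subgroup.map_equiv_normalizer_eq (Subgroup.zpowers s) (MulAut.conj g)
  rw [MonoidHom.map_zpowers] at h1
  have h2 : (MulAut.conj g).toMonoidHom s = g * s * g⁻¹ := by simp
  rw [h2, hz] at h1
  exact h1.symm

end General

section Main
variable {G : Type*} [Group G] [Finite G] [IsSimpleGroup G]

theorem not_coatom_twelve (h : Nat.card G = 168) {M : Subgroup G} (hM : IsCoatom M)
    (hc : Nat.card M = 12) : False := by
  haveI : Fact (Nat.Prime 3) := ⟨by norm_num⟩
  haveI : Fact (Nat.Prime 2) := ⟨by norm_num⟩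
  have hM3 : Nat.card ↥M = 3 ^ 1 * 4 := by rw [hc]; norm_num
  obtain ⟨P⟩ : Nonempty (Sylow 3 ↥M) := inferInstance
  have hP : Nat.card (P : Subgroup ↥M) = 3 := by
    have := sylow_card (p := 3) (n := 1) (m := 4) hM3 (by norm_num) P
    simpa using this
  have hn1 : Nat.card (Sylow 3 ↥M) ≠ 1 := by
    intro h1
    have := card_dvd_six_of_card_sylow_three_eq_one h M hM3 (by norm_num) h1
    rw [hc] at this
    omega
  have hn4 : Nat.card (Sylow 3 ↥M) = 4 := by
    have hidx : (P : Subgroup ↥M).index = 4 := by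
      have := Subgroup.index_mul_card (P : Subgroup ↥M)
      rw [hP, hc] at this
      omega
    have hdvd := Sylow.card_dvd_index P
    rw [hidx] at hdvd
    have hmod := card_sylow_modEq_one 3 ↥M
    have hle : Nat.card (Sylow 3 ↥M) ≤ 4 := Nat.le_of_dvd (by norm_num) hdvd
    unfold Nat.ModEq at hmod
    generalize Nat.card (Sylow 3 ↥M) = n at *
    interval_cases n <;> omega
  have hN : Nat.card (Subgroup.normalizer ((P : Subgroup ↥M) : Set ↥M)) = 3 := by
    have h1 : Nat.card (Sylow 3 ↥M) = (Subgroup.normalizer ((P : Subgroup ↥M) : Set ↥M)).index :=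
      Sylow.card_eq_index_normalizer P
    have h2 := Subgroup.index_mul_card (Subgroup.normalizer ((P : Subgroup ↥M) : Set ↥M))
    rw [← h1, hn4, hc] at h2
    omega
  have hNP : Subgroup.normalizer ((P : Subgroup ↥M) : Set ↥M) = P := by
    symm
    apply Subgroup.eq_of_le_of_card_ge Subgroup.le_normalizer
    rw [hN, hP]
  have hNC : Subgroup.normalizer ((P : Subgroup ↥M) : Set ↥M) ≤
      Subgroup.centralizer ((P : Subgroup ↥M) : Set ↥M) := by
    rw [hNP]
    intro c hc'
    rw [Subgroup.mem_centralizer_iff]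
    intro y hy
    have := comm_of_card_prime (H := ↥(P : Subgroup ↥M)) (p := 3) hP ⟨y, hy⟩ ⟨c, hc'⟩
    exact congrArg Subtype.val this
  have hcomp := MonoidHom.ker_transferSylow_isComplement' P hNC
  have hcard := hcomp.card_mul_card
  rw [hP, hc] at hcard
  obtain ⟨K, hK⟩ : ∃ K : Subgroup ↥M, K = (MonoidHom.transferSylow P hNC).ker := ⟨_, rfl⟩
  have hKn : K.Normal := by rw [hK]; exact MonoidHom.normal_ker _
  have hKc : Nat.card K = 4 := by rw [hK]; omega
  obtain ⟨V, hV⟩ : ∃ V : Subgroup G, V = K.map M.subtype := ⟨_, rfl⟩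
  have hVc : Nat.card V = 4 := by
    rw [hV, Subgroup.card_map_of_injective (Subgroup.subtype_injective M), hKc]
  have hMV : M ≤ Subgroup.normalizer (V : Set G) := by
    apply le_normalizer_of_forall_conj
    intro m hm w hw
    rw [hV] at hw ⊢
    obtain ⟨k, hk, rfl⟩ := Subgroup.mem_map.mp hw
    refine Subgroup.mem_map.mpr ⟨⟨m, hm⟩ * k * ⟨m, hm⟩⁻¹, hKn.conj_mem k hk _, ?_⟩
    simp
  by_cases hex : ∀ v ∈ V, v * v = 1
  · have hVk : IsKleinFour ↥V := by
      constructor
      · exact hVc
      · have hd : Monoid.exponent ↥V ∣ 2 := by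
          apply Monoid.exponent_dvd_of_forall_pow_eq_one
          intro v
          apply Subtype.ext
          rw [pow_two]
          exact hex v v.2
        have hne1 : Monoid.exponent ↥V ≠ 1 := by
          intro h1
          rw [Monoid.exp_eq_one_iff] at h1
          have : Nat.card ↥V = 1 := Nat.card_unique
          omega
        rcases (Nat.dvd_prime Nat.prime_two).mp hd with h1 | h2
        · exact absurd h1 hne1
        · exact h2
    have hNV := card_normalizer_klein h hVk
    apply coatom_contra h hM hMV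
    · rw [hNV]; norm_num
    · rw [hNV, hc]; norm_num
  · push_neg at hex
    obtain ⟨b, hbV, hb⟩ := hex
    have hb4 : orderOf b = 4 := by
      have hd : orderOf b ∣ 4 := by
        have := orderOf_dvd_natCard (⟨b, hbV⟩ : ↥V)
        rwa [Subgroup.orderOf_mk, hVc] at this
      have hle : orderOf b ≤ 4 := Nat.le_of_dvd (by norm_num) hd
      have h0 := (orderOf_pos b).ne'
      have h1 : orderOf b ≠ 1 := by
        intro h1
        rw [orderOf_eq_one_iff] at h1
        apply hb
        rw [h1, one_mul]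
      have h2 : orderOf b ≠ 2 := by
        intro h2
        apply hb
        have := pow_orderOf_eq_one b
        rwa [h2, pow_two] at this
      generalize orderOf b = n at *
      interval_cases n <;> omega
    have hVz : V = Subgroup.zpowers b := by
      symm
      apply Subgroup.eq_of_le_of_card_ge
      · rw [Subgroup.zpowers_le]; exact hbV
      · rw [hVc, Nat.card_zpowers, hb4]
    obtain ⟨t', ht'⟩ := exists_prime_orderOf_dvd_card' (G := ↥M) 3 (by rw [hc]; norm_num)
    obtain ⟨t, htM, ht3⟩ : ∃ t : G, t ∈ M ∧ orderOf t = 3 :=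
      ⟨(t' : G), t'.2, by rw [Subgroup.orderOf_coe]; exact ht'⟩
    have htb : t * b * t⁻¹ ∈ Subgroup.zpowers b := by
      rw [← hVz]
      exact (Subgroup.mem_normalizer_iff.mp (hMV htM) b).mp hbV
    have hco : orderOf (t * b * t⁻¹) = 4 := by rw [orderOf_conj_mul, hb4]
    have h2b : 2 ∣ orderOf b := by rw [hb4]; norm_num
    rcases mem_zpowers_four hb4 htb with h1 | h1 | h1 | h1
    · rw [h1, orderOf_one] at hco; omega
    · have hcomm : b * t = t * b := by
        have e : t * b = (t * b * t⁻¹) * t := by group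
        rw [e, h1]
      exact not_commute_three h ht3 h2b hcomm
    · rw [h1, orderOf_pow' b (by norm_num), hb4] at hco
      norm_num at hco
    · have hb4' : b ^ 4 = 1 := by rw [← hb4]; exact pow_orderOf_eq_one b
      have h2 : t ^ 2 * b * (t ^ 2)⁻¹ = b := by
        have e : t ^ 2 * b * (t ^ 2)⁻¹ = t * (t * b * t⁻¹) * t⁻¹ := by
          rw [pow_two]; group
        rw [e, h1, ← conj_pow, h1, ← pow_mul]
        have e9 : b ^ (3 * 3) = (b ^ 4) ^ 2 * b := by group
        rw [e9, hb4', one_pow, one_mul]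
      have ht2 : orderOf (t ^ 2) = 3 := by
        rw [orderOf_pow' t (by norm_num), ht3]
        norm_num
      have hcomm : b * t ^ 2 = t ^ 2 * b := by
        have e : t ^ 2 * b = (t ^ 2 * b * (t ^ 2)⁻¹) * t ^ 2 := by group
        rw [e, h2]
      exact not_commute_three h ht2 h2b hcomm

theorem coatom_card (h : Nat.card G = 168) {M : Subgroup G} (hM : IsCoatom M) :
    Nat.card M = 21 ∨ Nat.card M = 24 := by
  haveI : Fact (Nat.Prime 2) := ⟨by norm_num⟩
  have hne : M ≠ ⊤ := hM.1
  have hle := card_le_24_of_ne_top h M hne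
  have hd : Nat.card M ∣ 168 := by rw [← h]; exact Subgroup.card_subgroup_dvd_card M
  have hpos : 0 < Nat.card M := Nat.card_pos
  obtain ⟨m, hm⟩ : ∃ m, m = Nat.card M := ⟨_, rfl⟩
  rw [← hm] at hle hd hpos ⊢
  have h2 : ∀ k : ℕ, m = 2 ^ k → False := by
    intro k hk
    exact not_coatom_of_isPGroup_two h hM (IsPGroup.of_card (n := k) (by rw [← hm, hk]))
  have hcases : m = 1 ∨ m = 2 ∨ m = 3 ∨ m = 4 ∨ m = 6 ∨ m = 7 ∨ m = 8 ∨ m = 12 ∨ m = 14 ∨
      m = 21 ∨ m = 24 := by
    interval_cases m <;> omega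
  rcases hcases with rfl | rfl | rfl | rfl | rfl | rfl | rfl | rfl | rfl | rfl | rfl
  · exact (h2 0 (by norm_num)).elim
  · exact (h2 1 (by norm_num)).elim
  · exact (not_coatom_three h hM hm.symm).elim
  · exact (h2 2 (by norm_num)).elim
  · exact (not_coatom_six h hM hm.symm).elim
  · exact (not_coatom_seven h hM hm.symm).elim
  · exact (h2 3 (by norm_num)).elim
  · exact (not_coatom_twelve h hM hm.symm).elim
  · exact (card_ne_fourteen h M hm.symm).elim
  · left; rfl
  · right; rfl

theorem coatom_of_card_24 (h : Nat.card G = 168) (S : Subgroup G) (hS : Nat.card S = 24) :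
    IsCoatom S := by
  constructor
  · intro ht
    rw [ht, Subgroup.card_top, h] at hS
    omega
  · intro K hK
    have hd1 := Subgroup.card_dvd_of_le hK.le
    have hd2 : Nat.card K ∣ 168 := by rw [← h]; exact Subgroup.card_subgroup_dvd_card K
    rw [hS] at hd1
    have hne : Nat.card K ≠ 24 := by
      intro h24
      have : S = K := Subgroup.eq_of_le_of_card_ge hK.le (by rw [h24, hS])
      exact hK.ne this
    have hle : Nat.card K ≤ 168 := Nat.le_of_dvd (by norm_num) hd2
    have hK168 : Nat.card K = 168 := by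
      generalize Nat.card K = n at *
      interval_cases n <;> omega
    apply Subgroup.eq_top_of_card_eq
    rw [hK168, h]

/-- a subgroup of order 21 is the normalizer of a subgroup of order 7 -/
theorem eq_normalizer_of_card_21 (h : Nat.card G = 168) (M : Subgroup G) (hc : Nat.card M = 21) :
    ∃ s : G, orderOf s = 7 ∧
      M = Subgroup.normalizer ((Subgroup.zpowers s : Subgroup G) : Set G) := by
  haveI : Fact (Nat.Prime 7) := ⟨by norm_num⟩
  have hM7 : Nat.card ↥M = 7 ^ 1 * 3 := by rw [hc]; norm_num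
  obtain ⟨P⟩ : Nonempty (Sylow 7 ↥M) := inferInstance
  have hP : Nat.card (P : Subgroup ↥M) = 7 := by
    have := sylow_card (p := 7) (n := 1) (m := 3) hM7 (by norm_num) P
    simpa using this
  have hn1 : Nat.card (Sylow 7 ↥M) = 1 := by
    have hidx : (P : Subgroup ↥M).index = 3 := by
      have := Subgroup.index_mul_card (P : Subgroup ↥M)
      rw [hP, hc] at this
      omega
    have hdvd := Sylow.card_dvd_index P
    rw [hidx] at hdvd
    have hmod := card_sylow_modEq_one 7 ↥M
    have hle : Nat.card (Sylow 7 ↥M) ≤ 3 := Nat.le_of_dvd (by norm_num) hdvd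
    unfold Nat.ModEq at hmod
    generalize Nat.card (Sylow 7 ↥M) = n at *
    interval_cases n <;> omega
  obtain ⟨s, -, hs7, hle⟩ := le_normalizer_zpowers_of_card_sylow_eq_one M hM7 (by norm_num) hn1
  refine ⟨s, hs7, ?_⟩
  apply Subgroup.eq_of_le_of_card_ge hle
  rw [card_normalizer_zpowers_seven h hs7, hc]

theorem conj_of_card_21 (h : Nat.card G = 168) (M M' : Subgroup G) (hc : Nat.card M = 21)
    (hc' : Nat.card M' = 21) : ∃ g : G, M' = M.map (MulAut.conj g).toMonoidHom := by
  haveI : Fact (Nat.Prime 7) := ⟨by norm_num⟩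
  obtain ⟨s, hs, hM⟩ := eq_normalizer_of_card_21 h M hc
  obtain ⟨s', hs', hM'⟩ := eq_normalizer_of_card_21 h M' hc'
  have hG7 : Nat.card G = 7 ^ 1 * 24 := by rw [h]; norm_num
  obtain ⟨g, hg⟩ := normalizer_zpowers_conj hG7 (by norm_num) hs hs'
  exact ⟨g, by rw [hM', hM, hg]⟩

/-- a Klein four-subgroup is determined by its normalizer -/
theorem klein_unique_of_normalizer_le (h : Nat.card G = 168) {U V : Subgroup G}
    (hU : IsKleinFour ↥U) (hV : IsKleinFour ↥V)
    (hle : Subgroup.normalizer (U : Set G) ≤ Subgroup.normalizer (V : Set G)) : U = V := by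
  haveI : Fact (Nat.Prime 2) := ⟨by norm_num⟩
  have hNU := card_normalizer_klein h hU
  have hNV := card_normalizer_klein h hV
  have hEq : Subgroup.normalizer (U : Set G) = Subgroup.normalizer (V : Set G) := by
    apply Subgroup.eq_of_le_of_card_ge hle
    rw [hNU, hNV]
  have hUN : U ≤ Subgroup.normalizer (V : Set G) := by
    rw [← hEq]; exact Subgroup.le_normalizer
  have hpU : IsPGroup 2 U := IsPGroup.of_card (n := 2) (by rw [klein_card hU]; norm_num)
  have hpV : IsPGroup 2 V := IsPGroup.of_card (n := 2) (by rw [klein_card hV]; norm_num)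
  have hpW : IsPGroup 2 (U ⊔ V : Subgroup G) := hpU.to_sup_of_normal_right' hpV hUN
  -- the normalizer normalizes the join
  have hSW : Subgroup.normalizer (U : Set G) ≤ Subgroup.normalizer ((U ⊔ V : Subgroup G) : Set G) := by
    apply le_normalizer_of_forall_conj
    intro s hs w hw
    have h1 : (U ⊔ V).map (MulAut.conj s).toMonoidHom = U ⊔ V := by
      rw [Subgroup.map_sup, map_conj_eq_of_mem_normalizer' U hs,
        map_conj_eq_of_mem_normalizer' V (hEq ▸ hs)]
    rw [← h1]
    exact Subgroup.mem_map.mpr ⟨w, hw, by simp⟩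
  obtain ⟨T', hWT'⟩ := hpW.exists_le_sylow
  have hT' := card_sylow_two_subgroup h T'
  have hd8 := Subgroup.card_dvd_of_le hWT'
  rw [hT'] at hd8
  have hd4 := Subgroup.card_dvd_of_le (le_sup_left : U ≤ U ⊔ V)
  rw [klein_card hU] at hd4
  have hne8 : Nat.card (U ⊔ V : Subgroup G) ≠ 8 := by
    intro h8
    have hWeq : (U ⊔ V : Subgroup G) = (T' : Subgroup G) := by
      apply Subgroup.eq_of_le_of_card_ge hWT'
      rw [hT', h8]
    rw [hWeq, normalizer_sylow_two h T'] at hSW
    have := Subgroup.card_dvd_of_le hSW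
    rw [hNU, hT'] at this
    omega
  have hW4 : Nat.card (U ⊔ V : Subgroup G) = 4 := by
    have hle8 : Nat.card (U ⊔ V : Subgroup G) ≤ 8 := Nat.le_of_dvd (by norm_num) hd8
    generalize Nat.card (U ⊔ V : Subgroup G) = n at *
    interval_cases n <;> omega
  have h1 : U = U ⊔ V := by
    apply Subgroup.eq_of_le_of_card_ge le_sup_left
    rw [hW4, klein_card hU]
  have h2 : V = U ⊔ V := by
    apply Subgroup.eq_of_le_of_card_ge le_sup_right
    rw [hW4, klein_card hV]
  rw [h1]; exact h2.symm

/-- a subgroup isomorphic to the symmetric group of degree 4 normalizes a Klein four-subgroup -/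
theorem exists_klein_normalized (M : Subgroup G) (e : ↥M ≃* Equiv.Perm (Fin 4)) :
    ∃ V : Subgroup G, IsKleinFour ↥V ∧ M ≤ Subgroup.normalizer (V : Set G) := by
  have h4 : Nat.card (Fin 4) = 4 := by simp
  haveI := alternatingGroup.characteristic_kleinFour (α := Fin 4) h4
  obtain ⟨V4, hV4⟩ : ∃ V4 : Subgroup (Equiv.Perm (Fin 4)),
      V4 = (alternatingGroup.kleinFour (Fin 4)).map (alternatingGroup (Fin 4)).subtype := ⟨_, rfl⟩
  have hV4n : V4.Normal := by rw [hV4]; infer_instance
  have hV4k : IsKleinFour ↥V4 := by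
    rw [hV4]
    exact isKleinFour_map (alternatingGroup.kleinFour_isKleinFour h4) _
      (Subgroup.subtype_injective _)
  obtain ⟨K, hK⟩ : ∃ K : Subgroup ↥M, K = V4.map e.symm.toMonoidHom := ⟨_, rfl⟩
  have hKn : K.Normal := by
    rw [hK]; exact hV4n.map _ e.symm.surjective
  have hKk : IsKleinFour ↥K := by
    rw [hK]; exact isKleinFour_map hV4k _ e.symm.injective
  refine ⟨K.map M.subtype, isKleinFour_map hKk _ (Subgroup.subtype_injective M), ?_⟩
  apply le_normalizer_of_forall_conj
  intro m hm w hw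
  obtain ⟨k, hk, rfl⟩ := Subgroup.mem_map.mp hw
  refine Subgroup.mem_map.mpr ⟨⟨m, hm⟩ * k * ⟨m, hm⟩⁻¹, hKn.conj_mem k hk _, ?_⟩
  simp

end Main

end Cfsg.Agent.Lib.Helper2.Order168
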