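import Mathlib

/-!
Simple groups of order 168: the concrete permutation models of `SL(3,2)` on seven points
(helper2).
-/

set_option autoImplicit false
set_option maxHeartbeats 800000
set_option maxRecDepth 8000

namespace Cfsg.Agent.Lib.Helper2.Order168

open Matrix

/-- the seven nonzero vectors of `F_2^3`, as the powers of `x` in `F_2[x]/(x^3+x+1)` (`true`)
or in `F_2[x]/(x^3+x^2+1)` (`false`) -/
def vecTbl (b : Bool) (i : ZMod 7) : Fin 3 → ZMod 2 :=
  if b then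
    (if i = 0 then ![1,0,0] else if i = 1 then ![0,1,0] else if i = 2 then ![0,0,1]
      else if i = 3 then ![1,1,0] else if i = 4 then ![0,1,1] else if i = 5 then ![1,1,1]
      else ![1,0,1])
  else
    (if i = 0 then ![1,0,0] else if i = 1 then ![0,1,0] else if i = 2 then ![0,0,1]
      else if i = 3 then ![1,0,1] else if i = 4 then ![1,1,1] else if i = 5 then ![1,1,0]
      else ![0,1,1])

/-- the inverse table -/
def vecInv (b : Bool) (v : Fin 3 → ZMod 2) : ZMod 7 :=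
  if v = vecTbl b 0 then 0 else if v = vecTbl b 1 then 1 else if v = vecTbl b 2 then 2
    else if v = vecTbl b 3 then 3 else if v = vecTbl b 4 then 4 else if v = vecTbl b 5 then 5
    else 6

theorem vecInv_vecTbl : ∀ (b : Bool) (i : ZMod 7), vecInv b (vecTbl b i) = i := by decide

theorem vecTbl_vecInv : ∀ (b : Bool) (v : Fin 3 → ZMod 2), v ≠ 0 → vecTbl b (vecInv b v) = v := by
  decide

theorem vecTbl_ne_zero : ∀ (b : Bool) (i : ZMod 7), vecTbl b i ≠ 0 := by decide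

theorem vecTbl_basis : ∀ (b : Bool) (j : Fin 3),
    vecTbl b (j.val : ZMod 7) = Pi.single j 1 := by decide

theorem mulVec_ne_zero (A : Matrix.SpecialLinearGroup (Fin 3) (ZMod 2)) (v : Fin 3 → ZMod 2)
    (hv : v ≠ 0) : A.1.mulVec v ≠ 0 := by
  intro h0
  apply hv
  have h1 : ((A⁻¹ * A : Matrix.SpecialLinearGroup (Fin 3) (ZMod 2)) :
      Matrix (Fin 3) (Fin 3) (ZMod 2)).mulVec v = v := by
    rw [inv_mul_cancel, Matrix.SpecialLinearGroup.coe_one, Matrix.one_mulVec]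
  rw [Matrix.SpecialLinearGroup.coe_mul, ← Matrix.mulVec_mulVec] at h1
  have h0' : (A : Matrix (Fin 3) (Fin 3) (ZMod 2)).mulVec v = 0 := h0
  rw [h0', Matrix.mulVec_zero] at h1
  exact h1.symm

/-- the action of `SL(3,2)` on the seven labels -/
def planeAct (b : Bool) : MulAction (Matrix.SpecialLinearGroup (Fin 3) (ZMod 2)) (ZMod 7) where
  smul A i := vecInv b (A.1.mulVec (vecTbl b i))
  one_smul i := by
    show vecInv b ((1 : Matrix.SpecialLinearGroup (Fin 3) (ZMod 2)).1.mulVec (vecTbl b i)) = i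
    have h1 : (1 : Matrix.SpecialLinearGroup (Fin 3) (ZMod 2)).1 = 1 :=
      Matrix.SpecialLinearGroup.coe_one
    rw [h1, Matrix.one_mulVec]
    exact vecInv_vecTbl b i
  mul_smul A B i := by
    show vecInv b ((A * B).1.mulVec (vecTbl b i))
      = vecInv b (A.1.mulVec (vecTbl b (vecInv b (B.1.mulVec (vecTbl b i)))))
    rw [vecTbl_vecInv b _ (mulVec_ne_zero B _ (vecTbl_ne_zero b i))]
    have h1 : (A * B).1 = A.1 * B.1 := Matrix.SpecialLinearGroup.coe_mul A B
    rw [h1, Matrix.mulVec_mulVec]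

/-- the permutation representation on the seven labels -/
def planeHom (b : Bool) : Matrix.SpecialLinearGroup (Fin 3) (ZMod 2) →* Equiv.Perm (ZMod 7) :=
  @MulAction.toPermHom _ _ _ (planeAct b)

theorem planeHom_apply (b : Bool) (A : Matrix.SpecialLinearGroup (Fin 3) (ZMod 2)) (i : ZMod 7) :
    planeHom b A i = vecInv b (A.1.mulVec (vecTbl b i)) := rfl

theorem planeHom_injective (b : Bool) : Function.Injective (planeHom b) := by
  rw [injective_iff_map_eq_one]
  intro A hA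
  apply Subtype.ext
  show A.1 = (1 : Matrix.SpecialLinearGroup (Fin 3) (ZMod 2)).1
  rw [Matrix.SpecialLinearGroup.coe_one]
  apply Matrix.ext_of_mulVec_single
  intro j
  rw [Matrix.one_mulVec, ← vecTbl_basis b j]
  have h1 : planeHom b A (j.val : ZMod 7) = (j.val : ZMod 7) := by rw [hA]; rfl
  rw [planeHom_apply] at h1
  have h2 := congrArg (vecTbl b) h1
  rw [vecTbl_vecInv b _ (mulVec_ne_zero A _ (vecTbl_ne_zero b _))] at h2
  exact h2

/-- the involution table forced by `π (2 i) = 4 π i` -/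
def invTbl (c c' : ZMod 7) (i : ZMod 7) : ZMod 7 :=
  if i = 0 then 0 else if i = 1 then c else if i = 2 then 4 * c else if i = 3 then c'
    else if i = 4 then 2 * c else if i = 5 then 2 * c' else 4 * c'

theorem invTbl_good : ∀ c c' : ZMod 7, (∀ i, invTbl c c' (invTbl c c' i) = i) →
    (∀ k : ZMod 7, k ≠ 0 → ((∀ i, (fun j => invTbl c c' j + k)^[4] i = i) ∨
      (∀ i, (fun j => invTbl c c' j + k)^[3] i = i) ∨
      (∀ i, (fun j => invTbl c c' j + k)^[7] i = i))) →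
    ((c = 1 ∧ c' = 3) ∨ (c = 2 ∧ c' = 6) ∨ (c = 4 ∧ c' = 5) ∨
      (c = 1 ∧ c' = 6) ∨ (c = 2 ∧ c' = 5) ∨ (c = 4 ∧ c' = 3)) := by
  decide

def mS (b : Bool) : Matrix.SpecialLinearGroup (Fin 3) (ZMod 2) :=
  if b then ⟨!![0,0,1;1,0,1;0,1,0], by decide⟩ else ⟨!![0,0,1;1,0,0;0,1,1], by decide⟩

def mT (b : Bool) : Matrix.SpecialLinearGroup (Fin 3) (ZMod 2) :=
  if b then ⟨!![1,0,0;0,0,1;0,1,1], by decide⟩ else ⟨!![1,0,1;0,0,1;0,1,1], by decide⟩

theorem planeHom_mS : ∀ (b : Bool) (i : ZMod 7), planeHom b (mS b) i = i + 1 := by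
  simp only [planeHom_apply]
  decide

theorem planeHom_mT : ∀ (b : Bool) (i : ZMod 7), planeHom b (mT b) i = 2 * i := by
  simp only [planeHom_apply]
  decide

theorem exists_mU_true : ∀ p : ZMod 7 × ZMod 7, p ∈ [((1 : ZMod 7), (3 : ZMod 7)), (2, 6), (4, 5)] →
    ∃ U : Matrix.SpecialLinearGroup (Fin 3) (ZMod 2),
      ∀ i, planeHom true U i = invTbl p.1 p.2 i := by
  intro p hp
  simp only [List.mem_cons, List.mem_nil_iff, or_false] at hp
  rcases hp with rfl | rfl | rfl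
  · refine ⟨⟨!![1,0,0;0,1,1;0,0,1], by decide⟩, ?_⟩
    simp only [planeHom_apply]
    decide
  · refine ⟨⟨!![1,0,0;0,0,1;0,1,0], by decide⟩, ?_⟩
    simp only [planeHom_apply]
    decide
  · refine ⟨⟨!![1,0,0;0,1,0;0,1,1], by decide⟩, ?_⟩
    simp only [planeHom_apply]
    decide

theorem exists_mU_false : ∀ p : ZMod 7 × ZMod 7, p ∈ [((1 : ZMod 7), (6 : ZMod 7)), (2, 5), (4, 3)] →
    ∃ U : Matrix.SpecialLinearGroup (Fin 3) (ZMod 2),
      ∀ i, planeHom false U i = invTbl p.1 p.2 i := by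
  intro p hp
  simp only [List.mem_cons, List.mem_nil_iff, or_false] at hp
  rcases hp with rfl | rfl | rfl
  · refine ⟨⟨!![1,0,1;0,1,1;0,0,1], by decide⟩, ?_⟩
    simp only [planeHom_apply]
    decide
  · refine ⟨⟨!![1,0,0;0,0,1;0,1,0], by decide⟩, ?_⟩
    simp only [planeHom_apply]
    decide
  · refine ⟨⟨!![1,1,0;0,1,0;0,1,1], by decide⟩, ?_⟩
    simp only [planeHom_apply]
    decide

/-- for each admissible involution table there is a plane carrying `+1`, `×2` and the table -/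
theorem exists_plane (c c' : ZMod 7)
    (h : (c = 1 ∧ c' = 3) ∨ (c = 2 ∧ c' = 6) ∨ (c = 4 ∧ c' = 5) ∨
      (c = 1 ∧ c' = 6) ∨ (c = 2 ∧ c' = 5) ∨ (c = 4 ∧ c' = 3)) :
    ∃ (b : Bool) (U : Matrix.SpecialLinearGroup (Fin 3) (ZMod 2)),
      ∀ i, planeHom b U i = invTbl c c' i := by
  rcases h with ⟨rfl, rfl⟩ | ⟨rfl, rfl⟩ | ⟨rfl, rfl⟩ | ⟨rfl, rfl⟩ | ⟨rfl, rfl⟩ | ⟨rfl, rfl⟩
  · obtain ⟨U, hU⟩ := exists_mU_true (1, 3) (by decide)
    exact ⟨true, U, hU⟩
  · obtain ⟨U, hU⟩ := exists_mU_true (2, 6) (by decide)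
    exact ⟨true, U, hU⟩
  · obtain ⟨U, hU⟩ := exists_mU_true (4, 5) (by decide)
    exact ⟨true, U, hU⟩
  · obtain ⟨U, hU⟩ := exists_mU_false (1, 6) (by decide)
    exact ⟨false, U, hU⟩
  · obtain ⟨U, hU⟩ := exists_mU_false (2, 5) (by decide)
    exact ⟨false, U, hU⟩
  · obtain ⟨U, hU⟩ := exists_mU_false (4, 3) (by decide)
    exact ⟨false, U, hU⟩

end Cfsg.Agent.Lib.Helper2.Order168
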