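import Mathlib
import Cfsg.Agent.Lib.Helper2.Order168h
import Cfsg.Agent.Lib.Helper2.Order168j

/-!
Simple groups of order 168 are isomorphic to `SL(3,2)`: the action on the seven cosets of a
subgroup of order 24, normalised so that an element of order 7 is `i ↦ i + 1`, an element of
order 3 normalising it is `i ↦ 2 i`, and an involution inverting the latter is one of six
explicit tables (helper2).
-/

set_option autoImplicit false
set_option maxHeartbeats 800000
open scoped Pointwise

namespace Cfsg.Agent.Lib.Helper2.Order168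

section Main
variable {G : Type*} [Group G] [Finite G] [IsSimpleGroup G]

theorem exists_pow_of_mem_zpowers {x y : G} (hy : y ∈ Subgroup.zpowers x) :
    ∃ k : ℕ, k < orderOf x ∧ x ^ k = y := by
  classical
  rw [mem_zpowers_iff_mem_range_orderOf] at hy
  obtain ⟨k, hk, hky⟩ := Finset.mem_image.1 hy
  exact ⟨k, Finset.mem_range.1 hk, hky⟩

theorem exists_seven_three (h : Nat.card G = 168) :
    ∃ s t : G, orderOf s = 7 ∧ orderOf t = 3 ∧ t * s * t⁻¹ = s ^ 2 := by
  haveI : Fact (Nat.Prime 7) := ⟨by norm_num⟩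
  haveI : Fact (Nat.Prime 3) := ⟨by norm_num⟩
  obtain ⟨s, hs⟩ := exists_prime_orderOf_dvd_card' (G := G) 7 (by rw [h]; norm_num)
  have hN := card_normalizer_zpowers_seven h hs
  obtain ⟨t', ht'⟩ := exists_prime_orderOf_dvd_card'
    (G := ↥(Subgroup.normalizer ((Subgroup.zpowers s : Subgroup G) : Set G))) 3
    (by rw [hN]; norm_num)
  have ht : orderOf (t' : G) = 3 := by rw [Subgroup.orderOf_coe]; exact ht'
  have hmem : (t' : G) * s * (t' : G)⁻¹ ∈ Subgroup.zpowers s :=
    (Subgroup.mem_normalizer_iff.1 t'.2 s).1 (Subgroup.mem_zpowers s)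
  obtain ⟨k, hk7, hk⟩ := exists_pow_of_mem_zpowers hmem
  rw [hs] at hk7
  generalize (t' : G) = t at ht hk
  have hpow : ∀ n : ℕ, s ^ (n % 7) = s ^ n := by
    intro n
    have := pow_mod_orderOf s n
    rwa [hs] at this
  have h1 : t * s * t⁻¹ = s ^ k := hk.symm
  have h2 : t * s ^ k * t⁻¹ = (s ^ k) ^ k := by rw [← conj_pow, h1]
  have h3 : t * (s ^ k) ^ k * t⁻¹ = ((s ^ k) ^ k) ^ k := by rw [← conj_pow, h2]
  have ht3 : t ^ 3 = 1 := by rw [← ht]; exact pow_orderOf_eq_one t
  have h4 : s = ((s ^ k) ^ k) ^ k := by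
    have e : t * (t * (t * s * t⁻¹) * t⁻¹) * t⁻¹ = t ^ 3 * s * (t ^ 3)⁻¹ := by
      simp only [pow_succ, pow_zero, one_mul, mul_inv_rev, mul_assoc]
    rw [h1, h2, h3, ht3, one_mul, inv_one, mul_one] at e
    exact e.symm
  rw [← pow_mul, ← pow_mul] at h4
  have h5 : s ^ 1 = s ^ (k * (k * k)) := by rw [pow_one]; exact h4
  have h6 := pow_eq_pow_iff_modEq.1 h5
  rw [hs] at h6
  have hdec : ∀ k : ℕ, k < 7 → k * (k * k) ≡ 1 [MOD 7] → k = 1 ∨ k = 2 ∨ k = 4 := by decide
  have hk3 : k = 1 ∨ k = 2 ∨ k = 4 := hdec k hk7 h6.symm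
  rcases hk3 with rfl | rfl | rfl
  · exfalso
    rw [pow_one] at h1
    have hts : t * s = s * t := by
      calc t * s = t * s * t⁻¹ * t := by group
        _ = s * t := by rw [h1]
    exact not_commute_three_seven h hs ht hts
  · exact ⟨s, t, hs, ht, h1⟩
  · refine ⟨s, t ^ 2, hs, ?_, ?_⟩
    · rw [Nat.Coprime.orderOf_pow (by rw [ht]; norm_num), ht]
    · calc t ^ 2 * s * (t ^ 2)⁻¹ = t * (t * s * t⁻¹) * t⁻¹ := by
            simp only [pow_two, mul_inv_rev, mul_assoc]
        _ = (s ^ 4) ^ 4 := by rw [h1, h2]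
        _ = s ^ 2 := by rw [← pow_mul, ← hpow]

theorem exists_inverting_involution (h : Nat.card G = 168) {t : G} (ht : orderOf t = 3) :
    ∃ u : G, orderOf u = 2 ∧ u * t * u⁻¹ = t ^ 2 ∧
      u ∈ Subgroup.normalizer ((Subgroup.zpowers t : Subgroup G) : Set G) := by
  haveI : Fact (Nat.Prime 2) := ⟨by norm_num⟩
  have hN := card_normalizer_zpowers_three h ht
  obtain ⟨u', hu'⟩ := exists_prime_orderOf_dvd_card'
    (G := ↥(Subgroup.normalizer ((Subgroup.zpowers t : Subgroup G) : Set G))) 2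
    (by rw [hN]; norm_num)
  have hu : orderOf (u' : G) = 2 := by rw [Subgroup.orderOf_coe]; exact hu'
  have hmem : (u' : G) * t * (u' : G)⁻¹ ∈ Subgroup.zpowers t :=
    (Subgroup.mem_normalizer_iff.1 u'.2 t).1 (Subgroup.mem_zpowers t)
  obtain ⟨k, hk3, hk⟩ := exists_pow_of_mem_zpowers hmem
  rw [ht] at hk3
  refine ⟨(u' : G), hu, ?_, u'.2⟩
  interval_cases k
  · exfalso
    rw [pow_zero] at hk
    have ht1 : t = 1 := by
      calc t = (u' : G)⁻¹ * ((u' : G) * t * (u' : G)⁻¹) * (u' : G) := by group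
        _ = 1 := by rw [← hk]; group
    rw [ht1, orderOf_one] at ht
    norm_num at ht
  · exfalso
    rw [pow_one] at hk
    have hut : (u' : G) * t = t * (u' : G) := by
      calc (u' : G) * t = (u' : G) * t * (u' : G)⁻¹ * (u' : G) := by group
        _ = t * (u' : G) := by rw [← hk]
    exact not_commute_three h ht (by rw [hu]) hut
  · exact hk.symm

theorem closure_eq_top_of_orders (h : Nat.card G = 168) {s t u : G} (hs : orderOf s = 7)
    (ht : orderOf t = 3) (hu : orderOf u = 2) :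
    Subgroup.closure ({s, t, u} : Set G) = ⊤ := by
  by_contra hne
  have hle := card_le_24_of_ne_top h _ hne
  have h7 : 7 ∣ Nat.card (Subgroup.closure ({s, t, u} : Set G)) := by
    rw [← hs]
    exact Subgroup.orderOf_dvd_natCard _ (Subgroup.subset_closure (by simp))
  have h3 : 3 ∣ Nat.card (Subgroup.closure ({s, t, u} : Set G)) := by
    rw [← ht]
    exact Subgroup.orderOf_dvd_natCard _ (Subgroup.subset_closure (by simp))
  have h2 : 2 ∣ Nat.card (Subgroup.closure ({s, t, u} : Set G)) := by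
    rw [← hu]
    exact Subgroup.orderOf_dvd_natCard _ (Subgroup.subset_closure (by simp))
  have h21 : 7 * 3 ∣ Nat.card (Subgroup.closure ({s, t, u} : Set G)) :=
    Nat.Coprime.mul_dvd_of_dvd_of_dvd (by norm_num) h7 h3
  have h42 : 7 * 3 * 2 ∣ Nat.card (Subgroup.closure ({s, t, u} : Set G)) :=
    Nat.Coprime.mul_dvd_of_dvd_of_dvd (by norm_num) h21 h2
  have hpos : 0 < Nat.card (Subgroup.closure ({s, t, u} : Set G)) := Nat.card_pos
  have := Nat.le_of_dvd hpos h42
  omega

/-- the normalised permutation representation on seven points -/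
theorem exists_perm_rep (h : Nat.card G = 168) {s t : G} (hs : orderOf s = 7)
    (ht : orderOf t = 3) (hst : t * s * t⁻¹ = s ^ 2) :
    ∃ φ : G →* Equiv.Perm (ZMod 7), Function.Injective φ ∧ (∀ i, φ s i = i + 1) ∧
      (∀ i, φ t i = 2 * i) := by
  classical
  obtain ⟨M, hM24, hNM⟩ := exists_card_24_ge_normalizer_three h ht
  have htM : t ∈ M := hNM (Subgroup.le_normalizer (Subgroup.mem_zpowers t))
  have hidx : M.index = 7 := by
    have := M.card_mul_index
    rw [hM24, h] at this
    omega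
  have hX : Nat.card (G ⧸ M) = 7 := by rw [← Subgroup.index_eq_card, hidx]
  have hpow : ∀ n : ℕ, s ^ (n % 7) = s ^ n := by
    intro n
    have := pow_mod_orderOf s n
    rwa [hs] at this
  have hfix : t • ((1 : G) : G ⧸ M) = ((1 : G) : G ⧸ M) := by
    rw [MulAction.Quotient.smul_mk, QuotientGroup.eq, smul_eq_mul, mul_one, mul_one]
    exact M.inv_mem htM
  have hstab : Nat.card (MulAction.stabilizer G (((1 : G) : G ⧸ M))) = 24 := by
    have h1 := MulAction.index_stabilizer_of_transitive G (((1 : G) : G ⧸ M))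
    have h2 := (MulAction.stabilizer G (((1 : G) : G ⧸ M))).card_mul_index
    rw [h1, hX, h] at h2
    omega
  have h1v : (1 : ZMod 7).val = 1 := by decide
  have h2v : (2 : ZMod 7).val = 2 := by decide
  have hf1 : ∀ i : ZMod 7, s ^ (i + 1).val • ((1 : G) : G ⧸ M)
      = s • (s ^ i.val • ((1 : G) : G ⧸ M)) := by
    intro i
    rw [ZMod.val_add, h1v, hpow, pow_succ', mul_smul]
  have hf2 : ∀ i : ZMod 7, s ^ (2 * i).val • ((1 : G) : G ⧸ M)
      = t • (s ^ i.val • ((1 : G) : G ⧸ M)) := by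
    intro i
    rw [ZMod.val_mul, h2v, hpow]
    have e1 : t * s ^ i.val = (t * s * t⁻¹) ^ i.val * t := by
      rw [conj_pow]; group
    rw [← mul_smul, e1, mul_smul, hfix, hst, ← pow_mul]
  have hinj : Function.Injective (fun i : ZMod 7 => s ^ i.val • ((1 : G) : G ⧸ M)) := by
    intro i j hij
    have hij' : s ^ i.val • ((1 : G) : G ⧸ M) = s ^ j.val • ((1 : G) : G ⧸ M) := hij
    have hmem : (s ^ j.val)⁻¹ * s ^ i.val ∈ MulAction.stabilizer G (((1 : G) : G ⧸ M)) := by
      rw [MulAction.mem_stabilizer_iff, mul_smul, hij', ← mul_smul, inv_mul_cancel, one_smul]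
    have hz : (s ^ j.val)⁻¹ * s ^ i.val ∈ Subgroup.zpowers s :=
      Subgroup.mul_mem _ (Subgroup.inv_mem _ (Subgroup.npow_mem_zpowers s _))
        (Subgroup.npow_mem_zpowers s _)
    have hd1 := Subgroup.orderOf_dvd_natCard _ hmem
    have hd2 := orderOf_dvd_of_mem_zpowers hz
    rw [hstab] at hd1
    rw [hs] at hd2
    have hd3 : orderOf ((s ^ j.val)⁻¹ * s ^ i.val) ∣ Nat.gcd 24 7 := Nat.dvd_gcd hd1 hd2
    have hd4 : orderOf ((s ^ j.val)⁻¹ * s ^ i.val) = 1 := by
      have : Nat.gcd 24 7 = 1 := by norm_num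
      rw [this] at hd3
      exact Nat.dvd_one.1 hd3
    have h1 : (s ^ j.val)⁻¹ * s ^ i.val = 1 := orderOf_eq_one_iff.1 hd4
    have h2 : s ^ i.val = s ^ j.val := by
      calc s ^ i.val = s ^ j.val * ((s ^ j.val)⁻¹ * s ^ i.val) := by group
        _ = s ^ j.val := by rw [h1, mul_one]
    have h3 := pow_eq_pow_iff_modEq.1 h2
    rw [hs] at h3
    have hi7 : i.val < 7 := ZMod.val_lt i
    have hj7 : j.val < 7 := ZMod.val_lt j
    apply ZMod.val_injective 7
    unfold Nat.ModEq at h3
    omega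
  have hbij : Function.Bijective (fun i : ZMod 7 => s ^ i.val • ((1 : G) : G ⧸ M)) :=
    hinj.bijective_of_nat_card_le (by rw [hX, Nat.card_zmod])
  let φ : G →* Equiv.Perm (ZMod 7) :=
    ((Equiv.ofBijective _ hbij).symm.permCongrHom.toMonoidHom).comp
      (MulAction.toPermHom G (G ⧸ M))
  have hφ : ∀ (g : G) (i : ZMod 7), φ g i
      = (Equiv.ofBijective _ hbij).symm (g • (s ^ i.val • ((1 : G) : G ⧸ M))) := by
    intro g i
    rfl
  have hφs : ∀ i, φ s i = i + 1 := by
    intro i
    rw [hφ, ← hf1 i]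
    exact Equiv.ofBijective_symm_apply_apply _ hbij (i + 1)
  have hφt : ∀ i, φ t i = 2 * i := by
    intro i
    rw [hφ, ← hf2 i]
    exact Equiv.ofBijective_symm_apply_apply _ hbij (2 * i)
  refine ⟨φ, ?_, hφs, hφt⟩
  rw [← MonoidHom.ker_eq_bot_iff]
  rcases (MonoidHom.normal_ker φ).eq_bot_or_eq_top with hk | hk
  · exact hk
  · exfalso
    have hsk : s ∈ φ.ker := by rw [hk]; trivial
    have h0 := hφs 0
    rw [MonoidHom.mem_ker.1 hsk] at h0
    revert h0
    decide

/-- the image of the inverting involution is given by one of the six admissible tables -/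
theorem involution_table (h : Nat.card G = 168) {s t u : G} (hu : orderOf u = 2)
    (hut : u * t * u⁻¹ = t ^ 2) (φ : G →* Equiv.Perm (ZMod 7))
    (hφs : ∀ i, φ s i = i + 1) (hφt : ∀ i, φ t i = 2 * i) :
    ∃ c c' : ZMod 7, (∀ i, φ u i = invTbl c c' i) ∧
      ((c = 1 ∧ c' = 3) ∨ (c = 2 ∧ c' = 6) ∨ (c = 4 ∧ c' = 5) ∨
        (c = 1 ∧ c' = 6) ∨ (c = 2 ∧ c' = 5) ∨ (c = 4 ∧ c' = 3)) := by
  have hu2 : u * u = 1 := by rw [← pow_two, ← hu]; exact pow_orderOf_eq_one u
  have hπ2 : ∀ i, φ u (φ u i) = i := by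
    intro i
    rw [← Equiv.Perm.mul_apply, ← map_mul, hu2, map_one]
    rfl
  have hπt : ∀ i, φ u (2 * i) = 4 * φ u i := by
    intro i
    have e1 : u * t = t * t * u := by
      calc u * t = u * t * u⁻¹ * u := by group
        _ = t * t * u := by rw [hut, pow_two]
    have e2 : φ (u * t) i = φ (t * t * u) i := by rw [e1]
    rw [map_mul, map_mul, map_mul, Equiv.Perm.mul_apply, Equiv.Perm.mul_apply,
      Equiv.Perm.mul_apply, hφt, hφt, hφt] at e2
    rw [e2]
    ring
  have hcases : ∀ i : ZMod 7, i = 0 ∨ i = 1 ∨ i = 2 ∨ i = 3 ∨ i = 4 ∨ i = 5 ∨ i = 6 := by decide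
  have hz : ∀ a : ZMod 7, a = 4 * a → a = 0 := by decide
  have h0 : φ u 0 = 0 := by
    apply hz
    have := hπt 0
    rwa [mul_zero] at this
  have h2 : φ u 2 = 4 * φ u 1 := by
    have := hπt 1
    rwa [mul_one] at this
  have h4 : φ u 4 = 2 * φ u 1 := by
    have := hπt 2
    rw [h2, show (2 : ZMod 7) * 2 = 4 from by decide] at this
    rw [this]
    have e : ∀ a : ZMod 7, 4 * (4 * a) = 2 * a := by decide
    exact e _
  have h6 : φ u 6 = 4 * φ u 3 := by
    have := hπt 3
    rwa [show (2 : ZMod 7) * 3 = 6 from by decide] at this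
  have h5 : φ u 5 = 2 * φ u 3 := by
    have := hπt 6
    rw [h6, show (2 : ZMod 7) * 6 = 5 from by decide] at this
    rw [this]
    have e : ∀ a : ZMod 7, 4 * (4 * a) = 2 * a := by decide
    exact e _
  have htbl : ∀ i, φ u i = invTbl (φ u 1) (φ u 3) i := by
    intro i
    rcases hcases i with rfl | rfl | rfl | rfl | rfl | rfl | rfl
    · rw [h0]; rfl
    · rfl
    · rw [h2]; rfl
    · rfl
    · rw [h4]; rfl
    · rw [h5]; rfl
    · rw [h6]; rfl
  refine ⟨φ u 1, φ u 3, htbl, ?_⟩
  apply invTbl_good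
  · intro i
    rw [← htbl, ← htbl]
    exact hπ2 i
  · intro k hk
    have hspow : ∀ (n : ℕ) (j : ZMod 7), φ (s ^ n) j = j + (n : ZMod 7) := by
      intro n
      induction n with
      | zero => intro j; rw [pow_zero, map_one]; simp
      | succ n ih =>
        intro j
        rw [pow_succ', map_mul, Equiv.Perm.mul_apply, ih, hφs]
        push_cast
        ring
    have hq : ∀ j, φ (s ^ k.val * u) j = invTbl (φ u 1) (φ u 3) j + k := by
      intro j
      rw [map_mul, Equiv.Perm.mul_apply, hspow, ZMod.natCast_zmod_val, htbl]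
    have hqf : (fun j => invTbl (φ u 1) (φ u 3) j + k) = ⇑(φ (s ^ k.val * u)) := by
      funext j
      exact (hq j).symm
    rw [hqf]
    have hpw : ∀ n : ℕ, (s ^ k.val * u) ^ n = 1 →
        ∀ i, (⇑(φ (s ^ k.val * u)))^[n] i = i := by
      intro n hn i
      rw [Equiv.Perm.iterate_eq_pow, ← map_pow, hn, map_one]
      rfl
    rcases orderOf_cases h (s ^ k.val * u) with ho | ho | ho | ho | ho
    · left
      apply hpw
      have := pow_orderOf_eq_one (s ^ k.val * u)
      rw [ho, pow_one] at this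
      rw [this, one_pow]
    · left
      apply hpw
      have := pow_orderOf_eq_one (s ^ k.val * u)
      rw [ho] at this
      rw [show 4 = 2 * 2 from rfl, pow_mul, this, one_pow]
    · right; left
      apply hpw
      have := pow_orderOf_eq_one (s ^ k.val * u)
      rwa [ho] at this
    · left
      apply hpw
      have := pow_orderOf_eq_one (s ^ k.val * u)
      rwa [ho] at this
    · right; right
      apply hpw
      have := pow_orderOf_eq_one (s ^ k.val * u)
      rwa [ho] at this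

/-- a simple group of order 168 is isomorphic to `SL(3,2)` -/
theorem exists_mulEquiv_SL (h : Nat.card G = 168)
    (hSL : Nat.card (Matrix.SpecialLinearGroup (Fin 3) (ZMod 2)) = 168) :
    Nonempty (G ≃* Matrix.SpecialLinearGroup (Fin 3) (ZMod 2)) := by
  classical
  obtain ⟨s, t, hs, ht, hst⟩ := exists_seven_three h
  obtain ⟨u, hu, hut, -⟩ := exists_inverting_involution h ht
  obtain ⟨φ, hφinj, hφs, hφt⟩ := exists_perm_rep h hs ht hst
  obtain ⟨c, c', htbl, hgood⟩ := involution_table h hu hut φ hφs hφt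
  obtain ⟨b, U, hU⟩ := exists_plane c c' hgood
  have e1 : φ s = planeHom b (mS b) := by
    apply Equiv.ext
    intro i
    rw [hφs, planeHom_mS]
  have e2 : φ t = planeHom b (mT b) := by
    apply Equiv.ext
    intro i
    rw [hφt, planeHom_mT]
  have e3 : φ u = planeHom b U := by
    apply Equiv.ext
    intro i
    rw [htbl, hU]
  have hle : φ.range ≤ (planeHom b).range := by
    rw [MonoidHom.range_eq_map, ← closure_eq_top_of_orders h hs ht hu, MonoidHom.map_closure,
      Subgroup.closure_le]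
    rintro _ ⟨x, hx, rfl⟩
    simp only [Set.mem_insert_iff, Set.mem_singleton_iff] at hx
    rcases hx with rfl | rfl | rfl
    · exact ⟨mS b, e1.symm⟩
    · exact ⟨mT b, e2.symm⟩
    · exact ⟨U, e3.symm⟩
  have hc1 : Nat.card φ.range = 168 := by
    rw [← h]
    exact (Nat.card_congr (MonoidHom.ofInjective hφinj).toEquiv).symm
  have hc2 : Nat.card (planeHom b).range = 168 := by
    rw [← hSL]
    exact (Nat.card_congr (MonoidHom.ofInjective (planeHom_injective b)).toEquiv).symm
  have heq : φ.range = (planeHom b).range :=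
    Subgroup.eq_of_le_of_card_ge hle (by rw [hc1, hc2])
  exact ⟨((MonoidHom.ofInjective hφinj).trans (MulEquiv.subgroupCongr heq)).trans
    (MonoidHom.ofInjective (planeHom_injective b)).symm⟩

end Main

end Cfsg.Agent.Lib.Helper2.Order168
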