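import Mathlib
import Cfsg.Agent.Lib.Helper2.PLength
import Cfsg.Agent.Lib.Helper3.PSolvable

/-!
Calculus of the upper `p`-series (helper2), continued.

* `StepNum p i m`            : `m` is prime to `p` (`i` even) or a power of `p` (`i` odd)
* `upperPSeries_relIndex`    : the index of step `n` is a `StepNum p n`
* `le_upperPSeries_succ`     : a normal `M` with `|M U_n : U_n|` a `StepNum p n` lies in `U_{n+1}`
* `upperPSeries_map_le`      : images: `f(U_n(G)) ≤ U_n(H)` for surjective `f`
* `PLengthLE.of_surjective`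
* `upperPSeries_add_of_even` : shift by an even number
* `upperPSeries_one`, `upperPSeries_two_of_pPrimeCore_eq_bot`, `PLengthLE.quot_of_succ`
-/

set_option autoImplicit false

namespace Cfsg.Agent.Lib.Helper2

open Cfsg

/-- the kind of number allowed as the index of step `i` of the upper `p`-series -/
def StepNum (p i m : ℕ) : Prop := if Even i then m.Coprime p else ∃ k : ℕ, m = p ^ k

theorem StepNum.of_dvd {p i m m' : ℕ} (hp : p.Prime) (h : StepNum p i m) (hd : m' ∣ m) :
    StepNum p i m' := by
  unfold StepNum at *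
  split_ifs at h ⊢ with hi
  · exact Nat.Coprime.coprime_dvd_left hd h
  · obtain ⟨k, rfl⟩ := h
    obtain ⟨j, _, rfl⟩ := (Nat.dvd_prime_pow hp).mp hd
    exact ⟨j, rfl⟩

theorem upperPSeries_relIndex {G : Type*} [Group G] [Finite G] (p : ℕ) [Fact p.Prime] (n : ℕ) :
    StepNum p n ((upperPSeries p G n).1.relIndex (upperPSeries p G (n + 1)).1) := by
  have key : ∀ X : Subgroup (G ⧸ (upperPSeries p G n).1),
      (upperPSeries p G n).1.relIndex (X.comap (QuotientGroup.mk' _)) = Nat.card X := by
    intro X
    have h1 := Subgroup.relIndex_ker (X.comap (QuotientGroup.mk' (upperPSeries p G n).1))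
      (QuotientGroup.mk' (upperPSeries p G n).1)
    rw [QuotientGroup.ker_mk',
      Subgroup.map_comap_eq_self_of_surjective (QuotientGroup.mk'_surjective _)] at h1
    exact h1
  unfold StepNum
  split_ifs with hn
  · rw [upperPSeries_succ_of_even p G n hn, key]; exact pPrimeCore_coprime p
  · rw [upperPSeries_succ_of_odd p G n hn, key]
    exact (IsPGroup.iff_card).mp (pCore_isPGroup p)

theorem le_upperPSeries_succ {G : Type*} [Group G] [Finite G] (p : ℕ) [Fact p.Prime] (n : ℕ)
    (M : Subgroup G) (hM : M.Normal)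
    (h : StepNum p n ((upperPSeries p G n).1.relIndex M)) :
    M ≤ (upperPSeries p G (n + 1)).1 := by
  have hcard : Nat.card (M.map (QuotientGroup.mk' (upperPSeries p G n).1)) =
      (upperPSeries p G n).1.relIndex M := by
    rw [← Subgroup.relIndex_ker, QuotientGroup.ker_mk']
  have hnorm : (M.map (QuotientGroup.mk' (upperPSeries p G n).1)).Normal :=
    hM.map _ (QuotientGroup.mk'_surjective _)
  unfold StepNum at h
  split_ifs at h with hn
  · rw [upperPSeries_succ_of_even p G n hn, ← Subgroup.map_le_iff_le_comap]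
    apply le_pPrimeCore hnorm
    rw [hcard]; exact h
  · rw [upperPSeries_succ_of_odd p G n hn, ← Subgroup.map_le_iff_le_comap]
    apply le_pCore hnorm
    obtain ⟨k, hk⟩ := h
    exact IsPGroup.of_card (hcard.trans hk)

theorem relIndex_map_dvd_of_normal {G H : Type*} [Group G] [Group H] (f : G →* H)
    {A B : Subgroup G} (hA : A.Normal) (hAB : A ≤ B) :
    (A.map f).relIndex (B.map f) ∣ A.relIndex B := by
  rw [Subgroup.relIndex_map_map]
  exact Cfsg.Agent.Lib.Helper3.sup_relIndex_sup_dvd hA (MonoidHom.normal_ker f) hAB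

theorem upperPSeries_zero (p : ℕ) (G : Type*) [Group G] : (upperPSeries p G 0).1 = ⊥ := by
  rw [upperPSeries]

theorem upperPSeries_map_le {G H : Type*} [Group G] [Group H] [Finite G] [Finite H] (p : ℕ)
    [Fact p.Prime] (f : G →* H) (hf : Function.Surjective f) (n : ℕ) :
    (upperPSeries p G n).1.map f ≤ (upperPSeries p H n).1 := by
  induction n with
  | zero =>
    rw [upperPSeries_zero, Subgroup.map_bot]; exact bot_le
  | succ n ih =>
    apply le_upperPSeries_succ p n _ ((upperPSeries_normal p G (n + 1)).map f hf)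
    apply StepNum.of_dvd Fact.out (upperPSeries_relIndex (G := G) p n)
    calc (upperPSeries p H n).1.relIndex ((upperPSeries p G (n + 1)).1.map f)
        ∣ ((upperPSeries p G n).1.map f).relIndex ((upperPSeries p G (n + 1)).1.map f) :=
          Subgroup.relIndex_dvd_of_le_left _ ih
      _ ∣ (upperPSeries p G n).1.relIndex (upperPSeries p G (n + 1)).1 :=
          relIndex_map_dvd_of_normal f (upperPSeries_normal p G n) (upperPSeries_le_succ p G n)

theorem PLengthLE.of_surjective {G H : Type*} [Group G] [Group H] [Finite G] [Finite H] {p : ℕ}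
    [Fact p.Prime] {k : ℕ} (hk : PLengthLE p k G) (f : G →* H) (hf : Function.Surjective f) :
    PLengthLE p k H := by
  unfold PLengthLE at *
  rw [eq_top_iff]
  have h1 := upperPSeries_map_le p f hf (2 * k + 1)
  rw [hk] at h1
  intro x _
  obtain ⟨g, rfl⟩ := hf x
  exact h1 (Subgroup.mem_map_of_mem f (Subgroup.mem_top g))

theorem upperPSeries_add_of_even (p : ℕ) (G : Type*) [Group G] (m : ℕ) (hm : Even m) (n : ℕ) :
    (upperPSeries p G (n + m)).1 =
      ((upperPSeries p (G ⧸ (upperPSeries p G m).1) n).1).comap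
        (QuotientGroup.mk' (upperPSeries p G m).1) := by
  induction n with
  | zero =>
    rw [upperPSeries_zero, MonoidHom.comap_bot, QuotientGroup.ker_mk', Nat.zero_add]
  | succ n ih =>
    by_cases hn : Even n
    · have hn2 : Even (n + m) := hn.add hm
      rw [show n + 1 + m = (n + m) + 1 by ring]
      rw [upperPSeries_succ_of_even p G (n + m) hn2,
        upperPSeries_succ_of_even p (G ⧸ (upperPSeries p G m).1) n hn]
      exact comap_transport (QuotientGroup.mk' _) (QuotientGroup.mk'_surjective _) _ _ ih _ _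
        (fun e => pPrimeCore_map_mulEquiv p e)
    · have hn2 : ¬ Even (n + m) := by
        intro h
        apply hn
        have := (Nat.even_add.mp h)
        exact this.mpr hm
      rw [show n + 1 + m = (n + m) + 1 by ring]
      rw [upperPSeries_succ_of_odd p G (n + m) hn2,
        upperPSeries_succ_of_odd p (G ⧸ (upperPSeries p G m).1) n hn]
      exact comap_transport (QuotientGroup.mk' _) (QuotientGroup.mk'_surjective _) _ _ ih _ _
        (fun e => Cfsg.Agent.Lib.Helper20.pCore_map_mulEquiv p e)

theorem comap_mk'_of_eq_bot {G : Type*} [Group G] (K : Subgroup G) [K.Normal] (hK : K = ⊥)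
    (FK : Subgroup (G ⧸ K)) (FG : Subgroup G)
    (hF : ∀ e : G ⧸ K ≃* G, FK.map e.toMonoidHom = FG) :
    FK.comap (QuotientGroup.mk' K) = FG := by
  subst hK
  ext g
  rw [Subgroup.mem_comap, ← hF QuotientGroup.quotientBot]
  constructor
  · intro h
    exact ⟨_, h, rfl⟩
  · rintro ⟨y, hy, hye⟩
    have : y = QuotientGroup.mk' ⊥ g := by
      apply QuotientGroup.quotientBot.injective
      exact hye
    rw [← this]; exact hy

theorem upperPSeries_one (p : ℕ) (G : Type*) [Group G] :
    (upperPSeries p G 1).1 = pPrimeCore p G := by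
  rw [show (1 : ℕ) = 0 + 1 from rfl, upperPSeries_succ_of_even p G 0 (by decide)]
  apply comap_mk'_of_eq_bot _ (upperPSeries_zero p G)
  intro e; exact pPrimeCore_map_mulEquiv p e

theorem upperPSeries_two_of_pPrimeCore_eq_bot (p : ℕ) (G : Type*) [Group G]
    (h : pPrimeCore p G = ⊥) : (upperPSeries p G 2).1 = pCore p G := by
  rw [show (2 : ℕ) = 1 + 1 from rfl, upperPSeries_succ_of_odd p G 1 (by decide)]
  apply comap_mk'_of_eq_bot _ (by rw [upperPSeries_one, h])
  intro e; exact Cfsg.Agent.Lib.Helper20.pCore_map_mulEquiv p e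

theorem PLengthLE.quot_of_succ {p : ℕ} {G : Type*} [Group G] {k : ℕ}
    (hk : PLengthLE p (k + 1) G) : PLengthLE p k (G ⧸ (upperPSeries p G 2).1) := by
  unfold PLengthLE at *
  rw [show 2 * (k + 1) + 1 = (2 * k + 1) + 2 by ring, upperPSeries_add_two] at hk
  rw [eq_top_iff]
  intro x _
  obtain ⟨g, rfl⟩ := QuotientGroup.mk'_surjective _ x
  have : g ∈ ((upperPSeries p (G ⧸ (upperPSeries p G 2).1) (2 * k + 1)).1).comap
      (QuotientGroup.mk' (upperPSeries p G 2).1) := by rw [hk]; trivial
  exact this

end Cfsg.Agent.Lib.Helper2
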