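import Mathlib
import Cfsg.Agent.Lib.Helper2.PLength2

/-!
Calculus of the upper `p`-series (helper2), part 3: subgroups, normal subgroups, extensions.

* `upperPSeries_comap_le`, `PLengthLE.of_injective` : subgroups
* `upperPSeries_map_subtype_normal`, `upperPSeries_map_subtype_le` : normal subgroups
* `PLengthLE.extension` : `l_p(X) ≤ l_p(N) + l_p(X/N)`
-/

set_option autoImplicit false

namespace Cfsg.Agent.Lib.Helper2

open Cfsg

theorem StepNum.parity {p i j m : ℕ} (h : Even i ↔ Even j) : StepNum p i m ↔ StepNum p j m := by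
  unfold StepNum
  simp only [h]

theorem StepNum.coprime_of_even {p i m : ℕ} (hi : Even i) (h : StepNum p i m) : m.Coprime p := by
  unfold StepNum at h
  rwa [if_pos hi] at h

theorem StepNum.of_coprime {p i m : ℕ} (hi : Even i) (h : m.Coprime p) : StepNum p i m := by
  unfold StepNum
  rwa [if_pos hi]

theorem relIndex_inf_dvd_of_normal {G : Type*} [Group G] {A B : Subgroup G} (C : Subgroup G)
    (hA : A.Normal) (hAB : A ≤ B) : A.relIndex (B ⊓ C) ∣ A.relIndex B := by
  have h1 : A.relIndex (B ⊓ C) = (A ⊓ C).relIndex (B ⊓ C) := by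
    rw [← Subgroup.inf_relIndex_right A (B ⊓ C), ← Subgroup.inf_relIndex_right (A ⊓ C) (B ⊓ C)]
    congr 1
    apply le_antisymm
    · exact le_inf (le_inf inf_le_left (inf_le_right.trans inf_le_right)) inf_le_right
    · exact le_inf (inf_le_left.trans inf_le_left) inf_le_right
  rw [h1]
  exact Cfsg.Agent.Lib.Helper3.inf_relIndex_inf_dvd hA hAB

theorem upperPSeries_comap_le {H X : Type*} [Group H] [Group X] [Finite H] [Finite X] (p : ℕ)
    [Fact p.Prime] (f : H →* X) (hf : Function.Injective f) (n : ℕ) :
    (upperPSeries p X n).1.comap f ≤ (upperPSeries p H n).1 := by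
  induction n with
  | zero =>
    rw [upperPSeries_zero, upperPSeries_zero, MonoidHom.comap_bot]
    exact ((MonoidHom.ker_eq_bot_iff f).mpr hf).le
  | succ n ih =>
    apply le_upperPSeries_succ p n _ ((upperPSeries_normal p X (n + 1)).comap f)
    apply StepNum.of_dvd Fact.out (upperPSeries_relIndex (G := X) p n)
    calc (upperPSeries p H n).1.relIndex ((upperPSeries p X (n + 1)).1.comap f)
        ∣ ((upperPSeries p X n).1.comap f).relIndex ((upperPSeries p X (n + 1)).1.comap f) :=
          Subgroup.relIndex_dvd_of_le_left _ ih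
      _ = (upperPSeries p X n).1.relIndex (((upperPSeries p X (n + 1)).1.comap f).map f) :=
          Subgroup.relIndex_comap _ _ _
      _ = (upperPSeries p X n).1.relIndex ((upperPSeries p X (n + 1)).1 ⊓ f.range) := by
          rw [Subgroup.map_comap_eq, inf_comm]
      _ ∣ (upperPSeries p X n).1.relIndex (upperPSeries p X (n + 1)).1 :=
          relIndex_inf_dvd_of_normal _ (upperPSeries_normal p X n) (upperPSeries_le_succ p X n)

theorem PLengthLE.of_injective {H X : Type*} [Group H] [Group X] [Finite H] [Finite X] {p : ℕ}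
    [Fact p.Prime] {k : ℕ} (hk : PLengthLE p k X) (f : H →* X) (hf : Function.Injective f) :
    PLengthLE p k H := by
  unfold PLengthLE at *
  rw [eq_top_iff]
  have h1 := upperPSeries_comap_le p f hf (2 * k + 1)
  rw [hk, Subgroup.comap_top] at h1
  exact h1

theorem upperPSeries_map_subtype_normal {X : Type*} [Group X] [Finite X] (p : ℕ) [Fact p.Prime]
    (N : Subgroup X) [N.Normal] (n : ℕ) :
    ((upperPSeries p ↥N n).1.map N.subtype).Normal := by
  constructor
  rintro _ ⟨y, hy, rfl⟩ g
  refine ⟨MulAut.conjNormal g y, ?_, ?_⟩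
  · have := upperPSeries_map_le p (MulAut.conjNormal g : ↥N ≃* ↥N).toMonoidHom
      (MulEquiv.surjective _) n
    exact this (Subgroup.mem_map_of_mem _ hy)
  · simp [MulAut.conjNormal_apply]

theorem upperPSeries_map_subtype_le {X : Type*} [Group X] [Finite X] (p : ℕ) [Fact p.Prime]
    (N : Subgroup X) [N.Normal] (n : ℕ) :
    (upperPSeries p ↥N n).1.map N.subtype ≤ (upperPSeries p X n).1 := by
  induction n with
  | zero =>
    rw [upperPSeries_zero, Subgroup.map_bot]; exact bot_le
  | succ n ih =>
    apply le_upperPSeries_succ p n _ (upperPSeries_map_subtype_normal p N (n + 1))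
    apply StepNum.of_dvd Fact.out (upperPSeries_relIndex (G := ↥N) p n)
    calc (upperPSeries p X n).1.relIndex ((upperPSeries p ↥N (n + 1)).1.map N.subtype)
        ∣ ((upperPSeries p ↥N n).1.map N.subtype).relIndex
            ((upperPSeries p ↥N (n + 1)).1.map N.subtype) :=
          Subgroup.relIndex_dvd_of_le_left _ ih
      _ ∣ (upperPSeries p ↥N n).1.relIndex (upperPSeries p ↥N (n + 1)).1 :=
          relIndex_map_dvd_of_normal _ (upperPSeries_normal p ↥N n) (upperPSeries_le_succ p ↥N n)

/-- `l_p(X) ≤ l_p(N) + l_p(X/N)`. -/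
theorem PLengthLE.extension {X : Type*} [Group X] [Finite X] {p : ℕ} [Fact p.Prime]
    (N : Subgroup X) [N.Normal] {a b : ℕ} (ha : PLengthLE p a ↥N) (hb : PLengthLE p b (X ⧸ N)) :
    PLengthLE p (a + b) X := by
  have hp : p.Prime := Fact.out
  have h1 : N ≤ (upperPSeries p X (2 * a + 1)).1 := by
    have h := upperPSeries_map_subtype_le p N (2 * a + 1)
    unfold PLengthLE at ha
    rw [ha, ← MonoidHom.range_eq_map, Subgroup.range_subtype] at h
    exact h
  have hbW : PLengthLE p b (X ⧸ (upperPSeries p X (2 * a + 1)).1) := by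
    have h1' : N ≤ ((upperPSeries p X (2 * a + 1)).1).comap (MonoidHom.id X) := by
      rw [Subgroup.comap_id]; exact h1
    apply PLengthLE.of_surjective hb
      (QuotientGroup.map N (upperPSeries p X (2 * a + 1)).1 (MonoidHom.id X) h1')
    intro y
    obtain ⟨x, rfl⟩ := QuotientGroup.mk'_surjective _ y
    exact ⟨QuotientGroup.mk' N x, rfl⟩
  have hπs : Function.Surjective (QuotientGroup.mk' (upperPSeries p X (2 * a + 1)).1) :=
    QuotientGroup.mk'_surjective _
  have claim : ∀ n : ℕ,
      ((upperPSeries p (X ⧸ (upperPSeries p X (2 * a + 1)).1) (n + 1)).1).comap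
        (QuotientGroup.mk' (upperPSeries p X (2 * a + 1)).1) ≤
      (upperPSeries p X (n + 1 + 2 * a)).1 := by
    intro n
    induction n with
    | zero =>
      rw [show 0 + 1 + 2 * a = 2 * a + 1 by ring]
      apply le_upperPSeries_succ p (2 * a) _ ((upperPSeries_normal p _ (0 + 1)).comap _)
      apply StepNum.of_coprime (by simp)
      have hle1 : (upperPSeries p X (2 * a)).1 ≤ (upperPSeries p X (2 * a + 1)).1 :=
        upperPSeries_le_succ p X (2 * a)
      have hle2 : (upperPSeries p X (2 * a + 1)).1 ≤
          ((upperPSeries p (X ⧸ (upperPSeries p X (2 * a + 1)).1) (0 + 1)).1).comap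
            (QuotientGroup.mk' (upperPSeries p X (2 * a + 1)).1) := by
        intro x hx
        rw [Subgroup.mem_comap]
        have : QuotientGroup.mk' (upperPSeries p X (2 * a + 1)).1 x = 1 :=
          (QuotientGroup.eq_one_iff x).mpr hx
        rw [this]; exact Subgroup.one_mem _
      rw [← Subgroup.relIndex_mul_relIndex _ _ _ hle1 hle2]
      apply Nat.Coprime.mul_left
      · exact StepNum.coprime_of_even (by simp) (upperPSeries_relIndex (G := X) p (2 * a))
      · have h2 := Subgroup.relIndex_ker
          (((upperPSeries p (X ⧸ (upperPSeries p X (2 * a + 1)).1) (0 + 1)).1).comap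
            (QuotientGroup.mk' (upperPSeries p X (2 * a + 1)).1))
          (QuotientGroup.mk' (upperPSeries p X (2 * a + 1)).1)
        rw [QuotientGroup.ker_mk', Subgroup.map_comap_eq_self_of_surjective hπs] at h2
        rw [h2, show (0 + 1 : ℕ) = 1 from rfl, upperPSeries_one]
        exact pPrimeCore_coprime p
    | succ n ih =>
      rw [show n + 1 + 1 + 2 * a = (n + 1 + 2 * a) + 1 by ring]
      apply le_upperPSeries_succ p (n + 1 + 2 * a) _ ((upperPSeries_normal p _ (n + 1 + 1)).comap _)
      have hpar : Even (n + 1) ↔ Even (n + 1 + 2 * a) := by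
        rw [Nat.even_add (m := n + 1) (n := 2 * a)]
        simp
      rw [← StepNum.parity hpar]
      apply StepNum.of_dvd hp (upperPSeries_relIndex
        (G := X ⧸ (upperPSeries p X (2 * a + 1)).1) p (n + 1))
      calc (upperPSeries p X (n + 1 + 2 * a)).1.relIndex
            (((upperPSeries p (X ⧸ (upperPSeries p X (2 * a + 1)).1) (n + 1 + 1)).1).comap
              (QuotientGroup.mk' (upperPSeries p X (2 * a + 1)).1))
          ∣ (((upperPSeries p (X ⧸ (upperPSeries p X (2 * a + 1)).1) (n + 1)).1).comap
              (QuotientGroup.mk' (upperPSeries p X (2 * a + 1)).1)).relIndex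
            (((upperPSeries p (X ⧸ (upperPSeries p X (2 * a + 1)).1) (n + 1 + 1)).1).comap
              (QuotientGroup.mk' (upperPSeries p X (2 * a + 1)).1)) :=
            Subgroup.relIndex_dvd_of_le_left _ ih
        _ = (upperPSeries p (X ⧸ (upperPSeries p X (2 * a + 1)).1) (n + 1)).1.relIndex
            (upperPSeries p (X ⧸ (upperPSeries p X (2 * a + 1)).1) (n + 1 + 1)).1 := by
            rw [Subgroup.relIndex_comap, Subgroup.map_comap_eq_self_of_surjective hπs]
  unfold PLengthLE at hbW ⊢
  have h3 := claim (2 * b)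
  rw [hbW, Subgroup.comap_top] at h3
  rw [show 2 * (a + b) + 1 = 2 * b + 1 + 2 * a by ring]
  exact top_le_iff.mp h3

end Cfsg.Agent.Lib.Helper2
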