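import Mathlib
import Cfsg.Agent.Lib.Helper2.CoprimeSylow

/-!
π-closed groups: a π-separable group in which `N(H)/C(H)` is a π'-group for every π'-subgroup `H`
has a normal Hall π-subgroup (helper2).
-/

set_option autoImplicit false

namespace Cfsg.Agent.Lib.Helper2.PiClosed

open Cfsg.Agent.Lib.Helper2

universe u

/-- `n` is a π-number. -/
def PiNum (π : Set ℕ) (n : ℕ) : Prop := ∀ p : ℕ, p.Prime → p ∣ n → p ∈ π

theorem PiNum.of_dvd {π : Set ℕ} {m n : ℕ} (h : PiNum π n) (hd : m ∣ n) : PiNum π m :=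
  fun p hp hpm => h p hp (hpm.trans hd)

theorem PiNum.mul {π : Set ℕ} {m n : ℕ} (hm : PiNum π m) (hn : PiNum π n) :
    PiNum π (m * n) := by
  intro p hp hd
  rcases (Nat.Prime.dvd_mul hp).mp hd with h | h
  · exact hm p hp h
  · exact hn p hp h

theorem PiNum.one (π : Set ℕ) : PiNum π 1 := by
  intro p hp hd
  exact absurd (Nat.dvd_one.mp hd) hp.one_lt.ne'

theorem coprime_of_piNum {π : Set ℕ} {a b : ℕ} (ha : PiNum π a) (hb : PiNum πᶜ b) :
    a.Coprime b :=
  Nat.coprime_of_dvd fun k hk hka hkb => hb k hk hkb (ha k hk hka)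

theorem eq_one_of_piNum {π : Set ℕ} {a : ℕ} (ha : PiNum π a) (hb : PiNum πᶜ a) : a = 1 :=
  (Nat.coprime_self a).mp (coprime_of_piNum ha hb)

theorem piNum_prime_pow {π : Set ℕ} {q k : ℕ} (hq : q.Prime) (hqπ : q ∈ π) :
    PiNum π (q ^ k) := by
  intro p hp hd
  have := (Nat.prime_dvd_prime_iff_eq hp hq).mp (hp.dvd_of_dvd_pow hd)
  rw [this]; exact hqπ

/-- Homogeneity: π-elements normalizing a π'-subgroup centralize it. -/
def Homog (π : Set ℕ) (G : Type*) [Group G] : Prop :=
  ∀ H : Subgroup G, PiNum πᶜ (Nat.card H) → ∀ x ∈ Subgroup.normalizer (H : Set G),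
    PiNum π (orderOf x) → x ∈ Subgroup.centralizer (H : Set G)

/-- The π-elements form a subgroup. -/
def PiClosed (π : Set ℕ) (G : Type*) [Group G] : Prop :=
  ∃ K : Subgroup G, ∀ x : G, x ∈ K ↔ PiNum π (orderOf x)

theorem piNum_orderOf_of_mk {G : Type*} [Group G] [Finite G] {π : Set ℕ} (M : Subgroup G)
    [M.Normal] (hM : PiNum π (Nat.card M)) (x : G)
    (hx : PiNum π (orderOf (QuotientGroup.mk' M x))) : PiNum π (orderOf x) := by
  have h1 : x ^ orderOf (QuotientGroup.mk' M x) ∈ M := by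
    rw [← QuotientGroup.eq_one_iff]
    have := pow_orderOf_eq_one (QuotientGroup.mk' M x)
    rwa [← map_pow] at this
  have h2 : (x ^ orderOf (QuotientGroup.mk' M x)) ^ Nat.card M = 1 := by
    have h := pow_card_eq_one' (G := M) (x := ⟨_, h1⟩)
    have h' := congrArg Subtype.val h
    simpa only [Subgroup.coe_pow, Subgroup.coe_one] using h'
  rw [← pow_mul] at h2
  exact (hx.mul hM).of_dvd (orderOf_dvd_of_pow_eq_one h2)

theorem exists_piNum_lift {G G' : Type*} [Group G] [Finite G] [Group G'] {π : Set ℕ}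
    (f : G →* G') (hf : Function.Surjective f) (y : G') (hy : PiNum π (orderOf y)) :
    ∃ x : G, f x = y ∧ PiNum π (orderOf x) := by
  have key : ∀ n : ℕ, ∀ x : G, f x = y → orderOf x = n →
      ∃ x' : G, f x' = y ∧ PiNum π (orderOf x') := by
    intro n
    induction n using Nat.strong_induction_on with
    | _ n ih =>
      intro x hx hn
      by_cases hpi : PiNum π (orderOf x)
      · exact ⟨x, hx, hpi⟩
      · unfold PiNum at hpi
        push_neg at hpi
        obtain ⟨q, hq, hqx, hqπ⟩ := hpi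
        have hqy : ¬ q ∣ orderOf y := fun h => hqπ (hy q hq h)
        have hcop : q.Coprime (orderOf y) := (Nat.Prime.coprime_iff_not_dvd hq).mpr hqy
        have hxpos : 0 < orderOf x := orderOf_pos x
        have hypos : 0 < orderOf y := by
          rw [← hx]; exact Nat.pos_of_dvd_of_pos (orderOf_map_dvd f x) hxpos
        have htot : Nat.totient (orderOf y) ≠ 0 := (Nat.totient_pos.mpr hypos).ne'
        have hmod : q ^ Nat.totient (orderOf y) ≡ 1 [MOD orderOf y] :=
          Nat.ModEq.pow_totient hcop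
        have hx' : f (x ^ q ^ Nat.totient (orderOf y)) = y := by
          rw [map_pow, hx]
          have := (pow_eq_pow_iff_modEq (x := y)).mpr hmod
          rw [this, pow_one]
        have ht0 : q ^ Nat.totient (orderOf y) ≠ 0 := pow_ne_zero _ hq.ne_zero
        have hord : orderOf (x ^ q ^ Nat.totient (orderOf y)) < orderOf x := by
          rw [orderOf_pow' x ht0]
          have hdvd : q ∣ Nat.gcd (orderOf x) (q ^ Nat.totient (orderOf y)) :=
            Nat.dvd_gcd hqx (dvd_pow_self q htot)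
          have hge : q ≤ Nat.gcd (orderOf x) (q ^ Nat.totient (orderOf y)) :=
            Nat.le_of_dvd (Nat.gcd_pos_of_pos_left _ hxpos) hdvd
          exact Nat.div_lt_self hxpos (lt_of_lt_of_le hq.one_lt hge)
        exact ih _ (by rw [← hn]; exact hord) _ hx' rfl
  obtain ⟨x, hx⟩ := hf y
  exact key _ x hx rfl

theorem eq_top_of_forall_sylow_le {G : Type*} [Group G] [Finite G] (H : Subgroup G)
    (h : ∀ (p : ℕ) [Fact p.Prime], p ∣ Nat.card G → ∃ P : Sylow p G, (P : Subgroup G) ≤ H) :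
    H = ⊤ := by
  rw [← Subgroup.index_eq_one, Nat.eq_one_iff_not_exists_prime_dvd]
  intro p hp hd
  haveI : Fact p.Prime := ⟨hp⟩
  have hpG : p ∣ Nat.card G := hd.trans (Subgroup.index_dvd_card H)
  obtain ⟨P, hP⟩ := h p hpG
  exact P.not_dvd_index (hd.trans (Subgroup.index_dvd_of_le hP))

theorem centralizer_subgroupOf_normalizer_normal {G : Type*} [Group G] (H : Subgroup G) :
    ((Subgroup.centralizer (H : Set G)).subgroupOf (Subgroup.normalizer (H : Set G))).Normal := by
  rw [← Subgroup.normalizerMonoidHom_ker]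
  exact MonoidHom.normal_ker _

theorem homog_of_relIndex {G : Type*} [Group G] [Finite G] (π : Set ℕ)
    (hhom : ∀ H : Subgroup G, H ≠ ⊥ → (∀ p : ℕ, p.Prime → p ∣ Nat.card ↥H → p ∉ π) →
        ∀ p : ℕ, p.Prime → p ∣ (Subgroup.centralizer (H : Set G)).relIndex
          (Subgroup.normalizer (H : Set G)) → p ∉ π) :
    Homog π G := by
  intro H hH x hxN hxπ
  by_cases hb : H = ⊥
  · subst hb
    rw [Subgroup.mem_centralizer_iff]
    intro h hh
    have : h = 1 := hh
    rw [this, one_mul, mul_one]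
  · have hr : PiNum πᶜ ((Subgroup.centralizer (H : Set G)).relIndex
        (Subgroup.normalizer (H : Set G))) := fun p hp hd => hhom H hb hH p hp hd
    haveI hCn := centralizer_subgroupOf_normalizer_normal H
    have h1 : orderOf (QuotientGroup.mk' ((Subgroup.centralizer (H : Set G)).subgroupOf
        (Subgroup.normalizer (H : Set G))) ⟨x, hxN⟩) ∣ orderOf x := by
      have := orderOf_map_dvd (QuotientGroup.mk' ((Subgroup.centralizer (H : Set G)).subgroupOf
        (Subgroup.normalizer (H : Set G)))) (⟨x, hxN⟩ : Subgroup.normalizer (H : Set G))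
      rwa [Subgroup.orderOf_mk] at this
    have h2 : orderOf (QuotientGroup.mk' ((Subgroup.centralizer (H : Set G)).subgroupOf
        (Subgroup.normalizer (H : Set G))) ⟨x, hxN⟩) ∣
        (Subgroup.centralizer (H : Set G)).relIndex (Subgroup.normalizer (H : Set G)) := by
      have := orderOf_dvd_natCard (QuotientGroup.mk' ((Subgroup.centralizer (H : Set G)).subgroupOf
        (Subgroup.normalizer (H : Set G))) ⟨x, hxN⟩)
      rwa [← Subgroup.index_eq_card] at this
    have h3 := eq_one_of_piNum (hxπ.of_dvd h1) (hr.of_dvd h2)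
    have h4 := orderOf_eq_one_iff.mp h3
    have h5 := (QuotientGroup.eq_one_iff _).mp h4
    exact Subgroup.mem_subgroupOf.mp h5

theorem le_comap_mk' {G : Type*} [Group G] (M : Subgroup G) [M.Normal] (T : Subgroup (G ⧸ M)) :
    M ≤ T.comap (QuotientGroup.mk' M) := by
  intro m hm
  rw [Subgroup.mem_comap]
  have : QuotientGroup.mk' M m = 1 := (QuotientGroup.eq_one_iff m).mpr hm
  rw [this]; exact T.one_mem

theorem relIndex_of_comap {G : Type*} [Group G] (M : Subgroup G) [M.Normal]
    (T : Subgroup (G ⧸ M)) :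
    M.relIndex (T.comap (QuotientGroup.mk' M)) = Nat.card T := by
  have := Subgroup.relIndex_comap (H := (⊥ : Subgroup (G ⧸ M))) (QuotientGroup.mk' M)
    (T.comap (QuotientGroup.mk' M))
  rw [MonoidHom.comap_bot, QuotientGroup.ker_mk'] at this
  rw [this, Subgroup.map_comap_eq_self_of_surjective (QuotientGroup.mk'_surjective M),
    Subgroup.relIndex_bot_left]

theorem card_comap_mk' {G : Type*} [Group G] (M : Subgroup G) [M.Normal]
    (T : Subgroup (G ⧸ M)) :
    Nat.card (T.comap (QuotientGroup.mk' M)) = Nat.card M * Nat.card T := by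
  have := Subgroup.relIndex_mul_relIndex ⊥ M (T.comap (QuotientGroup.mk' M)) bot_le
    (le_comap_mk' M T)
  rw [Subgroup.relIndex_bot_left, Subgroup.relIndex_bot_left, relIndex_of_comap] at this
  exact this.symm

theorem mem_normalizer_comap {G : Type*} [Group G] (M : Subgroup G) [M.Normal]
    (T : Subgroup (G ⧸ M)) (x : G)
    (hx : QuotientGroup.mk' M x ∈ Subgroup.normalizer (T : Set (G ⧸ M))) :
    x ∈ Subgroup.normalizer ((T.comap (QuotientGroup.mk' M) : Subgroup G) : Set G) := by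
  rw [Subgroup.mem_normalizer_iff] at hx ⊢
  intro h
  rw [Subgroup.mem_comap, Subgroup.mem_comap, map_mul, map_mul, map_inv]
  exact hx _

theorem isSolvable_zpowers {G : Type*} [Group G] (g : G) : IsSolvable (Subgroup.zpowers g) := by
  apply isSolvable_of_comm
  rintro ⟨a, ha⟩ ⟨b, hb⟩
  obtain ⟨i, rfl⟩ := Subgroup.mem_zpowers_iff.mp ha
  obtain ⟨j, rfl⟩ := Subgroup.mem_zpowers_iff.mp hb
  exact Subtype.ext (zpow_mul_comm g i j)

/-- Homogeneity passes to the quotient by a normal π'-subgroup. -/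
theorem Homog.quot_compl {G : Type*} [Group G] [Finite G] {π : Set ℕ} (M : Subgroup G) [M.Normal]
    (hM : PiNum πᶜ (Nat.card M)) (h : Homog π G) : Homog π (G ⧸ M) := by
  intro Hb hHb xb hxbN hxbπ
  obtain ⟨x, hx, hxπ⟩ := exists_piNum_lift (QuotientGroup.mk' M) (QuotientGroup.mk'_surjective M)
    xb hxbπ
  have hL : PiNum πᶜ (Nat.card (Hb.comap (QuotientGroup.mk' M))) := by
    rw [card_comap_mk']; exact hM.mul hHb
  have hxN : x ∈ Subgroup.normalizer ((Hb.comap (QuotientGroup.mk' M) : Subgroup G) : Set G) :=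
    mem_normalizer_comap M Hb x (by rw [hx]; exact hxbN)
  have hxC := h _ hL x hxN hxπ
  rw [Subgroup.mem_centralizer_iff] at hxC ⊢
  intro hb hhb
  obtain ⟨g, rfl⟩ := QuotientGroup.mk'_surjective M hb
  have := hxC g (Subgroup.mem_comap.mpr hhb)
  rw [← hx, ← map_mul, ← map_mul, this]

/-- Homogeneity passes to the quotient by a normal π-subgroup. -/
theorem Homog.quot {G : Type*} [Group G] [Finite G] {π : Set ℕ} (M : Subgroup G) [M.Normal]
    (hM : PiNum π (Nat.card M)) (h : Homog π G) : Homog π (G ⧸ M) := by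
  intro Hb hHb xb hxbN hxbπ
  have hsurj := QuotientGroup.mk'_surjective M
  obtain ⟨x, hx⟩ := hsurj xb
  have key : ((Subgroup.centralizer ({xb} : Set (G ⧸ M))).subgroupOf Hb) = ⊤ := by
    apply eq_top_of_forall_sylow_le
    intro q hq hqd
    have hqp : q.Prime := hq.out
    have hqπ : q ∉ π := hHb q hqp hqd
    have hAN : Subgroup.zpowers xb ≤ Subgroup.normalizer (Hb : Set (G ⧸ M)) := by
      rw [Subgroup.zpowers_le]; exact hxbN
    have hcop : (Nat.card (Subgroup.zpowers xb)).Coprime (Nat.card Hb) := by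
      rw [Nat.card_zpowers]; exact coprime_of_piNum hxbπ hHb
    obtain ⟨Sb, hSb⟩ := exists_invariant_sylow (Subgroup.zpowers xb) Hb hAN hcop
      (Or.inl (isSolvable_zpowers xb)) q
    refine ⟨Sb, ?_⟩
    obtain ⟨S', hS'⟩ : ∃ S' : Subgroup (G ⧸ M), S' = (Sb : Subgroup Hb).map Hb.subtype :=
      ⟨_, rfl⟩
    rw [← hS'] at hSb
    have hxbS' : xb ∈ Subgroup.normalizer (S' : Set (G ⧸ M)) := hSb (Subgroup.mem_zpowers xb)
    have hS'p : IsPGroup q S' := by rw [hS']; exact Sb.2.map _
    obtain ⟨k, hk⟩ := IsPGroup.iff_card.mp hS'p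
    obtain ⟨L, hL⟩ : ∃ L : Subgroup G, L = S'.comap (QuotientGroup.mk' M) := ⟨_, rfl⟩
    have hxL : x ∈ Subgroup.normalizer (L : Set G) := by
      rw [hL]; exact mem_normalizer_comap M S' x (by rw [hx]; exact hxbS')
    have P : Sylow q L := Classical.arbitrary _
    obtain ⟨S, hS⟩ : ∃ S : Subgroup G, S = (P : Subgroup L).map L.subtype := ⟨_, rfl⟩
    obtain ⟨l, hlL, hl⟩ := sylow_orbit L P x hxL
    rw [← hS] at hl
    have hidxM : M.relIndex L = q ^ k := by rw [hL, relIndex_of_comap, hk]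
    have hidxS : S.relIndex L = (P : Subgroup L).index := by
      rw [hS]
      unfold Subgroup.relIndex Subgroup.subgroupOf
      rw [Subgroup.comap_map_eq_self_of_injective (Subgroup.subtype_injective L)]
    have hsup : L ≤ M ⊔ S := by
      rw [← Subgroup.relIndex_eq_one]
      have h1 : (M ⊔ S).relIndex L ∣ q ^ k := by
        rw [← hidxM]; exact Subgroup.relIndex_dvd_of_le_left L le_sup_left
      have h2 : (M ⊔ S).relIndex L ∣ (P : Subgroup L).index := by
        rw [← hidxS]; exact Subgroup.relIndex_dvd_of_le_left L le_sup_right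
      exact Nat.eq_one_of_dvd_coprimes (Nat.Coprime.pow_left k
        ((Nat.Prime.coprime_iff_not_dvd hqp).mpr P.not_dvd_index)) h1 h2
    have hlmem : l ∈ ((M ⊔ S : Subgroup G) : Set G) := hsup hlL
    rw [Subgroup.normal_mul] at hlmem
    obtain ⟨m, hm, s, hs, hms⟩ := Set.mem_mul.mp hlmem
    have hyN : m⁻¹ * x ∈ Subgroup.normalizer (S : Set G) := by
      rw [mem_normalizer_iff_map_conj, map_conj_mul, hl, ← map_conj_mul]
      have e : m⁻¹ * l = s := by rw [← hms]; group
      rw [e]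
      exact mem_normalizer_iff_map_conj.mp (Subgroup.le_normalizer hs)
    have hm1 : QuotientGroup.mk' M m = 1 := (QuotientGroup.eq_one_iff m).mpr hm
    have hy : QuotientGroup.mk' M (m⁻¹ * x) = xb := by
      rw [map_mul, map_inv, hm1, inv_one, one_mul, hx]
    have hyπ : PiNum π (orderOf (m⁻¹ * x)) :=
      piNum_orderOf_of_mk M hM _ (by rw [hy]; exact hxbπ)
    have hSp : IsPGroup q S := by rw [hS]; exact P.2.map _
    have hSπ' : PiNum πᶜ (Nat.card S) := by
      obtain ⟨j, hj⟩ := IsPGroup.iff_card.mp hSp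
      rw [hj]; exact piNum_prime_pow hqp hqπ
    have hyC := h S hSπ' _ hyN hyπ
    intro z hz
    rw [Subgroup.mem_subgroupOf, Subgroup.mem_centralizer_iff]
    intro w hw
    rw [Set.mem_singleton_iff] at hw
    rw [hw]
    have hzS' : (z : G ⧸ M) ∈ S' := by
      rw [hS']; exact Subgroup.mem_map_of_mem Hb.subtype hz
    obtain ⟨g, hg⟩ := hsurj (z : G ⧸ M)
    have hgL : g ∈ L := by rw [hL, Subgroup.mem_comap, hg]; exact hzS'
    have hgmem : g ∈ ((M ⊔ S : Subgroup G) : Set G) := hsup hgL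
    rw [Subgroup.normal_mul] at hgmem
    obtain ⟨m', hm', s', hs', hms'⟩ := Set.mem_mul.mp hgmem
    have hcomm := (Subgroup.mem_centralizer_iff.mp hyC) s' hs'
    have hm1' : QuotientGroup.mk' M m' = 1 := (QuotientGroup.eq_one_iff m').mpr hm'
    have hz' : (z : G ⧸ M) = QuotientGroup.mk' M s' := by
      rw [← hg, ← hms', map_mul, hm1', one_mul]
    rw [hz', ← hy, ← map_mul, ← map_mul, hcomm]
  rw [Subgroup.mem_centralizer_iff]
  intro hb hhb
  have hmem : (⟨hb, hhb⟩ : Hb) ∈ (Subgroup.centralizer ({xb} : Set (G ⧸ M))).subgroupOf Hb := by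
    rw [key]; exact Subgroup.mem_top _
  rw [Subgroup.mem_subgroupOf, Subgroup.mem_centralizer_iff] at hmem
  exact (hmem xb rfl).symm

theorem PiClosed.of_quot_pi {G : Type*} [Group G] [Finite G] {π : Set ℕ} (M : Subgroup G)
    [M.Normal] (hM : PiNum π (Nat.card M)) (hQ : PiClosed π (G ⧸ M)) : PiClosed π G := by
  obtain ⟨Kb, hKb⟩ := hQ
  refine ⟨Kb.comap (QuotientGroup.mk' M), fun y => ?_⟩
  rw [Subgroup.mem_comap, hKb]
  constructor
  · intro hy; exact piNum_orderOf_of_mk M hM y hy
  · intro hy; exact hy.of_dvd (orderOf_map_dvd _ y)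

theorem PiClosed.structure {G : Type*} [Group G] [Finite G] {π : Set ℕ} (K : Subgroup G)
    (hK : ∀ x : G, x ∈ K ↔ PiNum π (orderOf x)) :
    K.Normal ∧ PiNum π (Nat.card K) ∧ PiNum πᶜ K.index := by
  refine ⟨?_, ?_, ?_⟩
  · constructor
    intro x hx g
    rw [hK] at hx ⊢
    have := MulEquiv.orderOf_eq (MulAut.conj g) x
    rw [MulAut.conj_apply] at this
    rw [this]; exact hx
  · intro p hp hd
    haveI : Fact p.Prime := ⟨hp⟩
    obtain ⟨z, hz⟩ := exists_prime_orderOf_dvd_card' p hd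
    have := (hK (z : G)).mp z.2
    rw [Subgroup.orderOf_coe, hz] at this
    exact this p hp dvd_rfl
  · intro p hp hd
    show p ∉ π
    intro hpπ
    haveI : Fact p.Prime := ⟨hp⟩
    obtain ⟨P⟩ : Nonempty (Sylow p G) := inferInstance
    have hPK : (P : Subgroup G) ≤ K := by
      intro z hz
      rw [hK]
      obtain ⟨k, hk⟩ := P.2 ⟨z, hz⟩
      have h1 : z ^ p ^ k = 1 := by simpa using congrArg Subtype.val hk
      exact (piNum_prime_pow hp hpπ).of_dvd (orderOf_dvd_of_pow_eq_one h1)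
    exact P.not_dvd_index (hd.trans (Subgroup.index_dvd_of_le hPK))

theorem PiClosed.of_quot_compl {G : Type*} [Group G] [Finite G] {π : Set ℕ} (M : Subgroup G)
    [M.Normal] (hM : PiNum πᶜ (Nat.card M)) (h : Homog π G) (hQ : PiClosed π (G ⧸ M)) :
    PiClosed π G := by
  obtain ⟨Kb, hKb⟩ := hQ
  obtain ⟨K, hK⟩ : ∃ K : Subgroup G, K = Kb.comap (QuotientGroup.mk' M) := ⟨_, rfl⟩
  have hMK : M ≤ K := by rw [hK]; exact le_comap_mk' M Kb
  have hKbπ : PiNum π (Nat.card Kb) := (PiClosed.structure Kb hKb).2.1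
  have hcardM' : Nat.card (M.subgroupOf K) = Nat.card M :=
    Nat.card_congr (Subgroup.subgroupOfEquivOfLe hMK).toEquiv
  have hidx : (M.subgroupOf K).index = Nat.card Kb := by
    have := relIndex_of_comap M Kb
    rw [← hK] at this
    exact this
  have hcop : (Nat.card (M.subgroupOf K)).Coprime (M.subgroupOf K).index := by
    rw [hcardM', hidx]; exact (coprime_of_piNum hKbπ hM).symm
  obtain ⟨Q', hQ'⟩ := Subgroup.exists_right_complement'_of_coprime hcop
  have hQ'card : Nat.card Q' = Nat.card Kb := by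
    rw [← hidx]; exact (hQ'.symm.index_eq_card).symm
  have hQcard : PiNum π (Nat.card (Q'.map K.subtype)) := by
    rw [Subgroup.card_subtype, hQ'card]; exact hKbπ
  have hQπ : ∀ q ∈ Q'.map K.subtype, PiNum π (orderOf q) := by
    intro q hq
    have := orderOf_dvd_natCard (⟨q, hq⟩ : Q'.map K.subtype)
    rw [Subgroup.orderOf_mk] at this
    exact hQcard.of_dvd this
  have hQcent : ∀ q ∈ Q'.map K.subtype, q ∈ Subgroup.centralizer (M : Set G) := by
    intro q hq
    apply h M hM q _ (hQπ q hq)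
    rw [Subgroup.normalizer_eq_top_iff.mpr inferInstance]; exact Subgroup.mem_top _
  refine ⟨Q'.map K.subtype, fun y => ⟨hQπ y, fun hy => ?_⟩⟩
  have hyK : y ∈ K := by
    rw [hK, Subgroup.mem_comap, hKb]; exact hy.of_dvd (orderOf_map_dvd _ y)
  obtain ⟨⟨⟨m', hm'⟩, ⟨q', hq'⟩⟩, hmq, -⟩ :=
    (Subgroup.isComplement_iff_existsUnique.mp hQ') ⟨y, hyK⟩
  have hmM : (m' : G) ∈ M := Subgroup.mem_subgroupOf.mp hm'
  have hqQ : (q' : G) ∈ Q'.map K.subtype := Subgroup.mem_map_of_mem K.subtype hq'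
  have hy_eq : y = (m' : G) * (q' : G) := by
    have := congrArg Subtype.val hmq
    simpa using this.symm
  have hcomm : Commute (m' : G) (q' : G) :=
    (Subgroup.mem_centralizer_iff.mp (hQcent _ hqQ)) _ hmM
  have hqa : (q' : G) ^ Nat.card (Q'.map K.subtype) = 1 := by
    have h := pow_card_eq_one' (G := Q'.map K.subtype) (x := ⟨_, hqQ⟩)
    have h' := congrArg Subtype.val h
    simpa only [Subgroup.coe_pow, Subgroup.coe_one] using h'
  have hya : y ^ Nat.card (Q'.map K.subtype) = (m' : G) ^ Nat.card (Q'.map K.subtype) := by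
    rw [hy_eq, hcomm.mul_pow, hqa, mul_one]
  have hmd : orderOf (m' : G) ∣ Nat.card M := by
    have := orderOf_dvd_natCard (⟨_, hmM⟩ : M)
    rwa [Subgroup.orderOf_mk] at this
  have h1 : orderOf ((m' : G) ^ Nat.card (Q'.map K.subtype)) = 1 := by
    apply eq_one_of_piNum (π := π)
    · rw [← hya]; exact hy.of_dvd (orderOf_pow_dvd _)
    · exact hM.of_dvd ((orderOf_pow_dvd _).trans hmd)
  have h2 : orderOf (m' : G) ∣ Nat.card (Q'.map K.subtype) :=
    orderOf_dvd_of_pow_eq_one (orderOf_eq_one_iff.mp h1)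
  have h3 : orderOf (m' : G) = 1 := eq_one_of_piNum (hQcard.of_dvd h2) (hM.of_dvd hmd)
  rw [hy_eq, orderOf_eq_one_iff.mp h3, one_mul]
  exact hqQ

theorem relIndex_map_dvd {G G' : Type*} [Group G] [Group G'] (f : G →* G') {A B : Subgroup G}
    (hA : A.Normal) (hAB : A ≤ B) : (A.map f).relIndex (B.map f) ∣ A.relIndex B := by
  rw [Subgroup.relIndex_map_map]
  haveI := hA
  haveI : (A ⊔ f.ker).Normal := inferInstance
  have e : B ⊔ f.ker = (A ⊔ f.ker) ⊔ B := by
    rw [sup_comm (A ⊔ f.ker) B, ← sup_assoc, sup_eq_left.mpr hAB]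
  rw [e, Subgroup.relIndex_sup_left]
  exact Subgroup.relIndex_dvd_of_le_left B le_sup_left

theorem PiClosed.of_mulEquiv {G G' : Type*} [Group G] [Group G'] {π : Set ℕ} (e : G ≃* G')
    (h : PiClosed π G') : PiClosed π G := by
  obtain ⟨K, hK⟩ := h
  refine ⟨K.comap e.toMonoidHom, fun x => ?_⟩
  rw [Subgroup.mem_comap]
  show e x ∈ K ↔ _
  rw [hK, MulEquiv.orderOf_eq]

/-- Main theorem: π-separable + homogeneous ⇒ π-closed. -/
theorem core {π : Set ℕ} : ∀ (n : ℕ) (G : Type u) [Group G] [Finite G]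
    (H : Fin (n + 1) → Subgroup G),
    H 0 = ⊥ → H (Fin.last n) = ⊤ → Monotone H → (∀ i, (H i).Normal) →
    (∀ i : Fin n, PiNum π ((H i.castSucc).relIndex (H i.succ)) ∨
      PiNum πᶜ ((H i.castSucc).relIndex (H i.succ))) →
    Homog π G → PiClosed π G := by
  intro n
  induction n with
  | zero =>
    intro G _ _ H h0 hlast _ _ _ _
    have htop : (⊥ : Subgroup G) = ⊤ := by rw [← h0, ← hlast]; rfl
    refine ⟨⊤, fun x => ⟨fun _ => ?_, fun _ => Subgroup.mem_top x⟩⟩
    have hx : x = 1 := by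
      have : x ∈ (⊥ : Subgroup G) := by rw [htop]; exact Subgroup.mem_top x
      exact Subgroup.mem_bot.mp this
    rw [hx, orderOf_one]; exact PiNum.one π
  | succ n ih =>
    intro G _ _ H h0 hlast hmono hnorm hstep hhom
    haveI hMn : (H 1).Normal := hnorm 1
    have hcardM : (H (0 : Fin (n + 1)).castSucc).relIndex (H (0 : Fin (n + 1)).succ) =
        Nat.card (H 1) := by
      rw [Fin.castSucc_zero, h0, Subgroup.relIndex_bot_left]; rfl
    have hQ : Homog π (G ⧸ H 1) → PiClosed π (G ⧸ H 1) := by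
      intro hh
      refine ih (G ⧸ H 1) (fun i => (H i.succ).map (QuotientGroup.mk' (H 1))) ?_ ?_ ?_ ?_ ?_ hh
      · show (H (Fin.succ 0)).map _ = ⊥
        have : (Fin.succ 0 : Fin (n + 2)) = 1 := rfl
        rw [this, QuotientGroup.map_mk'_self]
      · show (H (Fin.last n).succ).map _ = ⊤
        rw [Fin.succ_last, hlast,
          Subgroup.map_top_of_surjective _ (QuotientGroup.mk'_surjective _)]
      · intro i j hij
        exact Subgroup.map_mono (hmono (Fin.succ_le_succ_iff.mpr hij))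
      · intro i
        exact Subgroup.Normal.map (hnorm _) _ (QuotientGroup.mk'_surjective _)
      · intro i
        have hd : ((H i.castSucc.succ).map (QuotientGroup.mk' (H 1))).relIndex
            ((H i.succ.succ).map (QuotientGroup.mk' (H 1))) ∣
            (H i.succ.castSucc).relIndex (H i.succ.succ) := by
          rw [Fin.succ_castSucc]
          exact relIndex_map_dvd _ (hnorm _) (hmono (Fin.castSucc_lt_succ).le)
        rcases hstep i.succ with h | h
        · exact Or.inl (h.of_dvd hd)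
        · exact Or.inr (h.of_dvd hd)
    rcases hstep 0 with h | h
    · rw [hcardM] at h
      exact PiClosed.of_quot_pi (H 1) h (hQ (Homog.quot (H 1) h hhom))
    · rw [hcardM] at h
      exact PiClosed.of_quot_compl (H 1) h hhom (hQ (Homog.quot_compl (H 1) h hhom))

/-- In a π-closed group, `N(H)/C(H)` is a π'-group for every π'-subgroup `H`. -/
theorem relIndex_of_piClosed {G : Type*} [Group G] [Finite G] {π : Set ℕ} (K : Subgroup G)
    (hK : ∀ x : G, x ∈ K ↔ PiNum π (orderOf x)) (H : Subgroup G)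
    (hH : PiNum πᶜ (Nat.card H)) :
    PiNum πᶜ ((Subgroup.centralizer (H : Set G)).relIndex (Subgroup.normalizer (H : Set G))) := by
  obtain ⟨hKn, _, _⟩ := PiClosed.structure K hK
  intro p hp hd
  show p ∉ π
  intro hpπ
  haveI : Fact p.Prime := ⟨hp⟩
  obtain ⟨P⟩ : Nonempty (Sylow p (Subgroup.normalizer (H : Set G))) := inferInstance
  have hPC : (P : Subgroup (Subgroup.normalizer (H : Set G))) ≤
      (Subgroup.centralizer (H : Set G)).subgroupOf (Subgroup.normalizer (H : Set G)) := by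
    intro z hz
    rw [Subgroup.mem_subgroupOf, Subgroup.mem_centralizer_iff]
    intro t ht
    have hzK : (z : G) ∈ K := by
      rw [hK]
      obtain ⟨k, hk⟩ := P.2 ⟨z, hz⟩
      have h1 : (z : G) ^ p ^ k = 1 := by
        have := congrArg (fun w : P => ((w : Subgroup.normalizer (H : Set G)) : G)) hk
        simpa using this
      exact (piNum_prime_pow hp hpπ).of_dvd (orderOf_dvd_of_pow_eq_one h1)
    have hzN := z.2
    have h1 : (z : G) * t * (z : G)⁻¹ ∈ H := (Subgroup.mem_normalizer_iff.mp hzN t).mp ht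
    have h2 : (z : G) * t * (z : G)⁻¹ * t⁻¹ ∈ H := H.mul_mem h1 (H.inv_mem ht)
    have h3 : (z : G) * t * (z : G)⁻¹ * t⁻¹ ∈ K := by
      have e : (z : G) * t * (z : G)⁻¹ * t⁻¹ = (z : G) * (t * (z : G)⁻¹ * t⁻¹) := by group
      rw [e]
      exact K.mul_mem hzK (hKn.conj_mem _ (K.inv_mem hzK) t)
    have h4 : (z : G) * t * (z : G)⁻¹ * t⁻¹ = 1 := by
      have hπ1 := (hK _).mp h3
      have hdd : orderOf ((z : G) * t * (z : G)⁻¹ * t⁻¹) ∣ Nat.card H := by
        have := orderOf_dvd_natCard (⟨_, h2⟩ : H)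
        rwa [Subgroup.orderOf_mk] at this
      exact orderOf_eq_one_iff.mp (eq_one_of_piNum hπ1 (hH.of_dvd hdd))
    calc t * (z : G) = ((z : G) * t * (z : G)⁻¹ * t⁻¹)⁻¹ * ((z : G) * t) := by group
      _ = (z : G) * t := by rw [h4, inv_one, one_mul]
  exact P.not_dvd_index (hd.trans (Subgroup.index_dvd_of_le hPC))

end Cfsg.Agent.Lib.Helper2.PiClosed
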