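import Mathlib
import Cfsg.Prelude.Def_Blocks
import Cfsg.Prelude.Def_Transfer
import Cfsg.Agent.Lib.Helper28.PrimeCoreC
import Cfsg.Agent.Lib.Helper7.CoprimeCount
import Cfsg.Agent.Lib.Helper7.GlaubCyc
import Cfsg.Agent.Lib.Helper29.PResidualSylow
import Cfsg.Agent.Lib.Helper16.ResidualQuot

set_option autoImplicit false

/-!
# Restriction to `O^p(G)` and the principal block: auxiliary facts (helper2)
-/

namespace Cfsg.Agent.Lib.Helper2.ResExt

open Cfsg Cfsg.Agent.Lib.Helper26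

section A
variable {G : Type*} [Group G] [Fintype G]

theorem omegaF_restrict (p : ℕ) (N : Subgroup G) [Fintype N]
    (hreg : ∀ g : G, ¬ p ∣ orderOf g → g ∈ N) (χ : G → ℂ) :
    Cfsg.Agent.Lib.Helper28.omegaF χ (Cfsg.Agent.Lib.Helper28.pRegInd G p) =
      Cfsg.Agent.Lib.Helper28.omegaF (fun n : N => χ n)
        (Cfsg.Agent.Lib.Helper28.pRegInd N p) := by
  classical
  unfold Cfsg.Agent.Lib.Helper28.omegaF
  have h1 : (fun n : N => χ n) 1 = χ 1 := rfl
  rw [h1]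
  congr 1
  have h2 : ∑ g : G, Cfsg.Agent.Lib.Helper28.pRegInd G p g * χ g =
      ∑ g ∈ Finset.univ.filter (fun g : G => g ∈ N),
        Cfsg.Agent.Lib.Helper28.pRegInd G p g * χ g := by
    symm
    apply Finset.sum_subset (Finset.filter_subset _ _)
    intro g _ hg
    have hgN : g ∉ N := by simpa using hg
    unfold Cfsg.Agent.Lib.Helper28.pRegInd
    rw [if_pos, zero_mul]
    by_contra hnd
    exact hgN (hreg g hnd)
  rw [h2, Finset.sum_subtype (Finset.univ.filter (fun g : G => g ∈ N)) (p := fun g => g ∈ N)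
    (by intro x; simp)]
  refine Finset.sum_congr rfl fun n _ => ?_
  unfold Cfsg.Agent.Lib.Helper28.pRegInd
  rw [Subgroup.orderOf_coe]

theorem mem_principalBlock_iff_restrict {p : ℕ} [Fact p.Prime] {M : Ideal AlgInt}
    (hM : IsPModular p M) (N : Subgroup G) [Fintype N]
    (hreg : ∀ g : G, ¬ p ∣ orderOf g → g ∈ N)
    (χ : IrrCharacter G) (θ : IrrCharacter N)
    (hext : ∀ n : N, (χ : G → ℂ) n = (θ : N → ℂ) n) :
    χ ∈ principalBlock M G ↔ θ ∈ principalBlock M N := by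
  have hfun : (fun n : N => (χ : G → ℂ) n) = (θ : N → ℂ) := funext hext
  have hω := omegaF_restrict p N hreg (χ : G → ℂ)
  rw [hfun] at hω
  constructor
  · intro h
    apply Cfsg.Agent.Lib.Helper28.mem_principalBlock_of_omegaF hM
    rw [← hω]
    exact Cfsg.Agent.Lib.Helper28.omegaF_pRegInd_of_mem_principalBlock hM χ h
  · intro h
    apply Cfsg.Agent.Lib.Helper28.mem_principalBlock_of_omegaF hM
    rw [hω]
    exact Cfsg.Agent.Lib.Helper28.omegaF_pRegInd_of_mem_principalBlock hM θ h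

end A

section B
variable {G : Type*} [Group G] [Finite G] {p k : ℕ} [Fact p.Prime]

theorem coprime_of_pow_conditions'
    (hk₁ : ∀ g : G, (∃ j : ℕ, orderOf g = p ^ j) → g ^ k = g ^ (1 + p))
    (hk₂ : ∀ g : G, Nat.Coprime (orderOf g) p → g ^ k = g) : k.Coprime (Nat.card G) := by
  have hp : p.Prime := Fact.out
  apply Nat.coprime_of_dvd
  intro q hq hqk hqG
  haveI : Fact q.Prime := ⟨hq⟩
  obtain ⟨g, hg⟩ := exists_prime_orderOf_dvd_card' q hqG
  have hgk : g ^ k = g := by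
    by_cases hqp : q = p
    · have h3 := hk₁ g ⟨1, by rw [hg, hqp, pow_one]⟩
      rw [h3, pow_add, pow_one]
      have h4 : g ^ p = 1 := by
        rw [← hqp, ← hg]
        exact pow_orderOf_eq_one g
      rw [h4, mul_one]
    · exact hk₂ g (by rw [hg]; exact (Nat.coprime_primes hq hp).mpr hqp)
  have h1 : g ^ k = 1 := by
    rw [← hg] at hqk
    exact orderOf_dvd_iff_pow_eq_one.mp hqk
  rw [h1] at hgk
  rw [← hgk, orderOf_one] at hg
  exact hq.one_lt.ne hg

theorem pow_k_eq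
    (hk₁ : ∀ g : G, (∃ j : ℕ, orderOf g = p ^ j) → g ^ k = g ^ (1 + p))
    (hk₂ : ∀ g : G, Nat.Coprime (orderOf g) p → g ^ k = g) (a : ℕ)
    (ha1 : a ≡ 1 [MOD p ^ (Nat.card G).factorization p])
    (ha0 : a ≡ 0 [MOD Nat.card G / p ^ (Nat.card G).factorization p]) (g : G) :
    g ^ k = g ^ (1 + a * p) := by
  have hp : p.Prime := Fact.out
  obtain ⟨A, hA⟩ : ∃ A : ℕ, A = (Nat.card G).factorization p := ⟨_, rfl⟩
  rw [← hA] at ha1 ha0
  have he0 : orderOf g ≠ 0 := (orderOf_pos g).ne'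
  obtain ⟨s, b, hb, he⟩ := Nat.exists_eq_pow_mul_and_not_dvd he0 p hp.ne_one
  have hb0 : b ≠ 0 := by
    rintro rfl
    exact hb (dvd_zero p)
  have hps0 : p ^ s ≠ 0 := pow_ne_zero s hp.ne_zero
  have hu : orderOf (g ^ b) = p ^ s := by
    rw [orderOf_pow_of_dvd hb0 (by rw [he]; exact dvd_mul_left b (p ^ s)), he,
      Nat.mul_div_cancel _ (Nat.pos_of_ne_zero hb0)]
  have hv : orderOf (g ^ p ^ s) = b := by
    rw [orderOf_pow_of_dvd hps0 (by rw [he]; exact dvd_mul_right (p ^ s) b), he,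
      Nat.mul_div_cancel_left _ (Nat.pos_of_ne_zero hps0)]
  have hk3 : k ≡ 1 + p [MOD p ^ s] := by
    have h := hk₁ (g ^ b) ⟨s, hu⟩
    rw [pow_eq_pow_iff_modEq, hu] at h
    exact h
  have hk1 : k ≡ 1 [MOD b] := by
    have h := hk₂ (g ^ p ^ s)
      (by rw [hv]; exact ((Nat.Prime.coprime_iff_not_dvd hp).mpr hb).symm)
    have h' : (g ^ p ^ s) ^ k = (g ^ p ^ s) ^ 1 := by rw [h, pow_one]
    rw [pow_eq_pow_iff_modEq, hv] at h'
    exact h'
  have hdvdG : p ^ s * b ∣ Nat.card G := by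
    rw [← he]
    exact orderOf_dvd_natCard g
  have hsA : s ≤ A := by
    have h1 : p ^ s ∣ Nat.card G := (Dvd.intro b rfl).trans hdvdG
    rw [hA]
    exact (Nat.Prime.pow_dvd_iff_le_factorization hp Nat.card_pos.ne').mp h1
  have hbm : b ∣ Nat.card G / p ^ A := by
    have h1 : b ∣ Nat.card G := (Dvd.intro_left (p ^ s) rfl).trans hdvdG
    have h2 : Nat.card G = p ^ A * (Nat.card G / p ^ A) := by
      rw [hA]
      exact (Nat.ordProj_mul_ordCompl_eq_self (Nat.card G) p).symm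
    have h3 : Nat.Coprime b (p ^ A) :=
      Nat.Coprime.pow_right A ((Nat.Prime.coprime_iff_not_dvd hp).mpr hb).symm
    rw [h2] at h1
    exact h3.dvd_of_dvd_mul_left h1
  have h3 : 1 + a * p ≡ 1 + p [MOD p ^ s] := by
    have h31 : a ≡ 1 [MOD p ^ s] := ha1.of_dvd (pow_dvd_pow p hsA)
    have h32 := h31.mul_right p
    rw [one_mul] at h32
    exact Nat.ModEq.add_left 1 h32
  have h4 : 1 + a * p ≡ 1 [MOD b] := by
    have h41 : a ≡ 0 [MOD b] := ha0.of_dvd hbm
    have h42 := h41.mul_right p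
    rw [zero_mul] at h42
    have h5 := Nat.ModEq.add_left 1 h42
    rwa [add_zero] at h5
  have hcop : Nat.Coprime (p ^ s) b :=
    Nat.Coprime.pow_left s ((Nat.Prime.coprime_iff_not_dvd hp).mpr hb)
  have h5 : k ≡ 1 + a * p [MOD p ^ s * b] :=
    (Nat.modEq_and_modEq_iff_modEq_mul hcop).mp ⟨hk3.trans h3.symm, hk1.trans h4.symm⟩
  rw [← he] at h5
  exact (pow_eq_pow_iff_modEq (x := g)).mpr h5

end B

section E

theorem card_pow_eq {Q : Type*} [Group Q] [Finite Q] (hQ : IsCyclic Q) (p : ℕ) [Fact p.Prime]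
    (hpQ : p ∣ Nat.card Q) (η : Q →* ℂˣ) :
    Nat.card {lam : Q →* ℂˣ // lam ^ p = η ^ p} = p := by
  classical
  have hp : p.Prime := Fact.out
  have : NeZero p := ⟨hp.ne_zero⟩
  obtain ⟨g₀, hg₀⟩ := hQ.exists_generator
  have hord : orderOf g₀ = Nat.card Q := orderOf_eq_card_of_forall_mem_zpowers hg₀
  let F : {lam : Q →* ℂˣ // lam ^ p = η ^ p} → rootsOfUnity p ℂ := fun lam =>
    ⟨lam.1 g₀ * (η g₀)⁻¹, by
      rw [mem_rootsOfUnity, mul_pow, inv_pow, ← MonoidHom.pow_apply, lam.2, MonoidHom.pow_apply,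
        mul_inv_cancel]⟩
  have hF : Function.Bijective F := by
    constructor
    · intro lam lam' h
      have h1 : lam.1 g₀ * (η g₀)⁻¹ = lam'.1 g₀ * (η g₀)⁻¹ := congrArg Subtype.val h
      have h2 : lam.1 g₀ = lam'.1 g₀ := mul_right_cancel h1
      exact Subtype.ext ((MonoidHom.eq_iff_eq_on_generator hg₀ _ _).mpr h2)
    · rintro ⟨ζ, hζ⟩
      rw [mem_rootsOfUnity] at hζ
      have hdvd : orderOf ζ ∣ orderOf g₀ := by
        rw [hord]
        exact (orderOf_dvd_of_pow_eq_one hζ).trans hpQ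
      set μ : Q →* ℂˣ := monoidHomOfForallMemZpowers hg₀ hdvd with hμ
      have hμg : μ g₀ = ζ := monoidHomOfForallMemZpowers_apply_gen hg₀ hdvd
      have hμp : μ ^ p = 1 := by
        rw [MonoidHom.eq_iff_eq_on_generator hg₀, MonoidHom.pow_apply, hμg, hζ,
          MonoidHom.one_apply]
      have hμη : (μ * η) ^ p = η ^ p := by
        apply MonoidHom.ext
        intro x
        have hx : μ x ^ p = 1 := by
          have := congrArg (fun f : Q →* ℂˣ => f x) hμp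
          simpa [MonoidHom.pow_apply] using this
        rw [MonoidHom.pow_apply, MonoidHom.mul_apply, mul_pow, hx, one_mul, MonoidHom.pow_apply]
      refine ⟨⟨μ * η, hμη⟩, ?_⟩
      apply Subtype.ext
      show (μ * η) g₀ * (η g₀)⁻¹ = ζ
      rw [MonoidHom.mul_apply, hμg, mul_assoc, mul_inv_cancel, mul_one]
  rw [Nat.card_congr (Equiv.ofBijective F hF), Complex.card_rootsOfUnity]

end E

section F

theorem ginv_of_sylow_inv {G : Type*} [Group G] [Finite G] (p : ℕ) [Fact p.Prime] (P : Sylow p G)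
    [hN : (Cfsg.pResidual p G).Normal] (θ : (Cfsg.pResidual p G) → ℂ)
    (hcl : IsClassFunction (Cfsg.pResidual p G) θ)
    (hP : ∀ x ∈ (P : Subgroup G), ∀ n : (Cfsg.pResidual p G),
      θ ⟨x * n * x⁻¹, hN.conj_mem n n.2 x⟩ = θ n) :
    ∀ (g : G) (n : Cfsg.pResidual p G), θ ⟨g * n * g⁻¹, hN.conj_mem (n : G) n.2 g⟩ = θ n := by
  intro g n
  obtain ⟨b, hb, s, hs, rfl⟩ := Cfsg.Agent.Lib.Helper29.exists_mul_pResidual_sylow p P g
  have h1 := hP s hs n
  have h2 := hcl ⟨s * n * s⁻¹, hN.conj_mem n n.2 s⟩ ⟨b, hb⟩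
  rw [← h1, ← h2]
  congr 1
  apply Subtype.ext
  simp [mul_assoc]

theorem hom_pow_k {G : Type*} [Group G] [Finite G] (p : ℕ) [Fact p.Prime] (P : Sylow p G) {k : ℕ}
    (hk₁ : ∀ g : G, (∃ j : ℕ, orderOf g = p ^ j) → g ^ k = g ^ (1 + p))
    (μ : G →* ℂˣ) (hμ : ∀ n : Cfsg.pResidual p G, μ n = 1) (g : G) :
    μ g ^ k = μ g ^ (1 + p) := by
  have hp : p.Prime := Fact.out
  obtain ⟨b, hb, s, hs, rfl⟩ := Cfsg.Agent.Lib.Helper29.exists_mul_pResidual_sylow p P g
  have h1 : μ (b * s) = μ s := by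
    rw [map_mul, hμ ⟨b, hb⟩, one_mul]
  rw [h1, ← map_pow, ← map_pow]
  congr 1
  apply hk₁
  obtain ⟨j, hj⟩ := P.2 ⟨s, hs⟩
  have h2 : s ^ p ^ j = 1 := by
    have := congrArg Subtype.val hj
    simpa using this
  obtain ⟨i, -, hi⟩ := (Nat.dvd_prime_pow hp).mp (orderOf_dvd_of_pow_eq_one h2)
  exact ⟨i, hi⟩

theorem card_eq_mul_of_fibers {X Y : Type*} [Finite X] [Finite Y] (f : X → Y) (p : ℕ)
    (h : ∀ y, Nat.card {x // f x = y} = p) : Nat.card X = p * Nat.card Y := by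
  classical
  have : Fintype Y := Fintype.ofFinite Y
  rw [Nat.card_congr (Equiv.sigmaFiberEquiv f).symm, Nat.card_sigma]
  simp only [h]
  rw [Finset.sum_const, Finset.card_univ, smul_eq_mul, Nat.card_eq_fintype_card, mul_comm]

end F

end Cfsg.Agent.Lib.Helper2.ResExt
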