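import Mathlib
import Cfsg.Prelude.Def_Blocks
import Cfsg.Prelude.Def_Transfer
import Cfsg.Prelude.Def_CharExt
import Cfsg.Agent.Lib.Helper2.ResExtA

set_option autoImplicit false
set_option maxHeartbeats 800000

/-!
# Counting Galois-fixed characters of the principal block above `O^p(G)` (helper2)
-/

namespace Cfsg.Agent.Lib.Helper2.ResExt

open Cfsg Cfsg.Agent.Lib.Helper26

universe u

section Main
variable {G : Type u} [Group G] [Fintype G] (p : ℕ) [Fact p.Prime]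

local notation "𝒩" => Cfsg.pResidual p G

theorem fiber_count (M : Ideal AlgInt) (hM : IsPModular p M) (P : Sylow p G)
    [hN : (𝒩).Normal] (hcyc : IsCyclic (G ⧸ 𝒩)) (hnt : 𝒩 ≠ ⊤) (k : ℕ)
    (hk₁ : ∀ g : G, (∃ j : ℕ, orderOf g = p ^ j) → g ^ k = g ^ (1 + p))
    (hk₂ : ∀ g : G, Nat.Coprime (orderOf g) p → g ^ k = g)
    (θ : IrrCharacter 𝒩) (hθB : θ ∈ principalBlock M 𝒩)
    (hθd : ¬ p ∣ charDegree (θ : 𝒩 → ℂ))
    (hθP : ∀ x ∈ (P : Subgroup G), ∀ n : 𝒩,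
      (θ : 𝒩 → ℂ) ⟨x * n * x⁻¹, hN.conj_mem n n.2 x⟩ = (θ : 𝒩 → ℂ) n)
    (hθk : ∀ n : 𝒩, (θ : 𝒩 → ℂ) (n ^ k) = (θ : 𝒩 → ℂ) n) :
    Nat.card {χ : IrrCharacter G // (χ ∈ principalBlock M G ∧ ¬ p ∣ charDegree (χ : G → ℂ) ∧
        ∀ g : G, (χ : G → ℂ) (g ^ k) = (χ : G → ℂ) g) ∧
        ∀ n : 𝒩, (χ : G → ℂ) n = (θ : 𝒩 → ℂ) n} = p := by
  classical
  have hp : p.Prime := Fact.out
  haveI : Fintype 𝒩 := Fintype.ofFinite _
  have hkcop : k.Coprime (Nat.card G) := coprime_of_pow_conditions' hk₁ hk₂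
  have hreg : ∀ g : G, ¬ p ∣ orderOf g → g ∈ 𝒩 := fun g hg =>
    Subgroup.subset_closure ((Nat.Prime.coprime_iff_not_dvd hp).mpr hg).symm
  obtain ⟨m, hm⟩ : ∃ m : ℕ, (𝒩).index = p ^ m := by
    have hPG : IsPGroup p (G ⧸ 𝒩) := Cfsg.Agent.Lib.Helper16.quotient_pResidual_isPGroup p
    obtain ⟨n, hn⟩ := IsPGroup.iff_card.mp hPG
    exact ⟨n, by rw [Subgroup.index_eq_card]; exact hn⟩
  have hm0 : m ≠ 0 := by
    rintro rfl
    rw [pow_zero, Subgroup.index_eq_one] at hm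
    exact hnt hm
  have hsolv : IsSolvable (G ⧸ 𝒩) := by
    letI : CommGroup (G ⧸ 𝒩) := IsCyclic.commGroup
    exact Group.isSolvable_of_comm (fun a b => mul_comm a b)
  have hθc := isCharacter_of_isIrrCharacter θ.2
  have hθcl := isClassFunction_of_isCharacter hθc
  have hinv := ginv_of_sylow_inv p P (θ : 𝒩 → ℂ) hθcl hθP
  obtain ⟨d, hddef⟩ : ∃ d : ℕ, d = charDegree (θ : 𝒩 → ℂ) := ⟨_, rfl⟩
  rw [← hddef] at hθd
  have hd : (θ : 𝒩 → ℂ) 1 = (d : ℂ) := by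
    rw [hddef]
    exact Cfsg.Agent.Lib.Helper7.CoprimeCount.irr_one_eq_charDegree θ
  have hcopd : Nat.Coprime p d := (Nat.Prime.coprime_iff_not_dvd hp).mpr hθd
  have hcop : Nat.Coprime (𝒩).index (Cfsg.detOrder (θ : 𝒩 → ℂ) * d) := by
    rw [hm]
    apply Nat.Coprime.pow_left
    exact Nat.Coprime.mul_right
      (Cfsg.Agent.Lib.Helper7.detOrder_pResidual_coprime p hθc).symm hcopd
  obtain ⟨χ₀, hχ₀, hχ₀e, -⟩ := Cfsg.Agent.Lib.Helper7.ext_coprime_solvable 𝒩 hsolv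
    (θ : 𝒩 → ℂ) θ.2 hinv d hd hcop
  have hχ₀c := isCharacter_of_isIrrCharacter hχ₀
  have hχk : IsIrrCharacter G (fun g => χ₀ (g ^ k)) :=
    Cfsg.Agent.Lib.Helper4.isIrrCharacter_pow χ₀ hχ₀ k hkcop
  have hχke : ∀ n : 𝒩, (fun g => χ₀ (g ^ k)) (n : G) = (θ : 𝒩 → ℂ) n := by
    intro n
    show χ₀ ((n : G) ^ k) = _
    rw [← Subgroup.coe_pow, hχ₀e, hθk]
  obtain ⟨β', hβ'N, hβ'⟩ := Cfsg.Agent.Lib.Helper7.ext_twist 𝒩 (θ : 𝒩 → ℂ) θ.2 χ₀
    (fun g => χ₀ (g ^ k)) hχ₀ hχk hχ₀e hχke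
  have hβ'g : ∀ g : G, χ₀ (g ^ k) = ((β' g : ℂˣ) : ℂ) * χ₀ g := fun g => congrFun hβ' g
  -- determinants
  obtain ⟨δ, hδ⟩ := Cfsg.Agent.Lib.Helper7.exists_detHom hχ₀c
  have hχ₀1 : χ₀ 1 = (d : ℂ) := by
    have h := hχ₀e 1
    rw [Subgroup.coe_one] at h
    rw [h, hd]
  have hdet : ∀ g : G, δ g ^ k = β' g ^ d * δ g := by
    intro g
    apply Units.ext
    have h1 := Cfsg.Agent.Lib.Helper7.GlaubCyc.detChar_pow χ₀ hχ₀c k hkcop g
    have h2 := Cfsg.Agent.Lib.Helper7.detChar_twist β' hχ₀c d hχ₀1 g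
    rw [hβ', h2, hδ] at h1
    rw [Units.val_pow_eq_pow_val, Units.val_mul, Units.val_pow_eq_pow_val]
    exact h1.symm
  -- the CRT exponent
  have hcopAm : Nat.Coprime (p ^ (Nat.card G).factorization p)
      (Nat.card G / p ^ (Nat.card G).factorization p) :=
    Nat.Coprime.pow_left _ (Nat.coprime_ordCompl hp Nat.card_pos.ne')
  obtain ⟨a, ha1, ha0⟩ := Nat.chineseRemainder hcopAm 1 0
  have hpk := pow_k_eq hk₁ hk₂ a ha1 ha0
  have hkerξ : 𝒩 ≤ (δ ^ a).ker := by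
    show Subgroup.closure {g : G | Nat.Coprime (orderOf g) p} ≤ _
    apply (Subgroup.closure_le _).mpr
    intro g hg
    have hg' : Nat.Coprime (orderOf g) p := hg
    rw [SetLike.mem_coe, MonoidHom.mem_ker, MonoidHom.pow_apply, ← map_pow]
    have hga : g ^ a = 1 := by
      apply orderOf_dvd_iff_pow_eq_one.mp
      have h1 : orderOf g ∣ Nat.card G / p ^ (Nat.card G).factorization p := by
        have h2 : orderOf g ∣ p ^ (Nat.card G).factorization p *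
            (Nat.card G / p ^ (Nat.card G).factorization p) := by
          rw [Nat.ordProj_mul_ordCompl_eq_self]
          exact orderOf_dvd_natCard g
        exact (Nat.Coprime.pow_right _ hg').dvd_of_dvd_mul_left h2
      exact h1.trans ((Nat.modEq_zero_iff_dvd).mp ha0)
    rw [hga, map_one]
  have hkerβ : 𝒩 ≤ β'.ker := fun n hn => MonoidHom.mem_ker.mpr (hβ'N ⟨n, hn⟩)
  obtain ⟨β₀, hβ₀⟩ : ∃ β₀ : G ⧸ 𝒩 →* ℂˣ, β₀ = QuotientGroup.lift 𝒩 β' hkerβ := ⟨_, rfl⟩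
  obtain ⟨ξ, hξ⟩ : ∃ ξ : G ⧸ 𝒩 →* ℂˣ, ξ = QuotientGroup.lift 𝒩 (δ ^ a) hkerξ := ⟨_, rfl⟩
  have hβ₀mk : ∀ g : G, β₀ (QuotientGroup.mk g) = β' g := by
    intro g
    rw [hβ₀, QuotientGroup.lift_mk]
  have hβξ : ∀ q : G ⧸ 𝒩, β₀ q ^ d = ξ q ^ p := by
    intro q
    obtain ⟨g, rfl⟩ := QuotientGroup.mk_surjective q
    rw [hβ₀mk, hξ, QuotientGroup.lift_mk, MonoidHom.pow_apply]
    have h1 := hdet g
    have h2 : δ g ^ k = δ g ^ (1 + a * p) := by rw [← map_pow, hpk g, map_pow]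
    rw [h2, pow_add, pow_one, mul_comm] at h1
    have h3 := mul_right_cancel h1
    rw [← h3, pow_mul]
  have hβ₀pm : ∀ q : G ⧸ 𝒩, β₀ q ^ (p ^ m) = 1 := by
    intro q
    rw [← map_pow]
    have hq : q ^ (p ^ m) = 1 := by
      rw [← hm, Subgroup.index_eq_card]
      exact pow_card_eq_one'
    rw [hq, map_one]
  obtain ⟨d', hd'⟩ : ∃ d', d * d' ≡ 1 [MOD p ^ m] := by
    have hcopdm : Nat.Coprime d (p ^ m) := Nat.Coprime.pow_right m hcopd.symm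
    have h1lt : 1 < p ^ m := Nat.one_lt_pow hm0 hp.one_lt
    obtain ⟨d', -, hd'⟩ := Nat.exists_mul_mod_eq_one_of_coprime hcopdm h1lt
    exact ⟨d', by rw [Nat.ModEq, hd', Nat.mod_eq_of_lt h1lt]⟩
  have hβ₀eq : ∀ q : G ⧸ 𝒩, β₀ q = (ξ q ^ d') ^ p := by
    intro q
    have h1 : β₀ q ^ (d * d') = β₀ q ^ 1 := by
      rw [pow_eq_pow_iff_modEq]
      exact hd'.of_dvd (orderOf_dvd_of_pow_eq_one (hβ₀pm q))
    rw [pow_one] at h1
    rw [← h1, pow_mul, hβξ q, ← pow_mul, ← pow_mul, mul_comm]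
  obtain ⟨η, hη⟩ : ∃ η : G ⧸ 𝒩 →* ℂˣ, η = (ξ ^ d')⁻¹ := ⟨_, rfl⟩
  have hηq : ∀ q : G ⧸ 𝒩, η q = (ξ q ^ d')⁻¹ := by
    intro q
    rw [hη, MonoidHom.inv_apply, MonoidHom.pow_apply]
  have hηp : ∀ q : G ⧸ 𝒩, η q ^ p = (β₀ q)⁻¹ := by
    intro q
    rw [hηq, inv_pow, ← hβ₀eq]
  -- the key relation for twists
  have hkey : ∀ (lam : G ⧸ 𝒩 →* ℂˣ) (g : G),
      lam (QuotientGroup.mk g) ^ k = lam (QuotientGroup.mk g) * lam (QuotientGroup.mk g) ^ p := by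
    intro lam g
    have h := hom_pow_k p P hk₁ (lam.comp (QuotientGroup.mk' 𝒩)) (by
      intro n
      show lam (QuotientGroup.mk (n : G)) = 1
      have : (QuotientGroup.mk (n : G) : G ⧸ 𝒩) = 1 := (QuotientGroup.eq_one_iff _).mpr n.2
      rw [this, map_one]) g
    have h' : lam (QuotientGroup.mk g) ^ k = lam (QuotientGroup.mk g) ^ (1 + p) := h
    rw [h', pow_add, pow_one]
  have hdvdp : p ∣ Nat.card (G ⧸ 𝒩) := by
    rw [← Subgroup.index_eq_card, hm]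
    exact dvd_pow_self p hm0
  -- the bijection
  let F : {lam : G ⧸ 𝒩 →* ℂˣ // lam ^ p = η ^ p} →
      {χ : IrrCharacter G // (χ ∈ principalBlock M G ∧ ¬ p ∣ charDegree (χ : G → ℂ) ∧
        ∀ g : G, (χ : G → ℂ) (g ^ k) = (χ : G → ℂ) g) ∧
        ∀ n : 𝒩, (χ : G → ℂ) n = (θ : 𝒩 → ℂ) n} := fun lam =>
    ⟨⟨fun g : G => ((lam.1 (QuotientGroup.mk g) : ℂˣ) : ℂ) * χ₀ g,
      Cfsg.Agent.S0857.isIrr_twist (lam.1.comp (QuotientGroup.mk' 𝒩)) χ₀ hχ₀⟩, by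
      have hext : ∀ n : 𝒩, ((lam.1 (QuotientGroup.mk (n : G)) : ℂˣ) : ℂ) * χ₀ n =
          (θ : 𝒩 → ℂ) n := by
        intro n
        have : (QuotientGroup.mk (n : G) : G ⧸ 𝒩) = 1 := (QuotientGroup.eq_one_iff _).mpr n.2
        rw [this, map_one, Units.val_one, one_mul, hχ₀e]
      refine ⟨⟨?_, ?_, ?_⟩, hext⟩
      · exact (mem_principalBlock_iff_restrict hM 𝒩 hreg _ θ hext).mpr hθB
      · have h1 : charDegree (fun g : G => ((lam.1 (QuotientGroup.mk g) : ℂˣ) : ℂ) * χ₀ g) = d := by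
          apply Cfsg.Agent.Lib.Helper7.charDegree_eq_of
          have h := hext 1
          rw [Subgroup.coe_one] at h
          rw [h, hd]
        show ¬ p ∣ charDegree (fun g : G => ((lam.1 (QuotientGroup.mk g) : ℂˣ) : ℂ) * χ₀ g)
        rw [h1]
        exact hθd
      · intro g
        show ((lam.1 (QuotientGroup.mk (g ^ k)) : ℂˣ) : ℂ) * χ₀ (g ^ k) =
          ((lam.1 (QuotientGroup.mk g) : ℂˣ) : ℂ) * χ₀ g
        rw [hβ'g g, ← mul_assoc]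
        congr 1
        have hlamp : lam.1 (QuotientGroup.mk g) ^ p = (β' g)⁻¹ := by
          have h := congrArg (fun f : G ⧸ 𝒩 →* ℂˣ => f (QuotientGroup.mk g)) lam.2
          simp only [MonoidHom.pow_apply] at h
          rw [h, hηp, hβ₀mk]
        have h1 : lam.1 (QuotientGroup.mk (g ^ k)) * β' g = lam.1 (QuotientGroup.mk g) := by
          rw [QuotientGroup.mk_pow, map_pow, hkey lam.1 g, hlamp, mul_assoc, inv_mul_cancel,
            mul_one]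
        rw [← h1, Units.val_mul]⟩
  have hF : Function.Bijective F := by
    constructor
    · intro lam lam' h
      have h1 : (fun g : G => ((lam.1 (QuotientGroup.mk g) : ℂˣ) : ℂ) * χ₀ g) =
          fun g : G => ((lam'.1 (QuotientGroup.mk g) : ℂˣ) : ℂ) * χ₀ g := by
        have := congrArg (fun ψ : {χ : IrrCharacter G // (χ ∈ principalBlock M G ∧
          ¬ p ∣ charDegree (χ : G → ℂ) ∧
          ∀ g : G, (χ : G → ℂ) (g ^ k) = (χ : G → ℂ) g) ∧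
          ∀ n : 𝒩, (χ : G → ℂ) n = (θ : 𝒩 → ℂ) n} => ((ψ : IrrCharacter G) : G → ℂ)) h
        exact this
      exact Subtype.ext (Cfsg.Agent.Lib.Helper7.CoprimeCount.twist_injective 𝒩 (θ : 𝒩 → ℂ) θ.2
        χ₀ hχ₀ hχ₀e lam.1 lam'.1 h1)
    · rintro ⟨ψ, ⟨hψB, hψd, hψk⟩, hψe⟩
      obtain ⟨β, hβN, hβ⟩ := Cfsg.Agent.Lib.Helper7.ext_twist 𝒩 (θ : 𝒩 → ℂ) θ.2 χ₀
        (ψ : G → ℂ) hχ₀ ψ.2 hχ₀e hψe
      have hker : 𝒩 ≤ β.ker := fun n hn => MonoidHom.mem_ker.mpr (hβN ⟨n, hn⟩)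
      obtain ⟨lam, hlam⟩ : ∃ lam : G ⧸ 𝒩 →* ℂˣ, lam = QuotientGroup.lift 𝒩 β hker := ⟨_, rfl⟩
      have hlammk : ∀ g : G, lam (QuotientGroup.mk g) = β g := by
        intro g
        rw [hlam, QuotientGroup.lift_mk]
      have hψg : ∀ g : G, (ψ : G → ℂ) g = ((lam (QuotientGroup.mk g) : ℂˣ) : ℂ) * χ₀ g := by
        intro g
        rw [hlammk]
        exact congrFun hβ g
      -- the twist by lam ^ k * β₀ equals the twist by lam
      have h2 : (fun g : G => (((lam ^ k * β₀) (QuotientGroup.mk g) : ℂˣ) : ℂ) * χ₀ g) =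
          fun g : G => ((lam (QuotientGroup.mk g) : ℂˣ) : ℂ) * χ₀ g := by
        funext g
        rw [← hψg g, ← hψk g, hψg (g ^ k), hβ'g g, MonoidHom.mul_apply, MonoidHom.pow_apply,
          hβ₀mk, QuotientGroup.mk_pow, map_pow, Units.val_mul, mul_assoc]
      have h3 := Cfsg.Agent.Lib.Helper7.CoprimeCount.twist_injective 𝒩 (θ : 𝒩 → ℂ) θ.2
        χ₀ hχ₀ hχ₀e _ _ h2
      have h4 : lam ^ p = η ^ p := by
        apply MonoidHom.ext
        intro q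
        obtain ⟨g, rfl⟩ := QuotientGroup.mk_surjective q
        have h5 := congrArg (fun f : G ⧸ 𝒩 →* ℂˣ => f (QuotientGroup.mk g)) h3
        simp only [MonoidHom.mul_apply, MonoidHom.pow_apply] at h5
        rw [hkey lam g] at h5
        rw [MonoidHom.pow_apply, MonoidHom.pow_apply, hηp]
        -- h5 : lam q * lam q ^ p * β₀ q = lam q
        have h6 : lam (QuotientGroup.mk g) ^ p * β₀ (QuotientGroup.mk g) = 1 := by
          have h7 : lam (QuotientGroup.mk g) * (lam (QuotientGroup.mk g) ^ p *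
              β₀ (QuotientGroup.mk g)) = lam (QuotientGroup.mk g) * 1 := by
            rw [← mul_assoc, h5, mul_one]
          exact mul_left_cancel h7
        exact eq_inv_of_mul_eq_one_left h6
      refine ⟨⟨lam, h4⟩, ?_⟩
      apply Subtype.ext
      apply Subtype.ext
      funext g
      exact (hψg g).symm
  rw [← Nat.card_congr (Equiv.ofBijective F hF)]
  exact card_pow_eq hcyc p hdvdp η

end Main

end Cfsg.Agent.Lib.Helper2.ResExt
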