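import Mathlib
import Cfsg.Prelude.Def_Blocks
import Cfsg.Prelude.Def_Transfer
import Cfsg.Agent.Lib.Helper2.ResExtB

set_option autoImplicit false
set_option maxHeartbeats 800000

/-!
# Counting Galois-fixed characters of the principal block above `O^p(G)`: the count (helper2)
-/

namespace Cfsg.Agent.Lib.Helper2.ResExt

open Cfsg Cfsg.Agent.Lib.Helper26

universe u

section Main
variable {G : Type u} [Group G] [Fintype G] (p : ℕ) [Fact p.Prime]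

local notation "𝒩" => Cfsg.pResidual p G

theorem main_count (M : Ideal AlgInt) (hM : IsPModular p M) (P : Sylow p G)
    [hN : (𝒩).Normal] (hcyc : IsCyclic (G ⧸ 𝒩)) (hnt : 𝒩 ≠ ⊤) (k : ℕ)
    (hk₁ : ∀ g : G, (∃ j : ℕ, orderOf g = p ^ j) → g ^ k = g ^ (1 + p))
    (hk₂ : ∀ g : G, Nat.Coprime (orderOf g) p → g ^ k = g) :
    Nat.card {χ : IrrCharacter G // χ ∈ principalBlock M G ∧ ¬ p ∣ charDegree (χ : G → ℂ) ∧
        ∀ g : G, (χ : G → ℂ) (g ^ k) = (χ : G → ℂ) g} =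
      p * Nat.card {θ : IrrCharacter 𝒩 // θ ∈ principalBlock M 𝒩 ∧
        ¬ p ∣ charDegree (θ : 𝒩 → ℂ) ∧
        (∀ x ∈ (P : Subgroup G), ∀ n : 𝒩,
          (θ : 𝒩 → ℂ) ⟨x * n * x⁻¹, hN.conj_mem n n.2 x⟩ = (θ : 𝒩 → ℂ) n) ∧
        ∀ n : 𝒩, (θ : 𝒩 → ℂ) (n ^ k) = (θ : 𝒩 → ℂ) n} := by
  classical
  have hp : p.Prime := Fact.out
  haveI : Fintype 𝒩 := Fintype.ofFinite _
  have hreg : ∀ g : G, ¬ p ∣ orderOf g → g ∈ 𝒩 := fun g hg =>
    Subgroup.subset_closure ((Nat.Prime.coprime_iff_not_dvd hp).mpr hg).symm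
  obtain ⟨m, hm⟩ : ∃ m : ℕ, (𝒩).index = p ^ m := by
    have hPG : IsPGroup p (G ⧸ 𝒩) := Cfsg.Agent.Lib.Helper16.quotient_pResidual_isPGroup p
    obtain ⟨n, hn⟩ := IsPGroup.iff_card.mp hPG
    exact ⟨n, by rw [Subgroup.index_eq_card]; exact hn⟩
  have hres : ∀ χ : {χ : IrrCharacter G // χ ∈ principalBlock M G ∧
      ¬ p ∣ charDegree (χ : G → ℂ) ∧ ∀ g : G, (χ : G → ℂ) (g ^ k) = (χ : G → ℂ) g},
      ∃ θ : {θ : IrrCharacter 𝒩 // θ ∈ principalBlock M 𝒩 ∧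
        ¬ p ∣ charDegree (θ : 𝒩 → ℂ) ∧
        (∀ x ∈ (P : Subgroup G), ∀ n : 𝒩,
          (θ : 𝒩 → ℂ) ⟨x * n * x⁻¹, hN.conj_mem n n.2 x⟩ = (θ : 𝒩 → ℂ) n) ∧
        ∀ n : 𝒩, (θ : 𝒩 → ℂ) (n ^ k) = (θ : 𝒩 → ℂ) n},
        ∀ n : 𝒩, ((θ : IrrCharacter 𝒩) : 𝒩 → ℂ) n = ((χ : IrrCharacter G) : G → ℂ) n := by
    rintro ⟨χ, hB, hd, hk⟩
    have hirr : IsIrrCharacter 𝒩 (fun n : 𝒩 => (χ : G → ℂ) n) := by
      apply Cfsg.Agent.Lib.Helper7.CoprimeCount.restrict_irr_coprime 𝒩 (χ : G → ℂ) χ.2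
        (charDegree (χ : G → ℂ)) (Cfsg.Agent.Lib.Helper7.CoprimeCount.irr_one_eq_charDegree χ)
      rw [hm]
      exact Nat.Coprime.pow_right m ((Nat.Prime.coprime_iff_not_dvd hp).mpr hd).symm
    refine ⟨⟨⟨fun n : 𝒩 => (χ : G → ℂ) n, hirr⟩, ?_, ?_, ?_, ?_⟩, fun n => rfl⟩
    · exact (mem_principalBlock_iff_restrict hM 𝒩 hreg χ ⟨_, hirr⟩ (fun n => rfl)).mp hB
    · exact hd
    · intro x hx n
      exact isClassFunction_of_isIrrCharacter χ.2 (n : G) x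
    · intro n
      exact hk (n : G)
  choose res hresval using hres
  apply card_eq_mul_of_fibers res p
  rintro ⟨θ, hθB, hθd, hθP, hθk⟩
  refine Eq.trans ?_ (fiber_count p M hM P hcyc hnt k hk₁ hk₂ θ hθB hθd hθP hθk)
  refine Nat.card_congr ?_
  refine (Equiv.subtypeEquivRight ?_).trans (Equiv.subtypeSubtypeEquivSubtypeInter _ _)
  intro x
  constructor
  · intro h n
    rw [← hresval x n, h]
  · intro h
    apply Subtype.ext
    apply Subtype.ext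
    funext n
    rw [hresval x n]
    exact h n

end Main

end Cfsg.Agent.Lib.Helper2.ResExt
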