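import Mathlib
import Cfsg.Agent.S3377
import Cfsg.Agent.Lib.Lead.DicksonBase
import Cfsg.Agent.Lib.Helper12.SL2b

/-!
# The presentation `⟨x, y, z | x³, y⁵, z², [z,x], [z,y], (xy)² = z⟩` of `SL(2,5)` (helper2)

Uses the presentation of `A₅` (S3377): the presented group is a central extension of a quotient
of `A₅` by a group of order at most two.
-/

set_option autoImplicit false
set_option maxHeartbeats 1000000

namespace Cfsg.Agent.Lib.Helper2.SL25

abbrev F3 := FreeGroup (Fin 3)

/-- the relators -/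
def R3 : Set F3 := {FreeGroup.of (0 : Fin 3) ^ 3, FreeGroup.of (1 : Fin 3) ^ 5,
  FreeGroup.of (2 : Fin 3) ^ 2,
  (FreeGroup.of (2 : Fin 3))⁻¹ * FreeGroup.of 0 * FreeGroup.of 2 * (FreeGroup.of (0 : Fin 3))⁻¹,
  (FreeGroup.of (2 : Fin 3))⁻¹ * FreeGroup.of 1 * FreeGroup.of 2 * (FreeGroup.of (1 : Fin 3))⁻¹,
  (FreeGroup.of (0 : Fin 3) * FreeGroup.of 1) ^ 2 * (FreeGroup.of (2 : Fin 3))⁻¹}

abbrev P := PresentedGroup R3

def px : P := PresentedGroup.of 0
def py : P := PresentedGroup.of 1
def pz : P := PresentedGroup.of 2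

theorem px3 : px ^ 3 = 1 := by
  have h := PresentedGroup.one_of_mem (rels := R3) (x := FreeGroup.of (0 : Fin 3) ^ 3)
    (by simp [R3])
  rw [map_pow] at h
  exact h

theorem py5 : py ^ 5 = 1 := by
  have h := PresentedGroup.one_of_mem (rels := R3) (x := FreeGroup.of (1 : Fin 3) ^ 5)
    (by simp [R3])
  rw [map_pow] at h
  exact h

theorem pz2 : pz ^ 2 = 1 := by
  have h := PresentedGroup.one_of_mem (rels := R3) (x := FreeGroup.of (2 : Fin 3) ^ 2)
    (by simp [R3])
  rw [map_pow] at h
  exact h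

theorem pzx : px * pz = pz * px := by
  have h := PresentedGroup.one_of_mem (rels := R3)
    (x := (FreeGroup.of (2 : Fin 3))⁻¹ * FreeGroup.of 0 * FreeGroup.of 2 *
      (FreeGroup.of (0 : Fin 3))⁻¹) (by simp [R3])
  rw [map_mul, map_mul, map_mul, map_inv, map_inv] at h
  have h' : pz⁻¹ * px * pz * px⁻¹ = 1 := h
  have h2 : pz⁻¹ * px * pz = px := mul_inv_eq_one.1 h'
  calc px * pz = pz * (pz⁻¹ * px * pz) := by group
    _ = pz * px := by rw [h2]

theorem pzy : py * pz = pz * py := by
  have h := PresentedGroup.one_of_mem (rels := R3)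
    (x := (FreeGroup.of (2 : Fin 3))⁻¹ * FreeGroup.of 1 * FreeGroup.of 2 *
      (FreeGroup.of (1 : Fin 3))⁻¹) (by simp [R3])
  rw [map_mul, map_mul, map_mul, map_inv, map_inv] at h
  have h' : pz⁻¹ * py * pz * py⁻¹ = 1 := h
  have h2 : pz⁻¹ * py * pz = py := mul_inv_eq_one.1 h'
  calc py * pz = pz * (pz⁻¹ * py * pz) := by group
    _ = pz * py := by rw [h2]

theorem pxy : (px * py) ^ 2 = pz := by
  have h := PresentedGroup.one_of_mem (rels := R3)
    (x := (FreeGroup.of (0 : Fin 3) * FreeGroup.of 1) ^ 2 * (FreeGroup.of (2 : Fin 3))⁻¹)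
    (by simp [R3])
  rw [map_mul, map_pow, map_mul, map_inv] at h
  have h' : (px * py) ^ 2 * pz⁻¹ = 1 := h
  exact mul_inv_eq_one.1 h'

theorem pz_central (g : P) : g * pz = pz * g := by
  have hle : (⊤ : Subgroup P) ≤ Subgroup.centralizer {pz} := by
    rw [← PresentedGroup.closure_range_of R3, Subgroup.closure_le]
    rintro _ ⟨i, rfl⟩
    rw [SetLike.mem_coe, Subgroup.mem_centralizer_singleton_iff]
    fin_cases i
    · exact pzx
    · exact pzy
    · rfl
  have h := hle (Subgroup.mem_top g)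
  rwa [Subgroup.mem_centralizer_singleton_iff] at h

instance normal_zpowers : (Subgroup.zpowers pz).Normal := by
  constructor
  intro n hn g
  obtain ⟨k, rfl⟩ := Subgroup.mem_zpowers_iff.1 hn
  have hc : Commute g (pz ^ k) := (show Commute g pz from pz_central g).zpow_right k
  have h : g * pz ^ k * g⁻¹ = pz ^ k := by
    rw [hc.eq, mul_inv_cancel_right]
  rw [h]
  exact Subgroup.zpow_mem _ (Subgroup.mem_zpowers _) k

/-- images of the generators of the `A₅` presentation -/
def qgens : Fin 2 → P ⧸ Subgroup.zpowers pz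
  | 0 => QuotientGroup.mk px
  | 1 => QuotientGroup.mk py

theorem qgens_rel : ∀ r ∈ Cfsg.Agent.S3377.rels, FreeGroup.lift qgens r = 1 := by
  intro r hr
  simp only [Cfsg.Agent.S3377.rels, Set.mem_insert_iff, Set.mem_singleton_iff] at hr
  rcases hr with rfl | rfl | rfl
  · simp only [Cfsg.Agent.S3377.fx, map_pow, FreeGroup.lift_apply_of, qgens]
    rw [← QuotientGroup.mk_pow, px3]; rfl
  · simp only [Cfsg.Agent.S3377.fy, map_pow, FreeGroup.lift_apply_of, qgens]
    rw [← QuotientGroup.mk_pow, py5]; rfl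
  · simp only [Cfsg.Agent.S3377.fx, Cfsg.Agent.S3377.fy, map_pow, map_mul,
      FreeGroup.lift_apply_of, qgens]
    rw [← QuotientGroup.mk_mul, ← QuotientGroup.mk_pow, pxy]
    exact (QuotientGroup.eq_one_iff _).2 (Subgroup.mem_zpowers pz)

def psi : Cfsg.Agent.S3377.G →* P ⧸ Subgroup.zpowers pz := PresentedGroup.toGroup qgens_rel

theorem psi_surjective : Function.Surjective psi := by
  have hle : (⊤ : Subgroup P) ≤ psi.range.comap (QuotientGroup.mk' (Subgroup.zpowers pz)) := by
    rw [← PresentedGroup.closure_range_of R3, Subgroup.closure_le]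
    rintro _ ⟨i, rfl⟩
    rw [SetLike.mem_coe, Subgroup.mem_comap]
    fin_cases i
    · exact ⟨PresentedGroup.of 0, PresentedGroup.toGroup.of qgens_rel⟩
    · exact ⟨PresentedGroup.of 1, PresentedGroup.toGroup.of qgens_rel⟩
    · have h1 : (QuotientGroup.mk' (Subgroup.zpowers pz)) (PresentedGroup.of 2) = 1 :=
        (QuotientGroup.eq_one_iff _).2 (Subgroup.mem_zpowers pz)
      change (QuotientGroup.mk' (Subgroup.zpowers pz)) (PresentedGroup.of 2) ∈ psi.range
      rw [h1]
      exact Subgroup.one_mem _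
  intro g
  obtain ⟨p, rfl⟩ := QuotientGroup.mk_surjective g
  exact hle (Subgroup.mem_top p)

theorem card_A5 : Nat.card (alternatingGroup (Fin 5)) = 60 := by
  rw [Nat.card_eq_fintype_card]
  have h := two_mul_card_alternatingGroup (α := Fin 5)
  rw [Fintype.card_perm, Fintype.card_fin] at h
  have h5 : Nat.factorial 5 = 120 := by decide
  omega

theorem finite_G : Finite Cfsg.Agent.S3377.G := by
  obtain ⟨e⟩ := Cfsg.Agent.S3377.main
  exact Finite.of_equiv _ e.symm.toEquiv

theorem card_G : Nat.card Cfsg.Agent.S3377.G = 60 := by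
  obtain ⟨e⟩ := Cfsg.Agent.S3377.main
  rw [Nat.card_congr e.toEquiv, card_A5]

theorem finite_quot : Finite (P ⧸ Subgroup.zpowers pz) := by
  haveI := finite_G
  exact Finite.of_surjective _ psi_surjective

theorem card_quot_le : Nat.card (P ⧸ Subgroup.zpowers pz) ≤ 60 := by
  haveI := finite_G
  rw [← card_G]
  exact Nat.card_le_card_of_surjective _ psi_surjective

theorem card_zpowers_le : Nat.card (Subgroup.zpowers pz) ≤ 2 := by
  rw [Nat.card_zpowers]
  exact orderOf_le_of_pow_eq_one (by norm_num) pz2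

theorem finite_zpowers : Finite (Subgroup.zpowers pz) := by
  have h : IsOfFinOrder pz := isOfFinOrder_iff_pow_eq_one.2 ⟨2, by norm_num, pz2⟩
  exact h.finite_zpowers

theorem finite_P : Finite P := by
  haveI := finite_quot
  haveI := finite_zpowers
  exact Finite.of_equiv _ (Subgroup.groupEquivQuotientProdSubgroup (s := Subgroup.zpowers pz)).symm

theorem card_P_le : Nat.card P ≤ 120 := by
  rw [Subgroup.card_eq_card_quotient_mul_card_subgroup (Subgroup.zpowers pz)]
  calc Nat.card (P ⧸ Subgroup.zpowers pz) * Nat.card (Subgroup.zpowers pz) ≤ 60 * 2 :=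
        Nat.mul_le_mul card_quot_le card_zpowers_le
    _ = 120 := by norm_num

instance fact_prime_five : Fact (Nat.Prime 5) := ⟨by norm_num⟩

abbrev SL25 := Matrix.SpecialLinearGroup (Fin 2) (ZMod 5)

def mX : SL25 := ⟨!![0, -1; 1, -1], by decide⟩
def mY : SL25 := ⟨!![1, 1; 0, 1], by decide⟩
def mZ : SL25 := ⟨!![-1, 0; 0, -1], by decide⟩

def mgens : Fin 3 → SL25
  | 0 => mX
  | 1 => mY
  | 2 => mZ

theorem mgens_rel : ∀ r ∈ R3, FreeGroup.lift mgens r = 1 := by
  intro r hr
  simp only [R3, Set.mem_insert_iff, Set.mem_singleton_iff] at hr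
  rcases hr with rfl | rfl | rfl | rfl | rfl | rfl <;>
  · simp only [map_pow, map_mul, map_inv, FreeGroup.lift_apply_of, mgens]
    decide

def phi : P →* SL25 := PresentedGroup.toGroup mgens_rel

theorem phi_px : phi px = mX := PresentedGroup.toGroup.of mgens_rel
theorem phi_py : phi py = mY := PresentedGroup.toGroup.of mgens_rel
theorem phi_pz : phi pz = mZ := PresentedGroup.toGroup.of mgens_rel

theorem card_SL25 : Nat.card SL25 = 120 := by
  have h := Cfsg.Agent.Lib.Helper12.SL2.card_SL2 (F := ZMod 5)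
  rw [ZMod.card] at h
  exact h

theorem phi_surjective : Function.Surjective phi := by
  rw [← MonoidHom.range_eq_top, eq_top_iff,
    ← Cfsg.Agent.Lib.Lead.DicksonBase.closure_upper_lower (p := 5) 1 (-1) (by decide) (by decide),
    Subgroup.closure_le]
  rintro g (rfl | rfl)
  · refine ⟨py, ?_⟩
    rw [phi_py]
    decide
  · refine ⟨(px * py) * py * (px * py)⁻¹, ?_⟩
    rw [map_mul, map_mul, map_inv, map_mul, phi_px, phi_py]
    decide

theorem phi_bijective : Function.Bijective phi := by
  haveI := finite_P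
  exact phi_surjective.bijective_of_nat_card_le (by rw [card_SL25]; exact card_P_le)

/-- the presented group is `SL(2,5)` -/
noncomputable def presEquiv : P ≃* SL25 := MulEquiv.ofBijective phi phi_bijective

theorem card_P : Nat.card P = 120 := by
  rw [Nat.card_congr presEquiv.toEquiv, card_SL25]

end Cfsg.Agent.Lib.Helper2.SL25
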