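import Mathlib
import Cfsg.Agent.Lib.Helper2.SL25a
import Cfsg.Agent.Lib.Helper2.CITa
import Cfsg.Agent.Lib.Helper2.Order168
import Cfsg.Agent.S3669
import Cfsg.Agent.S0494

/-!
# Nonsolvable groups of order 120 with quaternion Sylow 2-subgroups are `SL(2,5)` (helper2)
-/

set_option autoImplicit false
set_option maxHeartbeats 1000000

namespace Cfsg.Agent.Lib.Helper2.SL25

open Cfsg.Agent.S3669 (solvable_of_card_lt solvable_of_normal exists_normal_of_not_simple
  card_lt_of_normal)

theorem q8_key : ∀ g : QuaternionGroup 2, g ≠ 1 →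
    g = QuaternionGroup.a 2 ∨ g ^ 2 = QuaternionGroup.a 2 := by decide

theorem q8_a2_ne : (QuaternionGroup.a 2 : QuaternionGroup 2) ≠ 1 := by decide

theorem q8_a2_sq : (QuaternionGroup.a 2 : QuaternionGroup 2) ^ 2 = 1 := by decide

/-- images of the three generators -/
def gensOf {G : Type*} (x y z : G) : Fin 3 → G
  | 0 => x
  | 1 => y
  | 2 => z

theorem gensOf_rel {G : Type*} [Group G] (x y z : G) (hx : x ^ 3 = 1) (hy : y ^ 5 = 1)
    (hz : z ^ 2 = 1) (hzx : x * z = z * x) (hzy : y * z = z * y) (hxy : (x * y) ^ 2 = z) :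
    ∀ r ∈ R3, FreeGroup.lift (gensOf x y z) r = 1 := by
  intro r hr
  simp only [R3, Set.mem_insert_iff, Set.mem_singleton_iff] at hr
  rcases hr with rfl | rfl | rfl | rfl | rfl | rfl
  · simp only [map_pow, FreeGroup.lift_apply_of, gensOf]; exact hx
  · simp only [map_pow, FreeGroup.lift_apply_of, gensOf]; exact hy
  · simp only [map_pow, FreeGroup.lift_apply_of, gensOf]; exact hz
  · simp only [map_mul, map_inv, FreeGroup.lift_apply_of, gensOf]
    rw [mul_assoc z⁻¹ x z, hzx]; group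
  · simp only [map_mul, map_inv, FreeGroup.lift_apply_of, gensOf]
    rw [mul_assoc z⁻¹ y z, hzy]; group
  · simp only [map_mul, map_pow, map_inv, FreeGroup.lift_apply_of, gensOf]
    rw [hxy, mul_inv_cancel]

section
variable {G : Type*} [Group G]

theorem mem_zpowers_of_sq {z : G} (hz2 : z ^ 2 = 1) (k : G) :
    k ∈ Subgroup.zpowers z ↔ k = 1 ∨ k = z := by
  constructor
  · intro hk
    obtain ⟨i, rfl⟩ := Subgroup.mem_zpowers_iff.1 hk
    rcases Int.even_or_odd' i with ⟨m, hm | hm⟩
    · left; rw [hm, zpow_mul, zpow_two, ← pow_two, hz2, one_zpow]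
    · right; rw [hm, zpow_add, zpow_mul, zpow_two, ← pow_two, hz2, one_zpow, one_mul, zpow_one]
  · rintro (rfl | rfl)
    · exact Subgroup.one_mem _
    · exact Subgroup.mem_zpowers _

theorem normal_zpowers_of_central {z : G} (hzc : ∀ g : G, g * z = z * g) :
    (Subgroup.zpowers z).Normal := by
  constructor
  intro n hn g
  obtain ⟨k, rfl⟩ := Subgroup.mem_zpowers_iff.1 hn
  have hc : Commute g (z ^ k) := (show Commute g z from hzc g).zpow_right k
  have h : g * z ^ k * g⁻¹ = z ^ k := by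
    rw [hc.eq, mul_inv_cancel_right]
  rw [h]
  exact Subgroup.zpow_mem _ (Subgroup.mem_zpowers _) k

theorem exists_lift_pow {z : G} (hz2 : z ^ 2 = 1) (hzc : ∀ g : G, g * z = z * g)
    [hn : (Subgroup.zpowers z).Normal] (n : ℕ) (hodd : Odd n) (gb : G ⧸ Subgroup.zpowers z)
    (hgb : gb ^ n = 1) :
    ∃ g : G, (QuotientGroup.mk g : G ⧸ Subgroup.zpowers z) = gb ∧ g ^ n = 1 := by
  obtain ⟨g', rfl⟩ := QuotientGroup.mk_surjective gb
  have h1 : g' ^ n ∈ Subgroup.zpowers z := by
    rw [← QuotientGroup.eq_one_iff, QuotientGroup.mk_pow]; exact hgb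
  rcases (mem_zpowers_of_sq hz2 _).1 h1 with h2 | h2
  · exact ⟨g', rfl, h2⟩
  · refine ⟨g' * z, ?_, ?_⟩
    · rw [QuotientGroup.mk_mul, (QuotientGroup.eq_one_iff z).2 (Subgroup.mem_zpowers z), mul_one]
    · have hc : Commute g' z := hzc g'
      rw [hc.mul_pow, h2]
      obtain ⟨m, rfl⟩ := hodd
      rw [← pow_succ', show 2 * m + 1 + 1 = 2 * (m + 1) by ring, pow_mul, hz2, one_pow]

end

section
variable {G : Type*} [Group G] [Finite G]

theorem exists_z (S : Sylow 2 G) (e : (S : Subgroup G) ≃* QuaternionGroup 2) :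
    ∃ z : G, z ∈ (S : Subgroup G) ∧ z ≠ 1 ∧ z ^ 2 = 1 ∧
      ∀ g ∈ (S : Subgroup G), g ≠ 1 → g = z ∨ g ^ 2 = z := by
  refine ⟨((e.symm (QuaternionGroup.a 2) : (S : Subgroup G)) : G), (e.symm _).2, ?_, ?_, ?_⟩
  · intro h
    have h1 : e.symm (QuaternionGroup.a 2) = 1 := Subtype.ext h
    have h2 : (QuaternionGroup.a 2 : QuaternionGroup 2) = 1 := by
      have h3 := congrArg e h1
      rwa [MulEquiv.apply_symm_apply, map_one] at h3
    exact q8_a2_ne h2
  · have h1 : (e.symm (QuaternionGroup.a 2)) ^ 2 = 1 := by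
      rw [← map_pow, q8_a2_sq, map_one]
    have h2 := congrArg Subtype.val h1
    simpa using h2
  · intro g hg hg1
    have hne : e ⟨g, hg⟩ ≠ 1 := by
      intro h
      apply hg1
      have h3 : (⟨g, hg⟩ : (S : Subgroup G)) = 1 := by
        have h4 := congrArg e.symm h
        rwa [MulEquiv.symm_apply_apply, map_one] at h4
      exact congrArg Subtype.val h3
    rcases q8_key _ hne with h | h
    · left
      have h3 : (⟨g, hg⟩ : (S : Subgroup G)) = e.symm (QuaternionGroup.a 2) := by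
        rw [← h, MulEquiv.symm_apply_apply]
      exact congrArg Subtype.val h3
    · right
      have h3 : (⟨g, hg⟩ : (S : Subgroup G)) ^ 2 = e.symm (QuaternionGroup.a 2) := by
        rw [← h, map_pow, MulEquiv.symm_apply_apply]
      have h4 := congrArg Subtype.val h3
      simpa using h4

theorem conj_mem_smul (S : Sylow 2 G) (g s : G) (hs : s ∈ (S : Subgroup G)) :
    g * s * g⁻¹ ∈ ((g • S : Sylow 2 G) : Subgroup G) := by
  rw [Sylow.coe_subgroup_smul]
  exact Subgroup.smul_mem_pointwise_smul _ (MulAut.conj g) (S : Subgroup G) hs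

theorem card_sylow_five (h : Nat.card G = 120) (hns : ¬ Group.IsSolvable G) :
    Nat.card (Sylow 5 G) = 6 := by
  obtain ⟨P⟩ : Nonempty (Sylow 5 G) := inferInstance
  have hP5 : Nat.card (P : Subgroup G) = 5 := by
    have := Cfsg.Agent.Lib.Helper2.Order168.sylow_card (p := 5) (n := 1) (m := 24)
      (by rw [h]; norm_num) (by norm_num) P
    simpa using this
  have hidx : (P : Subgroup G).index = 24 := by
    have := Subgroup.card_mul_index (P : Subgroup G)
    rw [hP5, h] at this
    omega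
  have hdvd : Nat.card (Sylow 5 G) ∣ 24 := by rw [← hidx]; exact Sylow.card_dvd_index P
  have hmod : Nat.card (Sylow 5 G) % 5 = 1 := card_sylow_modEq_one 5 G
  have hkey : ∀ n : ℕ, n ∣ 24 → n % 5 = 1 → n = 1 ∨ n = 6 := by
    intro n hd hm
    have hle := Nat.le_of_dvd (by norm_num) hd
    interval_cases n <;> omega
  rcases hkey _ hdvd hmod with h1 | h6
  · exfalso
    rw [Sylow.card_eq_index_normalizer P, Subgroup.index_eq_one] at h1
    haveI hn : (P : Subgroup G).Normal := Subgroup.normalizer_eq_top_iff.mp h1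
    apply hns
    have hq : Nat.card (G ⧸ (P : Subgroup G)) = 24 := by rw [← Subgroup.index_eq_card, hidx]
    exact solvable_of_normal (P : Subgroup G)
      (solvable_of_card_lt 5 (by norm_num) _ hP5) (solvable_of_card_lt 24 (by norm_num) _ hq)
  · exact h6

theorem exists_central_invol (h : Nat.card G = 120) (hns : ¬ Group.IsSolvable G)
    (hQ : ∀ P : Sylow 2 G, Nonempty ((P : Subgroup G) ≃* QuaternionGroup 2)) :
    ∃ z : G, z ≠ 1 ∧ z ^ 2 = 1 ∧ (∀ g : G, g * z = z * g) ∧
      ∀ t : G, t ^ 2 = 1 → t ≠ 1 → t = z := by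
  classical
  obtain ⟨S⟩ : Nonempty (Sylow 2 G) := inferInstance
  obtain ⟨e⟩ := hQ S
  obtain ⟨z, hzS, hz1, hz2, hkey⟩ := exists_z S e
  have hS8 : Nat.card (S : Subgroup G) = 8 := by
    have := Cfsg.Agent.Lib.Helper2.Order168.sylow_card (p := 2) (n := 3) (m := 15)
      (by rw [h]; norm_num) (by norm_num) S
    simpa using this
  have h6 := card_sylow_five h hns
  obtain ⟨K, hKdef⟩ : ∃ K : Subgroup G, K = (MulAction.toPermHom G (Sylow 5 G)).ker := ⟨_, rfl⟩
  haveI hKn : K.Normal := by rw [hKdef]; infer_instance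
  have hK : ∀ g : G, g ∈ K ↔ ∀ P : Sylow 5 G, g • P = P := by
    intro g
    rw [hKdef, MonoidHom.mem_ker]
    constructor
    · intro hg P
      have h1 := congrArg (fun σ : Equiv.Perm (Sylow 5 G) => σ P) hg
      simpa using h1
    · intro hg
      apply Equiv.ext
      intro P
      simpa using hg P
  have hzK : z ∈ K := by
    rw [hK]
    intro P
    have h1 := MulAction.index_stabilizer (↥(S : Subgroup G)) P
    have h2 := Subgroup.card_mul_index (MulAction.stabilizer (↥(S : Subgroup G)) P)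
    have h3 : (MulAction.orbit (↥(S : Subgroup G)) P).ncard ≤ 6 := by
      rw [← h6]; exact Set.ncard_le_card _
    rw [h1, hS8] at h2
    have h4 : 1 < Nat.card (MulAction.stabilizer (↥(S : Subgroup G)) P) := by
      by_contra hlt
      push Not at hlt
      have h5 : Nat.card (MulAction.stabilizer (↥(S : Subgroup G)) P) *
          (MulAction.orbit (↥(S : Subgroup G)) P).ncard ≤ 1 * 6 := Nat.mul_le_mul hlt h3
      omega
    rw [Subgroup.one_lt_card_iff_ne_bot, Subgroup.ne_bot_iff_exists_ne_one] at h4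
    obtain ⟨⟨s, hs⟩, hs1⟩ := h4
    have hsP : (s : G) • P = P := by
      have h5 := MulAction.mem_stabilizer_iff.1 hs
      rwa [Subgroup.smul_def] at h5
    have hs1' : (s : G) ≠ 1 := by
      intro h5
      apply hs1
      apply Subtype.ext
      apply Subtype.ext
      exact h5
    rcases hkey s.1 s.2 hs1' with h5 | h5
    · rw [← h5]; exact hsP
    · rw [← h5, pow_two, mul_smul, hsP, hsP]
  have hKbot : K ≠ ⊥ := by
    intro hb
    rw [hb, Subgroup.mem_bot] at hzK
    exact hz1 hzK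
  have hKtop : K ≠ ⊤ := by
    intro ht
    obtain ⟨P⟩ : Nonempty (Sylow 5 G) := inferInstance
    have hall : ∀ P' : Sylow 5 G, P' = P := by
      intro P'
      obtain ⟨g, hg⟩ := MulAction.exists_smul_eq G P P'
      rw [← hg]
      exact (hK g).1 (by rw [ht]; trivial) P
    haveI : Subsingleton (Sylow 5 G) := ⟨fun a b => by rw [hall a, hall b]⟩
    have h1 : Nat.card (Sylow 5 G) ≤ 1 := Finite.card_le_one_iff_subsingleton.2 inferInstance
    omega
  have hK20 : Nat.card K ∣ 20 := by
    obtain ⟨P⟩ : Nonempty (Sylow 5 G) := inferInstance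
    have hle : K ≤ Subgroup.normalizer ((P : Subgroup G) : Set G) := by
      intro g hg
      exact Sylow.smul_eq_iff_mem_normalizer.1 ((hK g).1 hg P)
    have hN : Nat.card (Subgroup.normalizer ((P : Subgroup G) : Set G)) = 20 := by
      have h1 : Nat.card (Sylow 5 G) =
          (Subgroup.normalizer ((P : Subgroup G) : Set G)).index :=
        Sylow.card_eq_index_normalizer P
      have h2 := Subgroup.card_mul_index (Subgroup.normalizer ((P : Subgroup G) : Set G))
      rw [← h1, h6, h] at h2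
      omega
    rw [← hN]; exact Subgroup.card_dvd_of_le hle
  have hKsolv : Group.IsSolvable K :=
    solvable_of_card_lt (Nat.card K)
      (by have := Nat.le_of_dvd (by norm_num) hK20; omega) K rfl
  have hquot : ¬ Group.IsSolvable (G ⧸ K) := fun hs => hns (solvable_of_normal K hKsolv hs)
  have hquot60 : 60 ≤ Nat.card (G ⧸ K) := by
    by_contra hlt
    push Not at hlt
    exact hquot (solvable_of_card_lt _ hlt (G ⧸ K) rfl)
  have hKcard : Nat.card K = 2 := by
    have h1 := Subgroup.card_mul_index K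
    rw [Subgroup.index_eq_card, h] at h1
    have h2 : 1 < Nat.card K := (Subgroup.one_lt_card_iff_ne_bot K).2 hKbot
    by_contra hne
    have h3 : 3 ≤ Nat.card K := by omega
    have h4 : 3 * 60 ≤ Nat.card K * Nat.card (G ⧸ K) := Nat.mul_le_mul h3 hquot60
    omega
  have hKmem : ∀ k ∈ K, k = 1 ∨ k = z := by
    intro k hk
    obtain ⟨b, hb, huniq⟩ := (Nat.card_eq_two_iff' (1 : K)).1 hKcard
    by_cases hk1 : k = 1
    · exact Or.inl hk1
    · right
      have e1 : (⟨k, hk⟩ : K) = b := huniq _ (fun h => hk1 (congrArg Subtype.val h))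
      have e2 : (⟨z, hzK⟩ : K) = b := huniq _ (fun h => hz1 (congrArg Subtype.val h))
      have e3 := e1.trans e2.symm
      exact congrArg Subtype.val e3
  have hcentral : ∀ g : G, g * z = z * g := by
    intro g
    have h1 : g * z * g⁻¹ ∈ K := hKn.conj_mem z hzK g
    rcases hKmem _ h1 with h2 | h2
    · exact absurd (conj_eq_one_iff.1 h2) hz1
    · calc g * z = (g * z * g⁻¹) * g := by group
        _ = z * g := by rw [h2]
  refine ⟨z, hz1, hz2, hcentral, ?_⟩
  intro t ht2 ht1
  obtain ⟨S', hS'⟩ := (Cfsg.Agent.Lib.Helper2.CIT.zpowers_pgroup ht2).exists_le_sylow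
  have htS' : t ∈ (S' : Subgroup G) := hS' (Subgroup.mem_zpowers t)
  obtain ⟨g, hg⟩ := MulAction.exists_smul_eq G S S'
  have hzS' : z ∈ (S' : Subgroup G) := by
    have h1 := conj_mem_smul S g z hzS
    rw [hg] at h1
    have h2 : g * z * g⁻¹ = z := by rw [hcentral g]; group
    rwa [h2] at h1
  obtain ⟨e'⟩ := hQ S'
  obtain ⟨z', hz'S, hz'1, hz'2, hkey'⟩ := exists_z S' e'
  have hzz' : z = z' := by
    rcases hkey' z hzS' hz1 with h1 | h1
    · exact h1
    · rw [hz2] at h1; exact absurd h1.symm hz'1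
  rcases hkey' t htS' ht1 with h1 | h1
  · rw [h1, hzz']
  · rw [ht2] at h1; exact absurd h1.symm hz'1

theorem main (h : Nat.card G = 120) (hns : ¬ Group.IsSolvable G)
    (hQ : ∀ P : Sylow 2 G, Nonempty ((P : Subgroup G) ≃* QuaternionGroup 2)) :
    Nonempty (G ≃* Matrix.SpecialLinearGroup (Fin 2) (ZMod 5)) := by
  classical
  obtain ⟨z, hz1, hz2, hzc, hzu⟩ := exists_central_invol h hns hQ
  haveI hNn : (Subgroup.zpowers z).Normal := normal_zpowers_of_central hzc
  have hNcard : Nat.card (Subgroup.zpowers z) = 2 := by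
    rw [Nat.card_zpowers]; exact orderOf_eq_prime hz2 hz1
  have hcard60 : Nat.card (G ⧸ Subgroup.zpowers z) = 60 := by
    have h1 := Subgroup.card_mul_index (Subgroup.zpowers z)
    rw [Subgroup.index_eq_card, h, hNcard] at h1
    omega
  have hNsolv : Group.IsSolvable (Subgroup.zpowers z) :=
    solvable_of_card_lt 2 (by norm_num) _ hNcard
  have hquot : ¬ Group.IsSolvable (G ⧸ Subgroup.zpowers z) :=
    fun hs => hns (solvable_of_normal (Subgroup.zpowers z) hNsolv hs)
  haveI : Nontrivial (G ⧸ Subgroup.zpowers z) := by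
    rw [← Finite.one_lt_card_iff_nontrivial]; omega
  haveI hsimple : IsSimpleGroup (G ⧸ Subgroup.zpowers z) := by
    by_contra hnot
    obtain ⟨M, hMn, hM1, hM2⟩ := exists_normal_of_not_simple hnot
    haveI := hMn
    obtain ⟨h1, h2⟩ := card_lt_of_normal M hM1 hM2
    rw [hcard60] at h1 h2
    exact hquot (solvable_of_normal M (solvable_of_card_lt _ h1 M rfl)
      (solvable_of_card_lt _ h2 _ rfl))
  obtain ⟨e1⟩ := Cfsg.Agent.S0494.result (G := G ⧸ Subgroup.zpowers z) hcard60
  obtain ⟨e0⟩ := Cfsg.Agent.S3377.main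
  obtain ⟨e', -⟩ : ∃ e' : G ⧸ Subgroup.zpowers z ≃* Cfsg.Agent.S3377.G, e' = e1.trans e0.symm :=
    ⟨_, rfl⟩
  obtain ⟨xb, hxb⟩ : ∃ xb : G ⧸ Subgroup.zpowers z, xb = e'.symm (PresentedGroup.of 0) := ⟨_, rfl⟩
  obtain ⟨yb, hyb⟩ : ∃ yb : G ⧸ Subgroup.zpowers z, yb = e'.symm (PresentedGroup.of 1) := ⟨_, rfl⟩
  have hxb3 : xb ^ 3 = 1 := by
    rw [hxb, ← map_pow]
    have h1 : (PresentedGroup.of 0 : Cfsg.Agent.S3377.G) ^ 3 = 1 := Cfsg.Agent.S3377.mx3
    rw [h1, map_one]
  have hyb5 : yb ^ 5 = 1 := by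
    rw [hyb, ← map_pow]
    have h1 : (PresentedGroup.of 1 : Cfsg.Agent.S3377.G) ^ 5 = 1 := Cfsg.Agent.S3377.my5
    rw [h1, map_one]
  have hxyb : (xb * yb) ^ 2 = 1 := by
    rw [hxb, hyb, ← map_mul, ← map_pow]
    have h1 : ((PresentedGroup.of 0 : Cfsg.Agent.S3377.G) * PresentedGroup.of 1) ^ 2 = 1 := by
      have h2 := PresentedGroup.one_of_mem (rels := Cfsg.Agent.S3377.rels)
        (x := (Cfsg.Agent.S3377.fx * Cfsg.Agent.S3377.fy) ^ 2) (by simp [Cfsg.Agent.S3377.rels])
      rw [map_pow, map_mul] at h2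
      exact h2
    rw [h1, map_one]
  have hgen : ∀ H : Subgroup (G ⧸ Subgroup.zpowers z), xb ∈ H → yb ∈ H → H = ⊤ := by
    intro H hx hy
    rw [eq_top_iff]
    intro g _
    have hle : (⊤ : Subgroup Cfsg.Agent.S3377.G) ≤ H.comap e'.symm.toMonoidHom := by
      rw [← PresentedGroup.closure_range_of Cfsg.Agent.S3377.rels, Subgroup.closure_le]
      rintro _ ⟨i, rfl⟩
      rw [SetLike.mem_coe, Subgroup.mem_comap]
      fin_cases i
      · rw [hxb] at hx; exact hx
      · rw [hyb] at hy; exact hy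
    have h1 := hle (Subgroup.mem_top (e' g))
    rw [Subgroup.mem_comap] at h1
    simpa using h1
  obtain ⟨x, hx, hx3⟩ := exists_lift_pow hz2 hzc 3 (by decide) xb hxb3
  obtain ⟨y, hy, hy5⟩ := exists_lift_pow hz2 hzc 5 (by decide) yb hyb5
  have hxy : (x * y) ^ 2 = z := by
    have h1 : (x * y) ^ 2 ∈ Subgroup.zpowers z := by
      rw [← QuotientGroup.eq_one_iff, QuotientGroup.mk_pow, QuotientGroup.mk_mul, hx, hy]
      exact hxyb
    rcases (mem_zpowers_of_sq hz2 _).1 h1 with h2 | h2
    · exfalso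
      have h3 : x * y ∈ Subgroup.zpowers z := by
        rw [mem_zpowers_of_sq hz2]
        by_cases h4 : x * y = 1
        · exact Or.inl h4
        · exact Or.inr (hzu _ h2 h4)
      have h5 : xb * yb = 1 := by
        rw [← hx, ← hy, ← QuotientGroup.mk_mul]
        exact (QuotientGroup.eq_one_iff _).2 h3
      have h6 : Subgroup.zpowers xb = ⊤ := hgen _ (Subgroup.mem_zpowers xb) (by
        have h7 : yb = xb⁻¹ := eq_inv_of_mul_eq_one_right h5
        rw [h7]; exact Subgroup.inv_mem _ (Subgroup.mem_zpowers xb))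
      have h7 : Nat.card (Subgroup.zpowers xb) = 60 := by
        rw [h6, Subgroup.card_top, hcard60]
      rw [Nat.card_zpowers] at h7
      have h8 : orderOf xb ≤ 3 := orderOf_le_of_pow_eq_one (by norm_num) hxb3
      omega
    · exact h2
  obtain ⟨θ, hθdef⟩ : ∃ θ : P →* G, θ = PresentedGroup.toGroup
      (gensOf_rel x y z hx3 hy5 hz2 (hzc x) (hzc y) hxy) := ⟨_, rfl⟩
  have hθx : θ px = x := by rw [hθdef]; exact PresentedGroup.toGroup.of _
  have hθy : θ py = y := by rw [hθdef]; exact PresentedGroup.toGroup.of _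
  have hθz : θ pz = z := by rw [hθdef]; exact PresentedGroup.toGroup.of _
  have hsurj : Function.Surjective θ := by
    rw [← MonoidHom.range_eq_top, eq_top_iff]
    intro g _
    have hH : θ.range.map (QuotientGroup.mk' (Subgroup.zpowers z)) = ⊤ :=
      hgen _ ⟨x, ⟨px, hθx⟩, hx⟩ ⟨y, ⟨py, hθy⟩, hy⟩
    have hg : (QuotientGroup.mk' (Subgroup.zpowers z)) g ∈
        θ.range.map (QuotientGroup.mk' (Subgroup.zpowers z)) := by rw [hH]; trivial
    obtain ⟨r, hr, hrg⟩ := hg
    have h1 : r⁻¹ * g ∈ Subgroup.zpowers z := by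
      rw [← QuotientGroup.eq_one_iff, QuotientGroup.mk_mul, QuotientGroup.mk_inv]
      have h2 : (QuotientGroup.mk r : G ⧸ Subgroup.zpowers z) = QuotientGroup.mk g := hrg
      rw [h2, inv_mul_cancel]
    have h2 : r⁻¹ * g ∈ θ.range := by
      rcases (mem_zpowers_of_sq hz2 _).1 h1 with h3 | h3
      · rw [h3]; exact Subgroup.one_mem _
      · rw [h3]; exact ⟨pz, hθz⟩
    have h3 : g = r * (r⁻¹ * g) := by group
    rw [h3]; exact Subgroup.mul_mem _ hr h2
  haveI := finite_P
  have hbij : Function.Bijective θ :=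
    hsurj.bijective_of_nat_card_le (by rw [h]; exact card_P_le)
  exact ⟨(MulEquiv.ofBijective θ hbij).symm.trans presEquiv⟩

end

end Cfsg.Agent.Lib.Helper2.SL25
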