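import Mathlib

set_option autoImplicit false

/-!
General lemmas on perfect central extensions (towards Schur multiplier statements).
-/

namespace Cfsg.Agent.Lib.Helper2.SchurMult

open scoped commutatorElement

universe u v

theorem comm_central_mul_left {G : Type*} [Group G] {z : G} (a t : G)
    (hz : z ∈ Subgroup.center G) : ⁅z * a, t⁆ = ⁅a, t⁆ := by
  have h : z * (a * t * a⁻¹) = (a * t * a⁻¹) * z := (Subgroup.mem_center_iff.mp hz _).symm
  rw [commutatorElement_def, commutatorElement_def, mul_inv_rev]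
  calc z * a * t * (a⁻¹ * z⁻¹) * t⁻¹ = (z * (a * t * a⁻¹)) * z⁻¹ * t⁻¹ := by group
    _ = (a * t * a⁻¹ * z) * z⁻¹ * t⁻¹ := by rw [h]
    _ = a * t * a⁻¹ * t⁻¹ := by group

theorem comm_central_mul {G : Type*} [Group G] {z₁ z₂ : G} (a b : G)
    (h₁ : z₁ ∈ Subgroup.center G) (h₂ : z₂ ∈ Subgroup.center G) :
    ⁅z₁ * a, z₂ * b⁆ = ⁅a, b⁆ := by
  rw [comm_central_mul_left a _ h₁, ← commutatorElement_inv, comm_central_mul_left b _ h₂,
    commutatorElement_inv]

/-- If a central subgroup has finite index, there are finitely many commutators. -/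
theorem commutatorSet_card_le {G : Type*} [Group G] (Z : Subgroup G)
    (hZ : Z ≤ Subgroup.center G) [Z.FiniteIndex] :
    Finite (commutatorSet G) ∧ Nat.card (commutatorSet G) ≤ Z.index ^ 2 := by
  classical
  haveI : Finite (G ⧸ Z) := Subgroup.finite_quotient_of_finiteIndex
  let f : (G ⧸ Z) × (G ⧸ Z) → commutatorSet G := fun p =>
    ⟨⁅p.1.out, p.2.out⁆, ⟨_, _, rfl⟩⟩
  have hf : Function.Surjective f := by
    rintro ⟨c, a, b, rfl⟩
    refine ⟨((a : G ⧸ Z), (b : G ⧸ Z)), ?_⟩
    apply Subtype.ext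
    show ⁅((a : G ⧸ Z)).out, ((b : G ⧸ Z)).out⁆ = ⁅a, b⁆
    obtain ⟨za, hza⟩ := QuotientGroup.mk_out_eq_mul Z a
    obtain ⟨zb, hzb⟩ := QuotientGroup.mk_out_eq_mul Z b
    rw [hza, hzb]
    have ha : (za : G) ∈ Subgroup.center G := hZ za.2
    have hb : (zb : G) ∈ Subgroup.center G := hZ zb.2
    rw [Subgroup.mem_center_iff.mp ha a, Subgroup.mem_center_iff.mp hb b]
    exact comm_central_mul a b ha hb
  refine ⟨Finite.of_surjective f hf, ?_⟩
  calc Nat.card (commutatorSet G) ≤ Nat.card ((G ⧸ Z) × (G ⧸ Z)) :=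
        Nat.card_le_card_of_surjective f hf
    _ = Z.index ^ 2 := by rw [Nat.card_prod, sq]; rfl

/-- Two homomorphisms from a perfect group which agree modulo a central kernel are equal. -/
theorem hom_eq_of_perfect {Γ : Type*} {X : Type*} {Q : Type*} [Group Γ] [Group X] [Group Q]
    (hΓ : Group.IsPerfect Γ) (ξ : X →* Q) (hξ : ξ.ker ≤ Subgroup.center X) (η₁ η₂ : Γ →* X)
    (h : ξ.comp η₁ = ξ.comp η₂) : η₁ = η₂ := by
  have hz : ∀ g, η₁ g * (η₂ g)⁻¹ ∈ Subgroup.center X := by
    intro g
    apply hξ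
    rw [MonoidHom.mem_ker, map_mul, map_inv]
    have := DFunLike.congr_fun h g
    simp only [MonoidHom.comp_apply] at this
    rw [this, mul_inv_cancel]
  have hle : commutator Γ ≤ MonoidHom.eqLocus η₁ η₂ := by
    rw [commutator_eq_closure Γ, Subgroup.closure_le]
    rintro c ⟨a, b, rfl⟩
    show η₁ ⁅a, b⁆ = η₂ ⁅a, b⁆
    rw [map_commutatorElement, map_commutatorElement]
    have := comm_central_mul (η₂ a) (η₂ b) (hz a) (hz b)
    rw [inv_mul_cancel_right, inv_mul_cancel_right] at this
    exact this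
  ext g
  have : g ∈ commutator Γ := by rw [hΓ.commutator_eq_top]; trivial
  exact hle this

/-- A composite of central extensions with perfect top group is central. -/
theorem ker_comp_le_center {E : Type*} {Γ : Type*} {Q : Type*} [Group E] [Group Γ] [Group Q]
    (hE : Group.IsPerfect E) (ρ : E →* Γ) (hρ : ρ.ker ≤ Subgroup.center E)
    (π : Γ →* Q) (hπ : π.ker ≤ Subgroup.center Γ) :
    (π.comp ρ).ker ≤ Subgroup.center E := by
  intro n hn
  have hn' : ρ n ∈ Subgroup.center Γ := hπ (by rw [MonoidHom.mem_ker] at hn ⊢; exact hn)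
  have hc : ∀ e, ⁅n, e⁆ ∈ Subgroup.center E := by
    intro e
    apply hρ
    rw [MonoidHom.mem_ker, map_commutatorElement, commutatorElement_eq_one_iff_commute]
    exact (Subgroup.mem_center_iff.mp hn' (ρ e)).symm
  have hle : commutator E ≤ Subgroup.centralizer {n} := by
    rw [commutator_eq_closure E, Subgroup.closure_le]
    rintro c ⟨a, b, rfl⟩
    rw [SetLike.mem_coe, Subgroup.mem_centralizer_iff]
    intro m hm
    obtain rfl := Set.mem_singleton_iff.mp hm
    have key : ⁅m * a * m⁻¹, m * b * m⁻¹⁆ = ⁅a, b⁆ := by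
      have ha : m * a * m⁻¹ = ⁅m, a⁆ * a := by rw [commutatorElement_def]; group
      have hb : m * b * m⁻¹ = ⁅m, b⁆ * b := by rw [commutatorElement_def]; group
      rw [ha, hb]
      exact comm_central_mul a b (hc a) (hc b)
    have conj : ⁅m * a * m⁻¹, m * b * m⁻¹⁆ = m * ⁅a, b⁆ * m⁻¹ := by
      simp only [commutatorElement_def]; group
    rw [conj] at key
    calc m * ⁅a, b⁆ = (m * ⁅a, b⁆ * m⁻¹) * m := by group
      _ = ⁅a, b⁆ * m := by rw [key]
  rw [Subgroup.mem_center_iff]
  intro e
  have he : e ∈ commutator E := by rw [hE.commutator_eq_top]; trivial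
  have := Subgroup.mem_centralizer_iff.mp (hle he) n (Set.mem_singleton n)
  exact this.symm

/-- If every element is (central)·(element of the derived subgroup), then the derived subgroup
is perfect. -/
theorem isPerfect_commutator_of_central_supplement {P : Type*} [Group P]
    (h : ∀ p : P, ∃ z ∈ Subgroup.center P, ∃ e ∈ commutator P, p = z * e) :
    Group.IsPerfect (commutator P) := by
  rw [Subgroup.isPerfect_iff]
  apply le_antisymm
  · rw [Subgroup.commutator_le]
    intro g₁ h₁ g₂ h₂
    rw [commutatorElement_def]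
    exact Subgroup.mul_mem _ (Subgroup.mul_mem _ (Subgroup.mul_mem _ h₁ h₂)
      (Subgroup.inv_mem _ h₁)) (Subgroup.inv_mem _ h₂)
  · refine le_trans (le_of_eq (commutator_eq_closure P)) ?_
    rw [Subgroup.closure_le]
    rintro c ⟨p, q, rfl⟩
    obtain ⟨z₁, hz₁, e₁, he₁, rfl⟩ := h p
    obtain ⟨z₂, hz₂, e₂, he₂, rfl⟩ := h q
    rw [comm_central_mul e₁ e₂ hz₁ hz₂]
    exact Subgroup.commutator_mem_commutator he₁ he₂

/-- A perfect central extension of a finite group is finite (Schur). -/
theorem finite_of_perfect_central {E : Type*} {Γ : Type*} [Group E] [Group Γ] [Finite Γ]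
    (hE : Group.IsPerfect E) (ρ : E →* Γ) (hρ : ρ.ker ≤ Subgroup.center E) : Finite E := by
  haveI : ρ.ker.FiniteIndex := by
    refine ⟨?_⟩
    rw [Subgroup.index_ker]
    exact Nat.card_pos.ne'
  haveI := (commutatorSet_card_le ρ.ker hρ).1
  have hfin : Finite (commutator E) := inferInstance
  have htop : commutator E = ⊤ := hE.commutator_eq_top
  rw [htop] at hfin
  exact Finite.of_equiv _ Subgroup.topEquiv.toEquiv

/-- Order bound for finite perfect central extensions. -/
theorem card_le_bound {G : Type*} {Q : Type*} [Group G] [Finite G] [Group Q] [Finite Q]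
    (hG : Group.IsPerfect G) (π : G →* Q) (hπs : Function.Surjective π)
    (hπk : π.ker ≤ Subgroup.center G) :
    Nat.card G ≤ Nat.card Q ^ (Nat.card Q * Nat.card Q ^ 2 + 1) := by
  have hidx : π.ker.index = Nat.card Q := by
    rw [Subgroup.index_ker, MonoidHom.range_eq_top_of_surjective π hπs]
    exact Subgroup.card_top
  have hQpos : 0 < Nat.card Q := Nat.card_pos
  haveI : π.ker.FiniteIndex := ⟨by rw [hidx]; exact hQpos.ne'⟩
  obtain ⟨hfin, hn⟩ := commutatorSet_card_le π.ker hπk
  haveI := hfin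
  have h1 := Subgroup.card_commutator_dvd_index_center_pow G
  have hc : Nat.card (commutator G) = Nat.card G := by
    rw [hG.commutator_eq_top]; exact Subgroup.card_top
  rw [hc] at h1
  have hidx2 : (Subgroup.center G).index ∣ Nat.card Q := hidx ▸ Subgroup.index_dvd_of_le hπk
  have hi_le : (Subgroup.center G).index ≤ Nat.card Q := Nat.le_of_dvd hQpos hidx2
  have hi_pos : 0 < (Subgroup.center G).index :=
    Nat.pos_of_ne_zero Subgroup.FiniteIndex.index_ne_zero
  have hle := Nat.le_of_dvd (pow_pos hi_pos _) h1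
  calc Nat.card G ≤ (Subgroup.center G).index ^
        ((Subgroup.center G).index * Nat.card (commutatorSet G) + 1) := hle
    _ ≤ Nat.card Q ^ ((Subgroup.center G).index * Nat.card (commutatorSet G) + 1) :=
        Nat.pow_le_pow_left hi_le _
    _ ≤ Nat.card Q ^ (Nat.card Q * Nat.card Q ^ 2 + 1) := by
        apply Nat.pow_le_pow_right hQpos
        have : (Subgroup.center G).index * Nat.card (commutatorSet G)
            ≤ Nat.card Q * Nat.card Q ^ 2 :=
          Nat.mul_le_mul hi_le (by rw [← hidx]; exact hn)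
        omega

/-- Lifting: a finite perfect `Γ` over `Q` with no proper finite perfect central extension
maps (over `Q`) to every central extension of `Q`. -/
theorem exists_lift {Γ X : Type u} {Q : Type v} [Group Γ] [Finite Γ] [Group X] [Group Q]
    (hΓ : Group.IsPerfect Γ) (σ : Γ →* Q) (ξ : X →* Q)
    (hξs : Function.Surjective ξ) (hξ : ξ.ker ≤ Subgroup.center X)
    (hmax : ∀ (E : Type u) [Group E] [Finite E], Group.IsPerfect E → ∀ ρ : E →* Γ,
      Function.Surjective ρ → ρ.ker ≤ Subgroup.center E → Function.Injective ρ) :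
    ∃ η : Γ →* X, ξ.comp η = σ := by
  classical
  obtain ⟨P, hP⟩ : ∃ P : Subgroup (Γ × X), ∀ p, p ∈ P ↔ σ p.1 = ξ p.2 :=
    ⟨(σ.comp (MonoidHom.fst Γ X)).eqLocus (ξ.comp (MonoidHom.snd Γ X)), fun p => Iff.rfl⟩
  let pr₁ : P →* Γ := (MonoidHom.fst Γ X).comp P.subtype
  let pr₂ : P →* X := (MonoidHom.snd Γ X).comp P.subtype
  have hpr : ∀ p : P, σ (pr₁ p) = ξ (pr₂ p) := fun p => (hP p.1).1 p.2
  have hcent : ∀ p : P, pr₁ p = 1 → p ∈ Subgroup.center P := by
    intro p hp
    have hx : pr₂ p ∈ ξ.ker := by rw [MonoidHom.mem_ker, ← hpr p, hp, map_one]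
    have hxc := Subgroup.mem_center_iff.mp (hξ hx)
    rw [Subgroup.mem_center_iff]
    intro q
    apply Subtype.ext
    apply Prod.ext
    · show pr₁ q * pr₁ p = pr₁ p * pr₁ q
      rw [hp, mul_one, one_mul]
    · show pr₂ q * pr₂ p = pr₂ p * pr₂ q
      exact hxc _
  have hpr₁s : Function.Surjective pr₁ := by
    intro g
    obtain ⟨x, hx⟩ := hξs (σ g)
    exact ⟨⟨(g, x), (hP _).2 hx.symm⟩, rfl⟩
  have hmap : (commutator P).map pr₁ = ⊤ := by
    rw [commutator_def, Subgroup.map_commutator, Subgroup.map_top_of_surjective pr₁ hpr₁s,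
      ← commutator_def, hΓ.commutator_eq_top]
  have hsurj : ∀ g : Γ, ∃ e ∈ commutator P, pr₁ e = g := by
    intro g
    have : g ∈ (commutator P).map pr₁ := by rw [hmap]; trivial
    exact Subgroup.mem_map.mp this
  have hsupp : ∀ p : P, ∃ z ∈ Subgroup.center P, ∃ e ∈ commutator P, p = z * e := by
    intro p
    obtain ⟨e, he, hep⟩ := hsurj (pr₁ p)
    refine ⟨p * e⁻¹, hcent _ ?_, e, he, by group⟩
    rw [map_mul, map_inv, hep, mul_inv_cancel]
  have hEperf : Group.IsPerfect (commutator P) :=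
    isPerfect_commutator_of_central_supplement hsupp
  let ρ : (commutator P) →* Γ := pr₁.comp (commutator P).subtype
  have hρs : Function.Surjective ρ := by
    intro g
    obtain ⟨e, he, hep⟩ := hsurj g
    exact ⟨⟨e, he⟩, hep⟩
  have hρk : ρ.ker ≤ Subgroup.center (commutator P) := by
    intro e he
    rw [MonoidHom.mem_ker] at he
    have h1 : (e : P) ∈ Subgroup.center P := hcent e.1 he
    rw [Subgroup.mem_center_iff] at h1 ⊢
    intro f
    apply Subtype.ext
    exact h1 f.1
  haveI : Finite (commutator P) := finite_of_perfect_central hEperf ρ hρk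
  have hinj : Function.Injective ρ := hmax (commutator P) hEperf ρ hρs hρk
  let eqv : (commutator P) ≃* Γ := MulEquiv.ofBijective ρ ⟨hinj, hρs⟩
  refine ⟨(pr₂.comp (commutator P).subtype).comp eqv.symm.toMonoidHom, ?_⟩
  ext g
  show ξ (pr₂ ((eqv.symm g : commutator P) : P)) = σ g
  have h1 := hpr ((eqv.symm g : commutator P) : P)
  have h2 : pr₁ ((eqv.symm g : commutator P) : P) = g := eqv.apply_symm_apply g
  rw [h2] at h1
  exact h1.symm

end Cfsg.Agent.Lib.Helper2.SchurMult
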