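import Mathlib
import Cfsg.Prelude.Def_KGroupFacts
import Cfsg.Agent.Lib.Helper2.SchurMultA

set_option autoImplicit false

/-!
Schur multiplier via a free presentation `ψ : FreeGroup ι →* Q`:
`Fbar = F/[F,R]`, `Rbar = R/[F,R]`, `multM = Rbar ⊓ Fbar'`.
-/

namespace Cfsg.Agent.Lib.Helper2.SchurMult

open scoped commutatorElement

universe u v w

/-! ### splitting onto subgroups of free abelian groups -/

theorem exists_section_of_free {ι : Type*} [Finite ι] {N : Type*} [CommGroup N]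
    (f : N →* Abelianization (FreeGroup ι)) :
    ∃ s : f.range →* N, ∀ l : f.range, f (s l) = l := by
  classical
  haveI : Module.Finite ℤ (FreeAbelianGroup ι) :=
    Module.Finite.of_basis
      (⟨(FreeAbelianGroup.equivFinsupp ι).toIntLinearEquiv⟩ : Module.Basis ι ℤ (FreeAbelianGroup ι))
  let fa : Additive N →ₗ[ℤ] FreeAbelianGroup ι := (MonoidHom.toAdditive f).toIntLinearMap
  have hfa : ∀ x : Additive N, fa x = Additive.ofMul (f (Additive.toMul x)) := fun x => rfl
  haveI : Module.Free ℤ (LinearMap.range fa) := inferInstance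
  obtain ⟨h, hh⟩ := Module.projective_lifting_property fa.rangeRestrict
    (LinearMap.id : LinearMap.range fa →ₗ[ℤ] LinearMap.range fa)
    (LinearMap.surjective_rangeRestrict fa)
  have hmemL : ∀ l : f.range,
      (Additive.ofMul (l : Abelianization (FreeGroup ι)) : FreeAbelianGroup ι)
        ∈ LinearMap.range fa := by
    intro l
    obtain ⟨n, hn⟩ := l.2
    exact ⟨Additive.ofMul n, by rw [hfa]; exact congrArg _ hn⟩
  let s₀ : f.range → N := fun l =>
    Additive.toMul (h ⟨Additive.ofMul (l : Abelianization (FreeGroup ι)), hmemL l⟩)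
  have hs₀ : ∀ l, f (s₀ l) = l := by
    intro l
    have := LinearMap.congr_fun hh ⟨Additive.ofMul (l : Abelianization (FreeGroup ι)), hmemL l⟩
    have h2 := congrArg Subtype.val this
    exact h2
  refine ⟨MonoidHom.mk' s₀ ?_, hs₀⟩
  intro a b
  show Additive.toMul (h _) = Additive.toMul (h _) * Additive.toMul (h _)
  rw [← toMul_add, ← map_add]
  exact congrArg (fun z => Additive.toMul (h z)) (Subtype.ext rfl)

theorem normal_of_le_center {G : Type*} [Group G] (S : Subgroup G)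
    (h : S ≤ Subgroup.center G) : S.Normal :=
  ⟨fun n hn g => by
    have := Subgroup.mem_center_iff.mp (h hn) g
    rw [this, mul_inv_cancel_right]; exact hn⟩

theorem exists_factor {G H K : Type*} [Group G] [Group H] [Group K] (p : G →* H)
    (hp : Function.Surjective p) (g : G →* K) (h : p.ker ≤ g.ker) :
    ∃ g' : H →* K, ∀ x, g' (p x) = g x :=
  ⟨p.liftOfSurjective hp ⟨g, h⟩, fun x =>
    MonoidHom.liftOfRightInverse_comp_apply _ _ _ ⟨g, h⟩ x⟩

section Pres

variable {ι : Type u} {Q : Type u} [Group Q] (ψ : FreeGroup ι →* Q)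

/-- `[F, R]` -/
def relC : Subgroup (FreeGroup ι) := ⁅(⊤ : Subgroup (FreeGroup ι)), ψ.ker⁆

instance relC_normal : (relC ψ).Normal := by unfold relC; infer_instance

/-- `F / [F,R]` -/
abbrev Fbar : Type u := FreeGroup ι ⧸ relC ψ

theorem relC_le_ker : relC ψ ≤ ψ.ker := by
  unfold relC
  exact Subgroup.commutator_le_right _ _

/-- the induced map `F/[F,R] → Q` -/
def phibar : Fbar ψ →* Q := QuotientGroup.lift (relC ψ) ψ (relC_le_ker ψ)

theorem phibar_mk (f : FreeGroup ι) : phibar ψ (QuotientGroup.mk f) = ψ f := rfl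

/-- `R/[F,R]` -/
def Rbar : Subgroup (Fbar ψ) := (phibar ψ).ker

theorem mem_Rbar {x : Fbar ψ} : x ∈ Rbar ψ ↔ phibar ψ x = 1 := MonoidHom.mem_ker

theorem Rbar_le_center : Rbar ψ ≤ Subgroup.center (Fbar ψ) := by
  intro x hx
  obtain ⟨f, rfl⟩ := QuotientGroup.mk_surjective x
  have hf : f ∈ ψ.ker := hx
  rw [Subgroup.mem_center_iff]
  intro y
  obtain ⟨g, rfl⟩ := QuotientGroup.mk_surjective y
  have hc : ⁅g, f⁆ ∈ relC ψ := Subgroup.commutator_mem_commutator (Subgroup.mem_top g) hf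
  have h1 : ((⁅g, f⁆ : FreeGroup ι) : Fbar ψ) = 1 := (QuotientGroup.eq_one_iff _).2 hc
  have h2 : (QuotientGroup.mk g : Fbar ψ) * QuotientGroup.mk f * (QuotientGroup.mk g)⁻¹
      * (QuotientGroup.mk f)⁻¹ = 1 := h1
  calc (QuotientGroup.mk g : Fbar ψ) * QuotientGroup.mk f
      = ((QuotientGroup.mk g : Fbar ψ) * QuotientGroup.mk f * (QuotientGroup.mk g)⁻¹
          * (QuotientGroup.mk f)⁻¹) * (QuotientGroup.mk f * QuotientGroup.mk g) := by group
    _ = QuotientGroup.mk f * QuotientGroup.mk g := by rw [h2, one_mul]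

theorem relC_le_commutator : relC ψ ≤ commutator (FreeGroup ι) := by
  unfold relC; rw [commutator_def]; exact Subgroup.commutator_mono le_rfl le_top

/-- the abelianization map of `F` descended to `F/[F,R]` -/
def abar : Fbar ψ →* Abelianization (FreeGroup ι) :=
  QuotientGroup.lift (relC ψ) Abelianization.of
    (by rw [Abelianization.ker_of]; exact relC_le_commutator ψ)

theorem abar_mk (f : FreeGroup ι) : abar ψ (QuotientGroup.mk f) = Abelianization.of f := rfl

theorem ker_abar : (abar ψ).ker = commutator (Fbar ψ) := by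
  apply le_antisymm
  · intro x hx
    obtain ⟨f, rfl⟩ := QuotientGroup.mk_surjective x
    rw [MonoidHom.mem_ker, abar_mk, ← MonoidHom.mem_ker, Abelianization.ker_of] at hx
    have : (commutator (FreeGroup ι)).map (QuotientGroup.mk' (relC ψ)) = commutator (Fbar ψ) := by
      rw [commutator_def, Subgroup.map_commutator,
        Subgroup.map_top_of_surjective _ (QuotientGroup.mk'_surjective _), ← commutator_def]
    rw [← this]
    exact Subgroup.mem_map_of_mem _ hx
  · exact Abelianization.commutator_subset_ker (abar ψ)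

theorem phibar_surjective (hψ : Function.Surjective ψ) : Function.Surjective (phibar ψ) := by
  intro q
  obtain ⟨f, rfl⟩ := hψ q
  exact ⟨QuotientGroup.mk f, rfl⟩

theorem Rbar_finiteIndex [Finite Q] (hψ : Function.Surjective ψ) : (Rbar ψ).FiniteIndex := by
  refine ⟨?_⟩
  rw [Rbar, Subgroup.index_ker, MonoidHom.range_eq_top_of_surjective _ (phibar_surjective ψ hψ),
    Subgroup.card_top]
  exact Nat.card_pos.ne'

theorem finite_commutator_Fbar [Finite Q] (hψ : Function.Surjective ψ) :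
    Finite (commutator (Fbar ψ)) := by
  haveI := Rbar_finiteIndex ψ hψ
  haveI := (commutatorSet_card_le (Rbar ψ) (Rbar_le_center ψ)).1
  infer_instance

/-- the Schur multiplier `(R ∩ F')/[F,R]` -/
def multM : Subgroup (Fbar ψ) := Rbar ψ ⊓ commutator (Fbar ψ)

theorem finite_multM [Finite Q] (hψ : Function.Surjective ψ) : Finite (multM ψ) := by
  haveI := finite_commutator_Fbar ψ hψ
  exact Finite.of_injective (fun x : multM ψ => (⟨x.1, x.2.2⟩ : commutator (Fbar ψ)))
    (by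
      intro a b h
      apply Subtype.ext
      have h2 := congrArg (fun z : commutator (Fbar ψ) => (z : Fbar ψ)) h
      exact h2)

noncomputable instance multM_commGroup : CommGroup (multM ψ) :=
  { (inferInstance : Group (multM ψ)) with
    mul_comm := fun a b => Subtype.ext
      ((Subgroup.mem_center_iff.mp (Rbar_le_center ψ a.2.1) b.1).symm) }

theorem exists_lift_pres {Δ : Type w} [Group Δ] (τ : Δ →* Q) (hτs : Function.Surjective τ)
    (hτk : τ.ker ≤ Subgroup.center Δ) : ∃ β : Fbar ψ →* Δ, τ.comp β = phibar ψ := by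
  classical
  choose s hs using hτs
  let β₀ : FreeGroup ι →* Δ := FreeGroup.lift (fun i => s (ψ (FreeGroup.of i)))
  have hβ₀ : τ.comp β₀ = ψ := by
    ext i
    simp [β₀, hs]
  have hR : ∀ r ∈ ψ.ker, β₀ r ∈ Subgroup.center Δ := by
    intro r hr
    apply hτk
    rw [MonoidHom.mem_ker]
    have := DFunLike.congr_fun hβ₀ r
    rw [MonoidHom.comp_apply] at this
    rw [this]; exact hr
  have hC : relC ψ ≤ β₀.ker := by
    unfold relC
    rw [Subgroup.commutator_le]
    intro g _ r hr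
    rw [MonoidHom.mem_ker, map_commutatorElement, commutatorElement_eq_one_iff_commute]
    exact (Subgroup.mem_center_iff.mp (hR r hr) (β₀ g))
  refine ⟨QuotientGroup.lift (relC ψ) β₀ hC, ?_⟩
  apply MonoidHom.ext
  intro x
  obtain ⟨f, rfl⟩ := QuotientGroup.mk_surjective x
  exact DFunLike.congr_fun hβ₀ f

theorem lift_surjective_of_stem {Δ : Type w} [Group Δ] (hψ : Function.Surjective ψ) (τ : Δ →* Q)
    (hτ : Cfsg.IsStemExtension τ) (β : Fbar ψ →* Δ) (hβ : τ.comp β = phibar ψ) :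
    Function.Surjective β := by
  obtain ⟨hτs, hτk, hτd⟩ := hτ
  have hβ' : ∀ x, τ (β x) = phibar ψ x := fun x => DFunLike.congr_fun hβ x
  have hdec : ∀ d : Δ, ∃ z ∈ τ.ker, ∃ b ∈ β.range, d = z * b := by
    intro d
    obtain ⟨x, hx⟩ := phibar_surjective ψ hψ (τ d)
    refine ⟨d * (β x)⁻¹, ?_, β x, ⟨x, rfl⟩, by group⟩
    rw [MonoidHom.mem_ker, map_mul, map_inv, hβ', hx, mul_inv_cancel]
  have hcomm : commutator Δ ≤ β.range := by
    rw [commutator_eq_closure Δ, Subgroup.closure_le]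
    rintro c ⟨a, b, rfl⟩
    obtain ⟨z₁, hz₁, b₁, hb₁, rfl⟩ := hdec a
    obtain ⟨z₂, hz₂, b₂, hb₂, rfl⟩ := hdec b
    rw [SetLike.mem_coe, comm_central_mul b₁ b₂ (hτk hz₁) (hτk hz₂), commutatorElement_def]
    exact Subgroup.mul_mem _ (Subgroup.mul_mem _ (Subgroup.mul_mem _ hb₁ hb₂)
      (Subgroup.inv_mem _ hb₁)) (Subgroup.inv_mem _ hb₂)
  intro d
  obtain ⟨z, hz, b, hb, rfl⟩ := hdec d
  exact Subgroup.mul_mem _ (hcomm (hτd hz)) hb

theorem ker_le_image_multM {Δ : Type w} [Group Δ] (hψ : Function.Surjective ψ) (τ : Δ →* Q)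
    (hτ : Cfsg.IsStemExtension τ) (β : Fbar ψ →* Δ) (hβ : τ.comp β = phibar ψ) :
    ∀ k ∈ τ.ker, ∃ m ∈ multM ψ, β m = k := by
  have hsurj := lift_surjective_of_stem ψ hψ τ hτ β hβ
  obtain ⟨hτs, hτk, hτd⟩ := hτ
  have hmap : (commutator (Fbar ψ)).map β = commutator Δ := by
    rw [commutator_def, Subgroup.map_commutator, Subgroup.map_top_of_surjective β hsurj,
      ← commutator_def]
  intro k hk
  have : k ∈ (commutator (Fbar ψ)).map β := by rw [hmap]; exact hτd hk
  obtain ⟨y, hy, rfl⟩ := Subgroup.mem_map.mp this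
  have hyR : y ∈ Rbar ψ := by
    rw [mem_Rbar, ← DFunLike.congr_fun hβ y]
    exact hk
  exact ⟨y, ⟨hyR, hy⟩, rfl⟩

theorem exists_surjective_multM_ker {Δ : Type w} [Group Δ] (hψ : Function.Surjective ψ)
    (τ : Δ →* Q) (hτ : Cfsg.IsStemExtension τ) :
    ∃ π : multM ψ →* τ.ker, Function.Surjective π := by
  obtain ⟨β, hβ⟩ := exists_lift_pres ψ τ hτ.1 hτ.2.1
  have hβ' : ∀ x, τ (β x) = phibar ψ x := fun x => DFunLike.congr_fun hβ x
  refine ⟨MonoidHom.codRestrict (β.comp (multM ψ).subtype) τ.ker (fun m => ?_), ?_⟩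
  · rw [MonoidHom.mem_ker]
    show τ (β m.1) = 1
    rw [hβ' m.1]; exact (mem_Rbar ψ).1 m.2.1
  · rintro ⟨k, hk⟩
    obtain ⟨m, hm, rfl⟩ := ker_le_image_multM ψ hψ τ hτ β hβ k hk
    exact ⟨⟨m, hm⟩, Subtype.ext rfl⟩

theorem exists_compl [Finite ι] (N : Subgroup (Fbar ψ)) (hN : N ≤ Rbar ψ) :
    ∃ S : Subgroup (Fbar ψ), S ≤ N ∧ S ⊓ commutator (Fbar ψ) = ⊥ ∧ N ≤ multM ψ ⊔ S := by
  classical
  letI : CommGroup N :=
    { (inferInstance : Group N) with
      mul_comm := fun a b => Subtype.ext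
        ((Subgroup.mem_center_iff.mp (Rbar_le_center ψ (hN a.2)) b.1).symm) }
  let f : N →* Abelianization (FreeGroup ι) := (abar ψ).comp N.subtype
  obtain ⟨s, hs⟩ := exists_section_of_free f
  refine ⟨s.range.map N.subtype, ?_, ?_, ?_⟩
  · rintro x ⟨y, _, rfl⟩; exact y.2
  · rw [eq_bot_iff]
    rintro x ⟨⟨y, ⟨l, rfl⟩, rfl⟩, hx2⟩
    have hx3 : N.subtype (s l) ∈ commutator (Fbar ψ) := hx2
    rw [← ker_abar, MonoidHom.mem_ker] at hx3
    have h1 : f (s l) = 1 := hx3
    rw [hs l] at h1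
    have hl : l = 1 := Subtype.ext h1
    rw [Subgroup.mem_bot, hl, map_one]; rfl
  · intro x hx
    let l : f.range := ⟨f ⟨x, hx⟩, ⟨_, rfl⟩⟩
    have hy : ((s l : N) : Fbar ψ) ∈ s.range.map N.subtype := ⟨s l, ⟨l, rfl⟩, rfl⟩
    have hxy : x * ((s l : N) : Fbar ψ)⁻¹ ∈ multM ψ := by
      refine ⟨?_, ?_⟩
      · exact Subgroup.mul_mem _ (hN hx) (Subgroup.inv_mem _ (hN (s l).2))
      · have hc : x * ((s l : N) : Fbar ψ)⁻¹ ∈ commutator (Fbar ψ) := by
          rw [← ker_abar, MonoidHom.mem_ker, map_mul, map_inv]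
          have h1 : abar ψ ((s l : N) : Fbar ψ) = abar ψ x := hs l
          rw [h1, mul_inv_cancel]
        exact hc
    have : x = (x * ((s l : N) : Fbar ψ)⁻¹) * ((s l : N) : Fbar ψ) := by group
    rw [this]
    exact Subgroup.mul_mem_sup hxy hy

theorem exists_stem_of_compl [Finite Q] (hψ : Function.Surjective ψ) (S : Subgroup (Fbar ψ))
    (hSR : S ≤ Rbar ψ) (hS1 : S ⊓ commutator (Fbar ψ) = ⊥) (hS2 : Rbar ψ ≤ multM ψ ⊔ S) :
    ∃ (Γ : Type u) (_ : Group Γ) (_ : Finite Γ) (σ : Γ →* Q) (p : Fbar ψ →* Γ),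
      Cfsg.IsStemExtension σ ∧ Nonempty (σ.ker ≃* multM ψ) ∧ Function.Surjective p ∧
      σ.comp p = phibar ψ ∧ p.ker = S := by
  classical
  haveI : S.Normal := normal_of_le_center S (hSR.trans (Rbar_le_center ψ))
  let p : Fbar ψ →* (Fbar ψ ⧸ S) := QuotientGroup.mk' S
  let σ : (Fbar ψ ⧸ S) →* Q := QuotientGroup.lift S (phibar ψ) hSR
  have hσp : ∀ x, σ (p x) = phibar ψ x := fun x => rfl
  have hp : Function.Surjective p := QuotientGroup.mk'_surjective S
  have hker : ∀ x : Fbar ψ ⧸ S, x ∈ σ.ker → ∃ m ∈ multM ψ, p m = x := by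
    intro x hx
    obtain ⟨y, rfl⟩ := hp x
    have hy : y ∈ Rbar ψ := by rw [MonoidHom.mem_ker, hσp] at hx; exact (mem_Rbar ψ).2 hx
    obtain ⟨m, hm, s, hs, rfl⟩ := Subgroup.mem_sup_of_normal_right.mp (hS2 hy)
    refine ⟨m, hm, ?_⟩
    rw [map_mul]
    have : p s = 1 := (QuotientGroup.eq_one_iff s).2 hs
    rw [this, mul_one]
  have hstem : Cfsg.IsStemExtension σ := by
    refine ⟨?_, ?_, ?_⟩
    · intro q; obtain ⟨x, hx⟩ := phibar_surjective ψ hψ q; exact ⟨p x, hx⟩
    · intro x hx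
      obtain ⟨m, hm, rfl⟩ := hker x hx
      rw [Subgroup.mem_center_iff]
      intro z
      obtain ⟨w, rfl⟩ := hp z
      rw [← map_mul, ← map_mul, Subgroup.mem_center_iff.mp (Rbar_le_center ψ hm.1) w]
    · intro x hx
      obtain ⟨m, hm, rfl⟩ := hker x hx
      have hmap : (commutator (Fbar ψ)).map p = commutator (Fbar ψ ⧸ S) := by
        rw [commutator_def, Subgroup.map_commutator, Subgroup.map_top_of_surjective p hp,
          ← commutator_def]
      rw [← hmap]; exact Subgroup.mem_map_of_mem p hm.2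
  haveI hfinM := finite_multM ψ hψ
  let e : multM ψ →* σ.ker := MonoidHom.codRestrict (p.comp (multM ψ).subtype) σ.ker (fun m => by
    rw [MonoidHom.mem_ker]; show σ (p m.1) = 1; rw [hσp]; exact (mem_Rbar ψ).1 m.2.1)
  have he_inj : Function.Injective e := by
    rw [injective_iff_map_eq_one]
    intro m hm
    have h1 : p m.1 = 1 := congrArg Subtype.val hm
    have h2 : m.1 ∈ S := (QuotientGroup.eq_one_iff m.1).1 h1
    have h3 : m.1 ∈ S ⊓ commutator (Fbar ψ) := ⟨h2, m.2.2⟩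
    rw [hS1, Subgroup.mem_bot] at h3
    exact Subtype.ext h3
  have he_surj : Function.Surjective e := by
    rintro ⟨x, hx⟩
    obtain ⟨m, hm, rfl⟩ := hker x hx
    exact ⟨⟨m, hm⟩, Subtype.ext rfl⟩
  let eqv : multM ψ ≃* σ.ker := MulEquiv.ofBijective e ⟨he_inj, he_surj⟩
  haveI : Finite σ.ker := Finite.of_equiv _ eqv.toEquiv
  have hfin : Finite (Fbar ψ ⧸ S) := by
    apply Nat.finite_of_card_ne_zero
    rw [← Subgroup.card_mul_index σ.ker, Subgroup.index_ker,
      MonoidHom.range_eq_top_of_surjective σ hstem.1, Subgroup.card_top]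
    exact Nat.mul_ne_zero Nat.card_pos.ne' Nat.card_pos.ne'
  exact ⟨Fbar ψ ⧸ S, inferInstance, hfin, σ, p, hstem, ⟨eqv.symm⟩, hp, MonoidHom.ext hσp,
    QuotientGroup.ker_mk' S⟩

theorem exists_stem_multM [Finite ι] [Finite Q] (hψ : Function.Surjective ψ) :
    ∃ (Γ : Type u) (_ : Group Γ) (_ : Finite Γ) (σ : Γ →* Q),
      Cfsg.IsStemExtension σ ∧ Nonempty (σ.ker ≃* multM ψ) := by
  obtain ⟨S, hSN, hS1, hS2⟩ := exists_compl ψ (Rbar ψ) le_rfl
  obtain ⟨Γ, i1, i2, σ, p, h1, h2, -⟩ := exists_stem_of_compl ψ hψ S hSN hS1 hS2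
  exact ⟨Γ, i1, i2, σ, h1, h2⟩

theorem hasSchurMultiplier_multM [Finite ι] [Finite Q] (hψ : Function.Surjective ψ) :
    Cfsg.HasSchurMultiplier Q (multM ψ) :=
  ⟨exists_stem_multM ψ hψ, fun Γ _ _ σ hσ => exists_surjective_multM_ker ψ hψ σ hσ⟩

theorem equiv_multM [Finite ι] [Finite Q] (hψ : Function.Surjective ψ) {A : Type w}
    [CommGroup A] (hA : Cfsg.HasSchurMultiplier Q A) : Nonempty (A ≃* multM ψ) := by
  obtain ⟨⟨Γ₀, i1, i2, σ₀, hσ₀, ⟨e₀⟩⟩, hall⟩ := hA
  obtain ⟨Γ, j1, j2, σ, hσ, ⟨e⟩⟩ := exists_stem_multM ψ hψ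
  obtain ⟨πA, hπA⟩ := hall Γ σ hσ
  obtain ⟨πM, hπM⟩ := exists_surjective_multM_ker ψ hψ σ₀ hσ₀
  haveI : Finite A := Finite.of_equiv _ e₀.toEquiv
  haveI := finite_multM ψ hψ
  let g : A →* multM ψ := e.toMonoidHom.comp πA
  have hg : Function.Surjective g := e.surjective.comp hπA
  let g' : multM ψ → A := fun m => e₀ (πM m)
  have hg' : Function.Surjective g' := e₀.surjective.comp hπM
  have hle : Nat.card A ≤ Nat.card (multM ψ) := Nat.card_le_card_of_surjective g' hg'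
  exact ⟨MulEquiv.ofBijective g (Function.Surjective.bijective_of_nat_card_le hg hle)⟩

theorem exists_cover_over [Finite ι] [Finite Q] (hψ : Function.Surjective ψ) {Δ : Type w}
    [Group Δ] (τ : Δ →* Q) (hτ : Cfsg.IsStemExtension τ) :
    ∃ (Γ : Type u) (_ : Group Γ) (_ : Finite Γ) (σ : Γ →* Q), Cfsg.IsStemExtension σ ∧
      Nonempty (σ.ker ≃* multM ψ) ∧ ∃ β : Γ →* Δ, Function.Surjective β ∧ τ.comp β = σ := by
  obtain ⟨β₀, hβ₀⟩ := exists_lift_pres ψ τ hτ.1 hτ.2.1
  have hβ₀s := lift_surjective_of_stem ψ hψ τ hτ β₀ hβ₀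
  have hβ₀' : ∀ x, τ (β₀ x) = phibar ψ x := fun x => DFunLike.congr_fun hβ₀ x
  have hN : β₀.ker ≤ Rbar ψ := by
    intro x hx
    rw [MonoidHom.mem_ker] at hx
    rw [mem_Rbar, ← hβ₀', hx, map_one]
  obtain ⟨S, hSN, hS1, hS2⟩ := exists_compl ψ β₀.ker hN
  have hRN : Rbar ψ ≤ multM ψ ⊔ β₀.ker := by
    intro x hx
    have hk : β₀ x ∈ τ.ker := by rw [MonoidHom.mem_ker, hβ₀']; exact (mem_Rbar ψ).1 hx
    obtain ⟨m, hm, hmx⟩ := ker_le_image_multM ψ hψ τ hτ β₀ hβ₀ _ hk
    have : x = m * (m⁻¹ * x) := by group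
    rw [this]
    refine Subgroup.mul_mem_sup hm ?_
    rw [MonoidHom.mem_ker, map_mul, map_inv, hmx, inv_mul_cancel]
  have hS2' : Rbar ψ ≤ multM ψ ⊔ S := hRN.trans (sup_le le_sup_left hS2)
  obtain ⟨Γ, i1, i2, σ, p, h1, h2, hp, hσp, hpk⟩ :=
    exists_stem_of_compl ψ hψ S (hSN.trans hN) hS1 hS2'
  refine ⟨Γ, i1, i2, σ, h1, h2, ?_⟩
  have hle : p.ker ≤ β₀.ker := by rw [hpk]; exact hSN
  obtain ⟨β, hβ⟩ := exists_factor p hp β₀ hle
  refine ⟨β, ?_, ?_⟩
  · intro d
    obtain ⟨x, rfl⟩ := hβ₀s d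
    exact ⟨p x, hβ x⟩
  · apply MonoidHom.ext
    intro y
    obtain ⟨x, rfl⟩ := hp y
    rw [MonoidHom.comp_apply, hβ, hβ₀']
    exact (DFunLike.congr_fun hσp x).symm

end Pres

/-- the canonical presentation of `Q` on its own elements -/
def canon (Q : Type u) [Group Q] : FreeGroup Q →* Q := FreeGroup.lift id

theorem canon_surjective (Q : Type u) [Group Q] : Function.Surjective (canon Q) :=
  fun q => ⟨FreeGroup.of q, by simp [canon]⟩

/-- a finite group has a copy in every universe -/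
theorem exists_copy (G : Type u) [Group G] [Finite G] :
    ∃ (G' : Type v) (_ : Group G') (_ : Finite G'), Nonempty (G' ≃* G) := by
  classical
  obtain ⟨n, ⟨e⟩⟩ := Finite.exists_equiv_fin G
  let e' : ULift.{v} (Fin n) ≃ G := Equiv.ulift.trans e.symm
  letI : Group (ULift.{v} (Fin n)) := e'.group
  exact ⟨ULift.{v} (Fin n), inferInstance, inferInstance, ⟨e'.mulEquiv⟩⟩

theorem stem_comp_equiv {Γ' : Type*} {Γ'' : Type*} {Γ : Type*} [Group Γ'] [Group Γ''] [Group Γ]
    (β : Γ' →* Γ) (hβ : Cfsg.IsStemExtension β) (c : Γ'' ≃* Γ') :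
    Cfsg.IsStemExtension (β.comp c.toMonoidHom) := by
  obtain ⟨h1, h2, h3⟩ := hβ
  refine ⟨h1.comp c.surjective, ?_, ?_⟩
  · intro x hx
    have hx' : c x ∈ β.ker := hx
    have hc := Subgroup.mem_center_iff.mp (h2 hx')
    rw [Subgroup.mem_center_iff]
    intro y
    apply c.injective
    rw [map_mul, map_mul]
    exact hc (c y)
  · intro x hx
    have hx' : c x ∈ β.ker := hx
    have h4 : c x ∈ commutator Γ' := h3 hx'
    have h5 : (commutator Γ').map c.symm.toMonoidHom ≤ commutator Γ'' := by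
      rw [commutator_def, Subgroup.map_commutator, commutator_def]
      exact Subgroup.commutator_mono le_top le_top
    have h6 := h5 (Subgroup.mem_map_of_mem _ h4)
    simpa using h6

end Cfsg.Agent.Lib.Helper2.SchurMult
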