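import Mathlib
import Cfsg.Prelude.Def_KGroupFacts
import Cfsg.Agent.Lib.Helper2.SchurMultB

set_option autoImplicit false

/-!
Projective representations and the Schur multiplier.
-/

namespace Cfsg.Agent.Lib.Helper2.SchurMult

open scoped commutatorElement IsMulCommutative

universe u v w

/-- For a central extension `τ : E → Q` and a lift `β : Fbar → E`, the image of `multM` is
`ker τ ⊓ E'`. -/
theorem central_image_multM {ι Q : Type u} [Group Q] (ψ : FreeGroup ι →* Q)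
    (hψ : Function.Surjective ψ) {E : Type w} [Group E] (τ : E →* Q)
    (hτk : τ.ker ≤ Subgroup.center E) (β : Fbar ψ →* E) (hβ : τ.comp β = phibar ψ) (k : E) :
    k ∈ τ.ker ⊓ commutator E ↔ ∃ m ∈ multM ψ, β m = k := by
  have hβ' : ∀ x, τ (β x) = phibar ψ x := fun x => DFunLike.congr_fun hβ x
  have hdec : ∀ d : E, ∃ z ∈ τ.ker, ∃ x : Fbar ψ, d = z * β x := by
    intro d
    obtain ⟨x, hx⟩ := phibar_surjective ψ hψ (τ d)
    refine ⟨d * (β x)⁻¹, ?_, x, by group⟩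
    rw [MonoidHom.mem_ker, map_mul, map_inv, hβ', hx, mul_inv_cancel]
  have hcomm : commutator E ≤ (commutator (Fbar ψ)).map β := by
    rw [commutator_eq_closure E, Subgroup.closure_le]
    rintro c ⟨a, b, rfl⟩
    obtain ⟨z₁, hz₁, x₁, rfl⟩ := hdec a
    obtain ⟨z₂, hz₂, x₂, rfl⟩ := hdec b
    rw [SetLike.mem_coe, comm_central_mul (β x₁) (β x₂) (hτk hz₁) (hτk hz₂),
      ← map_commutatorElement]
    exact Subgroup.mem_map_of_mem β
      (Subgroup.commutator_mem_commutator (Subgroup.mem_top x₁) (Subgroup.mem_top x₂))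
  have hcomm' : (commutator (Fbar ψ)).map β ≤ commutator E := by
    rw [commutator_def, Subgroup.map_commutator, commutator_def]
    exact Subgroup.commutator_mono le_top le_top
  constructor
  · rintro ⟨hk1, hk2⟩
    obtain ⟨y, hy, rfl⟩ := Subgroup.mem_map.mp (hcomm hk2)
    have hyR : y ∈ Rbar ψ := by
      rw [mem_Rbar, ← hβ' y]
      exact hk1
    exact ⟨y, ⟨hyR, hy⟩, rfl⟩
  · rintro ⟨m, hm, rfl⟩
    have h1 : β m ∈ τ.ker := by
      rw [MonoidHom.mem_ker, hβ']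
      exact (mem_Rbar ψ).1 hm.1
    exact ⟨h1, hcomm' (Subgroup.mem_map_of_mem β hm.2)⟩

/-- extension of characters into a divisible (Baer) group from a subgroup avoiding the derived
subgroup -/
theorem exists_extension_of_baer {𝔉 : Type*} [Group 𝔉] (S : Subgroup 𝔉)
    (hS : S ⊓ commutator 𝔉 = ⊥) {W : Type*} [CommGroup W] (hW : Module.Baer ℤ (Additive W))
    (χ : S →* W) : ∃ lam : 𝔉 →* W, ∀ s : S, lam s = χ s := by
  classical
  have hcomm : ∀ a b : S, a * b = b * a := by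
    intro a b
    have h0 : ⁅(a : 𝔉), (b : 𝔉)⁆ ∈ commutator 𝔉 :=
      Subgroup.commutator_mem_commutator (Subgroup.mem_top _) (Subgroup.mem_top _)
    have h1 : ⁅(a : 𝔉), (b : 𝔉)⁆ ∈ S ⊓ commutator 𝔉 :=
      ⟨by
        rw [commutatorElement_def]
        exact S.mul_mem (S.mul_mem (S.mul_mem a.2 b.2) (S.inv_mem a.2)) (S.inv_mem b.2), h0⟩
    rw [hS, Subgroup.mem_bot, commutatorElement_eq_one_iff_commute] at h1
    exact Subtype.ext h1
  letI : CommGroup S := { (inferInstance : Group S) with mul_comm := hcomm }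
  let f : Additive S →+ Additive (Abelianization 𝔉) :=
    MonoidHom.toAdditive (Abelianization.of.comp S.subtype)
  have hf : Function.Injective f := by
    rw [injective_iff_map_eq_zero]
    intro a ha
    have h1 : Abelianization.of ((Additive.toMul a : S) : 𝔉) = 1 := ha
    have h2 : ((Additive.toMul a : S) : 𝔉) ∈ commutator 𝔉 := by
      rw [← Abelianization.ker_of, MonoidHom.mem_ker]; exact h1
    have h3 : ((Additive.toMul a : S) : 𝔉) ∈ S ⊓ commutator 𝔉 := ⟨(Additive.toMul a).2, h2⟩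
    rw [hS, Subgroup.mem_bot] at h3
    have h4 : (Additive.toMul a : S) = 1 := Subtype.ext h3
    exact h4
  obtain ⟨h, hh⟩ := hW.extension_property_addMonoidHom f hf (MonoidHom.toAdditive χ)
  refine ⟨(MonoidHom.toAdditive.symm h).comp Abelianization.of, ?_⟩
  intro s
  have := DFunLike.congr_fun hh (Additive.ofMul s)
  exact this

theorem units_complex_root (c : ℂˣ) (k : ℤ) (hk : k ≠ 0) : ∃ d : ℂˣ, d ^ k = c := by
  obtain ⟨m, rfl | rfl⟩ := Int.eq_nat_or_neg k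
  · have hm : 0 < m := by
      rcases Nat.eq_zero_or_pos m with h | h
      · subst h; exact absurd rfl hk
      · exact h
    obtain ⟨z, hz⟩ := IsAlgClosed.exists_pow_nat_eq (c : ℂ) hm
    have hz0 : z ≠ 0 := by
      rintro rfl
      rw [zero_pow hm.ne'] at hz
      exact c.ne_zero hz.symm
    refine ⟨Units.mk0 z hz0, ?_⟩
    rw [zpow_natCast]
    apply Units.ext
    rw [Units.val_pow_eq_pow_val]; exact hz
  · have hm : 0 < m := by
      rcases Nat.eq_zero_or_pos m with h | h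
      · subst h; exact absurd (by simp) hk
      · exact h
    obtain ⟨z, hz⟩ := IsAlgClosed.exists_pow_nat_eq (c : ℂ) hm
    have hz0 : z ≠ 0 := by
      rintro rfl
      rw [zero_pow hm.ne'] at hz
      exact c.ne_zero hz.symm
    refine ⟨(Units.mk0 z hz0)⁻¹, ?_⟩
    rw [zpow_neg, inv_zpow, inv_inv, zpow_natCast]
    apply Units.ext
    rw [Units.val_pow_eq_pow_val]; exact hz

theorem center_GL_rootable (n : ℕ) (k : ℤ) (hk : k ≠ 0)
    (w : Subgroup.center (GL (Fin n) ℂ)) :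
    ∃ v : Subgroup.center (GL (Fin n) ℂ), v ^ k = w := by
  have hw : (w : GL (Fin n) ℂ) ∈ (Matrix.GeneralLinearGroup.scalar (Fin n)).range := by
    rw [← Matrix.GeneralLinearGroup.center_eq_range_scalar]; exact w.2
  obtain ⟨c, hc⟩ := hw
  obtain ⟨d, hd⟩ := units_complex_root c k hk
  have hv : Matrix.GeneralLinearGroup.scalar (Fin n) d ∈ Subgroup.center (GL (Fin n) ℂ) := by
    rw [Matrix.GeneralLinearGroup.center_eq_range_scalar]; exact ⟨d, rfl⟩
  refine ⟨⟨_, hv⟩, ?_⟩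
  apply Subtype.ext
  rw [Subgroup.coe_zpow]
  show (Matrix.GeneralLinearGroup.scalar (Fin n) d) ^ k = w.1
  rw [← map_zpow, hd, hc]

theorem center_GL_baer (n : ℕ) :
    Module.Baer ℤ (Additive (Subgroup.center (GL (Fin n) ℂ))) := by
  letI : DivisibleBy (Additive (Subgroup.center (GL (Fin n) ℂ))) ℤ :=
    divisibleByOfSMulRightSurj _ _ (fun {k} hk a => by
      obtain ⟨v, hv⟩ := center_GL_rootable n k hk (Additive.toMul a)
      exact ⟨Additive.ofMul v, by
        show k • Additive.ofMul v = a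
        rw [← ofMul_zpow, hv]; rfl⟩)
  exact Module.Baer.of_divisible _

/-- Projective representations of `Q` lift to any stem extension whose kernel is as large as the
multiplier. -/
theorem lift_projective {Q : Type u} [Group Q] [Finite Q] {Γ : Type v} [Group Γ] [Finite Γ]
    (σ : Γ →* Q) (hσ : Cfsg.IsStemExtension σ)
    (hcard : Nat.card (multM (canon Q)) ≤ Nat.card σ.ker)
    (n : ℕ) (γ : Q →* (GL (Fin n) ℂ ⧸ Subgroup.center (GL (Fin n) ℂ))) :
    ∃ ρ : Γ →* GL (Fin n) ℂ,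
      (QuotientGroup.mk' (Subgroup.center (GL (Fin n) ℂ))).comp ρ = γ.comp σ := by
  classical
  have hψ := canon_surjective Q
  obtain ⟨βΓ, hβΓ⟩ := exists_lift_pres (canon Q) σ hσ.1 hσ.2.1
  have hβΓs := lift_surjective_of_stem (canon Q) hψ σ hσ βΓ hβΓ
  have hβΓ' : ∀ x, σ (βΓ x) = phibar (canon Q) x := fun x => DFunLike.congr_fun hβΓ x
  have hSR : βΓ.ker ≤ Rbar (canon Q) := by
    intro x hx
    rw [MonoidHom.mem_ker] at hx
    rw [mem_Rbar, ← hβΓ', hx, map_one]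
  have hS : βΓ.ker ⊓ commutator (Fbar (canon Q)) = ⊥ := by
    haveI := finite_multM (canon Q) hψ
    let e : multM (canon Q) → σ.ker := fun m =>
      ⟨βΓ m.1, by rw [MonoidHom.mem_ker, hβΓ']; exact (mem_Rbar (canon Q)).1 m.2.1⟩
    have he : Function.Surjective e := by
      rintro ⟨k, hk⟩
      obtain ⟨m, hm, rfl⟩ := ker_le_image_multM (canon Q) hψ σ hσ βΓ hβΓ k hk
      exact ⟨⟨m, hm⟩, rfl⟩
    have hinj : Function.Injective e :=
      (Function.Surjective.bijective_of_nat_card_le he hcard).1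
    rw [eq_bot_iff]
    rintro x ⟨hx1, hx2⟩
    have hxM : x ∈ multM (canon Q) := ⟨hSR hx1, hx2⟩
    have h1 : e ⟨x, hxM⟩ = e 1 := by
      apply Subtype.ext
      show βΓ x = βΓ 1
      rw [map_one]; exact hx1
    have h2 := hinj h1
    rw [Subgroup.mem_bot]
    exact congrArg Subtype.val h2
  -- the pullback
  obtain ⟨Y, hY⟩ : ∃ Y : Subgroup (Q × GL (Fin n) ℂ), ∀ p, p ∈ Y ↔
      γ p.1 = QuotientGroup.mk' (Subgroup.center (GL (Fin n) ℂ)) p.2 :=
    ⟨(γ.comp (MonoidHom.fst Q (GL (Fin n) ℂ))).eqLocus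
      ((QuotientGroup.mk' (Subgroup.center (GL (Fin n) ℂ))).comp
        (MonoidHom.snd Q (GL (Fin n) ℂ))), fun p => Iff.rfl⟩
  let τY : Y →* Q := (MonoidHom.fst Q (GL (Fin n) ℂ)).comp Y.subtype
  let prG : Y →* GL (Fin n) ℂ := (MonoidHom.snd Q (GL (Fin n) ℂ)).comp Y.subtype
  have hYmem : ∀ y : Y, γ (τY y) = QuotientGroup.mk' (Subgroup.center (GL (Fin n) ℂ)) (prG y) :=
    fun y => (hY y.1).1 y.2
  have hτYs : Function.Surjective τY := by
    intro q
    obtain ⟨g, hg⟩ := QuotientGroup.mk'_surjective (Subgroup.center (GL (Fin n) ℂ)) (γ q)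
    exact ⟨⟨(q, g), (hY _).2 hg.symm⟩, rfl⟩
  have hτYk : τY.ker ≤ Subgroup.center Y := by
    intro y hy
    rw [MonoidHom.mem_ker] at hy
    have h1 : QuotientGroup.mk' (Subgroup.center (GL (Fin n) ℂ)) (prG y) = 1 := by
      rw [← hYmem y, hy, map_one]
    have h2 : prG y ∈ Subgroup.center (GL (Fin n) ℂ) := (QuotientGroup.eq_one_iff _).1 h1
    have h2c := Subgroup.mem_center_iff.mp h2
    rw [Subgroup.mem_center_iff]
    intro w
    apply Subtype.ext
    apply Prod.ext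
    · show τY w * τY y = τY y * τY w
      rw [hy, mul_one, one_mul]
    · show prG w * prG y = prG y * prG w
      exact h2c _
  obtain ⟨βY, hβY⟩ := exists_lift_pres (canon Q) τY hτYs hτYk
  let ρ₀ : Fbar (canon Q) →* GL (Fin n) ℂ := prG.comp βY
  have hρ₀ : ∀ x, QuotientGroup.mk' (Subgroup.center (GL (Fin n) ℂ)) (ρ₀ x)
      = γ (phibar (canon Q) x) := by
    intro x
    have h1 := hYmem (βY x)
    have h2 : τY (βY x) = phibar (canon Q) x := DFunLike.congr_fun hβY x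
    rw [← h2]; exact h1.symm
  have hρ₀S : ∀ s : βΓ.ker, (ρ₀.comp βΓ.ker.subtype) s ∈ Subgroup.center (GL (Fin n) ℂ) := by
    intro s
    rw [← QuotientGroup.eq_one_iff]
    show QuotientGroup.mk' (Subgroup.center (GL (Fin n) ℂ)) (ρ₀ s) = 1
    rw [hρ₀, (mem_Rbar (canon Q)).1 (hSR s.2), map_one]
  let χ : βΓ.ker →* Subgroup.center (GL (Fin n) ℂ) :=
    MonoidHom.codRestrict (ρ₀.comp βΓ.ker.subtype) _ hρ₀S
  obtain ⟨lam, hlam⟩ := exists_extension_of_baer βΓ.ker hS (center_GL_baer n) χ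
  let ρ₁ : Fbar (canon Q) →* GL (Fin n) ℂ :=
    MonoidHom.mk' (fun x => ρ₀ x * ((lam x : Subgroup.center (GL (Fin n) ℂ)) : GL (Fin n) ℂ)⁻¹)
      (by
        intro a b
        have hb : ((lam a : Subgroup.center (GL (Fin n) ℂ)) : GL (Fin n) ℂ)⁻¹
            ∈ Subgroup.center (GL (Fin n) ℂ) := Subgroup.inv_mem _ (lam a).2
        have hc := Subgroup.mem_center_iff.mp hb
        show ρ₀ (a * b) * ((lam (a * b) : Subgroup.center (GL (Fin n) ℂ)) : GL (Fin n) ℂ)⁻¹
          = ρ₀ a * ((lam a : Subgroup.center (GL (Fin n) ℂ)) : GL (Fin n) ℂ)⁻¹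
            * (ρ₀ b * ((lam b : Subgroup.center (GL (Fin n) ℂ)) : GL (Fin n) ℂ)⁻¹)
        rw [map_mul, map_mul, Subgroup.coe_mul, mul_inv_rev]
        calc ρ₀ a * ρ₀ b * ((↑(lam b))⁻¹ * (↑(lam a))⁻¹)
            = ρ₀ a * ((ρ₀ b * (↑(lam b) : GL (Fin n) ℂ)⁻¹) * (↑(lam a))⁻¹) := by group
          _ = ρ₀ a * ((↑(lam a))⁻¹ * (ρ₀ b * (↑(lam b) : GL (Fin n) ℂ)⁻¹)) := by rw [hc]
          _ = ρ₀ a * (↑(lam a))⁻¹ * (ρ₀ b * (↑(lam b))⁻¹) := by group)
  have hρ₁ : ∀ x, ρ₁ x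
      = ρ₀ x * ((lam x : Subgroup.center (GL (Fin n) ℂ)) : GL (Fin n) ℂ)⁻¹ := fun x => rfl
  have hker : βΓ.ker ≤ ρ₁.ker := by
    intro s hs
    rw [MonoidHom.mem_ker, hρ₁]
    have h1 := hlam ⟨s, hs⟩
    have h2 : ((lam s : Subgroup.center (GL (Fin n) ℂ)) : GL (Fin n) ℂ) = ρ₀ s := by
      have := congrArg Subtype.val h1
      exact this
    rw [h2, mul_inv_cancel]
  obtain ⟨ρ, hρ⟩ := exists_factor βΓ hβΓs ρ₁ hker
  refine ⟨ρ, ?_⟩
  apply MonoidHom.ext
  intro g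
  obtain ⟨x, rfl⟩ := hβΓs g
  rw [MonoidHom.comp_apply, MonoidHom.comp_apply, hρ, hβΓ', hρ₁, map_mul, map_inv, hρ₀]
  have h3 : QuotientGroup.mk' (Subgroup.center (GL (Fin n) ℂ))
      ((lam x : Subgroup.center (GL (Fin n) ℂ)) : GL (Fin n) ℂ) = 1 :=
    (QuotientGroup.eq_one_iff _).2 (lam x).2
  rw [h3, inv_one, mul_one]

/-- A monomial representation of a finite group in which a given central subgroup acts by
scalars and a given nontrivial element of it acts nontrivially. -/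
theorem exists_rep_central {Δ : Type*} [Group Δ] [Finite Δ] (K : Subgroup Δ)
    (hK : K ≤ Subgroup.center Δ) (k : Δ) (hk : k ∈ K) (hk1 : k ≠ 1) :
    ∃ (n : ℕ) (ρ : Δ →* GL (Fin n) ℂ),
      (∀ z ∈ K, ρ z ∈ Subgroup.center (GL (Fin n) ℂ)) ∧ ρ k ≠ 1 := by
  classical
  haveI : K.Normal := normal_of_le_center K hK
  letI : CommGroup K :=
    { (inferInstance : Group K) with
      mul_comm := fun a b => Subtype.ext ((Subgroup.mem_center_iff.mp (hK a.2) b.1).symm) }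
  obtain ⟨θ, hθ⟩ := CommGroup.exists_apply_ne_one_of_hasEnoughRootsOfUnity K ℂ
    (a := ⟨k, hk⟩) (by intro h; exact hk1 (congrArg Subtype.val h))
  letI : Fintype (Δ ⧸ K) := Fintype.ofFinite _
  let q : Δ →* Δ ⧸ K := QuotientGroup.mk' K
  let t : Δ ⧸ K → Δ := fun x => x.out
  have ht : ∀ x, q (t x) = x := fun x => QuotientGroup.out_eq' x
  let θ' : Δ → ℂ := fun d => if h : d ∈ K then ((θ ⟨d, h⟩ : ℂˣ) : ℂ) else 0
  have hθ'K : ∀ d (h : d ∈ K), θ' d = ((θ ⟨d, h⟩ : ℂˣ) : ℂ) := fun d h => dif_pos h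
  have hθ'mul : ∀ a b, a ∈ K → b ∈ K → θ' (a * b) = θ' a * θ' b := by
    intro a b ha hb
    rw [hθ'K _ (K.mul_mem ha hb), hθ'K _ ha, hθ'K _ hb, ← Units.val_mul, ← map_mul]
    rfl
  have hzK : ∀ (x : Δ ⧸ K) (g : Δ), t x * g * (t (x * q g))⁻¹ ∈ K := by
    intro x g
    rw [← QuotientGroup.eq_one_iff]
    show q (t x * g * (t (x * q g))⁻¹) = 1
    rw [map_mul, map_mul, map_inv, ht, ht, mul_inv_cancel]
  let A : Δ → Matrix (Δ ⧸ K) (Δ ⧸ K) ℂ := fun g x y =>
    if y = x * q g then θ' (t x * g * (t y)⁻¹) else 0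
  have hA : ∀ g x y, A g x y = if y = x * q g then θ' (t x * g * (t y)⁻¹) else 0 :=
    fun g x y => rfl
  have hA1 : A 1 = 1 := by
    ext x y
    rw [hA, map_one, mul_one, Matrix.one_apply]
    by_cases hxy : x = y
    · subst hxy
      rw [if_pos rfl, if_pos rfl, mul_one, mul_inv_cancel, hθ'K 1 K.one_mem]
      have : (⟨1, K.one_mem⟩ : K) = 1 := rfl
      rw [this, map_one]; rfl
    · rw [if_neg (fun h => hxy h.symm), if_neg hxy]
  have hAmul : ∀ g h, A (g * h) = A g * A h := by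
    intro g h
    ext x y
    rw [Matrix.mul_apply, Finset.sum_eq_single (x * q g)]
    · rw [hA, hA, hA, if_pos rfl, map_mul, ← mul_assoc]
      by_cases hy : y = x * q g * q h
      · rw [if_pos hy, if_pos hy]
        have h1 := hzK x g
        have h2 : t (x * q g) * h * (t y)⁻¹ ∈ K := by rw [hy]; exact hzK (x * q g) h
        rw [← hθ'mul _ _ h1 h2]
        congr 1
        group
      · rw [if_neg hy, if_neg hy, mul_zero]
    · intro w _ hw
      rw [hA, if_neg hw, zero_mul]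
    · intro h; exact absurd (Finset.mem_univ _) h
  let Ahom : Δ →* Matrix (Δ ⧸ K) (Δ ⧸ K) ℂ :=
    { toFun := A, map_one' := hA1, map_mul' := hAmul }
  have hAK : ∀ z (hz : z ∈ K), A z = ((θ ⟨z, hz⟩ : ℂˣ) : ℂ) • (1 : Matrix (Δ ⧸ K) (Δ ⧸ K) ℂ) := by
    intro z hz
    have hqz : q z = 1 := (QuotientGroup.eq_one_iff z).2 hz
    ext x y
    rw [hA, hqz, mul_one, Matrix.smul_apply, Matrix.one_apply, smul_eq_mul]
    by_cases hxy : x = y
    · subst hxy
      rw [if_pos rfl, if_pos rfl, mul_one]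
      have hc : t x * z * (t x)⁻¹ = z := by
        rw [Subgroup.mem_center_iff.mp (hK hz) (t x), mul_inv_cancel_right]
      rw [hc, hθ'K z hz]
    · rw [if_neg (fun h => hxy h.symm), if_neg hxy, mul_zero]
  let e : (Δ ⧸ K) ≃ Fin (Fintype.card (Δ ⧸ K)) := Fintype.equivFin _
  let E : Matrix (Δ ⧸ K) (Δ ⧸ K) ℂ ≃ₐ[ℂ]
      Matrix (Fin (Fintype.card (Δ ⧸ K))) (Fin (Fintype.card (Δ ⧸ K))) ℂ :=
    Matrix.reindexAlgEquiv ℂ ℂ e
  let A' : Δ →* Matrix (Fin (Fintype.card (Δ ⧸ K))) (Fin (Fintype.card (Δ ⧸ K))) ℂ :=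
    E.toMulEquiv.toMonoidHom.comp Ahom
  have hA'K : ∀ z (hz : z ∈ K), A' z = ((θ ⟨z, hz⟩ : ℂˣ) : ℂ) •
      (1 : Matrix (Fin (Fintype.card (Δ ⧸ K))) (Fin (Fintype.card (Δ ⧸ K))) ℂ) := by
    intro z hz
    show E (A z) = _
    rw [hAK z hz, map_smul, map_one]
  have hρval : ∀ g, ((A'.toHomUnits g : GL (Fin (Fintype.card (Δ ⧸ K))) ℂ) :
      Matrix (Fin (Fintype.card (Δ ⧸ K))) (Fin (Fintype.card (Δ ⧸ K))) ℂ) = A' g := fun g => rfl
  refine ⟨Fintype.card (Δ ⧸ K), A'.toHomUnits, ?_, ?_⟩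
  · intro z hz
    rw [Subgroup.mem_center_iff]
    intro u
    apply Units.ext
    rw [Units.val_mul, Units.val_mul, hρval, hA'K z hz, mul_smul_comm, smul_mul_assoc, mul_one,
      one_mul]
  · intro h
    have h1 : A' k = 1 := by rw [← hρval, h]; rfl
    rw [hA'K k hk] at h1
    have hn : 0 < Fintype.card (Δ ⧸ K) := Fintype.card_pos_iff.mpr ⟨(1 : Δ ⧸ K)⟩
    have h2 := congrFun (congrFun h1 ⟨0, hn⟩) ⟨0, hn⟩
    rw [Matrix.smul_apply, Matrix.one_apply_eq, smul_eq_mul, mul_one] at h2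
    exact hθ (Units.ext h2)

/-- If all projective representations of `Q` lift to the stem extension `Γ`, then the kernel is
as large as the multiplier. -/
theorem card_multM_le_of_lifting {Q : Type u} [Group Q] [Finite Q] {Γ : Type v} [Group Γ]
    [Finite Γ] (σ : Γ →* Q) (hσ : Cfsg.IsStemExtension σ)
    (hlift : ∀ (n : ℕ) (γ : Q →* (GL (Fin n) ℂ ⧸ Subgroup.center (GL (Fin n) ℂ))),
      ∃ ρ : Γ →* GL (Fin n) ℂ,
        (QuotientGroup.mk' (Subgroup.center (GL (Fin n) ℂ))).comp ρ = γ.comp σ) :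
    ∃ e : multM (canon Q) ≃* σ.ker, True := by
  classical
  have hψ := canon_surjective Q
  obtain ⟨βΓ, hβΓ⟩ := exists_lift_pres (canon Q) σ hσ.1 hσ.2.1
  have hβΓ' : ∀ x, σ (βΓ x) = phibar (canon Q) x := fun x => DFunLike.congr_fun hβΓ x
  let e : multM (canon Q) →* σ.ker :=
    MonoidHom.codRestrict (βΓ.comp (multM (canon Q)).subtype) σ.ker (fun m => by
      rw [MonoidHom.mem_ker]
      show σ (βΓ m.1) = 1
      rw [hβΓ']; exact (mem_Rbar (canon Q)).1 m.2.1)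
  have he : Function.Surjective e := by
    rintro ⟨k, hk⟩
    obtain ⟨m, hm, rfl⟩ := ker_le_image_multM (canon Q) hψ σ hσ βΓ hβΓ k hk
    exact ⟨⟨m, hm⟩, Subtype.ext rfl⟩
  have hinj : Function.Injective e := by
    rw [injective_iff_map_eq_one]
    intro m hm
    by_contra hm1
    have hβm : βΓ m.1 = 1 := congrArg Subtype.val hm
    have hm1' : (m : Fbar (canon Q)) ≠ 1 := fun h => hm1 (Subtype.ext h)
    -- a Schur cover
    obtain ⟨S, hSN, hS1, hS2⟩ := exists_compl (canon Q) (Rbar (canon Q)) le_rfl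
    obtain ⟨Γc, i1, i2, σc, p, hstemc, -, hp, hσp, hpk⟩ :=
      exists_stem_of_compl (canon Q) hψ S hSN hS1 hS2
    have hσp' : ∀ x, σc (p x) = phibar (canon Q) x := fun x => DFunLike.congr_fun hσp x
    have hpm : p m.1 ≠ 1 := by
      intro h
      have h1 : m.1 ∈ p.ker := h
      rw [hpk] at h1
      have h2 : m.1 ∈ S ⊓ commutator (Fbar (canon Q)) := ⟨h1, m.2.2⟩
      rw [hS1, Subgroup.mem_bot] at h2
      exact hm1' h2
    have hpmK : p m.1 ∈ σc.ker := by
      rw [MonoidHom.mem_ker, hσp']; exact (mem_Rbar (canon Q)).1 m.2.1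
    obtain ⟨n, ρc, hρcK, hρck⟩ := exists_rep_central σc.ker hstemc.2.1 (p m.1) hpmK hpm
    -- the projective representation
    have hkerle : σc.ker ≤
        ((QuotientGroup.mk' (Subgroup.center (GL (Fin n) ℂ))).comp ρc).ker := by
      intro z hz
      rw [MonoidHom.mem_ker, MonoidHom.comp_apply]
      exact (QuotientGroup.eq_one_iff _).2 (hρcK z hz)
    obtain ⟨γ, hγ⟩ := exists_factor σc hstemc.1
      ((QuotientGroup.mk' (Subgroup.center (GL (Fin n) ℂ))).comp ρc) hkerle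
    obtain ⟨ρ, hρ⟩ := hlift n γ
    have hρ' : ∀ g, QuotientGroup.mk' (Subgroup.center (GL (Fin n) ℂ)) (ρ g) = γ (σ g) :=
      fun g => DFunLike.congr_fun hρ g
    -- the difference character
    have hμmem : ∀ x : Fbar (canon Q), ρc (p x) * (ρ (βΓ x))⁻¹
        ∈ Subgroup.center (GL (Fin n) ℂ) := by
      intro x
      rw [← QuotientGroup.eq_one_iff]
      show QuotientGroup.mk' (Subgroup.center (GL (Fin n) ℂ)) (ρc (p x) * (ρ (βΓ x))⁻¹) = 1
      rw [map_mul, map_inv, hρ', hβΓ', ← hσp' x, hγ, MonoidHom.comp_apply, mul_inv_cancel]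
    let μ : Fbar (canon Q) →* Subgroup.center (GL (Fin n) ℂ) :=
      MonoidHom.mk' (fun x => ⟨ρc (p x) * (ρ (βΓ x))⁻¹, hμmem x⟩) (by
        intro a b
        apply Subtype.ext
        have hc := Subgroup.mem_center_iff.mp (hμmem b)
        show ρc (p (a * b)) * (ρ (βΓ (a * b)))⁻¹
          = ρc (p a) * (ρ (βΓ a))⁻¹ * (ρc (p b) * (ρ (βΓ b))⁻¹)
        rw [map_mul, map_mul, map_mul, map_mul, mul_inv_rev]
        calc ρc (p a) * ρc (p b) * ((ρ (βΓ b))⁻¹ * (ρ (βΓ a))⁻¹)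
            = ρc (p a) * ((ρc (p b) * (ρ (βΓ b))⁻¹) * (ρ (βΓ a))⁻¹) := by group
          _ = ρc (p a) * ((ρ (βΓ a))⁻¹ * (ρc (p b) * (ρ (βΓ b))⁻¹)) := by rw [← hc]
          _ = ρc (p a) * (ρ (βΓ a))⁻¹ * (ρc (p b) * (ρ (βΓ b))⁻¹) := by group)
    have hμm : μ m.1 = 1 := by
      have := Abelianization.commutator_subset_ker μ m.2.2
      exact this
    have h3 : ρc (p m.1) * (ρ (βΓ m.1))⁻¹ = 1 := congrArg Subtype.val hμm
    rw [hβm, map_one, inv_one, mul_one] at h3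
    exact hρck h3
  exact ⟨MulEquiv.ofBijective e ⟨hinj, he⟩, trivial⟩

end Cfsg.Agent.Lib.Helper2.SchurMult
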