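import Mathlib
import Cfsg.Prelude.Def_KGroupFacts
import Cfsg.Agent.Lib.Helper2.SchurMultC

set_option autoImplicit false

/-!
Covers as quotients `Fbar / S` with `S` a complement of `multM` in `Rbar`.
-/

namespace Cfsg.Agent.Lib.Helper2.SchurMult

open scoped commutatorElement

universe u v w

section

variable {ι : Type u} {Q : Type u} [Group Q] (ψ : FreeGroup ι →* Q)

theorem abar_surjective : Function.Surjective (abar ψ) := by
  intro y
  obtain ⟨f, rfl⟩ := QuotientGroup.mk_surjective y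
  exact ⟨QuotientGroup.mk f, rfl⟩

/-- `x ^ |Q^ab|` lies in `Rbar * Fbar'` -/
theorem pow_card_ab_mem [Finite Q] (hψ : Function.Surjective ψ) (x : Fbar ψ) :
    ∃ r ∈ Rbar ψ, ∃ c ∈ commutator (Fbar ψ), x ^ Nat.card (Abelianization Q) = r * c := by
  have h1 : (phibar ψ x) ^ Nat.card (Abelianization Q) ∈ commutator Q := by
    rw [← Abelianization.ker_of, MonoidHom.mem_ker, map_pow]
    exact pow_card_eq_one'
  have hmap : (commutator (Fbar ψ)).map (phibar ψ) = commutator Q := by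
    rw [commutator_def, Subgroup.map_commutator,
      Subgroup.map_top_of_surjective _ (phibar_surjective ψ hψ), ← commutator_def]
  rw [← hmap] at h1
  obtain ⟨c, hc, hcx⟩ := Subgroup.mem_map.mp h1
  refine ⟨x ^ Nat.card (Abelianization Q) * c⁻¹, ?_, c, hc, by group⟩
  rw [mem_Rbar, map_mul, map_inv, map_pow, hcx, mul_inv_cancel]

/-- data of a cover: a lift whose kernel is a complement of `multM` in `Rbar` -/
theorem cover_data [Finite Q] (hψ : Function.Surjective ψ) {Γ : Type v} [Group Γ] [Finite Γ]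
    (σ : Γ →* Q) (hσ : Cfsg.IsStemExtension σ)
    (hcard : Nat.card (multM ψ) ≤ Nat.card σ.ker) :
    ∃ β : Fbar ψ →* Γ, σ.comp β = phibar ψ ∧ Function.Surjective β ∧ β.ker ≤ Rbar ψ ∧
      β.ker ⊓ commutator (Fbar ψ) = ⊥ ∧ Rbar ψ ≤ multM ψ ⊔ β.ker ∧
      ∃ lam : Rbar ψ →* multM ψ, ∀ r : Rbar ψ, β ((lam r : multM ψ) : Fbar ψ) = β r := by
  classical
  obtain ⟨β, hβ⟩ := exists_lift_pres ψ σ hσ.1 hσ.2.1
  have hβs := lift_surjective_of_stem ψ hψ σ hσ β hβ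
  have hβ' : ∀ x, σ (β x) = phibar ψ x := fun x => DFunLike.congr_fun hβ x
  have hSR : β.ker ≤ Rbar ψ := by
    intro x hx
    rw [MonoidHom.mem_ker] at hx
    rw [mem_Rbar, ← hβ', hx, map_one]
  haveI := finite_multM ψ hψ
  let e : multM ψ →* σ.ker :=
    MonoidHom.codRestrict (β.comp (multM ψ).subtype) σ.ker (fun m => by
      rw [MonoidHom.mem_ker]
      show σ (β m.1) = 1
      rw [hβ']; exact (mem_Rbar ψ).1 m.2.1)
  have he : Function.Surjective e := by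
    rintro ⟨k, hk⟩
    obtain ⟨m, hm, rfl⟩ := ker_le_image_multM ψ hψ σ hσ β hβ k hk
    exact ⟨⟨m, hm⟩, Subtype.ext rfl⟩
  have hbij : Function.Bijective e := Function.Surjective.bijective_of_nat_card_le he hcard
  let eqv : multM ψ ≃* σ.ker := MulEquiv.ofBijective e hbij
  have heqv : ∀ m : multM ψ, ((eqv m : σ.ker) : Γ) = β m.1 := fun m => rfl
  have hS : β.ker ⊓ commutator (Fbar ψ) = ⊥ := by
    rw [eq_bot_iff]
    rintro x ⟨hx1, hx2⟩
    have hxM : x ∈ multM ψ := ⟨hSR hx1, hx2⟩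
    have h1 : e ⟨x, hxM⟩ = e 1 := by
      apply Subtype.ext
      show β x = β 1
      rw [map_one]; exact hx1
    have h2 := hbij.1 h1
    rw [Subgroup.mem_bot]
    exact congrArg Subtype.val h2
  have hRN : Rbar ψ ≤ multM ψ ⊔ β.ker := by
    intro x hx
    have hk : β x ∈ σ.ker := by rw [MonoidHom.mem_ker, hβ']; exact (mem_Rbar ψ).1 hx
    obtain ⟨m, hm, hmx⟩ := ker_le_image_multM ψ hψ σ hσ β hβ _ hk
    have : x = m * (m⁻¹ * x) := by group
    rw [this]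
    refine Subgroup.mul_mem_sup hm ?_
    rw [MonoidHom.mem_ker, map_mul, map_inv, hmx, inv_mul_cancel]
  refine ⟨β, hβ, hβs, hSR, hS, hRN, ?_⟩
  let βR : Rbar ψ →* σ.ker :=
    MonoidHom.codRestrict (β.comp (Rbar ψ).subtype) σ.ker (fun r => by
      rw [MonoidHom.mem_ker]
      show σ (β r.1) = 1
      rw [hβ']; exact (mem_Rbar ψ).1 r.2)
  refine ⟨eqv.symm.toMonoidHom.comp βR, ?_⟩
  intro r
  show β ((eqv.symm (βR r) : multM ψ) : Fbar ψ) = β r
  rw [← heqv, eqv.apply_symm_apply]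
  rfl


/-- `x ^ n` lies in `Rbar * Fbar'` as soon as `(phibar x) ^ n` is a product of commutators -/
theorem pow_mem_of_comm (hψ : Function.Surjective ψ) (x : Fbar ψ) (n : ℕ)
    (h1 : (phibar ψ x) ^ n ∈ commutator Q) :
    ∃ r ∈ Rbar ψ, ∃ c ∈ commutator (Fbar ψ), x ^ n = r * c := by
  have hmap : (commutator (Fbar ψ)).map (phibar ψ) = commutator Q := by
    rw [commutator_def, Subgroup.map_commutator,
      Subgroup.map_top_of_surjective _ (phibar_surjective ψ hψ), ← commutator_def]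
  rw [← hmap] at h1
  obtain ⟨c, hc, hcx⟩ := Subgroup.mem_map.mp h1
  refine ⟨x ^ n * c⁻¹, ?_, c, hc, by group⟩
  rw [mem_Rbar, map_mul, map_inv, map_pow, hcx, mul_inv_cancel]

end

theorem free_ab_torsion_free_aux {ι : Type*} (Y : FreeAbelianGroup ι) (n : ℕ) (hn : n ≠ 0)
    (h0 : n • Y = 0) : Y = 0 := by
  classical
  let e := FreeAbelianGroup.equivFinsupp ι
  have h1 : n • (e Y) = 0 := by
    rw [← map_nsmul, h0, map_zero]
  have h2 : e Y = 0 := by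
    ext i
    have h3 := DFunLike.congr_fun h1 i
    rw [Finsupp.smul_apply, Finsupp.zero_apply, nsmul_eq_mul] at h3
    rcases mul_eq_zero.mp h3 with h4 | h4
    · exact absurd (by exact_mod_cast h4) hn
    · exact h4
  exact e.injective (by rw [h2, map_zero])

theorem free_ab_torsion_free {ι : Type*} (y : Abelianization (FreeGroup ι)) (n : ℕ) (hn : n ≠ 0)
    (h : y ^ n = 1) : y = 1 := by
  have h0 : n • (Additive.ofMul y : Additive (Abelianization (FreeGroup ι))) = 0 := by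
    rw [← ofMul_pow, h]; rfl
  exact free_ab_torsion_free_aux (ι := ι) (Additive.ofMul y) n hn h0

theorem exists_not_pow {M : Type*} [CommGroup M] [Finite M] (p : ℕ) [Fact p.Prime]
    (hp : p ∣ Nat.card M) : ∃ m : M, ∀ n : M, n ^ p ≠ m := by
  obtain ⟨u, hu⟩ := exists_prime_orderOf_dvd_card' p hp
  by_contra hcon
  push_neg at hcon
  have hsurj : Function.Surjective (fun n : M => n ^ p) := hcon
  have hinj := Finite.injective_iff_surjective.mpr hsurj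
  have h1 : (fun n : M => n ^ p) u = (fun n : M => n ^ p) 1 := by
    show u ^ p = 1 ^ p
    rw [one_pow, ← hu, pow_orderOf_eq_one]
  have h2 : u = 1 := hinj h1
  rw [h2, orderOf_one] at hu
  exact (Fact.out : p.Prime).one_lt.ne hu

theorem not_pow_of_zpow {M : Type*} [CommGroup M] (p : ℕ) (hp : p.Prime) (m : M)
    (hm : ∀ n : M, n ^ p ≠ m) (k : ℤ) (hk : ¬ (p : ℤ) ∣ k) : ∀ n : M, n ^ p ≠ m ^ k := by
  intro n hn
  have hcop : IsCoprime (p : ℤ) k :=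
    (Nat.prime_iff_prime_int.mp hp).irreducible.coprime_iff_not_dvd.mpr hk
  obtain ⟨u, v, huv⟩ := hcop
  apply hm (m ^ u * n ^ v)
  calc (m ^ u * n ^ v) ^ p = (m ^ u) ^ p * (n ^ v) ^ p := mul_pow _ _ _
    _ = m ^ (u * p) * (n ^ p) ^ v := by
        rw [← zpow_natCast (m ^ u) p, ← zpow_mul, ← zpow_natCast (n ^ v) p, ← zpow_mul,
          zpow_mul' n v p, zpow_natCast]
    _ = m ^ (u * p) * m ^ (v * k) := by rw [hn, ← zpow_mul, mul_comm k v]
    _ = m := by rw [← zpow_add, huv, zpow_one]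

theorem exists_hom_not_dvd {ι : Type*} [Finite ι] {N : Type*} [CommGroup N]
    (f : N →* Abelianization (FreeGroup ι)) (hf : Function.Injective f)
    {M : Type*} [CommGroup M] (p : ℕ) (n₀ : N) (hn₀ : ∀ n : N, n ^ p ≠ n₀) (m : M) :
    ∃ (δ : N →* M) (k : ℤ), δ n₀ = m ^ k ∧ ¬ (p : ℤ) ∣ k := by
  classical
  haveI : Module.Finite ℤ (FreeAbelianGroup ι) :=
    Module.Finite.of_basis
      (⟨(FreeAbelianGroup.equivFinsupp ι).toIntLinearEquiv⟩ : Module.Basis ι ℤ (FreeAbelianGroup ι))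
  let fa : Additive N →ₗ[ℤ] FreeAbelianGroup ι := (MonoidHom.toAdditive f).toIntLinearMap
  have hfa : Function.Injective fa := by
    intro x y h
    have h' : f (Additive.toMul x) = f (Additive.toMul y) := h
    exact hf h'
  haveI : Module.Free ℤ (LinearMap.range fa) := inferInstance
  haveI : Module.Free ℤ (Additive N) :=
    Module.Free.of_equiv (LinearEquiv.ofInjective fa hfa).symm
  let b := Module.Free.chooseBasis ℤ (Additive N)
  by_cases hall : ∀ i, (p : ℤ) ∣ b.repr (Additive.ofMul n₀) i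
  · exfalso
    let v : (Module.Free.ChooseBasisIndex ℤ (Additive N)) →₀ ℤ :=
      Finsupp.mapRange (fun a => a / (p : ℤ)) (by simp) (b.repr (Additive.ofMul n₀))
    have hv : (p : ℤ) • v = b.repr (Additive.ofMul n₀) := by
      ext i
      simp only [v, Finsupp.smul_apply, Finsupp.mapRange_apply, smul_eq_mul]
      exact Int.mul_ediv_cancel' (hall i)
    apply hn₀ (Additive.toMul (b.repr.symm v))
    have h1 : (p : ℤ) • b.repr.symm v = Additive.ofMul n₀ := by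
      rw [← map_smul, hv, LinearEquiv.symm_apply_apply]
    have h2 := congrArg Additive.toMul h1
    rw [toMul_zsmul, zpow_natCast] at h2
    exact h2
  · push_neg at hall
    obtain ⟨i, hi⟩ := hall
    let δ : N →* M := MonoidHom.mk' (fun n => m ^ (b.repr (Additive.ofMul n) i)) (fun a c => by
      show m ^ (b.repr (Additive.ofMul (a * c)) i) = _
      rw [ofMul_mul, map_add, Finsupp.add_apply, zpow_add])
    exact ⟨δ, b.repr (Additive.ofMul n₀) i, rfl, hi⟩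

section

variable {ι : Type u} {Q : Type u} [Group Q] (ψ : FreeGroup ι →* Q)

/-- coprimality forces uniqueness of the cover over `Q` -/
theorem unique_of_coprime [Finite Q] (hψ : Function.Surjective ψ)
    (hcop : Nat.Coprime (Nat.card (Abelianization Q)) (Nat.card (multM ψ)))
    {Γ₁ Γ₂ : Type v} [Group Γ₁] [Finite Γ₁] [Group Γ₂] [Finite Γ₂] (σ₁ : Γ₁ →* Q) (σ₂ : Γ₂ →* Q)
    (h₁ : Cfsg.IsStemExtension σ₁) (h₂ : Cfsg.IsStemExtension σ₂)
    (hc₁ : Nat.card (multM ψ) = Nat.card σ₁.ker) (hc₂ : Nat.card (multM ψ) = Nat.card σ₂.ker) :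
    ∃ e : Γ₁ ≃* Γ₂, σ₂.comp e.toMonoidHom = σ₁ := by
  classical
  obtain ⟨β₁, hβ₁, hβ₁s, hS₁R, hS₁c, hR₁, -⟩ := cover_data ψ hψ σ₁ h₁ hc₁.le
  obtain ⟨β₂, hβ₂, hβ₂s, hS₂R, hS₂c, hR₂, lam, hlam⟩ := cover_data ψ hψ σ₂ h₂ hc₂.le
  have hβ₁' : ∀ x, σ₁ (β₁ x) = phibar ψ x := fun x => DFunLike.congr_fun hβ₁ x
  have hβ₂' : ∀ x, σ₂ (β₂ x) = phibar ψ x := fun x => DFunLike.congr_fun hβ₂ x
  obtain ⟨q, hq⟩ : ∃ q, q = Nat.card (Abelianization Q) := ⟨_, rfl⟩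
  obtain ⟨a, ha⟩ : ∃ a, a = Nat.card (multM ψ) := ⟨_, rfl⟩
  rw [← hq, ← ha] at hcop
  have ham : ∀ m : multM ψ, m ^ a = 1 := by
    intro m; rw [ha]; exact pow_card_eq_one'
  let j : β₁.ker →* Abelianization (FreeGroup ι) := (abar ψ).comp β₁.ker.subtype
  have hj : Function.Injective j := by
    rw [injective_iff_map_eq_one]
    intro s hs
    have h1 : (s : Fbar ψ) ∈ β₁.ker ⊓ commutator (Fbar ψ) :=
      ⟨s.2, by rw [← ker_abar]; exact hs⟩
    rw [hS₁c, Subgroup.mem_bot] at h1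
    exact Subtype.ext h1
  let j' : β₁.ker ≃* j.range := MonoidHom.ofInjective hj
  have hpowmem : ∀ y : Abelianization (FreeGroup ι), y ^ q ∈ j.range := by
    intro y
    obtain ⟨x, rfl⟩ := abar_surjective ψ y
    obtain ⟨r, hr, c, hc, hxq⟩ := pow_card_ab_mem ψ hψ x
    rw [← hq] at hxq
    obtain ⟨m, hm, s, hs, rfl⟩ := Subgroup.mem_sup_of_normal_right.mp (hR₁ hr)
    refine ⟨⟨s, hs⟩, ?_⟩
    show abar ψ s = (abar ψ x) ^ q
    rw [← map_pow, hxq, map_mul, map_mul]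
    have e1 : abar ψ m = 1 := by rw [← MonoidHom.mem_ker, ker_abar]; exact hm.2
    have e2 : abar ψ c = 1 := by rw [← MonoidHom.mem_ker, ker_abar]; exact hc
    rw [e1, e2, one_mul, mul_one]
  let pq : Abelianization (FreeGroup ι) →* j.range :=
    MonoidHom.codRestrict (powMonoidHom q) j.range hpowmem
  let lamS : β₁.ker →* multM ψ := lam.comp (Subgroup.inclusion hS₁R)
  obtain ⟨t, t', hbez⟩ : ∃ t t' : ℤ, (q : ℤ) * t + (a : ℤ) * t' = 1 :=
    ⟨Nat.gcdA q a, Nat.gcdB q a, by rw [← Nat.gcd_eq_gcd_ab, hcop.gcd_eq_one, Nat.cast_one]⟩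
  have hpow : ∀ m : multM ψ, (m ^ q) ^ (-t) = m⁻¹ := by
    intro m
    have h2 : m ^ ((q : ℤ) * t + (a : ℤ) * t') = m := by rw [hbez, zpow_one]
    rw [zpow_add, zpow_mul, zpow_mul, zpow_natCast, zpow_natCast, ham m, one_zpow, mul_one] at h2
    rw [zpow_neg, h2]
  let dt₀ : Abelianization (FreeGroup ι) →* multM ψ :=
    (zpowGroupHom (-t)).comp (lamS.comp (j'.symm.toMonoidHom.comp pq))
  let dt : Fbar ψ →* multM ψ := dt₀.comp (abar ψ)
  have hdt : ∀ s : β₁.ker, dt s.1 = (lamS s)⁻¹ := by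
    intro s
    have h1 : pq (abar ψ s.1) = j' (s ^ q) := by
      apply Subtype.ext
      show (abar ψ s.1) ^ q = abar ψ ((s ^ q : β₁.ker) : Fbar ψ)
      rw [Subgroup.coe_pow, map_pow]
    show (zpowGroupHom (-t)) (lamS (j'.symm (pq (abar ψ s.1)))) = (lamS s)⁻¹
    rw [h1, MulEquiv.symm_apply_apply, map_pow, zpowGroupHom_apply, hpow]
  let α : Fbar ψ →* Fbar ψ := MonoidHom.mk' (fun x => x * (dt x).1) (by
    intro x y
    show x * y * (dt (x * y)).1 = x * (dt x).1 * (y * (dt y).1)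
    rw [map_mul]
    have hc := Subgroup.mem_center_iff.mp (Rbar_le_center ψ (dt x).2.1) y
    show x * y * ((dt x).1 * (dt y).1) = _
    calc x * y * ((dt x).1 * (dt y).1) = x * (y * (dt x).1) * (dt y).1 := by group
      _ = x * ((dt x).1 * y) * (dt y).1 := by rw [hc]
      _ = _ := by group)
  have hα : ∀ x, α x = x * (dt x).1 := fun x => rfl
  have hφα : ∀ x, phibar ψ (α x) = phibar ψ x := by
    intro x
    rw [hα, map_mul, (mem_Rbar ψ).1 (dt x).2.1, mul_one]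
  let g : Fbar ψ →* Γ₂ := β₂.comp α
  have hg : σ₂.comp g = phibar ψ := by
    apply MonoidHom.ext; intro x
    show σ₂ (β₂ (α x)) = _
    rw [hβ₂', hφα]
  have hgs : Function.Surjective g := lift_surjective_of_stem ψ hψ σ₂ h₂ g hg
  have hker : β₁.ker ≤ g.ker := by
    intro s hs
    rw [MonoidHom.mem_ker]
    show β₂ (α s) = 1
    have h0 : dt s = (lamS ⟨s, hs⟩)⁻¹ := hdt ⟨s, hs⟩
    have h1 : β₂ ((lamS ⟨s, hs⟩ : multM ψ) : Fbar ψ) = β₂ s := hlam ⟨s, hS₁R hs⟩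
    rw [hα, map_mul, h0]
    show β₂ s * β₂ (((lamS ⟨s, hs⟩ : multM ψ) : Fbar ψ))⁻¹ = 1
    rw [map_inv, h1, mul_inv_cancel]
  obtain ⟨e₀, he₀⟩ := exists_factor β₁ hβ₁s g hker
  have he₀s : Function.Surjective e₀ := by
    intro y
    obtain ⟨x, rfl⟩ := hgs y
    exact ⟨β₁ x, he₀ x⟩
  have hσe : ∀ y, σ₂ (e₀ y) = σ₁ y := by
    intro y
    obtain ⟨x, rfl⟩ := hβ₁s y
    rw [he₀, hβ₁']
    exact DFunLike.congr_fun hg x
  have hcard : Nat.card Γ₁ ≤ Nat.card Γ₂ := by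
    rw [← Subgroup.card_mul_index σ₁.ker, ← Subgroup.card_mul_index σ₂.ker, Subgroup.index_ker,
      Subgroup.index_ker, MonoidHom.range_eq_top_of_surjective σ₁ h₁.1,
      MonoidHom.range_eq_top_of_surjective σ₂ h₂.1, ← hc₁, ← hc₂]
  have hbij := Function.Surjective.bijective_of_nat_card_le he₀s hcard
  refine ⟨MulEquiv.ofBijective e₀ hbij, ?_⟩
  apply MonoidHom.ext
  intro y
  exact hσe y

/-- a common prime divisor gives two covers that are not isomorphic over `Q` -/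
theorem not_unique_of_not_coprime [Finite ι] [Finite Q] (hψ : Function.Surjective ψ)
    (p : ℕ) (hp : p.Prime) (hpq : p ∣ Nat.card (Abelianization Q))
    (hpa : p ∣ Nat.card (multM ψ)) :
    ∃ (Γ₁ Γ₂ : Type u) (_ : Group Γ₁) (_ : Finite Γ₁) (_ : Group Γ₂) (_ : Finite Γ₂)
      (σ₁ : Γ₁ →* Q) (σ₂ : Γ₂ →* Q),
      Cfsg.IsStemExtension σ₁ ∧ Cfsg.IsStemExtension σ₂ ∧ Nonempty (σ₁.ker ≃* multM ψ) ∧
      Nonempty (σ₂.ker ≃* multM ψ) ∧ ¬ ∃ e : Γ₁ ≃* Γ₂, σ₂.comp e.toMonoidHom = σ₁ := by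
  classical
  haveI : Fact p.Prime := ⟨hp⟩
  haveI hfinM := finite_multM ψ hψ
  obtain ⟨S₁, hS₁R, hS₁c, hS₁s⟩ := exists_compl ψ (Rbar ψ) le_rfl
  obtain ⟨Γ₁, i1, i2, σ₁, p₁, hσ₁, hk₁, hp₁s, hσp₁, hp₁k⟩ :=
    exists_stem_of_compl ψ hψ S₁ hS₁R hS₁c hS₁s
  haveI hS₁n : S₁.Normal := normal_of_le_center S₁ (hS₁R.trans (Rbar_le_center ψ))
  obtain ⟨w, hw⟩ := exists_prime_orderOf_dvd_card' p hpq
  obtain ⟨z, hz⟩ : ∃ z, Abelianization.of z = w := QuotientGroup.mk_surjective w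
  obtain ⟨x, hx⟩ := phibar_surjective ψ hψ z
  have hzp : (phibar ψ x) ^ p ∈ commutator Q := by
    rw [← Abelianization.ker_of, MonoidHom.mem_ker, map_pow, hx, hz, ← hw, pow_orderOf_eq_one]
  obtain ⟨r, hr, c₀, hc₀, hxp⟩ := pow_mem_of_comm ψ hψ x p hzp
  obtain ⟨m₀, hm₀, s₀, hs₀, rfl⟩ := Subgroup.mem_sup_of_normal_right.mp (hS₁s hr)
  letI : CommGroup S₁ :=
    { (inferInstance : Group S₁) with
      mul_comm := fun a b => Subtype.ext
        ((Subgroup.mem_center_iff.mp (Rbar_le_center ψ (hS₁R a.2)) b.1).symm) }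
  have hmapc : (commutator (Fbar ψ)).map (phibar ψ) ≤ commutator Q := by
    rw [commutator_def, Subgroup.map_commutator, commutator_def]
    exact Subgroup.commutator_mono le_top le_top
  have hs₀np : ∀ n : S₁, n ^ p ≠ ⟨s₀, hs₀⟩ := by
    intro n hn
    have hn' : (n : Fbar ψ) ^ p = s₀ := congrArg Subtype.val hn
    have e1 : abar ψ m₀ = 1 := by rw [← MonoidHom.mem_ker, ker_abar]; exact hm₀.2
    have e2 : abar ψ c₀ = 1 := by rw [← MonoidHom.mem_ker, ker_abar]; exact hc₀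
    have h1 : (abar ψ x * (abar ψ n.1)⁻¹) ^ p = 1 := by
      rw [mul_pow, inv_pow, ← map_pow, ← map_pow, hxp, hn', map_mul, map_mul, e1, e2, one_mul,
        mul_one, mul_inv_cancel]
    have h2 := free_ab_torsion_free _ p hp.ne_zero h1
    have h3 : x * (n.1)⁻¹ ∈ commutator (Fbar ψ) := by
      rw [← ker_abar, MonoidHom.mem_ker, map_mul, map_inv]; exact h2
    have h4 : phibar ψ (x * n.1⁻¹) ∈ commutator Q := hmapc (Subgroup.mem_map_of_mem _ h3)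
    rw [map_mul, map_inv, (mem_Rbar ψ).1 (hS₁R n.2), inv_one, mul_one, hx,
      ← Abelianization.ker_of, MonoidHom.mem_ker, hz] at h4
    rw [h4, orderOf_one] at hw
    exact hp.one_lt.ne hw
  obtain ⟨mstar, hmstar⟩ := exists_not_pow (M := multM ψ) p hpa
  let j : S₁ →* Abelianization (FreeGroup ι) := (abar ψ).comp S₁.subtype
  have hj : Function.Injective j := by
    rw [injective_iff_map_eq_one]
    intro s hs
    have h1 : (s : Fbar ψ) ∈ S₁ ⊓ commutator (Fbar ψ) :=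
      ⟨s.2, by rw [← ker_abar]; exact hs⟩
    rw [hS₁c, Subgroup.mem_bot] at h1
    exact Subtype.ext h1
  obtain ⟨δ, k, hδk, hkp⟩ := exists_hom_not_dvd j hj p ⟨s₀, hs₀⟩ hs₀np mstar
  have hδnp : ∀ n : multM ψ, n ^ p ≠ δ ⟨s₀, hs₀⟩ := by
    rw [hδk]; exact not_pow_of_zpow p hp mstar hmstar k hkp
  let gr : S₁ →* Fbar ψ := MonoidHom.mk' (fun s => s.1 * (δ s).1) (by
    intro a b
    show (a * b : S₁).1 * (δ (a * b)).1 = a.1 * (δ a).1 * (b.1 * (δ b).1)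
    rw [map_mul]
    have hc := Subgroup.mem_center_iff.mp (Rbar_le_center ψ (δ a).2.1) b.1
    show a.1 * b.1 * ((δ a).1 * (δ b).1) = _
    calc a.1 * b.1 * ((δ a).1 * (δ b).1) = a.1 * (b.1 * (δ a).1) * (δ b).1 := by group
      _ = a.1 * ((δ a).1 * b.1) * (δ b).1 := by rw [hc]
      _ = _ := by group)
  have hgr : ∀ s : S₁, gr s = s.1 * (δ s).1 := fun s => rfl
  have hS₂R : gr.range ≤ Rbar ψ := by
    rintro _ ⟨s, rfl⟩
    rw [hgr]
    exact Subgroup.mul_mem _ (hS₁R s.2) (δ s).2.1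
  have hS₂c : gr.range ⊓ commutator (Fbar ψ) = ⊥ := by
    rw [eq_bot_iff]
    rintro _ ⟨⟨s, rfl⟩, h2⟩
    have h2' : s.1 * (δ s).1 ∈ commutator (Fbar ψ) := h2
    have h3 : s.1 ∈ commutator (Fbar ψ) := by
      have h3' := Subgroup.mul_mem _ h2' (Subgroup.inv_mem _ (δ s).2.2)
      rwa [mul_inv_cancel_right] at h3'
    have h4 : s.1 ∈ S₁ ⊓ commutator (Fbar ψ) := ⟨s.2, h3⟩
    rw [hS₁c, Subgroup.mem_bot] at h4
    have h5 : s = 1 := Subtype.ext h4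
    rw [Subgroup.mem_bot, h5, map_one]
  have hS₂s : Rbar ψ ≤ multM ψ ⊔ gr.range := by
    intro r hr
    obtain ⟨m, hm, s, hs, rfl⟩ := Subgroup.mem_sup_of_normal_right.mp (hS₁s hr)
    have hc := Subgroup.mem_center_iff.mp (Rbar_le_center ψ (δ ⟨s, hs⟩).2.1) s
    have hdec : m * s = (m * ((δ ⟨s, hs⟩).1)⁻¹) * (s * (δ ⟨s, hs⟩).1) := by
      calc m * s = m * ((δ ⟨s, hs⟩).1)⁻¹ * ((δ ⟨s, hs⟩).1 * s) := by group
        _ = _ := by rw [← hc]
    rw [hdec]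
    have hmem1 : m * ((δ ⟨s, hs⟩).1)⁻¹ ∈ multM ψ :=
      Subgroup.mul_mem _ hm (Subgroup.inv_mem _ (δ ⟨s, hs⟩).2)
    have hmem2 : s * (δ ⟨s, hs⟩).1 ∈ gr.range := MonoidHom.mem_range.2 ⟨⟨s, hs⟩, rfl⟩
    exact Subgroup.mul_mem_sup hmem1 hmem2
  obtain ⟨Γ₂, i3, i4, σ₂, p₂, hσ₂, hk₂, hp₂s, hσp₂, hp₂k⟩ :=
    exists_stem_of_compl ψ hψ gr.range hS₂R hS₂c hS₂s
  refine ⟨Γ₁, Γ₂, i1, i2, i3, i4, σ₁, σ₂, hσ₁, hσ₂, hk₁, hk₂, ?_⟩
  rintro ⟨e, he⟩
  have he' : ∀ y, σ₂ (e y) = σ₁ y := fun y => DFunLike.congr_fun he y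
  have hσp₁' : ∀ y, σ₁ (p₁ y) = phibar ψ y := fun y => DFunLike.congr_fun hσp₁ y
  have hσp₂' : ∀ y, σ₂ (p₂ y) = phibar ψ y := fun y => DFunLike.congr_fun hσp₂ y
  have hκmem : ∀ y, (p₂ y)⁻¹ * e (p₁ y) ∈ σ₂.ker := by
    intro y
    rw [MonoidHom.mem_ker, map_mul, map_inv, he', hσp₁', hσp₂', inv_mul_cancel]
  let κ : Fbar ψ →* Γ₂ := MonoidHom.mk' (fun y => (p₂ y)⁻¹ * e (p₁ y)) (by
    intro a b
    show (p₂ (a * b))⁻¹ * e (p₁ (a * b)) = (p₂ a)⁻¹ * e (p₁ a) * ((p₂ b)⁻¹ * e (p₁ b))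
    have hc := Subgroup.mem_center_iff.mp (hσ₂.2.1 (hκmem a)) (p₂ b)⁻¹
    rw [map_mul, map_mul, map_mul, mul_inv_rev]
    calc (p₂ b)⁻¹ * (p₂ a)⁻¹ * (e (p₁ a) * e (p₁ b))
        = ((p₂ b)⁻¹ * ((p₂ a)⁻¹ * e (p₁ a))) * e (p₁ b) := by group
      _ = (((p₂ a)⁻¹ * e (p₁ a)) * (p₂ b)⁻¹) * e (p₁ b) := by rw [hc]
      _ = _ := by group)
  have hκ : ∀ y, κ y = (p₂ y)⁻¹ * e (p₁ y) := fun y => rfl
  have hκk : ∀ y, κ y ∈ σ₂.ker := fun y => hκmem y
  have hκc : commutator (Fbar ψ) ≤ κ.ker := by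
    rw [commutator_eq_closure, Subgroup.closure_le]
    rintro _ ⟨a, b, rfl⟩
    rw [SetLike.mem_coe, MonoidHom.mem_ker, map_commutatorElement,
      commutatorElement_eq_one_iff_commute]
    exact (Subgroup.mem_center_iff.mp (hσ₂.2.1 (hκk b)) (κ a))
  have h1 : (κ x) ^ p = κ s₀ := by
    rw [← map_pow, hxp, map_mul, map_mul, MonoidHom.mem_ker.mp (hκc hm₀.2),
      MonoidHom.mem_ker.mp (hκc hc₀), one_mul, mul_one]
  have hp₁s₀ : p₁ s₀ = 1 := by rw [← MonoidHom.mem_ker, hp₁k]; exact hs₀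
  have hp₂gr : p₂ (s₀ * (δ ⟨s₀, hs₀⟩).1) = 1 := by
    rw [← MonoidHom.mem_ker, hp₂k]; exact MonoidHom.mem_range.2 ⟨⟨s₀, hs₀⟩, rfl⟩
  have h2 : κ s₀ = p₂ (δ ⟨s₀, hs₀⟩).1 := by
    rw [hκ, hp₁s₀, map_one, mul_one]
    rw [map_mul] at hp₂gr
    exact inv_eq_of_mul_eq_one_right hp₂gr
  obtain ⟨n, hn, hnκ⟩ := ker_le_image_multM ψ hψ σ₂ hσ₂ p₂ hσp₂ (κ x) (hκk x)
  have h3 : p₂ (n ^ p * ((δ ⟨s₀, hs₀⟩).1)⁻¹) = 1 := by
    rw [map_mul, map_inv, map_pow, hnκ, ← h2, ← h1, mul_inv_cancel]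
  have h4 : n ^ p * ((δ ⟨s₀, hs₀⟩).1)⁻¹ ∈ gr.range ⊓ commutator (Fbar ψ) := by
    refine ⟨?_, ?_⟩
    · have : n ^ p * ((δ ⟨s₀, hs₀⟩).1)⁻¹ ∈ p₂.ker := MonoidHom.mem_ker.2 h3
      rw [hp₂k] at this
      exact this
    · exact Subgroup.mul_mem _ (Subgroup.pow_mem _ hn.2 p)
        (Subgroup.inv_mem _ (δ ⟨s₀, hs₀⟩).2.2)
  rw [hS₂c, Subgroup.mem_bot] at h4
  have h5 : (⟨n, hn⟩ : multM ψ) ^ p = δ ⟨s₀, hs₀⟩ := by
    apply Subtype.ext
    show n ^ p = (δ ⟨s₀, hs₀⟩).1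
    exact mul_inv_eq_one.mp h4
  exact hδnp ⟨n, hn⟩ h5

end

end Cfsg.Agent.Lib.Helper2.SchurMult
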