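import Mathlib
import Cfsg.Prelude.Def_KGroupFacts
import Cfsg.Agent.Lib.Helper2.SchurMultC

set_option autoImplicit false

/-!
Tools for the Schur multiplier of a direct product: central commutator pairings and the
twisted product `(Γ₁ × T) ⋊ Γ₂` with `T = Q₁ᵃᵇ ⊗ Q₂ᵃᵇ`.
-/

namespace Cfsg.Agent.Lib.Helper2.SchurMult

open scoped commutatorElement TensorProduct

theorem tensor_finite (M N : Type*) [AddCommGroup M] [AddCommGroup N] [Finite M] [Finite N] :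
    Finite (TensorProduct ℤ M N) := by
  haveI : Module.Finite ℤ M := Module.Finite.of_finite
  haveI : Module.Finite ℤ N := Module.Finite.of_finite
  haveI : Module.Finite ℤ (TensorProduct ℤ M N) := Module.Finite.tensorProduct ℤ M N
  apply Module.finite_of_fg_torsion
  intro t
  have hn : (Nat.card M : ℤ) ≠ 0 := by exact_mod_cast Nat.card_pos.ne'
  refine ⟨⟨(Nat.card M : ℤ), mem_nonZeroDivisors_of_ne_zero hn⟩, ?_⟩
  show (Nat.card M : ℤ) • t = 0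
  induction t using TensorProduct.induction_on with
  | zero => exact smul_zero _
  | tmul m k =>
    rw [TensorProduct.smul_tmul', natCast_zsmul, card_nsmul_eq_zero', TensorProduct.zero_tmul]
  | add a b ha hb => rw [smul_add, ha, hb, add_zero]

theorem map_commutator_le' {G H : Type*} [Group G] [Group H] (f : G →* H) :
    (commutator G).map f ≤ commutator H := by
  rw [commutator_def, Subgroup.map_commutator, commutator_def]
  exact Subgroup.commutator_mono le_top le_top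

theorem comm_mul_left_central {Δ : Type*} [Group Δ] (a b y : Δ)
    (h : ⁅b, y⁆ ∈ Subgroup.center Δ) : ⁅a * b, y⁆ = ⁅a, y⁆ * ⁅b, y⁆ := by
  have h1 : ⁅a * b, y⁆ = a * ⁅b, y⁆ * a⁻¹ * ⁅a, y⁆ := by
    simp only [commutatorElement_def]; group
  have hc := Subgroup.mem_center_iff.mp h a
  rw [h1, hc, mul_inv_cancel_right]
  exact (Subgroup.mem_center_iff.mp h _).symm

theorem comm_mul_right_central {Δ : Type*} [Group Δ] (x a b : Δ)
    (h : ⁅x, b⁆ ∈ Subgroup.center Δ) : ⁅x, a * b⁆ = ⁅x, a⁆ * ⁅x, b⁆ := by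
  have h1 : ⁅x, a * b⁆ = ⁅x, a⁆ * (a * ⁅x, b⁆ * a⁻¹) := by
    simp only [commutatorElement_def]; group
  have hc := Subgroup.mem_center_iff.mp h a
  rw [h1, hc, mul_inv_cancel_right]

open scoped IsMulCommutative in
/-- a central-valued commutator map kills everything trivial in the abelianization -/
theorem comm_eq_one_of_ab {Δ : Type*} [Group Δ] {Q : Type*} [Group Q]
    (H : Subgroup Δ) (θ : H →* Q) (hθ : Function.Surjective θ) (y : Δ)
    (hcen : ∀ x : H, ⁅(x : Δ), y⁆ ∈ Subgroup.center Δ)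
    (hker : ∀ x : H, x ∈ θ.ker → ⁅(x : Δ), y⁆ = 1) (x : H)
    (hx : Abelianization.of (θ x) = 1) : ⁅(x : Δ), y⁆ = 1 := by
  classical
  let f : H →* Subgroup.center Δ := MonoidHom.mk' (fun x => ⟨⁅(x : Δ), y⁆, hcen x⟩) (by
    intro a b
    apply Subtype.ext
    show ⁅((a * b : H) : Δ), y⁆ = ⁅(a : Δ), y⁆ * ⁅(b : Δ), y⁆
    rw [Subgroup.coe_mul]
    exact comm_mul_left_central _ _ _ (hcen b))
  have hfx : ∀ x : H, ((f x : Subgroup.center Δ) : Δ) = ⁅(x : Δ), y⁆ := fun x => rfl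
  have h1 : θ x ∈ commutator Q := by
    rw [← Abelianization.ker_of, MonoidHom.mem_ker]; exact hx
  have hmap : (commutator H).map θ = commutator Q := by
    rw [commutator_def, Subgroup.map_commutator, Subgroup.map_top_of_surjective θ hθ,
      ← commutator_def]
  rw [← hmap] at h1
  obtain ⟨c, hc, hcx⟩ := Subgroup.mem_map.mp h1
  have hk : x * c⁻¹ ∈ θ.ker := by
    rw [MonoidHom.mem_ker, map_mul, map_inv, hcx, mul_inv_cancel]
  have hfc : f c = 1 := Abelianization.commutator_subset_ker f hc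
  have hfk : f (x * c⁻¹) = 1 := Subtype.ext (hker _ hk)
  have h3 : f x = 1 := by
    have : x = (x * c⁻¹) * c := by group
    rw [this, map_mul, hfk, hfc, one_mul]
  have h2 := congrArg Subtype.val h3
  rw [hfx] at h2
  exact h2

/-- a central commutator pairing between two subgroups descends to a tensor product -/
theorem exists_pairing {Δ : Type*} [Group Δ] (Z D₁ D₂ : Subgroup Δ)
    (hZ : Z ≤ Subgroup.center Δ)
    {M₁ M₂ : Type*} [CommGroup M₁] [CommGroup M₂] (α₁ : D₁ →* M₁) (α₂ : D₂ →* M₂)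
    (hα₁ : Function.Surjective α₁) (hα₂ : Function.Surjective α₂)
    (hc : ∀ (x : D₁) (y : D₂), ⁅(x : Δ), (y : Δ)⁆ ∈ Z)
    (h₁ : ∀ x : D₁, α₁ x = 1 → ∀ y : D₂, ⁅(x : Δ), (y : Δ)⁆ = 1)
    (h₂ : ∀ y : D₂, α₂ y = 1 → ∀ x : D₁, ⁅(x : Δ), (y : Δ)⁆ = 1) :
    ∃ g : Multiplicative (TensorProduct ℤ (Additive M₁) (Additive M₂)) →* Δ,
      (∀ t, g t ∈ Z) ∧
      ∀ (x : D₁) (y : D₂), g (Multiplicative.ofAdd
        ((Additive.ofMul (α₁ x)) ⊗ₜ[ℤ] (Additive.ofMul (α₂ y)))) = ⁅(x : Δ), (y : Δ)⁆ := by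
  classical
  letI : CommGroup Z :=
    { (inferInstance : Group Z) with
      mul_comm := fun a b => Subtype.ext ((Subgroup.mem_center_iff.mp (hZ a.2) b.1).symm) }
  have hcen : ∀ (x : D₁) (y : D₂), ⁅(x : Δ), (y : Δ)⁆ ∈ Subgroup.center Δ :=
    fun x y => hZ (hc x y)
  have M1 : ∀ (x x' : D₁) (y : D₂),
      ⁅((x * x' : D₁) : Δ), (y : Δ)⁆ = ⁅(x : Δ), (y : Δ)⁆ * ⁅(x' : Δ), (y : Δ)⁆ :=
    fun x x' y => comm_mul_left_central _ _ _ (hcen x' y)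
  have M2 : ∀ (x : D₁) (y y' : D₂),
      ⁅(x : Δ), ((y * y' : D₂) : Δ)⁆ = ⁅(x : Δ), (y : Δ)⁆ * ⁅(x : Δ), (y' : Δ)⁆ :=
    fun x y y' => comm_mul_right_central _ _ _ (hcen x y')
  have L1 : ∀ (x x' : D₁), α₁ x = α₁ x' → ∀ y : D₂,
      ⁅(x : Δ), (y : Δ)⁆ = ⁅(x' : Δ), (y : Δ)⁆ := by
    intro x x' hxx y
    have h0 : α₁ (x⁻¹ * x') = 1 := by rw [map_mul, map_inv, hxx, inv_mul_cancel]
    have h3 := M1 x (x⁻¹ * x') y
    have e : x * (x⁻¹ * x') = x' := by group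
    rw [e, h₁ _ h0 y, mul_one] at h3
    exact h3.symm
  have L2 : ∀ (y y' : D₂), α₂ y = α₂ y' → ∀ x : D₁,
      ⁅(x : Δ), (y : Δ)⁆ = ⁅(x : Δ), (y' : Δ)⁆ := by
    intro y y' hyy x
    have h0 : α₂ (y⁻¹ * y') = 1 := by rw [map_mul, map_inv, hyy, inv_mul_cancel]
    have h3 := M2 x y (y⁻¹ * y')
    have e : y * (y⁻¹ * y') = y' := by group
    rw [e, h₂ _ h0 x, mul_one] at h3
    exact h3.symm
  let S₁ : M₁ → D₁ := Function.surjInv hα₁
  let S₂ : M₂ → D₂ := Function.surjInv hα₂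
  have hS₁ : ∀ u, α₁ (S₁ u) = u := Function.surjInv_eq hα₁
  have hS₂ : ∀ v, α₂ (S₂ v) = v := Function.surjInv_eq hα₂
  let B : M₁ → M₂ → Z := fun u v => ⟨⁅((S₁ u : D₁) : Δ), ((S₂ v : D₂) : Δ)⁆, hc _ _⟩
  have hB : ∀ (x : D₁) (y : D₂), ((B (α₁ x) (α₂ y) : Z) : Δ) = ⁅(x : Δ), (y : Δ)⁆ := by
    intro x y
    show ⁅((S₁ (α₁ x) : D₁) : Δ), ((S₂ (α₂ y) : D₂) : Δ)⁆ = _
    rw [L1 (S₁ (α₁ x)) x (hS₁ _) (S₂ (α₂ y)), L2 (S₂ (α₂ y)) y (hS₂ _) x]
  have hBmul1 : ∀ u u' v, B (u * u') v = B u v * B u' v := by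
    intro u u' v
    apply Subtype.ext
    have e : α₁ (S₁ (u * u')) = α₁ (S₁ u * S₁ u') := by rw [hS₁, map_mul, hS₁, hS₁]
    show ⁅((S₁ (u * u') : D₁) : Δ), ((S₂ v : D₂) : Δ)⁆
      = ⁅((S₁ u : D₁) : Δ), ((S₂ v : D₂) : Δ)⁆ * ⁅((S₁ u' : D₁) : Δ), ((S₂ v : D₂) : Δ)⁆
    rw [L1 _ _ e (S₂ v), M1]
  have hBmul2 : ∀ u v v', B u (v * v') = B u v * B u v' := by
    intro u v v'
    apply Subtype.ext
    have e : α₂ (S₂ (v * v')) = α₂ (S₂ v * S₂ v') := by rw [hS₂, map_mul, hS₂, hS₂]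
    show ⁅((S₁ u : D₁) : Δ), ((S₂ (v * v') : D₂) : Δ)⁆
      = ⁅((S₁ u : D₁) : Δ), ((S₂ v : D₂) : Δ)⁆ * ⁅((S₁ u : D₁) : Δ), ((S₂ v' : D₂) : Δ)⁆
    rw [L2 _ _ e (S₁ u), M2]
  let F : Additive M₁ →+ Additive M₂ →+ Additive Z :=
    AddMonoidHom.mk' (fun m => AddMonoidHom.mk'
        (fun n => Additive.ofMul (B (Additive.toMul m) (Additive.toMul n)))
        (fun n n' => by
          show Additive.ofMul (B (Additive.toMul m) (Additive.toMul n * Additive.toMul n')) = _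
          rw [hBmul2]; rfl))
      (fun m m' => by
        apply AddMonoidHom.ext
        intro n
        show Additive.ofMul (B (Additive.toMul m * Additive.toMul m') (Additive.toMul n)) = _
        rw [hBmul1]; rfl)
  have hF : ∀ (r : ℤ) (m : Additive M₁) (n : Additive M₂), F (r • m) n = F m (r • n) := by
    intro r m n
    have e1 : F (r • m) n = r • F m n := map_zsmul (F.flip n) r m
    have e2 : F m (r • n) = r • F m n := map_zsmul (F m) r n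
    rw [e1, e2]
  let G₀ : TensorProduct ℤ (Additive M₁) (Additive M₂) →+ Additive Z :=
    TensorProduct.liftAddHom F hF
  refine ⟨Z.subtype.comp (AddMonoidHom.toMultiplicativeLeft G₀),
    fun t => (AddMonoidHom.toMultiplicativeLeft G₀ t).2, ?_⟩
  intro x y
  have h0 : (AddMonoidHom.toMultiplicativeLeft G₀) (Multiplicative.ofAdd
      ((Additive.ofMul (α₁ x)) ⊗ₜ[ℤ] (Additive.ofMul (α₂ y)))) = B (α₁ x) (α₂ y) := rfl
  show ((AddMonoidHom.toMultiplicativeLeft G₀ _ : Z) : Δ) = _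
  rw [h0, hB]

/-! ### the twisted product -/

/-- `Q₁ᵃᵇ ⊗ Q₂ᵃᵇ`, written multiplicatively -/
abbrev TT (Q₁ Q₂ : Type*) [Group Q₁] [Group Q₂] :=
  Multiplicative (TensorProduct ℤ (Additive (Abelianization Q₁)) (Additive (Abelianization Q₂)))

section Twist

variable {Γ₁ Γ₂ Q₁ Q₂ : Type*} [Group Γ₁] [Group Γ₂] [Group Q₁] [Group Q₂]
  (σ₁ : Γ₁ →* Q₁) (σ₂ : Γ₂ →* Q₂)

/-- the pairing `Γ₁ → Γ₂ → T` -/
def tw (x : Γ₁) (y : Γ₂) : TT Q₁ Q₂ :=
  Multiplicative.ofAdd ((Additive.ofMul (Abelianization.of (σ₁ x)))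
    ⊗ₜ[ℤ] (Additive.ofMul (Abelianization.of (σ₂ y))))

theorem tw_mul_left (x x' : Γ₁) (y : Γ₂) :
    tw σ₁ σ₂ (x * x') y = tw σ₁ σ₂ x y * tw σ₁ σ₂ x' y := by
  unfold tw
  rw [map_mul, map_mul, ofMul_mul, TensorProduct.add_tmul, ofAdd_add]

theorem tw_mul_right (x : Γ₁) (y y' : Γ₂) :
    tw σ₁ σ₂ x (y * y') = tw σ₁ σ₂ x y * tw σ₁ σ₂ x y' := by
  unfold tw
  rw [map_mul, map_mul, ofMul_mul, TensorProduct.tmul_add, ofAdd_add]

theorem tw_of_ker_left {x : Γ₁} (hx : σ₁ x = 1) (y : Γ₂) : tw σ₁ σ₂ x y = 1 := by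
  unfold tw
  rw [hx, map_one, ofMul_one, TensorProduct.zero_tmul, ofAdd_zero]

theorem tw_of_ker_right (x : Γ₁) {y : Γ₂} (hy : σ₂ y = 1) : tw σ₁ σ₂ x y = 1 := by
  unfold tw
  rw [hy, map_one, ofMul_one, TensorProduct.tmul_zero, ofAdd_zero]

/-- the automorphism of `Γ₁ × T` attached to `y : Γ₂` -/
def twAut (y : Γ₂) : MulAut (Γ₁ × TT Q₁ Q₂) :=
  { toFun := fun p => (p.1, p.2 * tw σ₁ σ₂ p.1 y)
    invFun := fun p => (p.1, p.2 * (tw σ₁ σ₂ p.1 y)⁻¹)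
    left_inv := fun p => Prod.ext rfl (mul_inv_cancel_right _ _)
    right_inv := fun p => Prod.ext rfl (inv_mul_cancel_right _ _)
    map_mul' := fun p q => by
      apply Prod.ext
      · rfl
      · show p.2 * q.2 * tw σ₁ σ₂ (p.1 * q.1) y
          = p.2 * tw σ₁ σ₂ p.1 y * (q.2 * tw σ₁ σ₂ q.1 y)
        rw [tw_mul_left]
        exact mul_mul_mul_comm _ _ _ _ }

theorem twAut_apply (y : Γ₂) (p : Γ₁ × TT Q₁ Q₂) :
    twAut σ₁ σ₂ y p = (p.1, p.2 * tw σ₁ σ₂ p.1 y) := rfl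

/-- the action of `Γ₂` on `Γ₁ × T` -/
def twHom : Γ₂ →* MulAut (Γ₁ × TT Q₁ Q₂) :=
  MonoidHom.mk' (twAut σ₁ σ₂) (fun y y' => by
    apply MulEquiv.ext
    intro p
    apply Prod.ext
    · rfl
    · show p.2 * tw σ₁ σ₂ p.1 (y * y') = p.2 * tw σ₁ σ₂ p.1 y' * tw σ₁ σ₂ p.1 y
      rw [tw_mul_right, mul_assoc, mul_comm (tw σ₁ σ₂ p.1 y)])

theorem twHom_apply (y : Γ₂) (p : Γ₁ × TT Q₁ Q₂) :
    twHom σ₁ σ₂ y p = (p.1, p.2 * tw σ₁ σ₂ p.1 y) := rfl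

/-- the twisted product -/
abbrev EE := (Γ₁ × TT Q₁ Q₂) ⋊[twHom σ₁ σ₂] Γ₂

theorem EE_mul_left_fst (a b : EE σ₁ σ₂) : (a * b).left.1 = a.left.1 * b.left.1 := rfl

theorem EE_mul_left_snd (a b : EE σ₁ σ₂) :
    (a * b).left.2 = a.left.2 * (b.left.2 * tw σ₁ σ₂ b.left.1 a.right) := rfl

theorem EE_mul_right (a b : EE σ₁ σ₂) : (a * b).right = a.right * b.right := rfl

/-- the projection onto `Q₁ × Q₂` -/
def twProj : EE σ₁ σ₂ →* Q₁ × Q₂ :=
  MonoidHom.mk' (fun e => (σ₁ e.left.1, σ₂ e.right)) (fun a b => by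
    apply Prod.ext
    · show σ₁ (a * b).left.1 = σ₁ a.left.1 * σ₁ b.left.1
      rw [EE_mul_left_fst, map_mul]
    · show σ₂ (a * b).right = σ₂ a.right * σ₂ b.right
      rw [EE_mul_right, map_mul])

theorem twProj_apply (e : EE σ₁ σ₂) : twProj σ₁ σ₂ e = (σ₁ e.left.1, σ₂ e.right) := rfl

theorem mem_ker_twProj (e : EE σ₁ σ₂) :
    e ∈ (twProj σ₁ σ₂).ker ↔ σ₁ e.left.1 = 1 ∧ σ₂ e.right = 1 := by
  rw [MonoidHom.mem_ker, twProj_apply]
  exact Prod.ext_iff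

/-- the three embeddings -/
def iota₁ : Γ₁ →* EE σ₁ σ₂ := SemidirectProduct.inl.comp (MonoidHom.inl Γ₁ (TT Q₁ Q₂))
def iotaT : TT Q₁ Q₂ →* EE σ₁ σ₂ := SemidirectProduct.inl.comp (MonoidHom.inr Γ₁ (TT Q₁ Q₂))
def iota₂ : Γ₂ →* EE σ₁ σ₂ := SemidirectProduct.inr

theorem EE_decomp (e : EE σ₁ σ₂) :
    e = iota₁ σ₁ σ₂ e.left.1 * iotaT σ₁ σ₂ e.left.2 * iota₂ σ₁ σ₂ e.right := by
  have h1 : iota₁ σ₁ σ₂ e.left.1 * iotaT σ₁ σ₂ e.left.2 = SemidirectProduct.inl e.left := by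
    show SemidirectProduct.inl (e.left.1, (1 : TT Q₁ Q₂)) * SemidirectProduct.inl ((1 : Γ₁), e.left.2)
      = SemidirectProduct.inl e.left
    rw [← map_mul]
    congr 1
    exact Prod.ext (mul_one _) (one_mul _)
  rw [h1]
  exact (SemidirectProduct.inl_left_mul_inr_right e).symm

theorem iotaT_tw (x : Γ₁) (y : Γ₂) :
    iotaT σ₁ σ₂ (tw σ₁ σ₂ x y) = ⁅iota₂ σ₁ σ₂ y, iota₁ σ₁ σ₂ x⁆ := by
  have h1 : (SemidirectProduct.inl ((twHom σ₁ σ₂ y) (x, 1)) : EE σ₁ σ₂)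
      = SemidirectProduct.inr y * SemidirectProduct.inl (x, 1) * SemidirectProduct.inr y⁻¹ :=
    SemidirectProduct.inl_aut y (x, 1)
  have h2 : (twHom σ₁ σ₂ y) ((x, 1) : Γ₁ × TT Q₁ Q₂) = ((1 : Γ₁), tw σ₁ σ₂ x y) * (x, 1) := by
    apply Prod.ext
    · show x = 1 * x
      rw [one_mul]
    · show 1 * tw σ₁ σ₂ x y = tw σ₁ σ₂ x y * 1
      rw [one_mul, mul_one]
  rw [h2, map_mul] at h1
  rw [commutatorElement_def]
  show SemidirectProduct.inl ((1 : Γ₁), tw σ₁ σ₂ x y)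
    = SemidirectProduct.inr y * SemidirectProduct.inl (x, 1) * (SemidirectProduct.inr y)⁻¹
      * (SemidirectProduct.inl (x, 1))⁻¹
  rw [← map_inv (SemidirectProduct.inr : Γ₂ →* EE σ₁ σ₂) y, ← h1, mul_inv_cancel_right]

theorem exists_rep_ab {Γ Q : Type*} [Group Γ] [Group Q] (σ : Γ →* Q) (hσ : Function.Surjective σ)
    (u : Additive (Abelianization Q)) :
    ∃ x : Γ, Additive.ofMul (Abelianization.of (σ x)) = u := by
  obtain ⟨q, hq⟩ : ∃ q, Abelianization.of q = Additive.toMul u :=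
    QuotientGroup.mk_surjective (Additive.toMul u)
  obtain ⟨x, rfl⟩ := hσ q
  exact ⟨x, by rw [hq]; rfl⟩

theorem iotaT_mem_commutator (hσ₁ : Function.Surjective σ₁) (hσ₂ : Function.Surjective σ₂)
    (t : TT Q₁ Q₂) : iotaT σ₁ σ₂ t ∈ commutator (EE σ₁ σ₂) := by
  obtain ⟨t, rfl⟩ := Multiplicative.ofAdd.surjective t
  induction t using TensorProduct.induction_on with
  | zero => rw [ofAdd_zero, map_one]; exact Subgroup.one_mem _
  | tmul u v =>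
    obtain ⟨x, rfl⟩ := exists_rep_ab σ₁ hσ₁ u
    obtain ⟨y, rfl⟩ := exists_rep_ab σ₂ hσ₂ v
    have h := iotaT_tw σ₁ σ₂ x y
    unfold tw at h
    rw [h]
    exact Subgroup.commutator_mem_commutator (Subgroup.mem_top _) (Subgroup.mem_top _)
  | add a b ha hb => rw [ofAdd_add, map_mul]; exact Subgroup.mul_mem _ ha hb

theorem twProj_stem (h₁ : Cfsg.IsStemExtension σ₁) (h₂ : Cfsg.IsStemExtension σ₂) :
    Cfsg.IsStemExtension (twProj σ₁ σ₂) := by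
  obtain ⟨h1s, h1c, h1d⟩ := h₁
  obtain ⟨h2s, h2c, h2d⟩ := h₂
  refine ⟨?_, ?_, ?_⟩
  · rintro ⟨q₁, q₂⟩
    obtain ⟨x, hx⟩ := h1s q₁
    obtain ⟨y, hy⟩ := h2s q₂
    refine ⟨⟨(x, 1), y⟩, ?_⟩
    rw [twProj_apply]
    exact Prod.ext hx hy
  · intro e he
    obtain ⟨he1, he2⟩ := (mem_ker_twProj σ₁ σ₂ e).1 he
    have c1 := Subgroup.mem_center_iff.mp (h1c (MonoidHom.mem_ker.2 he1))
    have c2 := Subgroup.mem_center_iff.mp (h2c (MonoidHom.mem_ker.2 he2))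
    rw [Subgroup.mem_center_iff]
    intro g
    apply SemidirectProduct.ext
    · apply Prod.ext
      · rw [EE_mul_left_fst, EE_mul_left_fst]
        exact c1 _
      · rw [EE_mul_left_snd, EE_mul_left_snd, tw_of_ker_left σ₁ σ₂ he1, tw_of_ker_right σ₁ σ₂ _ he2,
          mul_one, mul_one, mul_comm]
    · rw [EE_mul_right, EE_mul_right]
      exact c2 _
  · intro e he
    obtain ⟨he1, he2⟩ := (mem_ker_twProj σ₁ σ₂ e).1 he
    rw [EE_decomp σ₁ σ₂ e]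
    refine Subgroup.mul_mem _ (Subgroup.mul_mem _ ?_ ?_) ?_
    · exact map_commutator_le' (iota₁ σ₁ σ₂)
        (Subgroup.mem_map_of_mem _ (h1d (MonoidHom.mem_ker.2 he1)))
    · exact iotaT_mem_commutator σ₁ σ₂ h1s h2s _
    · exact map_commutator_le' (iota₂ σ₁ σ₂)
        (Subgroup.mem_map_of_mem _ (h2d (MonoidHom.mem_ker.2 he2)))

theorem EE_finite [Finite Γ₁] [Finite Γ₂] [Finite Q₁] [Finite Q₂] : Finite (EE σ₁ σ₂) := by
  haveI : Finite (Abelianization Q₁) := inferInstance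
  haveI : Finite (Abelianization Q₂) := inferInstance
  haveI : Finite (TensorProduct ℤ (Additive (Abelianization Q₁)) (Additive (Abelianization Q₂))) :=
    tensor_finite _ _
  haveI : Finite (TT Q₁ Q₂) := inferInstance
  exact Finite.of_equiv ((Γ₁ × TT Q₁ Q₂) × Γ₂) SemidirectProduct.equivProd.symm

/-- the kernel of the twisted product is `ker σ₁ × ker σ₂ × T` -/
theorem twProj_ker_equiv {A B : Type*} [Group A] [Group B] (e₁ : σ₁.ker ≃* A) (e₂ : σ₂.ker ≃* B) :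
    Nonempty ((twProj σ₁ σ₂).ker ≃* A × B × TT Q₁ Q₂) := by
  have hk := mem_ker_twProj σ₁ σ₂
  let f : (twProj σ₁ σ₂).ker →* A × B × TT Q₁ Q₂ :=
    MonoidHom.mk' (fun e => (e₁ ⟨e.1.left.1, MonoidHom.mem_ker.2 ((hk e.1).1 e.2).1⟩,
        e₂ ⟨e.1.right, MonoidHom.mem_ker.2 ((hk e.1).1 e.2).2⟩, e.1.left.2)) (by
      intro a b
      apply Prod.ext
      · show e₁ ⟨(a.1 * b.1).left.1, _⟩ = e₁ ⟨a.1.left.1, _⟩ * e₁ ⟨b.1.left.1, _⟩
        rw [← map_mul]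
        rfl
      · apply Prod.ext
        · show e₂ ⟨(a.1 * b.1).right, _⟩ = e₂ ⟨a.1.right, _⟩ * e₂ ⟨b.1.right, _⟩
          rw [← map_mul]
          rfl
        · show (a.1 * b.1).left.2 = a.1.left.2 * b.1.left.2
          rw [EE_mul_left_snd, tw_of_ker_right σ₁ σ₂ _ ((hk a.1).1 a.2).2, mul_one])
  have hf1 : ∀ e : (twProj σ₁ σ₂).ker,
      (f e).1 = e₁ ⟨e.1.left.1, MonoidHom.mem_ker.2 ((hk e.1).1 e.2).1⟩ := fun e => rfl
  have hf2 : ∀ e : (twProj σ₁ σ₂).ker,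
      (f e).2.1 = e₂ ⟨e.1.right, MonoidHom.mem_ker.2 ((hk e.1).1 e.2).2⟩ := fun e => rfl
  have hf3 : ∀ e : (twProj σ₁ σ₂).ker, (f e).2.2 = e.1.left.2 := fun e => rfl
  have hinj : Function.Injective f := by
    rw [injective_iff_map_eq_one]
    intro e he
    have h1 : (f e).1 = 1 := congrArg Prod.fst he
    have h2 : (f e).2.1 = 1 := congrArg (fun z => z.2.1) he
    have h3 : (f e).2.2 = 1 := congrArg (fun z => z.2.2) he
    rw [hf1, map_eq_one_iff e₁ e₁.injective] at h1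
    rw [hf2, map_eq_one_iff e₂ e₂.injective] at h2
    rw [hf3] at h3
    apply Subtype.ext
    apply SemidirectProduct.ext
    · exact Prod.ext (congrArg Subtype.val h1) h3
    · exact congrArg Subtype.val h2
  have hsurj : Function.Surjective f := by
    rintro ⟨a, b, t⟩
    refine ⟨⟨⟨((e₁.symm a : σ₁.ker), t), (e₂.symm b : σ₂.ker)⟩,
      (hk _).2 ⟨MonoidHom.mem_ker.1 (e₁.symm a).2, MonoidHom.mem_ker.1 (e₂.symm b).2⟩⟩, ?_⟩
    apply Prod.ext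
    · rw [hf1]; exact e₁.apply_symm_apply a
    · apply Prod.ext
      · rw [hf2]; exact e₂.apply_symm_apply b
      · rw [hf3]
  exact ⟨MulEquiv.ofBijective f ⟨hinj, hsurj⟩⟩

end Twist

end Cfsg.Agent.Lib.Helper2.SchurMult
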