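import Mathlib
import Cfsg.Prelude.Def_KGroupFacts
import Cfsg.Agent.Lib.Helper2.SchurMultE

set_option autoImplicit false

/-!
Restriction (norm / transfer) and corestriction between the Schur multiplier of a finite group
and that of a subgroup, computed on free presentations (uses Nielsen–Schreier).
-/

namespace Cfsg.Agent.Lib.Helper2.SchurMult

open scoped commutatorElement Pointwise

universe u

theorem finite_of_fg_freeGroup (ι : Type*) [Group.FG (FreeGroup ι)] : Finite ι := by
  classical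
  haveI : Group.FG (Abelianization (FreeGroup ι)) :=
    Group.fg_of_surjective
      (f := (Abelianization.of : FreeGroup ι →* Abelianization (FreeGroup ι)))
      (fun q => QuotientGroup.mk_surjective q)
  haveI : AddGroup.FG (FreeAbelianGroup ι) :=
    AddGroup.fg_of_group_fg (G := Abelianization (FreeGroup ι))
  haveI : Module.Finite ℤ (FreeAbelianGroup ι) := Module.Finite.iff_addGroup_fg.mpr inferInstance
  exact Module.Finite.finite_basis
    (⟨(FreeAbelianGroup.equivFinsupp ι).toIntLinearEquiv⟩ : Module.Basis ι ℤ (FreeAbelianGroup ι))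

noncomputable instance Rbar_commGroup {ι Q : Type u} [Group Q] (ψ : FreeGroup ι →* Q) :
    CommGroup (Rbar ψ) :=
  { (inferInstance : Group (Rbar ψ)) with
    mul_comm := fun a b => Subtype.ext
      ((Subgroup.mem_center_iff.mp (Rbar_le_center ψ a.2) b.1).symm) }

section Restr

variable {G : Type u} [Group G] [Finite G] (H : Subgroup G)

/-- preimage of `H` in the free group on `G` -/
def UU : Subgroup (FreeGroup G) := H.comap (canon G)

theorem index_UU : (UU H).index = H.index :=
  Subgroup.index_comap_of_surjective H (canon_surjective G)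

instance UU_finiteIndex : (UU H).FiniteIndex := by
  refine ⟨?_⟩
  rw [index_UU]
  exact Subgroup.index_ne_zero_of_finite

theorem ker_le_UU : (canon G).ker ≤ UU H := by
  intro x hx
  show canon G x ∈ H
  rw [MonoidHom.mem_ker.1 hx]
  exact H.one_mem

abbrev GenT : Type u := IsFreeGroup.Generators ↥(UU H)

noncomputable def eU : ↥(UU H) ≃* FreeGroup (GenT H) := IsFreeGroup.toFreeGroup ↥(UU H)

instance GenT_finite : Finite (GenT H) := by
  haveI : Group.FG ↥(UU H) := inferInstance
  haveI : Group.FG (FreeGroup (GenT H)) :=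
    Group.fg_of_surjective (f := (eU H).toMonoidHom) (eU H).surjective
  exact finite_of_fg_freeGroup (GenT H)

noncomputable def jU : FreeGroup (GenT H) →* FreeGroup G :=
  (UU H).subtype.comp (eU H).symm.toMonoidHom

theorem jU_eU (u : UU H) : jU H (eU H u) = (u : FreeGroup G) := by
  show (((eU H).symm (eU H u) : UU H) : FreeGroup G) = u
  rw [MulEquiv.symm_apply_apply]

theorem jU_mem (x : FreeGroup (GenT H)) : jU H x ∈ UU H := ((eU H).symm x).2

noncomputable def psiH : FreeGroup (GenT H) →* ↥H :=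
  MonoidHom.codRestrict ((canon G).comp (jU H)) H (fun x => jU_mem H x)

theorem psiH_coe (x : FreeGroup (GenT H)) : ((psiH H x : H) : G) = canon G (jU H x) := rfl

theorem psiH_surjective : Function.Surjective (psiH H) := by
  rintro ⟨y, hy⟩
  obtain ⟨f, rfl⟩ := canon_surjective G y
  refine ⟨eU H ⟨f, hy⟩, Subtype.ext ?_⟩
  rw [psiH_coe, jU_eU]

theorem relC_le_comap : relC (psiH H) ≤ (relC (canon G)).comap (jU H) := by
  unfold relC
  rw [Subgroup.commutator_le]
  intro f _ r hr
  show jU H ⁅f, r⁆ ∈ ⁅(⊤ : Subgroup (FreeGroup G)), (canon G).ker⁆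
  rw [map_commutatorElement]
  refine Subgroup.commutator_mem_commutator (Subgroup.mem_top _) ?_
  rw [MonoidHom.mem_ker]
  have h1 : psiH H r = 1 := hr
  have h2 := congrArg Subtype.val h1
  exact h2

noncomputable def JJ : Fbar (psiH H) →* Fbar (canon G) :=
  QuotientGroup.map (relC (psiH H)) (relC (canon G)) (jU H) (relC_le_comap H)

theorem JJ_mk (x : FreeGroup (GenT H)) :
    JJ H (QuotientGroup.mk x) = QuotientGroup.mk (jU H x) := rfl

theorem phibar_JJ (y : Fbar (psiH H)) :
    phibar (canon G) (JJ H y) = ((phibar (psiH H) y : H) : G) := by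
  obtain ⟨x, rfl⟩ := QuotientGroup.mk_surjective y
  rfl

noncomputable instance UU_fintypeQuot : Fintype (FreeGroup G ⧸ UU H) :=
  Subgroup.fintypeQuotientOfFiniteIndex

/-- the chosen coset representatives -/
noncomputable def tq (q : FreeGroup G ⧸ UU H) : FreeGroup G :=
  (((default : (UU H).LeftTransversal).2.leftQuotientEquiv q : _) : FreeGroup G)

theorem tq_mk (q : FreeGroup G ⧸ UU H) :
    ((tq H q : FreeGroup G) : FreeGroup G ⧸ UU H) = q :=
  (default : (UU H).LeftTransversal).2.quotientGroupMk_leftQuotientEquiv q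

noncomputable def kap : ↥(canon G).ker →* ↥(Rbar (psiH H)) :=
  MonoidHom.codRestrict
    (((QuotientGroup.mk' (relC (psiH H))).comp (eU H).toMonoidHom).comp
      (Subgroup.inclusion (ker_le_UU H)))
    (Rbar (psiH H)) (fun r => by
      rw [mem_Rbar]
      show phibar (psiH H) (QuotientGroup.mk (eU H (Subgroup.inclusion (ker_le_UU H) r))) = 1
      rw [phibar_mk]
      apply Subtype.ext
      rw [psiH_coe, jU_eU]
      exact r.2)

theorem kap_coe (r : (canon G).ker) : ((kap H r : Rbar (psiH H)) : Fbar (psiH H))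
    = QuotientGroup.mk (eU H ⟨r.1, ker_le_UU H r.2⟩) := rfl

theorem kap_conj (u : FreeGroup G) (hu : u ∈ UU H) (x : (canon G).ker) :
    kap H (MulAut.conjNormal u x) = kap H x := by
  apply Subtype.ext
  rw [kap_coe, kap_coe]
  have hx : (⟨((MulAut.conjNormal u x : (canon G).ker) : FreeGroup G),
      ker_le_UU H (MulAut.conjNormal u x).2⟩ : UU H)
      = ⟨u, hu⟩ * ⟨x.1, ker_le_UU H x.2⟩ * ⟨u, hu⟩⁻¹ := by
    apply Subtype.ext
    exact MulAut.conjNormal_apply u x
  rw [hx, map_mul, map_mul, map_inv, QuotientGroup.mk_mul, QuotientGroup.mk_mul,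
    QuotientGroup.mk_inv]
  have hc := Subgroup.mem_center_iff.mp (Rbar_le_center (psiH H) (kap H x).2)
    (QuotientGroup.mk (eU H ⟨u, hu⟩))
  rw [kap_coe] at hc
  rw [hc, mul_inv_cancel_right]

noncomputable def cq (q : FreeGroup G ⧸ UU H) : ↥(canon G).ker →* ↥(Rbar (psiH H)) :=
  (kap H).comp (MulAut.conjNormal (tq H q)⁻¹ : MulAut ↥(canon G).ker).toMonoidHom

theorem cq_apply (q : FreeGroup G ⧸ UU H) (r : (canon G).ker) :
    cq H q r = kap H (MulAut.conjNormal (tq H q)⁻¹ r) := rfl

noncomputable def N0 : ↥(canon G).ker →* ↥(Rbar (psiH H)) :=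
  ∏ q : FreeGroup G ⧸ UU H, cq H q

theorem N0_apply (r : (canon G).ker) : N0 H r = ∏ q : FreeGroup G ⧸ UU H, cq H q r := by
  unfold N0
  rw [MonoidHom.finsetProd_apply]

theorem cq_conj (f : FreeGroup G) (q : FreeGroup G ⧸ UU H) (r : (canon G).ker) :
    cq H q (MulAut.conjNormal f r) = cq H (f⁻¹ • q) r := by
  have h1 : ((f⁻¹ * tq H q : FreeGroup G) : FreeGroup G ⧸ UU H) = f⁻¹ • q := by
    have h2 : ((f⁻¹ * tq H q : FreeGroup G) : FreeGroup G ⧸ UU H)
        = f⁻¹ • ((tq H q : FreeGroup G) : FreeGroup G ⧸ UU H) := rfl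
    rw [h2, tq_mk]
  have hmem : (tq H (f⁻¹ • q))⁻¹ * (f⁻¹ * tq H q) ∈ UU H := by
    rw [← QuotientGroup.eq, tq_mk, h1]
  have key : (tq H q)⁻¹ * f
      = ((tq H (f⁻¹ • q))⁻¹ * (f⁻¹ * tq H q))⁻¹ * (tq H (f⁻¹ • q))⁻¹ := by group
  rw [cq_apply, cq_apply]
  have e1 : MulAut.conjNormal (tq H q)⁻¹ (MulAut.conjNormal f r)
      = MulAut.conjNormal ((tq H q)⁻¹ * f) r := by
    rw [map_mul, MulAut.mul_apply]
  have e2 : MulAut.conjNormal ((tq H q)⁻¹ * f) r
      = MulAut.conjNormal ((tq H (f⁻¹ • q))⁻¹ * (f⁻¹ * tq H q))⁻¹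
        (MulAut.conjNormal (tq H (f⁻¹ • q))⁻¹ r) := by
    rw [key, map_mul, MulAut.mul_apply]
  rw [e1, e2, kap_conj H _ (Subgroup.inv_mem _ hmem)]

theorem N0_conj (f : FreeGroup G) (r : (canon G).ker) :
    N0 H (MulAut.conjNormal f r) = N0 H r := by
  rw [N0_apply, N0_apply]
  simp_rw [cq_conj]
  exact Equiv.prod_comp (MulAction.toPerm f⁻¹) (fun q => cq H q r)

theorem N0_relC (r : (canon G).ker) (hr : (r : FreeGroup G) ∈ relC (canon G)) : N0 H r = 1 := by
  have hle : (⁅(⊤ : Subgroup (FreeGroup G)), (canon G).ker⁆ : Subgroup (FreeGroup G))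
      ≤ ((N0 H).ker).map (canon G).ker.subtype := by
    rw [Subgroup.commutator_le]
    intro f _ x hx
    have hk : (MulAut.conjNormal f ⟨x, hx⟩ * (⟨x, hx⟩ : (canon G).ker)⁻¹ : (canon G).ker)
        ∈ (N0 H).ker := by
      show N0 H (MulAut.conjNormal f ⟨x, hx⟩ * (⟨x, hx⟩ : (canon G).ker)⁻¹) = 1
      rw [map_mul, map_inv, N0_conj, mul_inv_cancel]
    refine Subgroup.mem_map.2
      ⟨MulAut.conjNormal f ⟨x, hx⟩ * (⟨x, hx⟩ : (canon G).ker)⁻¹, hk, ?_⟩
    show ((MulAut.conjNormal f ⟨x, hx⟩ : (canon G).ker) : FreeGroup G) * x⁻¹ = ⁅f, x⁆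
    rw [MulAut.conjNormal_apply, commutatorElement_def]
  have hr2 : (r : FreeGroup G) ∈ (⁅(⊤ : Subgroup (FreeGroup G)), (canon G).ker⁆ : Subgroup (FreeGroup G)) := hr
  obtain ⟨r', hr', hrr⟩ := Subgroup.mem_map.1 (hle hr2)
  have : r' = r := Subtype.ext hrr
  rw [← this]
  exact hr'

noncomputable def pR : ↥(canon G).ker →* ↥(Rbar (canon G)) :=
  MonoidHom.codRestrict
    ((QuotientGroup.mk' (relC (canon G))).comp (canon G).ker.subtype) (Rbar (canon G))
    (fun r => by
      rw [mem_Rbar]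
      exact r.2)

theorem pR_coe (r : (canon G).ker) :
    ((pR r : Rbar (canon G)) : Fbar (canon G)) = QuotientGroup.mk (r : FreeGroup G) := rfl

theorem pR_surjective : Function.Surjective (pR (G := G)) := by
  rintro ⟨y, hy⟩
  obtain ⟨f, rfl⟩ := QuotientGroup.mk_surjective y
  exact ⟨⟨f, (mem_Rbar _).1 hy⟩, Subtype.ext rfl⟩

theorem exists_Nbar : ∃ Nb : ↥(Rbar (canon G)) →* ↥(Rbar (psiH H)), ∀ r, Nb (pR r) = N0 H r := by
  refine exists_factor pR pR_surjective (N0 H) ?_
  intro r hr
  rw [MonoidHom.mem_ker] at hr ⊢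
  apply N0_relC
  have h1 : ((pR r : Rbar (canon G)) : Fbar (canon G)) = 1 := congrArg Subtype.val hr
  rw [pR_coe] at h1
  exact (QuotientGroup.eq_one_iff _).1 h1

theorem smul_quot_eq (r : (canon G).ker) (q : FreeGroup G ⧸ UU H) :
    (r : FreeGroup G)⁻¹ • q = q := by
  obtain ⟨g, rfl⟩ := QuotientGroup.mk_surjective q
  show ((((r : FreeGroup G)⁻¹ * g : FreeGroup G)) : FreeGroup G ⧸ UU H) = g
  rw [QuotientGroup.eq]
  apply ker_le_UU H
  have h1 : ((r : FreeGroup G)⁻¹ * g)⁻¹ * g = g⁻¹ * (r : FreeGroup G) * g := by group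
  rw [h1]
  have := (inferInstance : ((canon G).ker).Normal).conj_mem (r : FreeGroup G) r.2 g⁻¹
  rw [inv_inv] at this
  exact this

theorem N0_mem_commutator (r : (canon G).ker)
    (hr : (r : FreeGroup G) ∈ commutator (FreeGroup G)) :
    ((N0 H r : Rbar (psiH H)) : Fbar (psiH H)) ∈ commutator (Fbar (psiH H)) := by
  classical
  let ϕ : ↥(UU H) →* Abelianization (Fbar (psiH H)) :=
    Abelianization.of.comp ((QuotientGroup.mk' (relC (psiH H))).comp (eU H).toMonoidHom)
  let ofR : ↥(Rbar (psiH H)) →* Abelianization (Fbar (psiH H)) :=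
    Abelianization.of.comp (Rbar (psiH H)).subtype
  have hker : (r : FreeGroup G) ∈ (MonoidHom.transfer ϕ).ker :=
    Abelianization.commutator_subset_ker _ hr
  rw [MonoidHom.mem_ker, MonoidHom.transfer_def ϕ (default : (UU H).LeftTransversal)] at hker
  have hterm : Subgroup.leftTransversals.diff ϕ (default : (UU H).LeftTransversal)
      ((r : FreeGroup G) • (default : (UU H).LeftTransversal))
      = ∏ q : FreeGroup G ⧸ UU H, ofR (cq H q r) := by
    unfold Subgroup.leftTransversals.diff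
    apply Finset.prod_congr rfl
    intro q _
    show ϕ ⟨_, _⟩ = Abelianization.of (QuotientGroup.mk (eU H ⟨_, _⟩))
    show Abelianization.of (QuotientGroup.mk (eU H ⟨_, _⟩))
      = Abelianization.of (QuotientGroup.mk (eU H ⟨_, _⟩))
    congr 3
    apply Subtype.ext
    show (tq H q)⁻¹ * (((((r : FreeGroup G) • (default : (UU H).LeftTransversal)) :
        (UU H).LeftTransversal).2.leftQuotientEquiv q : _) : FreeGroup G)
      = ((MulAut.conjNormal (tq H q)⁻¹ r : (canon G).ker) : FreeGroup G)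
    rw [Subgroup.smul_apply_eq_smul_apply_inv_smul, smul_quot_eq, MulAut.conjNormal_apply,
      inv_inv, smul_eq_mul, mul_assoc]
    rfl
  rw [hterm, ← map_prod, ← N0_apply] at hker
  rw [← Abelianization.ker_of, MonoidHom.mem_ker]
  exact hker

theorem JJ_N0 (r : (canon G).ker) :
    JJ H ((N0 H r : Rbar (psiH H)) : Fbar (psiH H))
      = (QuotientGroup.mk (r : FreeGroup G) : Fbar (canon G)) ^ H.index := by
  let Jr : ↥(Rbar (psiH H)) →* ↥(Rbar (canon G)) :=
    MonoidHom.codRestrict ((JJ H).comp (Rbar (psiH H)).subtype) (Rbar (canon G)) (fun y => by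
      rw [mem_Rbar]
      show phibar (canon G) (JJ H y.1) = 1
      rw [phibar_JJ, (mem_Rbar _).1 y.2]
      rfl)
  have hJr : ∀ y, ((Jr y : Rbar (canon G)) : Fbar (canon G)) = JJ H y.1 := fun y => rfl
  have h1 : ∀ q, Jr (cq H q r) = pR r := by
    intro q
    apply Subtype.ext
    rw [hJr, pR_coe, cq_apply, kap_coe, JJ_mk, jU_eU]
    show (QuotientGroup.mk (((MulAut.conjNormal (tq H q)⁻¹ r : (canon G).ker)) : FreeGroup G) :
      Fbar (canon G)) = _
    rw [MulAut.conjNormal_apply, QuotientGroup.mk_mul, QuotientGroup.mk_mul]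
    have hc := Subgroup.mem_center_iff.mp (Rbar_le_center (canon G) (pR r).2)
      (QuotientGroup.mk (tq H q)⁻¹)
    rw [pR_coe] at hc
    rw [hc, mul_assoc, ← QuotientGroup.mk_mul, mul_inv_cancel, QuotientGroup.mk_one, mul_one]
  have h2 : Jr (N0 H r) = (pR r) ^ H.index := by
    rw [N0_apply, map_prod]
    simp_rw [h1]
    rw [Finset.prod_const, Finset.card_univ, ← index_UU H, Subgroup.index_eq_card,
      Nat.card_eq_fintype_card]
  have h3 := congrArg Subtype.val h2
  rw [hJr] at h3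
  rw [h3, Subgroup.coe_pow, pR_coe]

/-- restriction and corestriction between `M(G)` and `M(H)` with `cor ∘ res = index-th power` -/
theorem exists_res_cor :
    ∃ (res : multM (canon G) →* multM (psiH H)) (cor : multM (psiH H) →* multM (canon G)),
      ∀ m, cor (res m) = m ^ H.index := by
  obtain ⟨Nb, hNb⟩ := exists_Nbar H
  have hle : multM (canon G) ≤ Rbar (canon G) := by
    unfold multM
    exact inf_le_left
  have hmap : (commutator (FreeGroup G)).map (QuotientGroup.mk' (relC (canon G)))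
      = commutator (Fbar (canon G)) := by
    rw [commutator_def, Subgroup.map_commutator,
      Subgroup.map_top_of_surjective _ (QuotientGroup.mk'_surjective _), ← commutator_def]
  have hmemres : ∀ m : multM (canon G),
      ((Nb (Subgroup.inclusion hle m) : Rbar (psiH H)) : Fbar (psiH H)) ∈ multM (psiH H) := by
    intro m
    refine ⟨(Nb _).2, ?_⟩
    have h2 := m.2.2
    rw [← hmap] at h2
    obtain ⟨f, hf, hfm⟩ := Subgroup.mem_map.mp h2
    have hfR : f ∈ (canon G).ker := by
      have := (mem_Rbar _).1 m.2.1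
      rw [← hfm] at this
      exact this
    have e : Subgroup.inclusion hle m = pR ⟨f, hfR⟩ := Subtype.ext hfm.symm
    rw [e, hNb]
    exact N0_mem_commutator H ⟨f, hfR⟩ hf
  let res : multM (canon G) →* multM (psiH H) :=
    MonoidHom.codRestrict (((Rbar (psiH H)).subtype.comp Nb).comp (Subgroup.inclusion hle))
      (multM (psiH H)) hmemres
  have hmemcor : ∀ y : multM (psiH H), JJ H y.1 ∈ multM (canon G) := by
    intro y
    have h1 : JJ H y.1 ∈ Rbar (canon G) := by
      rw [mem_Rbar, phibar_JJ, (mem_Rbar _).1 y.2.1]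
      rfl
    exact ⟨h1, map_commutator_le' (JJ H) (Subgroup.mem_map_of_mem _ y.2.2)⟩
  let cor : multM (psiH H) →* multM (canon G) :=
    MonoidHom.codRestrict ((JJ H).comp (multM (psiH H)).subtype) (multM (canon G)) hmemcor
  refine ⟨res, cor, ?_⟩
  intro m
  apply Subtype.ext
  show JJ H ((Nb (Subgroup.inclusion hle m) : Rbar (psiH H)) : Fbar (psiH H))
    = ((m ^ H.index : multM (canon G)) : Fbar (canon G))
  obtain ⟨f, hf⟩ := QuotientGroup.mk_surjective m.1
  have hfR : f ∈ (canon G).ker := by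
    have := (mem_Rbar _).1 m.2.1
    rw [← hf] at this
    exact this
  have e : Subgroup.inclusion hle m = pR ⟨f, hfR⟩ := Subtype.ext hf.symm
  rw [e, hNb, JJ_N0, Subgroup.coe_pow, ← hf]

end Restr

/-- a split surjection onto the primary component gives a direct factor -/
theorem exists_direct_factor {A B : Type*} [CommGroup A] [Finite A] [CommGroup B] (p : ℕ)
    [hp : Fact p.Prime] (n : ℕ) (hn : ¬ p ∣ n)
    (i : ↥(CommGroup.primaryComponent A p) →* B) (π : B →* A)
    (h : ∀ a, π (i a) = (a : A) ^ n) :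
    ∃ C D : Subgroup B, C ⊓ D = ⊥ ∧ C ⊔ D = ⊤ ∧
      Nonempty (CommGroup.primaryComponent A p ≃* C) := by
  classical
  obtain ⟨k, m', hm', hN⟩ := Nat.exists_eq_pow_mul_and_not_dvd (Nat.card_pos (α := A)).ne' p
    hp.out.ne_one
  have hmemρ : ∀ b : B, (π b) ^ m' ∈ CommGroup.primaryComponent A p := by
    intro b
    rw [CommGroup.mem_primaryComponent]
    refine ⟨k, ?_⟩
    rw [← pow_mul, mul_comm, ← hN]
    exact pow_card_eq_one'
  let ρ : B →* ↥(CommGroup.primaryComponent A p) :=
    MonoidHom.codRestrict ((powMonoidHom m').comp π) (CommGroup.primaryComponent A p) hmemρ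
  have hρi : ∀ a, ρ (i a) = a ^ (n * m') := by
    intro a
    apply Subtype.ext
    show (π (i a)) ^ m' = ((a ^ (n * m') : ↥(CommGroup.primaryComponent A p)) : A)
    rw [h, Subgroup.coe_pow, pow_mul]
  have hcop : Nat.Coprime (n * m') p := by
    rw [Nat.coprime_comm, Nat.Prime.coprime_iff_not_dvd hp.out, Nat.Prime.dvd_mul hp.out]
    tauto
  have hθinj : ∀ a : ↥(CommGroup.primaryComponent A p), a ^ (n * m') = 1 → a = 1 := by
    intro a ha
    obtain ⟨j, hj⟩ := CommGroup.mem_primaryComponent.1 a.2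
    have hj' : a ^ (p ^ j) = 1 := Subtype.ext (by rw [Subgroup.coe_pow]; exact hj)
    have h1 := orderOf_dvd_of_pow_eq_one ha
    have h2 := orderOf_dvd_of_pow_eq_one hj'
    have h3 : orderOf a ∣ Nat.gcd (n * m') (p ^ j) := Nat.dvd_gcd h1 h2
    rw [Nat.Coprime.gcd_eq_one (Nat.Coprime.pow_right j hcop), Nat.dvd_one] at h3
    exact orderOf_eq_one_iff.mp h3
  have hθinj' : Function.Injective (fun a : ↥(CommGroup.primaryComponent A p) => a ^ (n * m')) := by
    intro a b hab
    have : (a * b⁻¹) ^ (n * m') = 1 := by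
      rw [mul_pow, inv_pow]
      show a ^ (n * m') * (b ^ (n * m'))⁻¹ = 1
      rw [show a ^ (n * m') = b ^ (n * m') from hab, mul_inv_cancel]
    have h2 := hθinj _ this
    exact mul_inv_eq_one.mp h2
  have hθsurj : Function.Surjective (fun a : ↥(CommGroup.primaryComponent A p) => a ^ (n * m')) :=
    Finite.injective_iff_surjective.mp hθinj'
  have hiinj : Function.Injective i := by
    rw [injective_iff_map_eq_one]
    intro a ha
    apply hθinj
    rw [← hρi, ha, map_one]
  refine ⟨i.range, ρ.ker, ?_, ?_, ⟨MonoidHom.ofInjective hiinj⟩⟩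
  · rw [eq_bot_iff]
    rintro x ⟨⟨a, rfl⟩, hx2⟩
    have h1 : ρ (i a) = 1 := hx2
    rw [hρi] at h1
    rw [Subgroup.mem_bot, hθinj a h1, map_one]
  · rw [eq_top_iff]
    intro b _
    obtain ⟨a, ha⟩ := hθsurj (ρ b)
    have ha' : a ^ (n * m') = ρ b := ha
    have hb : b = i a * ((i a)⁻¹ * b) := by group
    rw [hb]
    refine Subgroup.mul_mem_sup ⟨a, rfl⟩ ?_
    rw [MonoidHom.mem_ker, map_mul, map_inv, hρi, ha', inv_mul_cancel]

end Cfsg.Agent.Lib.Helper2.SchurMult
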