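import Mathlib
import Cfsg.Agent.Lib.Helper2.SchurMultF
import Cfsg.Agent.S3979

/-!
# Transport of Schur multipliers along isomorphisms, and cyclic subgroups kill index powers
-/

set_option autoImplicit false

namespace Cfsg.Agent.Lib.Helper2.SchurMult

universe u v w

theorem ker_equiv_comp {Γ Q Q' : Type*} [Group Γ] [Group Q] [Group Q'] (σ : Γ →* Q)
    (e : Q ≃* Q') : (e.toMonoidHom.comp σ).ker = σ.ker := by
  ext x
  rw [MonoidHom.mem_ker, MonoidHom.mem_ker]
  show e (σ x) = 1 ↔ σ x = 1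
  exact e.map_eq_one_iff

theorem stem_equiv_comp {Γ Q Q' : Type*} [Group Γ] [Group Q] [Group Q'] (σ : Γ →* Q)
    (hσ : Cfsg.IsStemExtension σ) (e : Q ≃* Q') :
    Cfsg.IsStemExtension (e.toMonoidHom.comp σ) := by
  obtain ⟨h1, h2, h3⟩ := hσ
  refine ⟨e.surjective.comp h1, ?_, ?_⟩
  · rw [ker_equiv_comp]; exact h2
  · rw [ker_equiv_comp]; exact h3

/-- precomposing with an isomorphism does not change the kernel up to isomorphism -/
noncomputable def kerCompEquiv {Γ Γ'' Q : Type*} [Group Γ] [Group Γ''] [Group Q] (σ : Γ →* Q)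
    (c : Γ'' ≃* Γ) : (σ.comp c.toMonoidHom).ker ≃* σ.ker :=
  { toFun := fun x => ⟨c x.1, by
      have h := x.2
      rw [MonoidHom.mem_ker] at h ⊢
      exact h⟩
    invFun := fun y => ⟨c.symm y.1, by
      rw [MonoidHom.mem_ker]
      show σ (c (c.symm y.1)) = 1
      rw [c.apply_symm_apply]
      exact MonoidHom.mem_ker.1 y.2⟩
    left_inv := fun x => Subtype.ext (c.symm_apply_apply x.1)
    right_inv := fun y => Subtype.ext (c.apply_symm_apply y.1)
    map_mul' := fun x y => Subtype.ext (map_mul c x.1 y.1) }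

/-- the Schur multiplier is invariant under isomorphism, also across universes -/
theorem hasSchurMultiplier_of_mulEquiv {Q : Type u} {Q' : Type v} [Group Q] [Group Q']
    (e : Q' ≃* Q) {A : Type w} [CommGroup A] (h : Cfsg.HasSchurMultiplier Q' A) :
    Cfsg.HasSchurMultiplier Q A := by
  obtain ⟨⟨Γ', i1, i2, σ', hσ', ⟨e'⟩⟩, hall⟩ := h
  constructor
  · obtain ⟨Γ, j1, j2, ⟨c⟩⟩ := exists_copy.{v, u} Γ'
    refine ⟨Γ, j1, j2, (e.toMonoidHom.comp σ').comp c.toMonoidHom,
      stem_comp_equiv _ (stem_equiv_comp σ' hσ' e) c, ⟨?_⟩⟩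
    exact ((kerCompEquiv (e.toMonoidHom.comp σ') c).trans
      (MulEquiv.subgroupCongr (ker_equiv_comp σ' e))).trans e'
  · intro Γ _ _ σ hσ
    obtain ⟨Γ', j1, j2, ⟨c⟩⟩ := exists_copy.{u, v} Γ
    have hst : Cfsg.IsStemExtension ((e.symm.toMonoidHom.comp σ).comp c.toMonoidHom) :=
      stem_comp_equiv _ (stem_equiv_comp σ hσ e.symm) c
    obtain ⟨π, hπ⟩ := hall Γ' ((e.symm.toMonoidHom.comp σ).comp c.toMonoidHom) hst
    let E := (kerCompEquiv (e.symm.toMonoidHom.comp σ) c).trans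
      (MulEquiv.subgroupCongr (ker_equiv_comp σ e.symm))
    exact ⟨E.toMonoidHom.comp π, E.surjective.comp hπ⟩

/-- a cyclic subgroup `H` forces `m ^ [G:H] = 1` on the multiplier of `G` -/
theorem pow_index_eq_one_of_cyclic {G : Type u} [Group G] [Finite G] (H : Subgroup G)
    [IsCyclic H] (m : multM (canon G)) : m ^ H.index = 1 := by
  obtain ⟨res, cor, hrc⟩ := exists_res_cor H
  have hB : Cfsg.HasCyclicSchurMultiplier H 1 := Cfsg.Agent.S3979.result
  obtain ⟨eB⟩ := equiv_multM (psiH H) (psiH_surjective H) hB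
  haveI : Subsingleton (Multiplicative (ZMod 1)) := (inferInstance : Subsingleton (Fin 1))
  haveI hsub : Subsingleton (multM (psiH H)) := eB.symm.toEquiv.subsingleton
  rw [← hrc, Subsingleton.elim (res m) 1, map_one]

end Cfsg.Agent.Lib.Helper2.SchurMult
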