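import Mathlib
import Cfsg.Agent.Lib.Helper4.CenterBound

/-!
# A central commutator element of order `p ^ k` forces `p ^ (2k) * |Z| ≤ |Γ|`
(Schur's argument through an irreducible complex representation.)
-/

set_option autoImplicit false

namespace Cfsg.Agent.Lib.Helper2.SchurMult

open Cfsg.Agent.Lib.Helper4

theorem sq_order_mul_card_le {Γ : Type*} [Group Γ] [Fintype Γ] (a : Γ)
    (hac : a ∈ Subgroup.center Γ) (had : a ∈ commutator Γ) (p k : ℕ) [hp : Fact p.Prime]
    (hord : orderOf a = p ^ k) (Z : Subgroup Γ) (hZ : Z ≤ Subgroup.center Γ) :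
    (p ^ k) ^ 2 * Nat.card Z ≤ Nat.card Γ := by
  classical
  rcases Nat.eq_zero_or_pos k with hk0 | hkpos
  · subst hk0
    rw [pow_zero, one_pow, one_mul]
    exact Subgroup.card_le_card_group Z
  obtain ⟨k', rfl⟩ : ∃ k', k = k' + 1 := ⟨k - 1, by omega⟩
  have hz : a ^ (p ^ k') ≠ 1 := by
    apply pow_ne_one_of_lt_orderOf (pow_pos hp.out.pos _).ne'
    rw [hord]
    exact Nat.pow_lt_pow_right hp.out.one_lt (Nat.lt_succ_self k')
  obtain ⟨n, ρ, hirr, hne⟩ := exists_irreducible_ne_id (a ^ (p ^ k')) hz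
  obtain ⟨c, hc⟩ := exists_scalar_of_mem_center ρ hirr a hac
  haveI hnt : Nontrivial (Fin n → ℂ) := nontrivial_of_irreducible ρ hirr
  obtain ⟨v, hv⟩ := exists_ne (0 : Fin n → ℂ)
  have hid : (LinearMap.id : (Fin n → ℂ) →ₗ[ℂ] (Fin n → ℂ)) = 1 := rfl
  have hpow : ∀ j : ℕ, ρ (a ^ j) = (c ^ j) • (LinearMap.id : (Fin n → ℂ) →ₗ[ℂ] (Fin n → ℂ)) := by
    intro j
    rw [map_pow, hc, smul_pow, hid, one_pow]
  have ha1 : a ^ (p ^ (k' + 1)) = 1 := by
    rw [← hord]
    exact pow_orderOf_eq_one a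
  have hscal : ∀ d : ℂ, d • (LinearMap.id : (Fin n → ℂ) →ₗ[ℂ] (Fin n → ℂ)) = LinearMap.id →
      d = 1 := by
    intro d hd
    have h2 := LinearMap.congr_fun hd v
    simp only [LinearMap.smul_apply, LinearMap.id_apply] at h2
    have h3 : (d - 1) • v = 0 := by rw [sub_smul, one_smul, h2, sub_self]
    rcases smul_eq_zero.1 h3 with h4 | h4
    · exact sub_eq_zero.1 h4
    · exact absurd h4 hv
  have hc1 : c ^ (p ^ (k' + 1)) = 1 := by
    apply hscal
    rw [← hpow, ha1, map_one]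
    rfl
  have hc2 : ¬ c ^ (p ^ k') = 1 := by
    intro h
    apply hne
    rw [hpow, h, one_smul]
  have hco : orderOf c = p ^ (k' + 1) := orderOf_eq_prime_pow hc2 hc1
  -- the determinant is trivial on the commutator subgroup
  have hδ : (LinearMap.det.comp ρ).toHomUnits a = 1 :=
    MonoidHom.mem_ker.1 (Abelianization.commutator_subset_ker _ had)
  have hdet : c ^ n = 1 := by
    have h1 : (((LinearMap.det.comp ρ).toHomUnits a : ℂˣ) : ℂ) = LinearMap.det (ρ a) := rfl
    rw [hδ, hc, LinearMap.det_smul, LinearMap.det_id, mul_one, Module.finrank_fin_fun] at h1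
    exact h1.symm
  have hdvd : p ^ (k' + 1) ∣ n := by
    rw [← hco]
    exact orderOf_dvd_of_pow_eq_one hdet
  have hn0 : 0 < n := by
    rcases Nat.eq_zero_or_pos n with h | h
    · subst h
      exact absurd (Subsingleton.elim v 0) hv
    · exact h
  have hle : p ^ (k' + 1) ≤ n := Nat.le_of_dvd hn0 hdvd
  have hmain := sq_degree_mul_card_le ρ hirr Z hZ
  rw [Module.finrank_fin_fun] at hmain
  calc (p ^ (k' + 1)) ^ 2 * Nat.card Z ≤ n ^ 2 * Nat.card Z :=
        Nat.mul_le_mul_right _ (Nat.pow_le_pow_left hle 2)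
    _ ≤ Nat.card Γ := hmain

end Cfsg.Agent.Lib.Helper2.SchurMult
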