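import Mathlib
import Cfsg.Agent.S0034
import Cfsg.Agent.S0035
import Cfsg.Agent.Lib.Helper2.CoprimeSylow
import Cfsg.Agent.Lib.Helper2.SchurZassenhaus
import Cfsg.Agent.Lib.Helper20.Signalizer

/-!
A solvable subgroup central in every solvable overgroup is central (helper2).
Minimal counterexample: the centralizer of `A` is a Frobenius complement, and `A` acts
coprimely on the Frobenius kernel, normalizing a Sylow subgroup of it.
-/

set_option autoImplicit false

namespace Cfsg.Agent.Lib.Helper2.SolvCentral

universe u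

open Pointwise

/-- The hypothesis: `A` is central in every solvable subgroup containing it. -/
def Hyp {G : Type u} [Group G] (A : Subgroup G) : Prop :=
  ∀ S : Subgroup G, A ≤ S → Group.IsSolvable S → ∀ a ∈ A, ∀ s ∈ S, a * s = s * a

theorem isSolvable_of_comm_subgroup {G : Type u} [Group G] (N : Subgroup G)
    (h : ∀ x ∈ N, ∀ y ∈ N, x * y = y * x) : Group.IsSolvable N :=
  Group.isSolvable_of_comm (fun a b => Subtype.ext (h a a.2 b b.2))

theorem isSolvable_zpowers {G : Type u} [Group G] (g : G) : Group.IsSolvable (Subgroup.zpowers g) := by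
  apply isSolvable_of_comm_subgroup
  intro x hx y hy
  obtain ⟨m, rfl⟩ := hx
  obtain ⟨n, rfl⟩ := hy
  show g ^ m * g ^ n = g ^ n * g ^ m
  rw [← zpow_add, ← zpow_add, add_comm]

theorem mem_normalizer_of_normal {G : Type u} [Group G] (K : Subgroup G) [hK : K.Normal] (g : G) :
    g ∈ Subgroup.normalizer (K : Set G) := by
  rw [Subgroup.mem_normalizer_iff]
  intro n
  constructor
  · intro hn; exact hK.conj_mem n hn g
  · intro hn
    have := hK.conj_mem _ hn g⁻¹
    simpa [mul_assoc] using this

theorem comm_of_normalizes {G : Type u} [Group G] {A : Subgroup G} (h : Hyp A) (N : Subgroup G)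
    (hAN : A ≤ N) (hN : ∀ x ∈ N, ∀ y ∈ N, x * y = y * x) (g : G)
    (hg : g ∈ Subgroup.normalizer (N : Set G)) : ∀ a ∈ A, a * g = g * a := by
  intro a ha
  have hn : Subgroup.zpowers g ≤ Subgroup.normalizer (N : Set G) := by
    rw [Subgroup.zpowers_le]; exact hg
  have hsolv : Group.IsSolvable ↥(N ⊔ Subgroup.zpowers g) :=
    Cfsg.Agent.Lib.Helper20.isSolvable_sup_of_le_normalizer N (Subgroup.zpowers g) hn
      (isSolvable_of_comm_subgroup N hN) (isSolvable_zpowers g)
  exact h (N ⊔ Subgroup.zpowers g) (hAN.trans le_sup_left) hsolv a ha g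
    (le_sup_right (a := N) (Subgroup.mem_zpowers g))

theorem hyp_subgroupOf {G : Type u} [Group G] {A : Subgroup G} (h : Hyp A) (H : Subgroup G)
    (hAH : A ≤ H) : Hyp (A.subgroupOf H) := by
  intro S hAS hS a ha s hs
  have hS' : Group.IsSolvable ↥(S.map H.subtype) := by
    haveI := hS
    exact Group.isSolvable_of_surjective
      (f := (Subgroup.equivMapOfInjective S H.subtype H.subtype_injective).toMonoidHom)
      (Subgroup.equivMapOfInjective S H.subtype H.subtype_injective).surjective
  have hAS' : A ≤ S.map H.subtype := by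
    intro x hx
    exact ⟨⟨x, hAH hx⟩, hAS (Subgroup.mem_subgroupOf.mpr hx), rfl⟩
  have := h (S.map H.subtype) hAS' hS' (a : G) (Subgroup.mem_subgroupOf.mp ha) (s : G)
    ⟨s, hs, rfl⟩
  exact Subtype.ext this

theorem hyp_quotient_center {G : Type u} [Group G] {A : Subgroup G} (h : Hyp A) :
    Hyp (A.map (QuotientGroup.mk' (Subgroup.center G))) := by
  intro S hAS hS a ha s hs
  obtain ⟨a₀, ha₀, rfl⟩ := ha
  obtain ⟨s₀, rfl⟩ := QuotientGroup.mk'_surjective _ s
  have hAS' : A ≤ S.comap (QuotientGroup.mk' (Subgroup.center G)) := by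
    intro x hx
    exact hAS ⟨x, hx, rfl⟩
  have hZS : Subgroup.center G ≤ S.comap (QuotientGroup.mk' (Subgroup.center G)) := by
    intro z hz
    rw [Subgroup.mem_comap]
    have : (QuotientGroup.mk' (Subgroup.center G)) z = 1 := by
      rw [QuotientGroup.mk'_apply, QuotientGroup.eq_one_iff]; exact hz
    rw [this]; exact S.one_mem
  have hS' : Group.IsSolvable ↥(S.comap (QuotientGroup.mk' (Subgroup.center G))) := by
    haveI := hS
    haveI : Group.IsSolvable ↥(Subgroup.center G) :=
      isSolvable_of_comm_subgroup _ (fun x hx y _ => (Subgroup.mem_center_iff.mp hx y).symm)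
    apply Group.isSolvable_of_ker_le_range (Subgroup.inclusion hZS)
      ((QuotientGroup.mk' (Subgroup.center G)).subgroupComap S)
    intro x hx
    rw [MonoidHom.mem_ker] at hx
    have hx' : (QuotientGroup.mk' (Subgroup.center G)) (x : G) = 1 := congrArg Subtype.val hx
    rw [QuotientGroup.mk'_apply, QuotientGroup.eq_one_iff] at hx'
    exact ⟨⟨x, hx'⟩, Subtype.ext rfl⟩
  have := h _ hAS' hS' a₀ ha₀ s₀ hs
  rw [← map_mul, ← map_mul, this]

theorem frob_centralizer {G : Type u} [Group G] [Finite G] (A : Subgroup G) (h : Hyp A)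
    (hAab : ∀ x ∈ A, ∀ y ∈ A, x * y = y * x)
    (hprop : ∀ H : Subgroup G, A ≤ H → H ≠ ⊤ → ∀ a ∈ A, ∀ x ∈ H, a * x = x * a)
    (hZ : Subgroup.center G = ⊥) (hcon : ¬ A ≤ Subgroup.center G) :
    Cfsg.IsFrobeniusComplement (Subgroup.centralizer (A : Set G)) := by
  have hAM : A ≤ Subgroup.centralizer (A : Set G) := by
    intro a ha
    rw [Subgroup.mem_centralizer_iff]
    intro b hb
    exact hAab b hb a ha
  have hMtop : Subgroup.centralizer (A : Set G) ≠ ⊤ := by
    intro htop
    apply hcon
    intro a ha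
    rw [Subgroup.mem_center_iff]
    intro g
    have hg : g ∈ Subgroup.centralizer (A : Set G) := htop ▸ Subgroup.mem_top g
    rw [Subgroup.mem_centralizer_iff] at hg
    exact (hg a ha).symm
  refine ⟨?_, hMtop, ?_⟩
  · intro hbot
    apply hcon
    intro a ha
    have : a ∈ (⊥ : Subgroup G) := hbot ▸ hAM ha
    rw [Subgroup.mem_bot] at this
    rw [this]; exact Subgroup.one_mem _
  · intro g hg
    rw [eq_bot_iff]
    intro x hx
    rw [Subgroup.mem_bot]
    by_contra hx1
    obtain ⟨hxM, hxg⟩ := Subgroup.mem_inf.mp hx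
    rw [Cfsg.Agent.S0034.mem_conj_smul] at hxg
    apply hg
    have hxM' : ∀ a ∈ A, a * x = x * a := Subgroup.mem_centralizer_iff.mp hxM
    have hxg' : ∀ a ∈ A, a * (g⁻¹ * x * g) = g⁻¹ * x * g * a :=
      Subgroup.mem_centralizer_iff.mp hxg
    have hCtop : Subgroup.centralizer ({x} : Set G) ≠ ⊤ := by
      intro htop
      apply hx1
      have hxc : x ∈ Subgroup.center G := by
        rw [Subgroup.mem_center_iff]
        intro k
        have hk : k ∈ Subgroup.centralizer ({x} : Set G) := htop ▸ Subgroup.mem_top k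
        rw [Subgroup.mem_centralizer_singleton_iff] at hk
        exact hk
      rw [hZ, Subgroup.mem_bot] at hxc
      exact hxc
    have hAC : A ≤ Subgroup.centralizer ({x} : Set G) := by
      intro a ha
      rw [Subgroup.mem_centralizer_singleton_iff]
      exact hxM' a ha
    have hCM : Subgroup.centralizer ({x} : Set G) ≤ Subgroup.centralizer (A : Set G) := by
      intro c hc
      rw [Subgroup.mem_centralizer_iff]
      intro a ha
      exact hprop _ hAC hCtop a ha c hc
    have hconjM : ∀ a ∈ A, g * a * g⁻¹ ∈ Subgroup.centralizer (A : Set G) := by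
      intro a ha
      apply hCM
      rw [Subgroup.mem_centralizer_singleton_iff]
      calc g * a * g⁻¹ * x = g * (a * (g⁻¹ * x * g)) * g⁻¹ := by group
        _ = g * (g⁻¹ * x * g * a) * g⁻¹ := by rw [hxg' a ha]
        _ = x * (g * a * g⁻¹) := by group
    have hM'mem : ∀ y, y ∈ (Subgroup.centralizer (A : Set G)).comap (MulAut.conj g).toMonoidHom ↔
        g * y * g⁻¹ ∈ Subgroup.centralizer (A : Set G) := fun y => Iff.rfl
    have hAM' : A ≤ (Subgroup.centralizer (A : Set G)).comap (MulAut.conj g).toMonoidHom :=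
      fun a ha => (hM'mem a).mpr (hconjM a ha)
    have hM'top : (Subgroup.centralizer (A : Set G)).comap (MulAut.conj g).toMonoidHom ≠ ⊤ := by
      intro htop
      apply hMtop
      rw [eq_top_iff]
      intro y _
      have hy : g⁻¹ * y * g ∈ (Subgroup.centralizer (A : Set G)).comap
          (MulAut.conj g).toMonoidHom := htop ▸ Subgroup.mem_top _
      rw [hM'mem] at hy
      have e : g * (g⁻¹ * y * g) * g⁻¹ = y := by group
      rw [e] at hy
      exact hy
    have hsub : ∀ y, g * y * g⁻¹ ∈ Subgroup.centralizer (A : Set G) →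
        y ∈ Subgroup.centralizer (A : Set G) := by
      intro y hy
      rw [Subgroup.mem_centralizer_iff]
      intro a ha
      exact hprop _ hAM' hM'top a ha y ((hM'mem y).mpr hy)
    have hsub' : ∀ m ∈ Subgroup.centralizer (A : Set G),
        g⁻¹ * m * g ∈ Subgroup.centralizer (A : Set G) := by
      intro m hm
      apply hsub
      have e : g * (g⁻¹ * m * g) * g⁻¹ = m := by group
      rw [e]; exact hm
    have hinj : Function.Injective
        (fun m : ↥(Subgroup.centralizer (A : Set G)) =>
          (⟨g⁻¹ * m * g, hsub' m m.2⟩ : ↥(Subgroup.centralizer (A : Set G)))) := by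
      intro m m' hmm
      have e : g⁻¹ * (m : G) * g = g⁻¹ * (m' : G) * g := congrArg Subtype.val hmm
      exact Subtype.ext (mul_left_cancel (mul_right_cancel e))
    have hsurj := Finite.injective_iff_surjective.mp hinj
    have hsup : ∀ m ∈ Subgroup.centralizer (A : Set G),
        g * m * g⁻¹ ∈ Subgroup.centralizer (A : Set G) := by
      intro m hm
      obtain ⟨m', hm'⟩ := hsurj ⟨m, hm⟩
      have e : g⁻¹ * (m' : G) * g = m := congrArg Subtype.val hm'
      have e2 : g * m * g⁻¹ = m' := by rw [← e]; group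
      rw [e2]; exact m'.2
    have hAN : A ≤ Subgroup.centralizer (A : Set G) ⊓
        Subgroup.centralizer ((Subgroup.centralizer (A : Set G) : Subgroup G) : Set G) := by
      intro a ha
      refine Subgroup.mem_inf.mpr ⟨hAM ha, ?_⟩
      rw [Subgroup.mem_centralizer_iff]
      intro m hm
      exact ((Subgroup.mem_centralizer_iff.mp hm) a ha).symm
    have hNab : ∀ x ∈ Subgroup.centralizer (A : Set G) ⊓
        Subgroup.centralizer ((Subgroup.centralizer (A : Set G) : Subgroup G) : Set G),
        ∀ y ∈ Subgroup.centralizer (A : Set G) ⊓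
        Subgroup.centralizer ((Subgroup.centralizer (A : Set G) : Subgroup G) : Set G),
        x * y = y * x := by
      intro x hx y hy
      exact (Subgroup.mem_centralizer_iff.mp (Subgroup.mem_inf.mp hy).2) x (Subgroup.mem_inf.mp hx).1
    have hgN : g ∈ Subgroup.normalizer ((Subgroup.centralizer (A : Set G) ⊓
        Subgroup.centralizer ((Subgroup.centralizer (A : Set G) : Subgroup G) : Set G) :
          Subgroup G) : Set G) := by
      rw [Subgroup.mem_normalizer_iff]
      intro n
      constructor
      · intro hn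
        obtain ⟨hn1, hn2⟩ := Subgroup.mem_inf.mp hn
        refine Subgroup.mem_inf.mpr ⟨hsup n hn1, ?_⟩
        rw [Subgroup.mem_centralizer_iff]
        intro m hm
        have := (Subgroup.mem_centralizer_iff.mp hn2) _ (hsub' m hm)
        calc m * (g * n * g⁻¹) = g * (g⁻¹ * m * g * n) * g⁻¹ := by group
          _ = g * (n * (g⁻¹ * m * g)) * g⁻¹ := by rw [this]
          _ = g * n * g⁻¹ * m := by group
      · intro hn
        obtain ⟨hn1, hn2⟩ := Subgroup.mem_inf.mp hn
        refine Subgroup.mem_inf.mpr ⟨hsub n hn1, ?_⟩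
        rw [Subgroup.mem_centralizer_iff]
        intro m hm
        have := (Subgroup.mem_centralizer_iff.mp hn2) _ (hsup m hm)
        calc m * n = g⁻¹ * (g * m * g⁻¹ * (g * n * g⁻¹)) * g := by group
          _ = g⁻¹ * (g * n * g⁻¹ * (g * m * g⁻¹)) * g := by rw [this]
          _ = n * m := by group
    have := comm_of_normalizes h _ hAN hNab g hgN
    rw [Subgroup.mem_centralizer_iff]
    exact this

theorem final_contra {G : Type u} [Group G] [Finite G] (A : Subgroup G)
    (hA : Group.IsSolvable A) (h : Hyp A)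
    (hFrob : Cfsg.IsFrobeniusComplement (Subgroup.centralizer (A : Set G)))
    (hAM : A ≤ Subgroup.centralizer (A : Set G)) : False := by
  obtain ⟨K, hKset, hKnorm, hKM⟩ := Cfsg.Agent.S0035.result _ hFrob
  obtain ⟨hcardker, hmod⟩ := Cfsg.Agent.S0034.result _ hFrob
  have hcardK : Nat.card K = (Subgroup.centralizer (A : Set G)).index := by
    rw [← hcardker, ← hKset]; rfl
  have hcopM : Nat.Coprime (Nat.card (Subgroup.centralizer (A : Set G)))
      (Subgroup.centralizer (A : Set G)).index := by
    unfold Nat.Coprime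
    rw [Nat.gcd_rec, hmod, ← Nat.gcd_rec, Nat.gcd_one_right]
  have hcop : (Nat.card A).Coprime (Nat.card K) := by
    rw [hcardK]
    exact Nat.Coprime.coprime_dvd_left (Subgroup.card_dvd_of_le hAM) hcopM
  have hK1 : Nat.card K ≠ 1 := by
    rw [hcardK]
    exact (Subgroup.one_lt_index_of_ne_top hFrob.2.1).ne'
  obtain ⟨r, hr, hrK⟩ := Nat.exists_prime_and_dvd hK1
  haveI : Fact r.Prime := ⟨hr⟩
  have hAK : A ≤ Subgroup.normalizer (K : Set G) := fun a _ => mem_normalizer_of_normal K a
  obtain ⟨P, hP⟩ := Cfsg.Agent.Lib.Helper2.exists_invariant_sylow A K hAK hcop (Or.inl hA) r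
  have hRp : IsPGroup r ↥((P : Subgroup K).map K.subtype) := P.isPGroup'.map K.subtype
  have hRsolv : Group.IsSolvable ↥((P : Subgroup K).map K.subtype) := by
    haveI := hRp.isNilpotent
    infer_instance
  have hsolv : Group.IsSolvable ↥((P : Subgroup K).map K.subtype ⊔ A) :=
    Cfsg.Agent.Lib.Helper20.isSolvable_sup_of_le_normalizer _ A hP hRsolv hA
  have hRM : (P : Subgroup K).map K.subtype ≤ Subgroup.centralizer (A : Set G) := by
    intro s hs
    rw [Subgroup.mem_centralizer_iff]
    intro a ha
    exact h _ le_sup_right hsolv a ha s (le_sup_left (b := A) hs)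
  have hRK : (P : Subgroup K).map K.subtype ≤ K := Subgroup.map_subtype_le _
  have hRbot : (P : Subgroup K).map K.subtype = ⊥ := by
    rw [eq_bot_iff]
    exact (le_inf hRK hRM).trans hKM.disjoint.le_bot
  have hPbot : (P : Subgroup K) = ⊥ :=
    (Subgroup.map_eq_bot_iff_of_injective _ K.subtype_injective).mp hRbot
  exact P.ne_bot_of_dvd_card hrK hPbot

theorem main_aux : ∀ (n : ℕ) (G : Type u) [Group G] [Finite G], Nat.card G = n →
    ∀ (A : Subgroup G), Group.IsSolvable A → Hyp A → A ≤ Subgroup.center G := by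
  intro n
  induction n using Nat.strong_induction_on with
  | _ n ih =>
  intro G _ _ hn A hA h
  by_contra hcon
  have hAab : ∀ x ∈ A, ∀ y ∈ A, x * y = y * x := fun x hx y hy => h A le_rfl hA x hx y hy
  have hprop : ∀ H : Subgroup G, A ≤ H → H ≠ ⊤ → ∀ a ∈ A, ∀ x ∈ H, a * x = x * a := by
    intro H hAH hH a ha x hx
    have hlt : Nat.card H < n := hn ▸ Cfsg.Agent.Lib.Helper2.card_lt_of_ne_top H hH
    have hsolv : Group.IsSolvable ↥(A.subgroupOf H) := by
      haveI := hA
      exact Group.isSolvable_of_surjective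
        (f := (Subgroup.subgroupOfEquivOfLe hAH).symm.toMonoidHom)
        (Subgroup.subgroupOfEquivOfLe hAH).symm.surjective
    have h1 := ih _ hlt ↥H rfl (A.subgroupOf H) hsolv (hyp_subgroupOf h H hAH)
    have h2 := Subgroup.mem_center_iff.mp
      (h1 (Subgroup.mem_subgroupOf.mpr (show ((⟨a, hAH ha⟩ : H) : G) ∈ A from ha))) ⟨x, hx⟩
    exact (congrArg Subtype.val h2).symm
  have hZ : Subgroup.center G = ⊥ := by
    by_contra hZne
    have hlt : Nat.card (G ⧸ Subgroup.center G) < n :=
      hn ▸ Cfsg.Agent.Lib.Helper2.card_quotient_lt_of_ne_bot _ hZne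
    have hsolv : Group.IsSolvable ↥(A.map (QuotientGroup.mk' (Subgroup.center G))) := by
      haveI := hA
      exact Group.isSolvable_of_surjective
        (f := (QuotientGroup.mk' (Subgroup.center G)).subgroupMap A)
        (MonoidHom.subgroupMap_surjective _ A)
    have h1 := ih _ hlt (G ⧸ Subgroup.center G) rfl _ hsolv (hyp_quotient_center h)
    haveI hAbarN : (A.map (QuotientGroup.mk' (Subgroup.center G))).Normal := ⟨fun x hx g => by
      have := Subgroup.mem_center_iff.mp (h1 hx) g
      rw [this, mul_inv_cancel_right]; exact hx⟩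
    haveI hNnorm : ((A.map (QuotientGroup.mk' (Subgroup.center G))).comap
        (QuotientGroup.mk' (Subgroup.center G))).Normal :=
      hAbarN.comap _
    have hAN : A ≤ (A.map (QuotientGroup.mk' (Subgroup.center G))).comap
        (QuotientGroup.mk' (Subgroup.center G)) := Subgroup.le_comap_map _ A
    have hdec : ∀ x ∈ (A.map (QuotientGroup.mk' (Subgroup.center G))).comap
        (QuotientGroup.mk' (Subgroup.center G)),
        ∃ a ∈ A, ∃ z ∈ Subgroup.center G, x = a * z := by
      intro x hx
      obtain ⟨a, ha, hax⟩ := Subgroup.mem_map.mp (Subgroup.mem_comap.mp hx)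
      refine ⟨a, ha, a⁻¹ * x, ?_, by group⟩
      exact QuotientGroup.eq.mp hax
    have hNab : ∀ x ∈ (A.map (QuotientGroup.mk' (Subgroup.center G))).comap
        (QuotientGroup.mk' (Subgroup.center G)),
        ∀ y ∈ (A.map (QuotientGroup.mk' (Subgroup.center G))).comap
        (QuotientGroup.mk' (Subgroup.center G)), x * y = y * x := by
      intro x hx y hy
      obtain ⟨a, ha, z, hz, rfl⟩ := hdec x hx
      obtain ⟨b, hb, w, hw, rfl⟩ := hdec y hy
      rw [Subgroup.mem_center_iff] at hz hw
      have hab : Commute a b := hAab a ha b hb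
      have hzb : Commute z b := (hz b).symm
      have hxw : Commute (a * z) w := hw (a * z)
      exact ((hab.mul_left hzb).mul_right hxw).eq
    apply hcon
    intro a ha
    rw [Subgroup.mem_center_iff]
    intro g
    exact (comm_of_normalizes h _ hAN hNab g (mem_normalizer_of_normal _ g) a ha).symm
  have hAM : A ≤ Subgroup.centralizer (A : Set G) := by
    intro a ha
    rw [Subgroup.mem_centralizer_iff]
    intro b hb
    exact hAab b hb a ha
  exact final_contra A hA h (frob_centralizer A h hAab hprop hZ hcon) hAM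

theorem main {G : Type u} [Group G] [Finite G] (A : Subgroup G) (hA : Group.IsSolvable A)
    (hc : ∀ S : Subgroup G, A ≤ S → Group.IsSolvable S → ∀ a ∈ A, ∀ s ∈ S, a * s = s * a) :
    A ≤ Subgroup.center G :=
  main_aux (Nat.card G) G rfl A hA hc

end Cfsg.Agent.Lib.Helper2.SolvCentral
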