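import Mathlib
import Cfsg.Prelude.Def_Blocks
import Cfsg.Agent.Lib.Helper28.PrincipalExtA

set_option autoImplicit false

/-!
# Principal block characters of `p'`-degree over a linear character of a Sylow subgroup (helper2)

For a linear character `η` of a Sylow `p`-subgroup `P`, the induced character `η^G` has a
constituent of `p'`-degree in the principal `p`-block (with multiplicity prime to `p`).
-/

namespace Cfsg.Agent.Lib.Helper2.TateBlock

open Cfsg Cfsg.Agent.Lib.Helper4 Cfsg.Agent.Lib.Helper26 Cfsg.Agent.Lib.Helper28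
open scoped ComplexConjugate Classical

section

variable {G : Type*} [Group G] [Fintype G] {M : Ideal AlgInt}

/-- the term attached to `χ` -/
noncomputable def term (p : ℕ) (H : Subgroup G) (η : H → ℂ) (χ : IrrCharacter G) : ℂ :=
  classInner (indFun H η) (χ : G → ℂ) * ((χ : G → ℂ) 1 * omegaF (χ : G → ℂ) (pRegInd G p))

theorem key_sum {p : ℕ} [Fact p.Prime] (hM : IsPModular p M) (P : Sylow p G)
    (η : IrrCharacter ↥(P : Subgroup G)) (hη1 : (η : ↥(P : Subgroup G) → ℂ) 1 = 1)
    [Fintype (IrrCharacter G)] :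
    ¬ MemLocalIdeal M (∑ χ : IrrCharacter G,
      term p (P : Subgroup G) (η : ↥(P : Subgroup G) → ℂ) χ) := by
  have hp : p.Prime := Fact.out
  have hprime : M.IsPrime := hM.2.1.isPrime
  have hMtop : M ≠ ⊤ := hM.2.1.ne_top
  obtain ⟨H, hH⟩ : ∃ H : Subgroup G, H = (P : Subgroup G) := ⟨_, rfl⟩
  have hPH : IsPGroup p H := by rw [hH]; exact P.2
  have hidx : ¬ p ∣ H.index := by rw [hH]; exact P.not_dvd_index
  revert η
  rw [← hH]
  intro η hη1
  haveI : Fintype H := Fintype.ofFinite _
  have hsumH : ∑ h : H, pRegInd H p h * (η : H → ℂ) h = 1 := by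
    rw [Finset.sum_eq_single (1 : H)]
    · unfold pRegInd
      rw [orderOf_one, if_neg (by intro hd; exact hp.one_lt.ne' (Nat.dvd_one.mp hd)), one_mul, hη1]
    · intro h _ hne
      unfold pRegInd
      rw [if_pos, zero_mul]
      obtain ⟨k, hk⟩ := hPH h
      have hdvd : orderOf h ∣ p ^ k := orderOf_dvd_of_pow_eq_one hk
      obtain ⟨j, -, hj⟩ := (Nat.dvd_prime_pow hp).mp hdvd
      rw [hj]
      cases j with
      | zero =>
        exfalso
        apply hne
        rw [pow_zero] at hj
        exact orderOf_eq_one_iff.mp hj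
      | succ j => exact dvd_pow_self p (Nat.succ_ne_zero j)
    · intro hn
      exact absurd (Finset.mem_univ _) hn
  have hΨcl : IsClassFunction G (indFun H (η : H → ℂ)) := isClassFunction_indFun H _
  have hexp := classFunction_expansion (indFun H (η : H → ℂ)) hΨcl
  obtain ⟨c, hc⟩ : ∃ c : IrrCharacter G → ℂ,
      ∀ χ : IrrCharacter G, classInner (indFun H (η : H → ℂ)) (χ : G → ℂ) = c χ :=
    ⟨_, fun _ => rfl⟩
  have hΨval : ∀ g : G, indFun H (η : H → ℂ) g =
      ∑ χ : IrrCharacter G, c χ * (χ : G → ℂ) g := by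
    intro g
    have h2 := congrFun hexp g
    rw [Finset.sum_apply] at h2
    rw [h2]
    refine Finset.sum_congr rfl fun χ _ => ?_
    rw [Pi.smul_apply, smul_eq_mul, hc]
  have hS1 : ∑ g : G, pRegInd G p g * indFun H (η : H → ℂ) g =
      ∑ χ : IrrCharacter G, term p H (η : H → ℂ) χ := by
    unfold term
    simp only [hc]
    simp only [hΨval, Finset.mul_sum]
    rw [Finset.sum_comm]
    refine Finset.sum_congr rfl fun χ _ => ?_
    unfold omegaF
    rw [mul_div_cancel₀ _ (irr_one_ne_zero χ.2), Finset.mul_sum]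
    refine Finset.sum_congr rfl fun g _ => by ring
  have hS2 : ∑ g : G, pRegInd G p g * indFun H (η : H → ℂ) g = (H.index : ℂ) := by
    have hfr := classInner_indFun_left' H (η : H → ℂ) (pRegInd G p) (isClassFunction_pRegInd p)
    unfold classInner at hfr
    have hconjG : ∀ g : G, conj (pRegInd G p g) = pRegInd G p g := by
      intro g
      unfold pRegInd
      split_ifs <;> simp
    have hG : (Nat.card G : ℂ) ≠ 0 := card_ne_zero_complex
    have hH' : (Nat.card H : ℂ) ≠ 0 := card_ne_zero_complex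
    have hl : ∑ g : G, indFun H (η : H → ℂ) g * conj (pRegInd G p g) =
        ∑ g : G, pRegInd G p g * indFun H (η : H → ℂ) g := by
      refine Finset.sum_congr rfl fun g _ => ?_
      rw [hconjG, mul_comm]
    have hr : ∑ h : H, (η : H → ℂ) h * conj ((pRegInd G p ∘ H.subtype) h) =
        ∑ h : H, pRegInd H p h * (η : H → ℂ) h := by
      refine Finset.sum_congr rfl fun h _ => ?_
      have : (pRegInd G p ∘ H.subtype) h = pRegInd H p h := by
        show pRegInd G p (h : G) = pRegInd H p h
        unfold pRegInd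
        rw [Subgroup.orderOf_coe]
      rw [this, mul_comm]
      congr 1
      unfold pRegInd
      split_ifs <;> simp
    rw [hl, hr, hsumH] at hfr
    have hcard : (Nat.card G : ℂ) = (Nat.card H : ℂ) * (H.index : ℂ) := by
      rw [← Nat.cast_mul, H.card_mul_index]
    have hI : (H.index : ℂ) ≠ 0 := by
      intro h0
      rw [h0, mul_zero] at hcard
      exact hG hcard
    have h3 : ∑ g : G, pRegInd G p g * indFun H (η : H → ℂ) g =
        (Nat.card G : ℂ) * ((Nat.card H : ℂ)⁻¹ * 1) := by
      rw [← hfr, ← mul_assoc, mul_inv_cancel₀ hG, one_mul]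
    rw [h3, hcard]
    field_simp
  have hSunit : ¬ MemLocalIdeal M ((H.index : ℂ)) :=
    not_memLocalIdeal_natCast hM ((Nat.Prime.coprime_iff_not_dvd hp).mpr hidx).symm
  rw [← hS2, hS1] at hSunit
  exact hSunit

theorem term_facts {p : ℕ} [Fact p.Prime] (hM : IsPModular p M) (H : Subgroup G)
    (η : IrrCharacter H) (χ : IrrCharacter G)
    (h : ¬ MemLocalIdeal M (term p H (η : H → ℂ) χ)) :
    χ ∈ principalBlock M G ∧ ¬ p ∣ charDegree (χ : G → ℂ) ∧
      classInner (indFun H (η : H → ℂ)) (χ : G → ℂ) ≠ 0 := by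
  have hp : p.Prime := Fact.out
  have hprime : M.IsPrime := hM.2.1.isPrime
  have hMtop : M ≠ ⊤ := hM.2.1.ne_top
  have hΨchar : IsCharacter G (indFun H (η : H → ℂ)) :=
    isCharacter_indFun H (isCharacter_of_isIrrCharacter η.2)
  obtain ⟨a, ha⟩ := classInner_isCharacter_nat hΨchar (isCharacter_of_isIrrCharacter χ.2)
  have hωχ : MemLocalRing M (omegaF (χ : G → ℂ) (pRegInd G p)) :=
    Helper28.omegaF_memLocalRing χ.2 _ (isClassFunction_pRegInd p)
      (fun g => pRegInd_memLocalRing hMtop p g)
  unfold term at h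
  rw [ha] at h
  refine ⟨?_, ?_, ?_⟩
  · by_contra hnot
    apply h
    rw [omegaF_pRegInd_eq_zero hM χ hnot, mul_zero, mul_zero]
    exact memLocalIdeal_zero hMtop
  · intro hd
    apply h
    obtain ⟨c, hc⟩ := hd
    rw [irr_one_eq_charDegree χ, hc]
    push_cast
    apply memLocalIdeal_mul_left (memLocalRing_natCast hMtop a)
    apply memLocalIdeal_mul_right _ hωχ
    exact memLocalIdeal_mul_right (memLocalIdeal_natCast_p hM) (memLocalRing_natCast hMtop c)
  · rw [ha]
    intro h0
    apply h
    rw [h0, zero_mul]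
    exact memLocalIdeal_zero hMtop

theorem term_memLocalRing {p : ℕ} [Fact p.Prime] (hM : IsPModular p M) (H : Subgroup G)
    (η : IrrCharacter H) (χ : IrrCharacter G) :
    MemLocalRing M (term p H (η : H → ℂ) χ) := by
  have hprime : M.IsPrime := hM.2.1.isPrime
  have hMtop : M ≠ ⊤ := hM.2.1.ne_top
  have hΨchar : IsCharacter G (indFun H (η : H → ℂ)) :=
    isCharacter_indFun H (isCharacter_of_isIrrCharacter η.2)
  obtain ⟨a, ha⟩ := classInner_isCharacter_nat hΨchar (isCharacter_of_isIrrCharacter χ.2)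
  have hωχ : MemLocalRing M (omegaF (χ : G → ℂ) (pRegInd G p)) :=
    Helper28.omegaF_memLocalRing χ.2 _ (isClassFunction_pRegInd p)
      (fun g => pRegInd_memLocalRing hMtop p g)
  unfold term
  rw [ha, irr_one_eq_charDegree χ]
  exact memLocalRing_mul (memLocalRing_natCast hMtop a)
    (memLocalRing_mul (memLocalRing_natCast hMtop _) hωχ)

/-- a linear character of a Sylow `p`-subgroup lies under a `p'`-degree character of the
principal block -/
theorem exists_over_linear {p : ℕ} [Fact p.Prime] (hM : IsPModular p M) (P : Sylow p G)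
    (η : IrrCharacter ↥(P : Subgroup G)) (hη1 : (η : ↥(P : Subgroup G) → ℂ) 1 = 1) :
    ∃ χ : IrrCharacter G, χ ∈ principalBlock M G ∧ ¬ p ∣ charDegree (χ : G → ℂ) ∧
      classInner (indFun (P : Subgroup G) (η : ↥(P : Subgroup G) → ℂ)) (χ : G → ℂ) ≠ 0 := by
  haveI : Fintype (IrrCharacter G) := Fintype.ofFinite _
  have hprime : M.IsPrime := hM.2.1.isPrime
  have h := key_sum hM P η hη1
  by_contra hcon
  push_neg at hcon
  apply h
  apply Helper28.memLocalIdeal_sum
  intro χ _
  by_contra hχ
  obtain ⟨h1, h2, h3⟩ := term_facts hM (P : Subgroup G) η χ hχ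
  exact h3 (hcon χ h1 h2)

end

end Cfsg.Agent.Lib.Helper2.TateBlock
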