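import Mathlib
import Cfsg.Prelude.Def_Blocks
import Cfsg.Prelude.Def_Transfer
import Cfsg.Agent.Lib.Helper2.TateBlockA
import Cfsg.Agent.Lib.Helper2.KazA
import Cfsg.Agent.Lib.Helper2.PGroupFrattini
import Cfsg.Agent.Lib.Helper24.Tate
import Cfsg.Agent.Lib.Helper24.NilMax
import Cfsg.Agent.Lib.Helper24.HyperfocalGroup
import Cfsg.Agent.Lib.Helper24.LinBridge
import Cfsg.Agent.Lib.Helper13.NPC

set_option autoImplicit false

/-!
# Normal `p`-complements from extension of linear characters of a Sylow subgroup (helper2)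
-/

namespace Cfsg.Agent.Lib.Helper2.TateBlock

open Cfsg Cfsg.Agent.Lib.Helper4 Cfsg.Agent.Lib.Helper26 Cfsg.Agent.Lib.Helper28
open scoped ComplexConjugate Classical

/-- Frobenius reciprocity for linear characters -/
theorem eq_on_of_classInner_ne_zero {G : Type*} [Group G] [Fintype G] (H : Subgroup G)
    (φ : H →* ℂˣ) (ψ : G →* ℂˣ)
    (hne : classInner (indFun H (fun h : H => ((φ h : ℂˣ) : ℂ)))
      (fun g : G => ((ψ g : ℂˣ) : ℂ)) ≠ 0) :
    ∀ h : H, ψ (h : G) = φ h := by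
  haveI : Fintype H := Fintype.ofFinite _
  have hcl : IsClassFunction G (fun g : G => ((ψ g : ℂˣ) : ℂ)) := by
    intro g k
    show ((ψ (k * g * k⁻¹) : ℂˣ) : ℂ) = ((ψ g : ℂˣ) : ℂ)
    rw [map_mul, map_mul, map_inv, mul_comm (ψ k), mul_assoc, mul_inv_cancel, mul_one]
  rw [classInner_indFun_left' H _ _ hcl] at hne
  unfold classInner at hne
  obtain ⟨f, hf⟩ : ∃ f : H →* ℂ, f = (Units.coeHom ℂ).comp (φ * (ψ.comp H.subtype)⁻¹) :=
    ⟨_, rfl⟩
  have hfapp : ∀ h : H, f h = ((φ h * (ψ (h : G))⁻¹ : ℂˣ) : ℂ) := by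
    intro h
    rw [hf]
    rfl
  have hsum : ∑ h : H, (fun h : H => ((φ h : ℂˣ) : ℂ)) h *
      conj (((fun g : G => ((ψ g : ℂˣ) : ℂ)) ∘ H.subtype) h) = ∑ h : H, f h := by
    refine Finset.sum_congr rfl fun h _ => ?_
    rw [hfapp]
    show ((φ h : ℂˣ) : ℂ) * conj ((ψ (h : G) : ℂˣ) : ℂ) = _
    have hc : conj ((ψ (h : G) : ℂˣ) : ℂ) = ((ψ (h : G)⁻¹ : ℂˣ) : ℂ) :=
      isCharacter_conj_eq_inv (Cfsg.Agent.Lib.Helper24.isCharacter_of_hom ψ) (h : G)
    rw [hc, map_inv, Units.val_mul]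
  intro h
  have hf1 : f = 1 := by
    by_contra hfne
    apply hne
    rw [hsum, sum_hom_units f, if_neg hfne, Nat.cast_zero, mul_zero]
  have h2 : f h = 1 := by rw [hf1]; rfl
  rw [hfapp] at h2
  have h3 : (φ h * (ψ (h : G))⁻¹ : ℂˣ) = 1 := Units.ext h2
  exact (mul_inv_eq_one.mp h3).symm

theorem mem_of_coprime_of_index_pow {X : Type*} [Group X] [Finite X] {p : ℕ} [Fact p.Prime]
    (K : Subgroup X) [K.Normal] {k : ℕ} (hk : K.index = p ^ k) (g : X)
    (hg : (orderOf g).Coprime p) : g ∈ K := by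
  have h1 : orderOf (QuotientGroup.mk' K g) ∣ orderOf g := orderOf_map_dvd _ g
  have h2 : orderOf (QuotientGroup.mk' K g) ∣ p ^ k := by
    rw [← hk, Subgroup.index_eq_card]
    exact orderOf_dvd_natCard _
  have h3 : orderOf (QuotientGroup.mk' K g) = 1 := by
    have := Nat.dvd_gcd h1 h2
    rw [Nat.Coprime.pow_right k hg] at this
    exact Nat.dvd_one.mp this
  rw [orderOf_eq_one_iff] at h3
  exact (QuotientGroup.eq_one_iff g).mp h3

/-- if every linear character of a Sylow `p`-subgroup extends to a linear character of `G`, then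
`O^p(G) ∩ P ≤ Φ(P)` -/
theorem residual_inf_sylow_le_frattini {G : Type*} [Group G] [Finite G] {p : ℕ} [Fact p.Prime]
    (P : Sylow p G)
    (hlin : ∀ φ : ↥(P : Subgroup G) →* ℂˣ, ∃ ψ : G →* ℂˣ,
      ∀ h : ↥(P : Subgroup G), ψ (h : G) = φ h) :
    Cfsg.pResidual p G ⊓ (P : Subgroup G) ≤
      (frattini ↥(P : Subgroup G)).map (P : Subgroup G).subtype := by
  have hp : p.Prime := Fact.out
  intro y hy
  obtain ⟨hyN, hyP⟩ := Subgroup.mem_inf.mp hy
  refine ⟨⟨y, hyP⟩, ?_, rfl⟩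
  apply Cfsg.Agent.Lib.Helper2.commutator_le_frattini_of_isPGroup P.2
  by_contra hnot
  have hne : (Abelianization.of (⟨y, hyP⟩ : ↥(P : Subgroup G)) :
      Abelianization ↥(P : Subgroup G)) ≠ 1 := by
    intro h1
    apply hnot
    exact (QuotientGroup.eq_one_iff _).mp h1
  haveI : NeZero (Monoid.exponent (Abelianization ↥(P : Subgroup G))) :=
    ⟨Monoid.exponent_ne_zero_of_finite⟩
  obtain ⟨φ', hφ'⟩ := CommGroup.exists_apply_ne_one_of_hasEnoughRootsOfUnity
    (Abelianization ↥(P : Subgroup G)) ℂ hne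
  obtain ⟨ψ, hψ⟩ := hlin (φ'.comp Abelianization.of)
  have hn0 : Nat.card G ≠ 0 := Nat.card_pos.ne'
  obtain ⟨m, hm⟩ : ∃ m : ℕ, m = Nat.card G / p ^ (Nat.card G).factorization p := ⟨_, rfl⟩
  have hmcop : Nat.Coprime p m := by rw [hm]; exact Nat.coprime_ordCompl hp hn0
  have hmul : p ^ (Nat.card G).factorization p * m = Nat.card G := by
    rw [hm]; exact Nat.ordProj_mul_ordCompl_eq_self (Nat.card G) p
  have hker : Cfsg.pResidual p G ≤ ((powMonoidHom m).comp ψ).ker := by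
    unfold Cfsg.pResidual
    rw [Subgroup.closure_le]
    intro g hg
    have hg' : Nat.Coprime (orderOf g) p := hg
    rw [SetLike.mem_coe, MonoidHom.mem_ker, MonoidHom.comp_apply, powMonoidHom_apply, ← map_pow]
    have h1 : orderOf g ∣ p ^ (Nat.card G).factorization p * m := by
      rw [hmul]; exact orderOf_dvd_natCard g
    have hdvd : orderOf g ∣ m := (Nat.Coprime.pow_right _ hg').dvd_of_dvd_mul_left h1
    rw [orderOf_dvd_iff_pow_eq_one.mp hdvd, map_one]
  have h5 : ψ y ^ m = 1 := by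
    have := hker hyN
    rwa [MonoidHom.mem_ker, MonoidHom.comp_apply, powMonoidHom_apply] at this
  obtain ⟨k, hk⟩ := P.2 ⟨y, hyP⟩
  have hk' : y ^ p ^ k = 1 := by
    have := congrArg Subtype.val hk
    simpa using this
  have h7 : ψ y ^ p ^ k = 1 := by rw [← map_pow, hk', map_one]
  have hord1 : orderOf (ψ y) ∣ m := orderOf_dvd_of_pow_eq_one h5
  have hord2 : orderOf (ψ y) ∣ p ^ k := orderOf_dvd_of_pow_eq_one h7
  have hcop : Nat.Coprime m (p ^ k) := Nat.Coprime.pow_right k hmcop.symm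
  have h8 : orderOf (ψ y) = 1 := by
    have := Nat.dvd_gcd hord1 hord2
    rw [hcop] at this
    exact Nat.dvd_one.mp this
  have h9 : ψ y = 1 := orderOf_eq_one_iff.mp h8
  apply hφ'
  have h10 := hψ ⟨y, hyP⟩
  rw [MonoidHom.comp_apply] at h10
  rw [← h10]
  exact h9

/-- Tate's criterion applied to `O^p(G)` -/
theorem hasNormalPComplement_of_residual_inf_le {G : Type*} [Group G] [Finite G] {p : ℕ}
    [Fact p.Prime] (P : Sylow p G)
    (h : Cfsg.pResidual p G ⊓ (P : Subgroup G) ≤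
      (frattini ↥(P : Subgroup G)).map (P : Subgroup G).subtype) :
    Cfsg.HasNormalPComplement p G := by
  haveI : (Cfsg.pResidual p G).Normal := Cfsg.Agent.Lib.Helper29.pResidual_normal' p
  have h1 : Cfsg.HasNormalPComplement p ↥(Cfsg.pResidual p G) :=
    Cfsg.Agent.Lib.Helper24.tate_hasNormalPComplement P (Cfsg.pResidual p G) h
  obtain ⟨K, hKn, hKc, k, hk⟩ := Cfsg.Agent.Lib.Helper13.npc_iff.mp h1
  haveI := hKn
  have hKtop : K = ⊤ := by
    rw [eq_top_iff, ← Cfsg.Agent.Lib.Helper24.pResidual_pResidual_eq_top (p := p) (G := G)]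
    show Subgroup.closure {g : ↥(Cfsg.pResidual p G) | Nat.Coprime (orderOf g) p} ≤ K
    rw [Subgroup.closure_le]
    intro g hg
    exact mem_of_coprime_of_index_pow K hk g hg
  have hcop : (Nat.card ↥(Cfsg.pResidual p G)).Coprime p := by
    rw [hKtop] at hKc
    rwa [Subgroup.card_top] at hKc
  apply Cfsg.Agent.Lib.Helper13.npc_iff.mpr
  apply Cfsg.Agent.Lib.Helper24.npc_of_sylow_inf_pResidual_eq_bot P
  rw [eq_bot_iff]
  intro x hx
  obtain ⟨hxP, hxN⟩ := Subgroup.mem_inf.mp hx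
  rw [Subgroup.mem_bot]
  obtain ⟨j, hj⟩ := P.2 ⟨x, hxP⟩
  have hj' : x ^ p ^ j = 1 := by
    have := congrArg Subtype.val hj
    simpa using this
  have h2 : orderOf x ∣ p ^ j := orderOf_dvd_of_pow_eq_one hj'
  have h3 : orderOf x ∣ Nat.card ↥(Cfsg.pResidual p G) := by
    have := orderOf_dvd_natCard (⟨x, hxN⟩ : ↥(Cfsg.pResidual p G))
    rwa [← Subgroup.orderOf_coe] at this
  have h4 : orderOf x = 1 := by
    have := Nat.dvd_gcd h3 h2
    rw [Nat.Coprime.pow_right j hcop] at this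
    exact Nat.dvd_one.mp this
  exact orderOf_eq_one_iff.mp h4

end Cfsg.Agent.Lib.Helper2.TateBlock
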