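import Mathlib
import Cfsg.Prelude.Def_Blocks
import Cfsg.Prelude.Def_Transfer
import Cfsg.Agent.Lib.Helper2.TateBlockB
import Cfsg.Agent.Lib.Helper28.PrimeCoreC

set_option autoImplicit false

/-!
# Galois-fixed characters of `p'`-degree in the principal block over linear characters (helper2)
-/

namespace Cfsg.Agent.Lib.Helper2.TateBlock

open Cfsg Cfsg.Agent.Lib.Helper4 Cfsg.Agent.Lib.Helper26 Cfsg.Agent.Lib.Helper28
open scoped ComplexConjugate Classical

/-- orbit-sum lemma: a sum of local integers, invariant under a permutation of `p`-power order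
whose fixed points contribute elements of the local ideal, lies in the local ideal -/
theorem sum_memLocalIdeal_of_fixed {M : Ideal AlgInt} {p : ℕ} [Fact p.Prime]
    (hM : IsPModular p M) {α : Type*} [Fintype α] (τ : Equiv.Perm α) {j : ℕ}
    (hτ : τ ^ p ^ j = 1) (t : α → ℂ) (ht : ∀ a, t (τ a) = t a)
    (hring : ∀ a, MemLocalRing M (t a)) (hfix : ∀ a, τ a = a → MemLocalIdeal M (t a)) :
    MemLocalIdeal M (∑ a, t a) := by
  have hprime : M.IsPrime := hM.2.1.isPrime
  have hMtop : M ≠ ⊤ := hM.2.1.ne_top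
  have h1 : ∑ a, t a = ∑ v ∈ Finset.univ.image t,
      (Finset.univ.filter (fun a => t a = v)).card • v :=
    Finset.sum_comp (fun v => v) t
  rw [h1]
  apply Helper28.memLocalIdeal_sum
  intro v hv
  obtain ⟨a₀, -, ha₀⟩ := Finset.mem_image.mp hv
  rw [nsmul_eq_mul]
  by_cases hvI : MemLocalIdeal M v
  · exact memLocalIdeal_mul_left (memLocalRing_natCast hMtop _) hvI
  · have hvR : MemLocalRing M v := ha₀ ▸ hring a₀
    have hdvd : p ∣ (Finset.univ.filter (fun a => t a = v)).card := by
      have hsub : ∀ x, t (τ x) = v ↔ t x = v := fun x => by rw [ht]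
      obtain ⟨τv, hτv⟩ : ∃ τv : Equiv.Perm {a // t a = v}, τv = τ.subtypePerm hsub :=
        ⟨τ.subtypePerm hsub, rfl⟩
      have hpow : τv ^ p ^ j = 1 := by
        rw [hτv, Equiv.Perm.subtypePerm_pow]
        apply Equiv.ext
        intro x
        apply Subtype.ext
        show (τ ^ p ^ j) x.1 = x.1
        rw [hτ]
        rfl
      have hmod := Equiv.Perm.card_compl_support_modEq hpow
      have hsupp : τv.supportᶜ = ∅ := by
        rw [Finset.compl_eq_empty_iff]
        ext x
        simp only [Finset.mem_univ, iff_true, Equiv.Perm.mem_support]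
        intro hx
        apply hvI
        have hx' : τ x.1 = x.1 := by
          have := congrArg Subtype.val hx
          rw [hτv] at this
          exact this
        have := hfix x.1 hx'
        rwa [x.2] at this
      rw [hsupp, Finset.card_empty] at hmod
      rw [← Fintype.card_subtype]
      exact Nat.modEq_zero_iff_dvd.mp hmod.symm
    obtain ⟨c, hc⟩ := hdvd
    rw [hc]
    push_cast
    exact memLocalIdeal_mul_right (memLocalIdeal_mul_right (memLocalIdeal_natCast_p hM)
      (memLocalRing_natCast hMtop c)) hvR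

section

variable {G : Type*} [Group G] [Fintype G] {M : Ideal AlgInt}

/-- the fixed-character version of `exists_over_linear` -/
theorem exists_fixed_over_linear {p : ℕ} [Fact p.Prime] (hM : IsPModular p M) (P : Sylow p G)
    (η : IrrCharacter ↥(P : Subgroup G)) (hη1 : (η : ↥(P : Subgroup G) → ℂ) 1 = 1)
    (τ : Equiv.Perm (IrrCharacter G)) {j : ℕ} (hτ : τ ^ p ^ j = 1)
    (hinv : ∀ χ : IrrCharacter G,
      term p (P : Subgroup G) (η : ↥(P : Subgroup G) → ℂ) (τ χ) =
        term p (P : Subgroup G) (η : ↥(P : Subgroup G) → ℂ) χ) :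
    ∃ χ : IrrCharacter G, τ χ = χ ∧ χ ∈ principalBlock M G ∧ ¬ p ∣ charDegree (χ : G → ℂ) ∧
      classInner (indFun (P : Subgroup G) (η : ↥(P : Subgroup G) → ℂ)) (χ : G → ℂ) ≠ 0 := by
  haveI : Fintype (IrrCharacter G) := Fintype.ofFinite _
  have h := key_sum hM P η hη1
  by_contra hcon
  push_neg at hcon
  apply h
  apply sum_memLocalIdeal_of_fixed hM τ hτ _ hinv
    (fun χ => term_memLocalRing hM (P : Subgroup G) η χ)
  intro χ hfix
  by_contra hχ
  obtain ⟨h1, h2, h3⟩ := term_facts hM (P : Subgroup G) η χ hχ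
  exact h3 (hcon χ hfix h1 h2)

theorem extendByZero_pow' (T : Subgroup G) {k : ℕ} (hk : k.Coprime (Nat.card G)) (ψ : T → ℂ)
    (y : G) : extendByZero T (fun t => ψ (t ^ k)) y = extendByZero T ψ (y ^ k) := by
  by_cases hy : y ∈ T
  · rw [extendByZero_apply_mem T _ y hy, extendByZero_apply_mem T ψ _ (T.pow_mem hy k)]
    rfl
  · have hyk : y ^ k ∉ T := by
      intro h
      apply hy
      have hcop : k.Coprime (orderOf y) :=
        Nat.Coprime.coprime_dvd_right (orderOf_dvd_natCard y) hk
      obtain ⟨m, hm⟩ := exists_pow_eq_self_of_coprime hcop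
      rw [← hm]
      exact T.pow_mem h m
    rw [extendByZero_apply_not_mem T _ y hy, extendByZero_apply_not_mem T ψ _ hyk]

theorem indFun_pow' (T : Subgroup G) {k : ℕ} (hk : k.Coprime (Nat.card G)) (ψ : T → ℂ) (g : G) :
    indFun T (fun t => ψ (t ^ k)) g = indFun T ψ (g ^ k) := by
  unfold indFun
  congr 1
  apply Finset.sum_congr rfl
  intro x _
  rw [extendByZero_pow' T hk ψ]
  congr 1
  have := conj_pow (i := k) (a := x⁻¹) (b := g)
  rw [inv_inv] at this
  exact this

theorem classInner_twist (Ψ : G → ℂ) {k : ℕ} (hk : k.Coprime (Nat.card G))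
    (hΨ : ∀ g, Ψ (g ^ k) = Ψ g) (χ : IrrCharacter G) :
    classInner Ψ (twistIrr k hk χ : G → ℂ) = classInner Ψ (χ : G → ℂ) := by
  unfold classInner
  congr 1
  rw [← Equiv.sum_comp (powCoprime hk.symm) (fun g => Ψ g * conj ((χ : G → ℂ) g))]
  refine Finset.sum_congr rfl fun g _ => ?_
  show Ψ g * conj ((χ : G → ℂ) (g ^ k)) = Ψ (g ^ k) * conj ((χ : G → ℂ) (g ^ k))
  rw [hΨ]

/-- invariance of the term under a Galois twist fixing the induced character -/
theorem term_twist (p : ℕ) (H : Subgroup G) (η : H → ℂ) {k : ℕ} (hk : k.Coprime (Nat.card G))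
    (hη : ∀ t : H, η (t ^ k) = η t) (χ : IrrCharacter G) :
    term p H η (twistIrr k hk χ) = term p H η χ := by
  unfold term
  have hΨ : ∀ g, indFun H η (g ^ k) = indFun H η g := by
    intro g
    rw [← indFun_pow' H hk η g]
    congr 1
    funext t
    exact hη t
  rw [classInner_twist _ hk hΨ χ, omegaF_twistIrr p k hk χ, twistIrr_apply, one_pow]

/-- the Galois twist as a permutation -/
noncomputable def twistPerm (k : ℕ) (hk : k.Coprime (Nat.card G)) :
    Equiv.Perm (IrrCharacter G) :=
  Equiv.ofBijective (twistIrr k hk)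
    (Finite.injective_iff_bijective.mp (twistIrr_injective k hk))

theorem twistPerm_apply (k : ℕ) (hk : k.Coprime (Nat.card G)) (χ : IrrCharacter G) :
    twistPerm k hk χ = twistIrr k hk χ := rfl

theorem twistPerm_pow_apply (k : ℕ) (hk : k.Coprime (Nat.card G)) (n : ℕ) (χ : IrrCharacter G)
    (g : G) : (((twistPerm k hk) ^ n) χ : G → ℂ) g = (χ : G → ℂ) (g ^ k ^ n) := by
  induction n generalizing χ with
  | zero => simp
  | succ n ih =>
    rw [pow_succ, Equiv.Perm.mul_apply, ih, twistPerm_apply, twistIrr_apply, ← pow_mul,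
      ← pow_succ]

end

end Cfsg.Agent.Lib.Helper2.TateBlock
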