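import Mathlib
import Cfsg.Prelude.Def_Blocks
import Cfsg.Prelude.Def_Transfer
import Cfsg.Agent.Lib.Helper2.TateBlockC

set_option autoImplicit false

/-!
# The Galois automorphism cubing `2`-power roots of unity: auxiliary facts (helper2)
-/

namespace Cfsg.Agent.Lib.Helper2.TateBlock

open Cfsg
open scoped Classical

theorem three_pow_two_pow_int (A : ℕ) : (2 : ℤ) ^ (A + 1) ∣ 3 ^ 2 ^ A - 1 := by
  induction A with
  | zero => norm_num
  | succ A ih =>
    have h1 : (3 : ℤ) ^ 2 ^ (A + 1) - 1 = (3 ^ 2 ^ A - 1) * (3 ^ 2 ^ A + 1) := by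
      rw [pow_succ 2 A, pow_mul]
      ring
    rw [h1, pow_succ (2 : ℤ) (A + 1)]
    apply mul_dvd_mul ih
    have hodd : Odd ((3 : ℤ) ^ 2 ^ A) := Odd.pow (by decide)
    obtain ⟨c, hc⟩ := hodd
    exact ⟨c + 1, by rw [hc]; ring⟩

theorem three_pow_two_pow (A : ℕ) : 3 ^ 2 ^ A ≡ 1 [MOD 2 ^ (A + 1)] := by
  apply Nat.ModEq.symm
  rw [Nat.modEq_iff_dvd]
  push_cast
  exact three_pow_two_pow_int A

section

variable {G : Type*} [Group G] [Finite G] {k : ℕ}

theorem coprime_of_pow_conditions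
    (hk₁ : ∀ g : G, (∃ j : ℕ, orderOf g = 2 ^ j) → g ^ k = g ^ 3)
    (hk₂ : ∀ g : G, Odd (orderOf g) → g ^ k = g) : k.Coprime (Nat.card G) := by
  apply Nat.coprime_of_dvd
  intro q hq hqk hqG
  haveI : Fact q.Prime := ⟨hq⟩
  obtain ⟨g, hg⟩ := exists_prime_orderOf_dvd_card' q hqG
  have hgk : g ^ k = g := by
    rcases hq.eq_two_or_odd' with h2 | hodd
    · have h3 := hk₁ g ⟨1, by rw [hg, h2, pow_one]⟩
      rw [h3]
      have h4 : g ^ 2 = 1 := by
        rw [← h2, ← hg]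
        exact pow_orderOf_eq_one g
      calc g ^ 3 = g ^ 2 * g := pow_succ g 2
        _ = g := by rw [h4, one_mul]
    · exact hk₂ g (by rw [hg]; exact hodd)
  have h1 : g ^ k = 1 := by
    rw [← hg] at hqk
    exact orderOf_dvd_iff_pow_eq_one.mp hqk
  rw [h1] at hgk
  rw [← hgk, orderOf_one] at hg
  exact hq.one_lt.ne hg

theorem pow_pow_eq_self
    (hk₁ : ∀ g : G, (∃ j : ℕ, orderOf g = 2 ^ j) → g ^ k = g ^ 3)
    (hk₂ : ∀ g : G, Odd (orderOf g) → g ^ k = g) (g : G) :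
    g ^ k ^ 2 ^ (Nat.card G).factorization 2 = g := by
  obtain ⟨A, hA⟩ : ∃ A : ℕ, A = (Nat.card G).factorization 2 := ⟨_, rfl⟩
  rw [← hA]
  have he0 : orderOf g ≠ 0 := (orderOf_pos g).ne'
  obtain ⟨a, b, hb, he⟩ := Nat.exists_eq_two_pow_mul_odd he0
  have hb0 : b ≠ 0 := by
    rintro rfl
    simp at hb
  have h2a0 : 2 ^ a ≠ 0 := by positivity
  have hu : orderOf (g ^ b) = 2 ^ a := by
    rw [orderOf_pow_of_dvd hb0 (by rw [he]; exact dvd_mul_left b (2 ^ a)), he,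
      Nat.mul_div_cancel _ (Nat.pos_of_ne_zero hb0)]
  have hv : orderOf (g ^ 2 ^ a) = b := by
    rw [orderOf_pow_of_dvd h2a0 (by rw [he]; exact dvd_mul_right (2 ^ a) b), he,
      Nat.mul_div_cancel_left _ (Nat.pos_of_ne_zero h2a0)]
  have hk3 : k ≡ 3 [MOD 2 ^ a] := by
    have h := hk₁ (g ^ b) ⟨a, hu⟩
    rw [pow_eq_pow_iff_modEq, hu] at h
    exact h
  have hk1 : k ≡ 1 [MOD b] := by
    have h := hk₂ (g ^ 2 ^ a) (by rw [hv]; exact hb)
    have h' : (g ^ 2 ^ a) ^ k = (g ^ 2 ^ a) ^ 1 := by rw [h, pow_one]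
    rw [pow_eq_pow_iff_modEq, hv] at h'
    exact h'
  have haA : a ≤ A := by
    have h1 : 2 ^ a ∣ Nat.card G := (Dvd.intro b he.symm).trans (orderOf_dvd_natCard g)
    rw [hA]
    exact (Nat.Prime.pow_dvd_iff_le_factorization Nat.prime_two Nat.card_pos.ne').mp h1
  have h3 : k ^ 2 ^ A ≡ 1 [MOD 2 ^ a] := by
    have h31 : k ^ 2 ^ A ≡ 3 ^ 2 ^ A [MOD 2 ^ a] := hk3.pow _
    have h32 : 3 ^ 2 ^ A ≡ 1 [MOD 2 ^ a] :=
      (three_pow_two_pow A).of_dvd (pow_dvd_pow 2 (by omega))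
    exact h31.trans h32
  have h4 : k ^ 2 ^ A ≡ 1 [MOD b] := by
    have h := hk1.pow (2 ^ A)
    rwa [one_pow] at h
  have hcop : Nat.Coprime (2 ^ a) b := Nat.Coprime.pow_left a (Nat.coprime_two_left.mpr hb)
  have h5 : k ^ 2 ^ A ≡ 1 [MOD 2 ^ a * b] :=
    (Nat.modEq_and_modEq_iff_modEq_mul hcop).mp ⟨h3, h4⟩
  rw [← he] at h5
  have h6 := (pow_eq_pow_iff_modEq (x := g)).mpr h5
  rwa [pow_one] at h6

end

/-- the sign homomorphism of a subgroup of index two -/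
noncomputable def signHom {X : Type*} [Group X] (M : Subgroup X) (hM : M.index = 2) :
    X →* ℂˣ where
  toFun x := if x ∈ M then 1 else -1
  map_one' := by simp [M.one_mem]
  map_mul' a b := by
    have h := Subgroup.mul_mem_iff_of_index_two hM (a := a) (b := b)
    by_cases ha : a ∈ M <;> by_cases hb : b ∈ M <;> simp [ha, hb, h]

theorem signHom_apply {X : Type*} [Group X] (M : Subgroup X) (hM : M.index = 2) (x : X) :
    signHom M hM x = if x ∈ M then 1 else -1 := rfl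

theorem hom_eq_one_of_mem_residual {G : Type*} [Group G] [Finite G] {p : ℕ} [Fact p.Prime]
    (ψ : G →* ℂˣ) (y : G) (hyN : y ∈ Cfsg.pResidual p G) {k : ℕ} (hk' : y ^ p ^ k = 1) :
    ψ y = 1 := by
  have hp : p.Prime := Fact.out
  have hn0 : Nat.card G ≠ 0 := Nat.card_pos.ne'
  obtain ⟨m, hm⟩ : ∃ m : ℕ, m = Nat.card G / p ^ (Nat.card G).factorization p := ⟨_, rfl⟩
  have hmcop : Nat.Coprime p m := by rw [hm]; exact Nat.coprime_ordCompl hp hn0
  have hmul : p ^ (Nat.card G).factorization p * m = Nat.card G := by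
    rw [hm]; exact Nat.ordProj_mul_ordCompl_eq_self (Nat.card G) p
  have hker : Cfsg.pResidual p G ≤ ((powMonoidHom m).comp ψ).ker := by
    unfold Cfsg.pResidual
    rw [Subgroup.closure_le]
    intro g hg
    have hg' : Nat.Coprime (orderOf g) p := hg
    rw [SetLike.mem_coe, MonoidHom.mem_ker, MonoidHom.comp_apply, powMonoidHom_apply, ← map_pow]
    have h1 : orderOf g ∣ p ^ (Nat.card G).factorization p * m := by
      rw [hmul]; exact orderOf_dvd_natCard g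
    have hdvd : orderOf g ∣ m := (Nat.Coprime.pow_right _ hg').dvd_of_dvd_mul_left h1
    rw [orderOf_dvd_iff_pow_eq_one.mp hdvd, map_one]
  have h5 : ψ y ^ m = 1 := by
    have := hker hyN
    rwa [MonoidHom.mem_ker, MonoidHom.comp_apply, powMonoidHom_apply] at this
  have h7 : ψ y ^ p ^ k = 1 := by rw [← map_pow, hk', map_one]
  have hord1 : orderOf (ψ y) ∣ m := orderOf_dvd_of_pow_eq_one h5
  have hord2 : orderOf (ψ y) ∣ p ^ k := orderOf_dvd_of_pow_eq_one h7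
  have hcop : Nat.Coprime m (p ^ k) := Nat.Coprime.pow_right k hmcop.symm
  have h8 : orderOf (ψ y) = 1 := by
    have := Nat.dvd_gcd hord1 hord2
    rw [hcop] at this
    exact Nat.dvd_one.mp this
  exact orderOf_eq_one_iff.mp h8

/-- if every linear character of order at most two of a Sylow `2`-subgroup extends to a linear
character of `G`, then `O^2(G) ∩ P ≤ Φ(P)` -/
theorem residual_inf_sylow_le_frattini_two {G : Type*} [Group G] [Finite G] (P : Sylow 2 G)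
    (hlin : ∀ φ : ↥(P : Subgroup G) →* ℂˣ, (∀ h, φ h ^ 2 = 1) → ∃ ψ : G →* ℂˣ,
      ∀ h : ↥(P : Subgroup G), ψ (h : G) = φ h) :
    Cfsg.pResidual 2 G ⊓ (P : Subgroup G) ≤
      (frattini ↥(P : Subgroup G)).map (P : Subgroup G).subtype := by
  haveI : Fact (Nat.Prime 2) := ⟨Nat.prime_two⟩
  intro y hy
  obtain ⟨hyN, hyP⟩ := Subgroup.mem_inf.mp hy
  refine ⟨⟨y, hyP⟩, ?_, rfl⟩
  show (⟨y, hyP⟩ : ↥(P : Subgroup G)) ∈ frattini ↥(P : Subgroup G)
  unfold frattini Order.radical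
  rw [Subgroup.mem_iInf]
  intro Mx
  rw [Subgroup.mem_iInf]
  intro hMx
  by_contra hnot
  have hidx : Mx.index = 2 := Cfsg.Agent.Lib.Helper2.index_of_isCoatom_of_isPGroup P.2 hMx
  obtain ⟨ψ, hψ⟩ := hlin (signHom Mx hidx) (fun h => by
    rw [signHom_apply]
    split_ifs <;> simp)
  obtain ⟨k, hk⟩ := P.2 ⟨y, hyP⟩
  have hk' : y ^ 2 ^ k = 1 := by
    have := congrArg Subtype.val hk
    simpa using this
  have h9 : ψ y = 1 := hom_eq_one_of_mem_residual ψ y hyN hk'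
  have h10 := hψ ⟨y, hyP⟩
  rw [signHom_apply, if_neg hnot] at h10
  have h11 : ψ y = -1 := h10
  rw [h9] at h11
  have := congrArg Units.val h11
  norm_num at this

end Cfsg.Agent.Lib.Helper2.TateBlock
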