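import Mathlib

set_option autoImplicit false

namespace Cfsg.Agent.Lib.Helper2.W162

section General
variable {H : Type*} [Group H]

/-- Derived relations for the wreath product C3 wr S3 on generators a, b, c, s, t. -/
structure Rel2 (a b c s t : H) : Prop where
  a3 : a ^ 3 = 1
  b3 : b ^ 3 = 1
  c3 : c ^ 3 = 1
  s3 : s ^ 3 = 1
  t2 : t ^ 2 = 1
  ab : a * b = b * a
  bc : b * c = c * b
  ca : c * a = a * c
  sa : s * a = b * s
  sb : s * b = c * s
  sc : s * c = a * s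
  ta : t * a = a * t
  tb : t * b = c * t
  tc : t * c = b * t
  tst : t * s = s ^ 2 * t

/-- Normal form. -/
def nf (a b c s t : H) (i j k l m : ℕ) : H := a ^ i * b ^ j * c ^ k * s ^ l * t ^ m

theorem nf_zero (a b c s t : H) : nf a b c s t 0 0 0 0 0 = 1 := by
  simp [nf]

theorem map_nf {K : Type*} [Group K] (f : H →* K) (a b c s t : H) (i j k l m : ℕ) :
    f (nf a b c s t i j k l m) = nf (f a) (f b) (f c) (f s) (f t) i j k l m := by
  simp only [nf, map_mul, map_pow]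

theorem nf_mul_a (a b c s t : H) (i j k l m : ℕ) :
    a * nf a b c s t i j k l m = nf a b c s t (i + 1) j k l m := by
  simp only [nf, pow_succ', mul_assoc]

theorem nf_mul_s {a b c s t : H} (h : Rel2 a b c s t) (i j k l m : ℕ) :
    s * nf a b c s t i j k l m = nf a b c s t k i j (l + 1) m := by
  have h1 : SemiconjBy s (a ^ i * b ^ j * c ^ k) (b ^ i * c ^ j * a ^ k) :=
    ((SemiconjBy.pow_right (show SemiconjBy s a b from h.sa) i).mul_right
      (SemiconjBy.pow_right (show SemiconjBy s b c from h.sb) j)).mul_right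
      (SemiconjBy.pow_right (show SemiconjBy s c a from h.sc) k)
  have hab : Commute a b := h.ab
  have hac : Commute a c := h.ca.symm
  have h2 : Commute (a ^ k) (b ^ i * c ^ j) :=
    (hab.pow_pow k i).mul_right (hac.pow_pow k j)
  unfold nf
  calc s * (a ^ i * b ^ j * c ^ k * s ^ l * t ^ m)
      = (s * (a ^ i * b ^ j * c ^ k)) * s ^ l * t ^ m := by simp only [mul_assoc]
    _ = ((b ^ i * c ^ j * a ^ k) * s) * s ^ l * t ^ m := by rw [h1.eq]
    _ = ((a ^ k * (b ^ i * c ^ j)) * s) * s ^ l * t ^ m := by rw [← h2.eq]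
    _ = a ^ k * b ^ i * c ^ j * s ^ (l + 1) * t ^ m := by
        rw [pow_succ' s l]; simp only [mul_assoc]

theorem nf_mul_t {a b c s t : H} (h : Rel2 a b c s t) (i j k l m : ℕ) :
    t * nf a b c s t i j k l m = nf a b c s t i k j (2 * l) (m + 1) := by
  have h1 : SemiconjBy t (a ^ i * b ^ j * c ^ k) (a ^ i * c ^ j * b ^ k) :=
    ((SemiconjBy.pow_right (show SemiconjBy t a a from h.ta) i).mul_right
      (SemiconjBy.pow_right (show SemiconjBy t b c from h.tb) j)).mul_right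
      (SemiconjBy.pow_right (show SemiconjBy t c b from h.tc) k)
  have h2 : SemiconjBy t (s ^ l) ((s ^ 2) ^ l) :=
    SemiconjBy.pow_right (show SemiconjBy t s (s ^ 2) from h.tst) l
  have hcb : Commute c b := h.bc.symm
  have h3 : c ^ j * b ^ k = b ^ k * c ^ j := (hcb.pow_pow j k).eq
  unfold nf
  calc t * (a ^ i * b ^ j * c ^ k * s ^ l * t ^ m)
      = (t * (a ^ i * b ^ j * c ^ k)) * s ^ l * t ^ m := by simp only [mul_assoc]
    _ = ((a ^ i * c ^ j * b ^ k) * t) * s ^ l * t ^ m := by rw [h1.eq]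
    _ = (a ^ i * c ^ j * b ^ k) * (t * s ^ l) * t ^ m := by simp only [mul_assoc]
    _ = (a ^ i * c ^ j * b ^ k) * ((s ^ 2) ^ l * t) * t ^ m := by rw [h2.eq]
    _ = (a ^ i * (c ^ j * b ^ k)) * ((s ^ 2) ^ l * t) * t ^ m := by simp only [mul_assoc]
    _ = (a ^ i * (b ^ k * c ^ j)) * (s ^ (2 * l) * t) * t ^ m := by rw [h3, ← pow_mul]
    _ = a ^ i * b ^ k * c ^ j * s ^ (2 * l) * t ^ (m + 1) := by
        rw [pow_succ' t m]; simp only [mul_assoc]

theorem exists_nf {a b c s t : H} (h : Rel2 a b c s t) {x : H}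
    (hx : x ∈ Subgroup.closure ({a, s, t} : Set H)) :
    ∃ i j k l m : ℕ, x = nf a b c s t i j k l m := by
  have ha_inv : a⁻¹ = a * a := by
    have h1 : a * a * a = 1 := by have := h.a3; rwa [pow_succ, pow_two] at this
    exact (eq_inv_of_mul_eq_one_left h1).symm
  have hs_inv : s⁻¹ = s * s := by
    have h1 : s * s * s = 1 := by have := h.s3; rwa [pow_succ, pow_two] at this
    exact (eq_inv_of_mul_eq_one_left h1).symm
  have ht_inv : t⁻¹ = t := by
    have h1 : t * t = 1 := by have := h.t2; rwa [pow_two] at this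
    exact (eq_inv_of_mul_eq_one_left h1).symm
  induction hx using Subgroup.closure_induction_left with
  | one => exact ⟨0, 0, 0, 0, 0, (nf_zero a b c s t).symm⟩
  | mul_left y hy z hz ih =>
    obtain ⟨i, j, k, l, m, rfl⟩ := ih
    simp only [Set.mem_insert_iff, Set.mem_singleton_iff] at hy
    rcases hy with rfl | rfl | rfl
    · exact ⟨_, _, _, _, _, nf_mul_a _ b c s t i j k l m⟩
    · exact ⟨_, _, _, _, _, nf_mul_s h i j k l m⟩
    · exact ⟨_, _, _, _, _, nf_mul_t h i j k l m⟩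
  | inv_mul_cancel y hy z hz ih =>
    obtain ⟨i, j, k, l, m, rfl⟩ := ih
    simp only [Set.mem_insert_iff, Set.mem_singleton_iff] at hy
    rcases hy with rfl | rfl | rfl
    · refine ⟨i + 1 + 1, j, k, l, m, ?_⟩
      rw [ha_inv, mul_assoc, nf_mul_a, nf_mul_a]
    · refine ⟨j, k, i, l + 1 + 1, m, ?_⟩
      rw [hs_inv, mul_assoc, nf_mul_s h, nf_mul_s h]
    · refine ⟨i, k, j, 2 * l, m + 1, ?_⟩
      rw [ht_inv, nf_mul_t h]

theorem exists_nf_fin {a b c s t : H} (h : Rel2 a b c s t) {x : H}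
    (hx : x ∈ Subgroup.closure ({a, s, t} : Set H)) :
    ∃ i j k l : Fin 3, ∃ m : Fin 2, x = nf a b c s t i j k l m := by
  obtain ⟨i, j, k, l, m, rfl⟩ := exists_nf h hx
  refine ⟨⟨i % 3, Nat.mod_lt _ (by norm_num)⟩, ⟨j % 3, Nat.mod_lt _ (by norm_num)⟩,
    ⟨k % 3, Nat.mod_lt _ (by norm_num)⟩, ⟨l % 3, Nat.mod_lt _ (by norm_num)⟩,
    ⟨m % 2, Nat.mod_lt _ (by norm_num)⟩, ?_⟩
  show a ^ i * b ^ j * c ^ k * s ^ l * t ^ m
    = a ^ (i % 3) * b ^ (j % 3) * c ^ (k % 3) * s ^ (l % 3) * t ^ (m % 2)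
  rw [← pow_eq_pow_mod i h.a3, ← pow_eq_pow_mod j h.b3, ← pow_eq_pow_mod k h.c3,
    ← pow_eq_pow_mod l h.s3, ← pow_eq_pow_mod m h.t2]

theorem finite_and_card_le {a b c s t : H} (h : Rel2 a b c s t)
    (htop : Subgroup.closure ({a, s, t} : Set H) = ⊤) : Finite H ∧ Nat.card H ≤ 162 := by
  let f : Fin 3 × Fin 3 × Fin 3 × Fin 3 × Fin 2 → H :=
    fun p => nf a b c s t p.1 p.2.1 p.2.2.1 p.2.2.2.1 p.2.2.2.2
  have hf : Function.Surjective f := by
    intro x
    obtain ⟨i, j, k, l, m, rfl⟩ := exists_nf_fin h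
      (show x ∈ Subgroup.closure ({a, s, t} : Set H) by rw [htop]; exact Subgroup.mem_top x)
    exact ⟨(i, j, k, l, m), rfl⟩
  have hfin : Finite H := Finite.of_surjective f hf
  refine ⟨hfin, ?_⟩
  have h1 := Nat.card_le_card_of_surjective f hf
  have hc : Nat.card (Fin 3 × Fin 3 × Fin 3 × Fin 3 × Fin 2) = 162 := by
    simp [Nat.card_eq_fintype_card]
  rwa [hc] at h1

theorem conj_comm' {x y s : H} (h : x * y = y * x) :
    (s * x * s⁻¹) * (s * y * s⁻¹) = (s * y * s⁻¹) * (s * x * s⁻¹) := by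
  calc (s * x * s⁻¹) * (s * y * s⁻¹) = s * (x * y) * s⁻¹ := by group
    _ = s * (y * x) * s⁻¹ := by rw [h]
    _ = (s * y * s⁻¹) * (s * x * s⁻¹) := by group

theorem conj_sq (s x : H) : s ^ 2 * x * (s ^ 2)⁻¹ = s * (s * x * s⁻¹) * s⁻¹ := by
  rw [pow_two, mul_inv_rev]; simp only [mul_assoc]

theorem rel2_of_rel {a s t : H} (ha3 : a ^ 3 = 1) (hs3 : s ^ 3 = 1) (ht2 : t ^ 2 = 1)
    (hts : (t * s) ^ 2 = 1) (hta : t * a * t⁻¹ * a⁻¹ = 1)
    (hab : a * (s * a * s⁻¹) * a⁻¹ * (s * a * s⁻¹)⁻¹ = 1) :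
    Rel2 a (s * a * s⁻¹) (s * (s * a * s⁻¹) * s⁻¹) s t := by
  have hab' : a * (s * a * s⁻¹) = (s * a * s⁻¹) * a := by
    have h1 := mul_inv_eq_one.mp hab
    exact mul_inv_eq_iff_eq_mul.mp h1
  have hbc' : (s * a * s⁻¹) * (s * (s * a * s⁻¹) * s⁻¹)
      = (s * (s * a * s⁻¹) * s⁻¹) * (s * a * s⁻¹) := conj_comm' hab'
  have hs3' : s * s * s = 1 := by have := hs3; rwa [pow_succ, pow_two] at this
  have ht2' : t * t = 1 := by have := ht2; rwa [pow_two] at this
  have hts' : t * s * (t * s) = 1 := by have := hts; rwa [pow_two] at this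
  have hs_inv : s⁻¹ = s * s := (eq_inv_of_mul_eq_one_left hs3').symm
  have ht_inv : t⁻¹ = t := (eq_inv_of_mul_eq_one_left ht2').symm
  have hsc : s * (s * (s * a * s⁻¹) * s⁻¹) = a * s := by
    have e : s * (s * (s * a * s⁻¹) * s⁻¹) = (s * s * s) * a * (s⁻¹ * s⁻¹) := by
      simp only [mul_assoc]
    rw [e, hs3', one_mul, ← mul_inv_rev, ← hs_inv, inv_inv]
  have hsca : s * (s * (s * a * s⁻¹) * s⁻¹) * s⁻¹ = a := by
    rw [hsc, mul_inv_cancel_right]
  have hca' : (s * (s * a * s⁻¹) * s⁻¹) * a = a * (s * (s * a * s⁻¹) * s⁻¹) := by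
    have h1 := conj_comm' (s := s) hbc'
    rw [hsca] at h1
    exact h1
  have hta' : t * a = a * t := by
    have h1 := mul_inv_eq_one.mp hta
    exact mul_inv_eq_iff_eq_mul.mp h1
  have htst : t * s = s ^ 2 * t := by
    have h1 : t * s = (t * s)⁻¹ := eq_inv_of_mul_eq_one_left hts'
    rw [h1, mul_inv_rev, ht_inv, hs_inv, pow_two]
  have h1 : SemiconjBy t s (s ^ 2) := htst
  have h2 : SemiconjBy t a a := hta'
  have h3 : SemiconjBy t (s * a * s⁻¹) (s ^ 2 * a * (s ^ 2)⁻¹) :=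
    (h1.mul_right h2).mul_right h1.inv_right
  rw [conj_sq] at h3
  have h4 : SemiconjBy t (s * (s * a * s⁻¹) * s⁻¹)
      (s ^ 2 * (s * (s * a * s⁻¹) * s⁻¹) * (s ^ 2)⁻¹) :=
    (h1.mul_right h3).mul_right h1.inv_right
  rw [conj_sq, hsca] at h4
  exact
    { a3 := ha3
      b3 := by rw [conj_pow, ha3]; simp
      c3 := by rw [conj_pow, conj_pow, ha3]; simp
      s3 := hs3
      t2 := ht2
      ab := hab'
      bc := hbc'
      ca := hca'
      sa := by group
      sb := by group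
      sc := hsc
      ta := hta'
      tb := h3.eq
      tc := h4.eq
      tst := htst }

end General

/-! ### The presentation -/

def fa : FreeGroup (Fin 3) := FreeGroup.of 0
def fs : FreeGroup (Fin 3) := FreeGroup.of 1
def ft : FreeGroup (Fin 3) := FreeGroup.of 2

def rels : Set (FreeGroup (Fin 3)) :=
  {fa ^ 3, fs ^ 3, ft ^ 2, (ft * fs) ^ 2, ft * fa * ft⁻¹ * fa⁻¹,
    fa * (fs * fa * fs⁻¹) * fa⁻¹ * (fs * fa * fs⁻¹)⁻¹}

abbrev P : Type := PresentedGroup rels

def pa : P := PresentedGroup.of 0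
def ps : P := PresentedGroup.of 1
def pt : P := PresentedGroup.of 2

theorem P_rel2 : Rel2 pa (ps * pa * ps⁻¹) (ps * (ps * pa * ps⁻¹) * ps⁻¹) ps pt := by
  have h1 : PresentedGroup.mk rels (fa ^ 3) = 1 :=
    PresentedGroup.one_of_mem (Set.mem_insert _ _)
  have h2 : PresentedGroup.mk rels (fs ^ 3) = 1 :=
    PresentedGroup.one_of_mem (Set.mem_insert_of_mem _ (Set.mem_insert _ _))
  have h3 : PresentedGroup.mk rels (ft ^ 2) = 1 :=
    PresentedGroup.one_of_mem
      (Set.mem_insert_of_mem _ (Set.mem_insert_of_mem _ (Set.mem_insert _ _)))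
  have h4 : PresentedGroup.mk rels ((ft * fs) ^ 2) = 1 :=
    PresentedGroup.one_of_mem
      (Set.mem_insert_of_mem _ (Set.mem_insert_of_mem _
        (Set.mem_insert_of_mem _ (Set.mem_insert _ _))))
  have h5 : PresentedGroup.mk rels (ft * fa * ft⁻¹ * fa⁻¹) = 1 :=
    PresentedGroup.one_of_mem
      (Set.mem_insert_of_mem _ (Set.mem_insert_of_mem _
        (Set.mem_insert_of_mem _ (Set.mem_insert_of_mem _ (Set.mem_insert _ _)))))
  have h6 : PresentedGroup.mk rels (fa * (fs * fa * fs⁻¹) * fa⁻¹ * (fs * fa * fs⁻¹)⁻¹) = 1 :=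
    PresentedGroup.one_of_mem
      (Set.mem_insert_of_mem _ (Set.mem_insert_of_mem _
        (Set.mem_insert_of_mem _ (Set.mem_insert_of_mem _
          (Set.mem_insert_of_mem _ (Set.mem_singleton _))))))
  simp only [map_pow, map_mul, map_inv] at h1 h2 h3 h4 h5 h6
  exact rel2_of_rel h1 h2 h3 h4 h5 h6

theorem P_closure : Subgroup.closure ({pa, ps, pt} : Set P) = ⊤ := by
  rw [eq_top_iff, ← PresentedGroup.closure_range_of rels]
  apply Subgroup.closure_mono
  rintro _ ⟨i, rfl⟩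
  fin_cases i
  · exact Or.inl rfl
  · exact Or.inr (Or.inl rfl)
  · exact Or.inr (Or.inr rfl)

theorem P_nf (x : P) : ∃ i j k l : Fin 3, ∃ m : Fin 2,
    x = nf pa (ps * pa * ps⁻¹) (ps * (ps * pa * ps⁻¹) * ps⁻¹) ps pt i j k l m :=
  exists_nf_fin P_rel2 (by rw [P_closure]; exact Subgroup.mem_top x)

instance P_finite : Finite P := (finite_and_card_le P_rel2 P_closure).1

theorem P_card_le : Nat.card P ≤ 162 := (finite_and_card_le P_rel2 P_closure).2

/-- Homomorphism out of the presented group. -/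
def homOf {K : Type*} [Group K] (a s t : K) (ha3 : a ^ 3 = 1) (hs3 : s ^ 3 = 1)
    (ht2 : t ^ 2 = 1) (hts : (t * s) ^ 2 = 1) (hta : t * a * t⁻¹ * a⁻¹ = 1)
    (hab : a * (s * a * s⁻¹) * a⁻¹ * (s * a * s⁻¹)⁻¹ = 1) : P →* K :=
  PresentedGroup.toGroup (f := ![a, s, t]) (by
    intro r hr
    simp only [rels, Set.mem_insert_iff, Set.mem_singleton_iff] at hr
    rcases hr with rfl | rfl | rfl | rfl | rfl | rfl
    · simpa [fa] using ha3
    · simpa [fs] using hs3
    · simpa [ft] using ht2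
    · simpa [ft, fs] using hts
    · simpa [ft, fa] using hta
    · simpa [fa, fs] using hab)

section homOf
variable {K : Type*} [Group K] (a s t : K) (ha3 : a ^ 3 = 1) (hs3 : s ^ 3 = 1)
    (ht2 : t ^ 2 = 1) (hts : (t * s) ^ 2 = 1) (hta : t * a * t⁻¹ * a⁻¹ = 1)
    (hab : a * (s * a * s⁻¹) * a⁻¹ * (s * a * s⁻¹)⁻¹ = 1)

theorem homOf_pa : homOf a s t ha3 hs3 ht2 hts hta hab pa = a := by
  unfold homOf pa
  rw [PresentedGroup.toGroup.of]; rfl

theorem homOf_ps : homOf a s t ha3 hs3 ht2 hts hta hab ps = s := by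
  unfold homOf ps
  rw [PresentedGroup.toGroup.of]; rfl

theorem homOf_pt : homOf a s t ha3 hs3 ht2 hts hta hab pt = t := by
  unfold homOf pt
  rw [PresentedGroup.toGroup.of]; rfl

end homOf

end Cfsg.Agent.Lib.Helper2.W162
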