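import Mathlib
import Cfsg.Agent.Lib.Helper2.W162a

set_option autoImplicit false

namespace Cfsg.Agent.Lib.Helper2.W162

open Equiv

def sig : Perm (Fin 9) :=
  swap (0 : Fin 9) 1 * swap 1 2 * swap 3 4 * swap 4 5 * swap 6 7 * swap 7 8
def qa : Perm (Fin 9) := swap (0 : Fin 9) 1 * swap 1 2
def qs : Perm (Fin 9) :=
  swap (0 : Fin 9) 3 * swap 3 6 * swap 1 4 * swap 4 7 * swap 2 5 * swap 5 8
def qt : Perm (Fin 9) := swap (3 : Fin 9) 6 * swap 4 7 * swap 5 8

abbrev Cσ : Subgroup (Perm (Fin 9)) := Subgroup.centralizer ({sig} : Set (Perm (Fin 9)))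

theorem qa_mem : qa ∈ Cσ := Subgroup.mem_centralizer_singleton_iff.mpr (by decide)
theorem qs_mem : qs ∈ Cσ := Subgroup.mem_centralizer_singleton_iff.mpr (by decide)
theorem qt_mem : qt ∈ Cσ := Subgroup.mem_centralizer_singleton_iff.mpr (by decide)

def ca : Cσ := ⟨qa, qa_mem⟩
def cs : Cσ := ⟨qs, qs_mem⟩
def ct : Cσ := ⟨qt, qt_mem⟩

theorem rq1 : qa ^ 3 = 1 := by decide
theorem rq2 : qs ^ 3 = 1 := by decide
theorem rq3 : qt ^ 2 = 1 := by decide
theorem rq4 : (qt * qs) ^ 2 = 1 := by decide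
theorem rq5 : qt * qa * qt⁻¹ * qa⁻¹ = 1 := by decide
theorem rq6 : qa * (qs * qa * qs⁻¹) * qa⁻¹ * (qs * qa * qs⁻¹)⁻¹ = 1 := by decide +kernel

def ψ : P →* Cσ :=
  homOf ca cs ct (Subtype.ext rq1) (Subtype.ext rq2) (Subtype.ext rq3) (Subtype.ext rq4)
    (Subtype.ext rq5) (Subtype.ext rq6)

theorem ψ_pa : ψ pa = ca := homOf_pa _ _ _ _ _ _ _ _ _
theorem ψ_ps : ψ ps = cs := homOf_ps _ _ _ _ _ _ _ _ _
theorem ψ_pt : ψ pt = ct := homOf_pt _ _ _ _ _ _ _ _ _

def permN (i j k l m : ℕ) : Perm (Fin 9) :=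
  nf qa (qs * qa * qs⁻¹) (qs * (qs * qa * qs⁻¹) * qs⁻¹) qs qt i j k l m

theorem ψ_nf (i j k l m : ℕ) :
    ((ψ (nf pa (ps * pa * ps⁻¹) (ps * (ps * pa * ps⁻¹) * ps⁻¹) ps pt i j k l m) : Cσ) :
      Perm (Fin 9)) = permN i j k l m := by
  rw [map_nf]
  simp only [map_mul, map_inv, ψ_pa, ψ_ps, ψ_pt]
  have e : ∀ x : Cσ, (x : Perm (Fin 9)) = Cσ.subtype x := fun x => rfl
  rw [e, map_nf]
  simp only [map_mul, map_inv]
  rfl

theorem permN_eq_one : ∀ i j k l : Fin 3, ∀ m : Fin 2, permN i j k l m = 1 →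
    i = 0 ∧ j = 0 ∧ k = 0 ∧ l = 0 ∧ m = 0 := by decide +kernel

theorem permN_surj : ∀ u v w : Fin 9, u.val / 3 ≠ v.val / 3 → u.val / 3 ≠ w.val / 3 →
    v.val / 3 ≠ w.val / 3 →
    ∃ i j k l : Fin 3, ∃ m : Fin 2,
      permN i j k l m 0 = u ∧ permN i j k l m 3 = v ∧ permN i j k l m 6 = w := by
  decide +kernel

theorem sig_comm_apply {g : Perm (Fin 9)} (hg : g ∈ Cσ) (x : Fin 9) : g (sig x) = sig (g x) := by
  have h := Subgroup.mem_centralizer_singleton_iff.mp hg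
  have := congrArg (fun f : Perm (Fin 9) => f x) h
  simpa [Perm.mul_apply] using this

theorem cover : ∀ x : Fin 9, x = 0 ∨ x = 3 ∨ x = 6 ∨ x = sig 0 ∨ x = sig 3 ∨ x = sig 6 ∨
    x = sig (sig 0) ∨ x = sig (sig 3) ∨ x = sig (sig 6) := by decide

theorem key_inj {g g' : Perm (Fin 9)} (hg : g ∈ Cσ) (hg' : g' ∈ Cσ) (h0 : g 0 = g' 0)
    (h3 : g 3 = g' 3) (h6 : g 6 = g' 6) : g = g' := by
  apply Equiv.ext
  intro x
  rcases cover x with rfl | rfl | rfl | rfl | rfl | rfl | rfl | rfl | rfl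
  · exact h0
  · exact h3
  · exact h6
  · rw [sig_comm_apply hg, sig_comm_apply hg', h0]
  · rw [sig_comm_apply hg, sig_comm_apply hg', h3]
  · rw [sig_comm_apply hg, sig_comm_apply hg', h6]
  · rw [sig_comm_apply hg, sig_comm_apply hg, sig_comm_apply hg', sig_comm_apply hg', h0]
  · rw [sig_comm_apply hg, sig_comm_apply hg, sig_comm_apply hg', sig_comm_apply hg', h3]
  · rw [sig_comm_apply hg, sig_comm_apply hg, sig_comm_apply hg', sig_comm_apply hg', h6]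

theorem blk : ∀ u v : Fin 9, u.val / 3 = v.val / 3 → v = u ∨ v = sig u ∨ v = sig (sig u) := by
  decide

theorem sig_blk : ∀ x : Fin 9, (sig x).val / 3 = x.val / 3 := by decide

theorem blk_ne {g : Perm (Fin 9)} (hg : g ∈ Cσ) {x y : Fin 9} (hxy : x.val / 3 ≠ y.val / 3) :
    (g x).val / 3 ≠ (g y).val / 3 := by
  intro heq
  rcases blk (g x) (g y) heq with h | h | h
  · have h1 : y = x := g.injective h
    exact hxy (by rw [h1])
  · rw [← sig_comm_apply hg] at h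
    have h1 : y = sig x := g.injective h
    exact hxy (by rw [h1]; exact (sig_blk x).symm)
  · rw [← sig_comm_apply hg, ← sig_comm_apply hg] at h
    have h1 : y = sig (sig x) := g.injective h
    exact hxy (by rw [h1]; exact ((sig_blk (sig x)).trans (sig_blk x)).symm)

theorem ψ_injective : Function.Injective ψ := by
  rw [injective_iff_map_eq_one]
  intro x hx
  obtain ⟨i, j, k, l, m, rfl⟩ := P_nf x
  have h1 := ψ_nf i j k l m
  rw [hx] at h1
  have h2 : permN i j k l m = 1 := h1.symm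
  obtain ⟨hi, hj, hk, hl, hm⟩ := permN_eq_one i j k l m h2
  rw [hi, hj, hk, hl, hm]
  simp only [Fin.val_zero]
  exact nf_zero _ _ _ _ _

theorem ψ_surjective : Function.Surjective ψ := by
  intro g
  obtain ⟨i, j, k, l, m, h0, h3, h6⟩ := permN_surj (g.1 0) (g.1 3) (g.1 6)
    (blk_ne g.2 (by decide)) (blk_ne g.2 (by decide)) (blk_ne g.2 (by decide))
  refine ⟨nf pa (ps * pa * ps⁻¹) (ps * (ps * pa * ps⁻¹) * ps⁻¹) ps pt i j k l m, ?_⟩
  apply Subtype.ext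
  rw [ψ_nf]
  have hmem : permN i j k l m ∈ Cσ := by
    rw [← ψ_nf]; exact (ψ _).2
  exact key_inj hmem g.2 h0 h3 h6

/-- The presented group is isomorphic to the centralizer. -/
noncomputable def equivPC : P ≃* Cσ := MulEquiv.ofBijective ψ ⟨ψ_injective, ψ_surjective⟩

end Cfsg.Agent.Lib.Helper2.W162
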